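import Cfsg.Agent.H800.IFx.Gen_m3
import Cfsg.Agent.H300.OuterJThree
import Cfsg.Agent.Lib.FastPerm
import Cfsg.Agent.H209.EPX.Defs_m3
import Cfsg.Agent.H989.Fx.Ty_m3
import Cfsg.Agent.H956.IF.Central
import Cfsg.Agent.H75.Transfer
import Cfsg.Agent.H160.QFinal
import Cfsg.Agent.ClassicalGeometry.OrthSemiForms
import Mathlib
import Cfsg.Agent.KFacts.SuzSheetM
import Cfsg.Agent.H30.IF.Frob_m3
import Cfsg.Agent.KFacts.SuzFix
import Cfsg.Agent.KFacts.SuzTL
import Cfsg.Agent.CTwoTab.Suz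
import Cfsg.Agent.H947.Sy.Psl2A
import Cfsg.Agent.ClassicalGeometry.AutPSL.Main
import Cfsg.Agent.TwoFusion.PSLTwoGood
import Cfsg.Agent.S0799
import Cfsg.Agent.S2311
import Cfsg.Agent.S2327
import Cfsg.Agent.Blocks.CentralProduct
import Cfsg.Agent.H460.IFO.Fac
import Cfsg.Agent.H69.CosetPSL2
import Cfsg.Agent.S1059
import Cfsg.Agent.S1062
import Cfsg.Agent.S1063
import Cfsg.Agent.S1064
import Cfsg.Agent.S1065
import Cfsg.Agent.BabyM.AbsFinal
import Cfsg.Agent.H465.IF.BPair
import Cfsg.Agent.H751.IF.HexKill_m3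
import Cfsg.Agent.H75.OddStep
import Cfsg.Agent.H75.OddGeo
import Cfsg.Agent.LieClassical.OrthFinite
import Cfsg.Agent.UGT.Parity_m3
import Cfsg.Agent.ClassicalGeometry.OrthAut1
import Cfsg.Agent.H75.PlusFinal
import Cfsg.Agent.AutOrth.SemiSim
import Cfsg.Agent.H203.IF.Heis
import Cfsg.Agent.H76.Num
import Cfsg.Agent.H76.MainFour
import Cfsg.Agent.S0205
import Cfsg.Agent.H510.CS.Irr_m3
import Cfsg.Agent.Lib.Cores
import Cfsg.Agent.S2154
import Cfsg.Agent.S2155
import Cfsg.Agent.S1048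
import Cfsg.Agent.Cit.TyTrans_m3
import Cfsg.Agent.H175.BdSp_m3
import Cfsg.Agent.S0215
import Cfsg.Agent.S1033
import Cfsg.Agent.Cit.HexG2
import Cfsg.Agent.H625.IF.Unip
import Cfsg.Agent.FastGrp
import Cfsg.Agent.Prune
set_option linter.all false

section
prune_inst 0x7fbca8f8a9a8a9dfdfff7e37a698cffc31800fffa6dff9433fe0a1af0bdf03000945ab8d09e010fe0ee2601410b87813f97eceffe06bd87ffffd1df41ffbee0fa5e7350851d488340f340fff03f0778e7f3fffffffffffffffffffffffffffbeffbdffffffff

-- part: H469/IF/J3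
section
set_option linter.all false
open scoped Cfsg.Agent.FastGrp

/-!
# S5719, `J₃`: `16 ∣ |C(σ)|` for the outer involutions `σ` (helper469)

`σ` fixes an involution `z`; on `C(z) = 2^{1+4}_- : A₅` it induces a transposition of the five classes of involutions.
`C_Q(σ)` is not abelian, and `σ` fixes an element of `C(z)` outside `Q` which is an involution modulo `Q`.
-/

set_option autoImplicit false
set_option linter.unusedSectionVars false

namespace Cfsg.Agent.H469.IF

open Subgroup Cfsg Cfsg.Agent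
open Cfsg.Agent.J2Type.Model Cfsg.Agent.J2Type.CStruct Cfsg.Agent.J3Type.OneClass
open Cfsg.Agent.KFacts.J3Sheet Cfsg.Agent.KFacts

universe u

/-! ### Permutations -/

theorem perm_one : ∀ σ : Equiv.Perm (Fin 5), Equiv.Perm.sign σ = -1 → σ * σ = 1 →
    ∃ π : Equiv.Perm (Fin 5), Equiv.Perm.sign π = 1 ∧ σ * π = π * Equiv.swap (0 : Fin 5) 1 := by
  (set_option synthInstance.maxSize 9000 in open scoped Cfsg.Agent.Lib.FastPerm in decide +kernel)

theorem perm_two : ∀ s : Fin 5 → ZMod 2, s 2 + s 3 + s 4 = 1 →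
    ∃ π : Equiv.Perm (Fin 5), Equiv.swap (0 : Fin 5) 1 * π = π * Equiv.swap (0 : Fin 5) 1 ∧ s (π 2) = 1 ∧ s (π 3) = s (π 4) := by
  decide +kernel

/-! ### Groups of order a power of two -/

theorem eight_dvd {P : Type*} [Group P] [Finite P] {m : ℕ} (h : Nat.card P ∣ 2 ^ m) {x y : P} (hxy : x * y ≠ y * x) :
    8 ∣ Nat.card P := by
  obtain ⟨n, -, hn⟩ := (Nat.dvd_prime_pow Nat.prime_two).1 h
  have : Fact (Nat.Prime 2) := ⟨Nat.prime_two⟩
  have hn3 : 3 ≤ n := by
    by_contra hlt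
    apply hxy
    have h3 : n = 0 ∨ n = 1 ∨ n = 2 := by omega
    rcases h3 with rfl | rfl | rfl
    · have : Subsingleton P := (Nat.card_eq_one_iff_unique.1 (by simpa using hn)).1
      exact Subsingleton.elim _ _
    · have : IsCyclic P := isCyclic_of_prime_card (p := 2) (by simpa using hn)
      exact (IsCyclic.isMulCommutative (α := P)).is_comm.comm x y
    · exact (IsPGroup.isMulCommutative_of_card_eq_prime_sq hn).is_comm.comm x y
  rw [hn]
  exact (by norm_num : (8 : ℕ) = 2 ^ 3) ▸ pow_dvd_pow 2 hn3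

section core

variable {C : Type*} [Group C] {Q : Subgroup C} {z : C} {v : Fin 5 → C} {ρ : C →* SP}

theorem zp_mul_zp_mul (M : IsModel Q z v ρ) (a b : ZMod 2) (x y : C) :
    (zp z a * x) * (zp z b * y) = zp z (a + b) * (x * y) := by
  rw [zp_add z M.z_sq]
  calc (zp z a * x) * (zp z b * y) = zp z a * (x * zp z b) * y := by group
    _ = zp z a * (zp z b * x) * y := by rw [zp_comm z M.z_comm]
    _ = _ := by group

theorem zp_inj (M : IsModel Q z v ρ) {a b : ZMod 2} (h : zp z a = zp z b) : a = b :=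
  (M.v_inj a b 0 0 (by rw [h])).1

variable {a : MulAut C} {s : Fin 5 → ZMod 2} {σ : Equiv.Perm (Fin 5)}

theorem a_zp (haz : a z = z) (b : ZMod 2) : a (zp z b) = zp z b := by
  rcases zmod2_cases b with rfl | rfl
  · rw [zp_zero, map_one]
  · rw [zp_one, haz]

/-- `σ` and `s` are involutory -/
theorem sq_facts (M : IsModel Q z v ρ) (haz : a z = z) (haa : ∀ x, a (a x) = x)
    (A : ∀ i, a (v i) = zp z (s i) * v (σ i)) (i : Fin 5) : s i + s (σ i) = 0 ∧ σ (σ i) = i := by
  have h := haa (v i)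
  rw [A, map_mul, A, a_zp haz, ← mul_assoc, ← zp_add z M.z_sq] at h
  have h1 := M.v_inj (s i + s (σ i)) 0 (σ (σ i)) i (by rw [h, zp_zero, one_mul])
  exact h1

/-- the product relation -/
theorem prod_pi (M : IsModel Q z v ρ) {π : Equiv.Perm (Fin 5)} (hπ : Equiv.Perm.sign π = 1) :
    v (π 0) * v (π 1) * v (π 2) * v (π 3) * v (π 4) = 1 := by
  obtain ⟨c, hc⟩ := QMinus.exists_c M π hπ
  rw [← hc, ← hc, ← hc, ← hc, ← hc]
  calc _ = c * (v 0 * v 1 * v 2 * v 3 * v 4) * c⁻¹ := by group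
    _ = 1 := by rw [M.v_prod]; group

theorem sum_eq (M : IsModel Q z v ρ) (haz : a z = z) (haa : ∀ x, a (a x) = x)
    (A : ∀ i, a (v i) = zp z (s i) * v (σ i)) {π : Equiv.Perm (Fin 5)} (hπ : Equiv.Perm.sign π = 1)
    (hσ : σ * π = π * Equiv.swap (0 : Fin 5) 1) : s (π 2) + s (π 3) + s (π 4) = 1 := by
  have hs : ∀ i, σ (π i) = π (Equiv.swap (0 : Fin 5) 1 i) := fun i => congrArg (fun f : Equiv.Perm (Fin 5) => f i) hσ
  have h0 : σ (π 0) = π 1 := by rw [hs]; congr 1
  have h1 : σ (π 1) = π 0 := by rw [hs]; congr 1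
  have h2 : σ (π 2) = π 2 := by rw [hs]; congr 1
  have h3 : σ (π 3) = π 3 := by rw [hs]; congr 1
  have h4 : σ (π 4) = π 4 := by rw [hs]; congr 1
  have hs01 := (sq_facts M haz haa A (π 0)).1
  rw [h0] at hs01
  have hp := prod_pi M hπ
  have hp' := congrArg a hp
  rw [map_mul a, map_mul a, map_mul a, map_mul a, map_one a, A, A, A, A, A, h0, h1, h2, h3, h4, zp_mul_zp_mul M,
    zp_mul_zp_mul M, zp_mul_zp_mul M, zp_mul_zp_mul M, hs01, zero_add,
    M.v_anti (π 1) (π 0) (fun h => absurd (π.injective h) (by decide))] at hp'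
  have e : z * (v (π 0) * v (π 1)) * v (π 2) * v (π 3) * v (π 4) = z := by
    calc _ = z * (v (π 0) * v (π 1) * v (π 2) * v (π 3) * v (π 4)) := by group
      _ = z := by rw [hp, mul_one]
  rw [e] at hp'
  apply zp_inj M
  rw [zp_one]
  calc zp z (s (π 2) + s (π 3) + s (π 4)) = zp z (s (π 2) + s (π 3) + s (π 4)) * z * z⁻¹ := by group
    _ = z⁻¹ := by rw [hp', one_mul]
    _ = z := inv_eq_of_mul_eq_one_left M.z_sq

theorem swap_one : ∀ i : Fin 5, Equiv.swap (0 : Fin 5) 1 ((Equiv.swap (0 : Fin 5) 1 * Equiv.swap (3 : Fin 5) 4 : Equiv.Perm (Fin 5)) (Equiv.swap (0 : Fin 5) 1 i)) =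
    (Equiv.swap (0 : Fin 5) 1 * Equiv.swap (3 : Fin 5) 4 : Equiv.Perm (Fin 5)) i := by
  decide

theorem swap_two : ∀ i : Fin 5, (Equiv.swap (0 : Fin 5) 1 * Equiv.swap (3 : Fin 5) 4 : Equiv.Perm (Fin 5)) (Equiv.swap (0 : Fin 5) 1 i) =
    Equiv.swap (3 : Fin 5) 4 i := by
  decide

/-- a fixed element outside `Q` -/
theorem exists_out (M : IsModel Q z v ρ) (haz : a z = z) (haa : ∀ x, a (a x) = x)
    (A : ∀ i, a (v i) = zp z (s i) * v (σ i)) {π : Equiv.Perm (Fin 5)}
    (hσ : σ * π = π * Equiv.swap (0 : Fin 5) 1) (ht2 : s (π 2) = 1) (ht : s (π 3) = s (π 4)) :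
    ∃ c, a c = c ∧ orderOf (QMinus.permHom ρ c) = 2 := by
  have hs : ∀ i, σ (π i) = π (Equiv.swap (0 : Fin 5) 1 i) := fun i => congrArg (fun f : Equiv.Perm (Fin 5) => f i) hσ
  set q : Equiv.Perm (Fin 5) := Equiv.swap (0 : Fin 5) 1 * Equiv.swap (3 : Fin 5) 4 with hq
  set κ : Equiv.Perm (Fin 5) := π * q * π⁻¹ with hκ
  have hκs : Equiv.Perm.sign κ = 1 := by
    rw [hκ, Equiv.Perm.sign_mul, Equiv.Perm.sign_mul, Equiv.Perm.sign_inv, mul_comm, ← mul_assoc, Int.units_mul_self,
      one_mul, hq]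
    decide
  have hκi : ∀ i, κ (π i) = π (q i) := by
    intro i
    rw [hκ, Equiv.Perm.mul_apply, Equiv.Perm.mul_apply]
    exact congrArg (fun j => π (q j)) (π.symm_apply_apply i)
  have hκ2 : orderOf κ = 2 := by
    refine orderOf_eq_prime ?_ ?_
    · have e : κ ^ 2 = π * (q * q) * π⁻¹ := by
        rw [hκ, pow_two]
        simp only [mul_assoc, inv_mul_cancel_left]
      rw [e, show q * q = 1 by rw [hq]; decide, mul_one, mul_inv_cancel]
    · intro h
      have h1 := hκi 0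
      rw [h, Equiv.Perm.one_apply] at h1
      exact absurd (π.injective h1) (by rw [hq]; decide)
  obtain ⟨c, hc⟩ := QMinus.exists_c M κ hκs
  have hρc : QMinus.permHom ρ c = κ := by
    ext j
    congr 1
    have h1 := M.conj c j
    rw [hc] at h1
    have h2 : zp z 0 * v (κ j) = zp z ((ρ c).s j) * v ((ρ c).σ j) := by rw [zp_zero, one_mul, h1]
    exact (M.v_inj _ _ _ _ h2).2.symm
  -- `a c` acts as `c`
  have hac : ∀ i, a c * v (π i) * (a c)⁻¹ = v (π (q i)) := by
    intro i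
    have h1 : v (π i) = a (zp z (s (π i)) * v (π (Equiv.swap (0 : Fin 5) 1 i))) := by
      rw [← hs, ← A, haa]
    have h2 : c * (zp z (s (π i)) * v (π (Equiv.swap (0 : Fin 5) 1 i))) * c⁻¹ =
        zp z (s (π i)) * v (π (q (Equiv.swap (0 : Fin 5) 1 i))) := by
      rw [← hκi, ← hc, ← mul_assoc c, zp_comm z M.z_comm]
      group
    calc a c * v (π i) * (a c)⁻¹ = a (c * (zp z (s (π i)) * v (π (Equiv.swap (0 : Fin 5) 1 i))) * c⁻¹) := by
          rw [map_mul, map_mul, map_inv, ← h1]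
      _ = a (zp z (s (π i)) * v (π (q (Equiv.swap (0 : Fin 5) 1 i)))) := by rw [h2]
      _ = zp z (s (π i)) * (zp z (s (π (q (Equiv.swap (0 : Fin 5) 1 i)))) * v (π (Equiv.swap (0 : Fin 5) 1 (q (Equiv.swap (0 : Fin 5) 1 i))))) := by
          rw [map_mul, a_zp haz, A, hs]
      _ = zp z (s (π i) + s (π (q (Equiv.swap (0 : Fin 5) 1 i)))) * v (π (Equiv.swap (0 : Fin 5) 1 (q (Equiv.swap (0 : Fin 5) 1 i)))) := by
          rw [zp_add z M.z_sq, mul_assoc]
      _ = v (π (q i)) := by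
          have e1 : Equiv.swap (0 : Fin 5) 1 (q (Equiv.swap (0 : Fin 5) 1 i)) = q i := swap_one i
          have e2 : s (π i) + s (π (q (Equiv.swap (0 : Fin 5) 1 i))) = 0 := by
            have e3 : q (Equiv.swap (0 : Fin 5) 1 i) = Equiv.swap (3 : Fin 5) 4 i := swap_two i
            rw [e3]
            have e4 : s (π (Equiv.swap (3 : Fin 5) 4 i)) = s (π i) := by
              rcases eq_or_ne i 3 with rfl | h3
              · rw [Equiv.swap_apply_left, ht]
              · rcases eq_or_ne i 4 with rfl | h4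
                · rw [Equiv.swap_apply_right, ht]
                · rw [Equiv.swap_apply_of_ne_of_ne h3 h4]
            rw [e4]
            exact CharTwo.add_self_eq_zero _
          rw [e1, e2, zp_zero, one_mul]
  have hcomm : ∀ j, (c⁻¹ * a c) * v j = v j * (c⁻¹ * a c) := by
    intro j
    obtain ⟨i, rfl⟩ := π.surjective j
    have h1 := hac i
    rw [← hκi, ← hc] at h1
    have h2 : a c * v (π i) = c * v (π i) * c⁻¹ * a c := by rw [← h1]; group
    calc (c⁻¹ * a c) * v (π i) = c⁻¹ * (a c * v (π i)) := by group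
      _ = c⁻¹ * (c * v (π i) * c⁻¹ * a c) := by rw [h2]
      _ = _ := by group
  have hQ1 : QMinus.permHom ρ (v (π 2)) = 1 := (M.mem_Q _).1 (M.v_mem _)
  rcases QMinus.cent_Q M hcomm with h | h
  · exact ⟨c, (inv_mul_eq_one.1 h).symm, by rw [hρc, hκ2]⟩
  · refine ⟨c * v (π 2), ?_, by rw [map_mul, hQ1, mul_one, hρc, hκ2]⟩
    have h1 : a c = c * z := by rw [← h]; group
    have h2 : a (v (π 2)) = z * v (π 2) := by
      rw [A, hs, ht2, zp_one]
      congr 2
    rw [map_mul, h1, h2]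
    calc c * z * (z * v (π 2)) = c * (z * z) * v (π 2) := by group
      _ = c * v (π 2) := by rw [M.z_sq, mul_one]

/-- two fixed elements of `Q` which do not commute -/
theorem exists_nc (M : IsModel Q z v ρ)
    (A : ∀ i, a (v i) = zp z (s i) * v (σ i)) {π : Equiv.Perm (Fin 5)}
    (hσ : σ * π = π * Equiv.swap (0 : Fin 5) 1) (ht2 : s (π 2) = 1) (ht : s (π 3) = s (π 4)) :
    ∃ x y, x ∈ Q ∧ y ∈ Q ∧ a x = x ∧ a y = y ∧ x * y ≠ y * x := by
  have hs : ∀ i, σ (π i) = π (Equiv.swap (0 : Fin 5) 1 i) := fun i => congrArg (fun f : Equiv.Perm (Fin 5) => f i) hσ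
  have h2 : σ (π 2) = π 2 := by rw [hs]; congr 1
  have h3 : σ (π 3) = π 3 := by rw [hs]; congr 1
  have h4 : σ (π 4) = π 4 := by rw [hs]; congr 1
  have A2 : a (v (π 2)) = z * v (π 2) := by rw [A, h2, ht2, zp_one]
  have a34 : v (π 3) * v (π 4) = z * (v (π 4) * v (π 3)) :=
    M.v_anti _ _ (fun h => absurd (π.injective h) (by decide))
  have a23 : v (π 2) * v (π 3) = z * (v (π 3) * v (π 2)) :=
    M.v_anti _ _ (fun h => absurd (π.injective h) (by decide))
  have a24 : v (π 2) * v (π 4) = z * (v (π 4) * v (π 2)) :=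
    M.v_anti _ _ (fun h => absurd (π.injective h) (by decide))
  have hne : ∀ x : C, x ≠ z * x := by
    intro x h
    exact M.z_ne (mul_eq_right.1 h.symm)
  rcases zmod2_cases (s (π 3)) with h | h
  · have A3 : a (v (π 3)) = v (π 3) := by rw [A, h3, h, zp_zero, one_mul]
    have A4 : a (v (π 4)) = v (π 4) := by rw [A, h4, ← ht, h, zp_zero, one_mul]
    refine ⟨_, _, M.v_mem (π 3), M.v_mem (π 4), A3, A4, ?_⟩
    rw [a34]
    exact (hne _).symm
  · have A3 : a (v (π 3)) = z * v (π 3) := by rw [A, h3, h, zp_one]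
    have A4 : a (v (π 4)) = z * v (π 4) := by rw [A, h4, ← ht, h, zp_one]
    have hzz : ∀ x y : C, (z * x) * (z * y) = x * y := by
      intro x y
      calc (z * x) * (z * y) = z * (x * z) * y := by group
        _ = z * (z * x) * y := by rw [M.z_comm]
        _ = (z * z) * (x * y) := by group
        _ = x * y := by rw [M.z_sq, one_mul]
    refine ⟨v (π 3) * v (π 4), v (π 2) * v (π 3), mul_mem (M.v_mem _) (M.v_mem _), mul_mem (M.v_mem _) (M.v_mem _),
      by rw [map_mul, A3, A4, hzz], by rw [map_mul, A2, A3, hzz], ?_⟩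
    have e1 : v (π 2) * v (π 3) * (v (π 3) * v (π 4)) = v (π 2) * v (π 4) := by
      calc _ = v (π 2) * (v (π 3) * v (π 3)) * v (π 4) := by group
        _ = _ := by rw [M.v_sq, mul_one]
    have e2 : v (π 3) * v (π 4) * (v (π 2) * v (π 3)) = z * (v (π 2) * v (π 4)) := by
      have e3 : v (π 4) * v (π 2) = z * (v (π 2) * v (π 4)) := by
        rw [a24, ← mul_assoc, M.z_sq, one_mul]
      have e4 : v (π 3) * v (π 2) = z * (v (π 2) * v (π 3)) := by
        rw [a23, ← mul_assoc, M.z_sq, one_mul]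
      have e5 : v (π 4) * v (π 3) = z * (v (π 3) * v (π 4)) := by
        rw [a34, ← mul_assoc, M.z_sq, one_mul]
      calc v (π 3) * v (π 4) * (v (π 2) * v (π 3)) = v (π 3) * (v (π 4) * v (π 2)) * v (π 3) := by group
        _ = v (π 3) * (z * (v (π 2) * v (π 4))) * v (π 3) := by rw [e3]
        _ = (v (π 3) * z) * v (π 2) * (v (π 4) * v (π 3)) := by group
        _ = (z * v (π 3)) * v (π 2) * (z * (v (π 3) * v (π 4))) := by rw [M.z_comm, e5]
        _ = z * (v (π 3) * v (π 2)) * (z * (v (π 3) * v (π 4))) := by group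
        _ = (v (π 3) * v (π 2)) * (v (π 3) * v (π 4)) := hzz _ _
        _ = (z * (v (π 2) * v (π 3))) * (v (π 3) * v (π 4)) := by rw [e4]
        _ = z * (v (π 2) * v (π 3) * (v (π 3) * v (π 4))) := by group
        _ = _ := by rw [e1]
    rw [e1, e2]
    exact (hne _).symm

/-- **the fixed points of an involutory automorphism of odd type** -/
theorem core [Finite C] (M : IsModel Q z v ρ) (hcC : Nat.card C = 1920) (haz : a z = z) (haa : ∀ x, a (a x) = x)
    (A : ∀ i, a (v i) = zp z (s i) * v (σ i)) (hσ : Equiv.Perm.sign σ = -1) :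
    16 ∣ Nat.card (Cfsg.Agent.H383.Cube.fix a) := by
  have hσσ : σ * σ = 1 := by
    ext i
    congr 1
    exact (sq_facts M haz haa A i).2
  obtain ⟨π₁, hπ₁, h1⟩ := perm_one σ hσ hσσ
  obtain ⟨π₂, h2, h3, h4⟩ := perm_two (fun i => s (π₁ i)) (sum_eq M haz haa A hπ₁ h1)
  have h5 : σ * (π₁ * π₂) = (π₁ * π₂) * Equiv.swap (0 : Fin 5) 1 := by
    rw [← mul_assoc, h1, mul_assoc, h2, mul_assoc]
  obtain ⟨c, hac, hc2⟩ := exists_out M haz haa A h5 h3 h4
  obtain ⟨x, y, hx, hy, hax, hay, hxy⟩ := exists_nc M A h5 h3 h4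
  set F := Cfsg.Agent.H383.Cube.fix a with hF
  let φ : F →* Equiv.Perm (Fin 5) := (QMinus.permHom ρ).comp F.subtype
  have hcQ : Nat.card Q = 32 := by
    have := QMinus.card_mul M
    omega
  have hker : ∀ w : φ.ker, ((w : F) : C) ∈ Q := by
    intro w
    rw [← QMinus.ker_permHom M, MonoidHom.mem_ker]
    exact w.2
  have hdv : Nat.card φ.ker ∣ 2 ^ 5 := by
    let ψ : φ.ker →* Q := (F.subtype.comp φ.ker.subtype).codRestrict Q hker
    have hψ : Function.Injective ψ := by
      intro w1 w2 h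
      apply Subtype.ext
      apply Subtype.ext
      exact congrArg (fun w : Q => (w : C)) h
    have := Subgroup.card_dvd_of_injective ψ hψ
    rwa [hcQ] at this
  have h8 : 8 ∣ Nat.card φ.ker := by
    have hxk : (⟨x, hax⟩ : F) ∈ φ.ker := by
      rw [MonoidHom.mem_ker]
      exact (M.mem_Q x).1 hx
    have hyk : (⟨y, hay⟩ : F) ∈ φ.ker := by
      rw [MonoidHom.mem_ker]
      exact (M.mem_Q y).1 hy
    refine eight_dvd hdv (x := ⟨_, hxk⟩) (y := ⟨_, hyk⟩) fun h => hxy ?_
    exact congrArg (fun w : φ.ker => ((w : F) : C)) h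
  have h2r : 2 ∣ Nat.card φ.range := by
    have h6 : φ ⟨c, hac⟩ ∈ φ.range := ⟨_, rfl⟩
    have h7 := orderOf_dvd_natCard (⟨φ ⟨c, hac⟩, h6⟩ : φ.range)
    rw [Subgroup.orderOf_mk] at h7
    rwa [show orderOf (φ ⟨c, hac⟩) = 2 from hc2] at h7
  have h9 := φ.ker.card_mul_index
  rw [Subgroup.index_ker] at h9
  rw [← h9]
  exact (by norm_num : (16 : ℕ) = 8 * 2) ▸ Nat.mul_dvd_mul h8 h2r

end core

/-- **`J₃`: `16` divides the order of the centraliser of an outer involutory automorphism.** -/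
theorem out_J3 {T : Type u} [Group T] (h : Spor.IsoJ3 T) :
    Cfsg.Agent.H546.IFO.OutP T fun σ => 2 ^ 4 ∣ Nat.card (Cfsg.Agent.H383.Cube.fix σ) := by
  intro x hx2 hout
  obtain ⟨-, z, Q, v, ρ, n, u, F⟩ := KFacts.J3.exists_facts h
  have hcK := F.card_K
  have hfin : Finite T := Nat.finite_of_card_ne_zero (by rw [hcK]; norm_num)
  have hxx : x * x = 1 := by rw [← pow_two, ← hx2, pow_orderOf_eq_one]
  have hzz : z * z = 1 := congrArg Subtype.val F.model.z_sq
  have hz1 : z ≠ 1 := fun h1 => F.model.z_ne (Subtype.ext h1)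
  obtain ⟨t, ht2, hxt, -⟩ := H291.Parity.exists_comm_invo x hxx (w := 1) (map_one x) (by
    have : centralizer ({1} : Set T) = ⊤ := by
      rw [eq_top_iff]
      intro y _
      rw [mem_centralizer_singleton_iff, mul_one, one_mul]
    rw [this, Subgroup.card_top, hcK]
    decide)
  obtain ⟨g, hg⟩ := F.one t (fun h2 => by rw [h2, orderOf_one] at ht2; omega)
    (by rw [← pow_two, ← ht2, pow_orderOf_eq_one])
  set β : MulAut T := MulAut.conj g⁻¹ * x * (MulAut.conj g⁻¹)⁻¹ with hβdef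
  have hβ : ∀ y, β y = g⁻¹ * x (g * y * g⁻¹) * g := by
    intro y
    rw [hβdef, ← map_inv, inv_inv]
    change g⁻¹ * x (g * y * g⁻¹) * g⁻¹⁻¹ = _
    rw [inv_inv]
  have hβz : β z = z := by rw [hβ, hg, hxt, ← hg]; group
  have hββ : ∀ y, β (β y) = y := by
    intro y
    have h1 : β * β = 1 := by
      rw [hβdef]
      calc _ = MulAut.conj g⁻¹ * (x * x) * (MulAut.conj g⁻¹)⁻¹ := by group
        _ = 1 := by rw [hxx]; group
    exact congrArg (fun k : MulAut T => k y) h1
  have hβo : ¬ ∃ k, β = MulAut.conj k := by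
    rintro ⟨k, hk⟩
    apply hout (g * k * g⁻¹)
    rw [map_mul, map_mul, ← hk, hβdef, map_inv]
    group
  obtain ⟨σ, hσ⟩ := exists_perm F.card_C F.model hβz
  have hsign : Equiv.Perm.sign σ = -1 := by
    apply int_sign
    intro h1
    refine hβo (inner_of_even F.card_C F.model (n₀ := n) ?_ ?_ F.gen hβz hσ h1)
    · rw [F.nz]
      exact ⟨v 0, F.model.v_mem 0, rfl⟩
    · rw [F.nz]
      intro h1
      apply zv_ne_z F.model 0 0
      rw [zp_zero, one_mul]
      exact Subtype.ext h1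
  -- the restriction to `C(z)`
  have hmap : ∀ y : T, y ∈ centralizer ({z} : Set T) → β y ∈ centralizer ({z} : Set T) := by
    intro y hy
    rw [mem_centralizer_singleton_iff] at hy ⊢
    conv_lhs => rw [← hβz, ← map_mul, hy, map_mul, hβz]
  let b : MulAut (centralizer ({z} : Set T)) :=
    { toFun := fun y => ⟨β y.1, hmap y.1 y.2⟩
      invFun := fun y => ⟨β y.1, hmap y.1 y.2⟩
      left_inv := fun y => Subtype.ext (hββ y.1)
      right_inv := fun y => Subtype.ext (hββ y.1)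
      map_mul' := fun y w => Subtype.ext (map_mul β y.1 w.1) }
  have hb : ∀ y, ((b y : centralizer ({z} : Set T)) : T) = β y := fun _ => rfl
  have hA : ∀ i, ∃ s : ZMod 2, b (v i) = zp (zc z) s * v (σ i) := by
    intro i
    rcases hσ i with h1 | h1
    · exact ⟨0, by rw [zp_zero, one_mul]; exact Subtype.ext h1⟩
    · refine ⟨1, ?_⟩
      rw [zp_one, ← F.model.z_comm]
      exact Subtype.ext h1
  choose s hs using hA
  have h16 := core (a := b) F.model F.card_C (Subtype.ext hβz) (fun y => Subtype.ext (hββ y.1)) hs hsign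
  -- transport
  let θ : Cfsg.Agent.H383.Cube.fix b →* Cfsg.Agent.H383.Cube.fix x :=
    { toFun := fun y => ⟨g * y.1.1 * g⁻¹, by
        have h1 : b y.1 = y.1 := y.2
        have h2 : β y.1.1 = y.1.1 := congrArg Subtype.val h1
        rw [hβ] at h2
        change x (g * y.1.1 * g⁻¹) = g * y.1.1 * g⁻¹
        calc x (g * y.1.1 * g⁻¹) = g * (g⁻¹ * x (g * y.1.1 * g⁻¹) * g) * g⁻¹ := by group
          _ = _ := by rw [h2]⟩
      map_one' := Subtype.ext (by simp)
      map_mul' := fun y w => Subtype.ext (by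
        change g * (y.1.1 * w.1.1) * g⁻¹ = g * y.1.1 * g⁻¹ * (g * w.1.1 * g⁻¹)
        group) }
  have hθ : Function.Injective θ := by
    intro y w h1
    have h2 : g * y.1.1 * g⁻¹ = g * w.1.1 * g⁻¹ := congrArg Subtype.val h1
    have h3 := mul_left_cancel (mul_right_cancel h2)
    exact Subtype.ext (Subtype.ext h3)
  exact (by norm_num : (2 : ℕ) ^ 4 = 16) ▸ h16.trans (Subgroup.card_dvd_of_injective θ hθ)

end Cfsg.Agent.H469.IF
end

-- part: H893/IF/EightM3
section
prune_inst 0x4355071054540020000048014600000a57d00000200008c0004e50b420208224005020840088000015822000000040008130000200240000004200000000505010800000090080100020008000000000000000000000000000000000000000000200000000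
set_option linter.all false
open scoped Cfsg.Agent.FastGrp

-- part: H893/IF/EightM
section
/-!
# S5719, `Ω₈⁻(q)`, `q` odd: geometry of the assembly (helper893)

* `comm_rhoE`, `swap_comm`, `sq_one_SL`;
* `Vm_fund` : the `-1`-space of a fundamental involution; `eq_of_Vm`;
* `cent_case` : an involution of rank four commuting with a long `SL₂` of `z` is `z`;
* `main` : the homomorphism `φ` of helper215's theorem and its properties.
-/

set_option autoImplicit false
set_option linter.unusedSectionVars false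
set_option linter.unusedVariables false
set_option linter.unusedSimpArgs false

namespace Cfsg.Agent.H893.IFE

open QuadraticMap Module Cfsg.Agent.LieClassical Cfsg.Agent.LieClassical.OrthCore Cfsg.Agent.LieClassical.OrthTrans
  Cfsg.Agent.LieClassical.OrthSimple Cfsg.Agent.H989.Gs.Gen Cfsg.Agent.H989.Fx Cfsg.Agent.H325.IF
  Cfsg.Agent.H160.QSpin Cfsg.Agent.H160.QDisc
open Cfsg.Agent.UGT.U2.FOne.Orth (Four)
open Matrix (SpecialLinearGroup)

universe u v

variable {F : Type u} [Field F] {V : Type v} [AddCommGroup V] [Module F V] {Q : QuadraticForm F V}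
  {e₁ f₁ e₂ f₂ : V}

/-! ### `SL₂` -/

theorem sq_one_SL (h2 : (2 : F) ≠ 0) {N : _root_.Matrix.SpecialLinearGroup (Fin 2) F} (hN : N * N = 1) : N = 1 ∨ N = -1 := by
  have hMM : N.1 * N.1 = 1 := congrArg Subtype.val hN
  have hdet : N.1 0 0 * N.1 1 1 - N.1 0 1 * N.1 1 0 = 1 := by
    have := N.2
    rwa [Matrix.det_fin_two] at this
  have e00 : N.1 0 0 * N.1 0 0 + N.1 0 1 * N.1 1 0 = 1 := by
    have := congrFun (congrFun hMM 0) 0
    simpa only [Matrix.mul_apply, Fin.sum_univ_two, _root_.Fin.isValue, _root_.Matrix.one_apply_eq] using this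
  have e01 : N.1 0 0 * N.1 0 1 + N.1 0 1 * N.1 1 1 = 0 := by
    have := congrFun (congrFun hMM 0) 1
    simpa only [Matrix.mul_apply, Fin.sum_univ_two, _root_.Fin.isValue, _root_.ne_eq, _root_.zero_ne_one, _root_.not_false_eq_true, _root_.Matrix.one_apply_ne] using this
  have e10 : N.1 1 0 * N.1 0 0 + N.1 1 1 * N.1 1 0 = 0 := by
    have := congrFun (congrFun hMM 1) 0
    simpa only [Matrix.mul_apply, Fin.sum_univ_two, _root_.Fin.isValue, _root_.ne_eq, _root_.one_ne_zero, _root_.not_false_eq_true, _root_.Matrix.one_apply_ne] using this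
  have e11 : N.1 1 0 * N.1 0 1 + N.1 1 1 * N.1 1 1 = 1 := by
    have := congrFun (congrFun hMM 1) 1
    simpa only [Matrix.mul_apply, Fin.sum_univ_two, _root_.Fin.isValue, _root_.Matrix.one_apply_eq] using this
  have t0 : N.1 0 0 * (N.1 0 0 + N.1 1 1) = 2 := by linear_combination e00 + hdet
  have t1 : N.1 1 1 * (N.1 0 0 + N.1 1 1) = 2 := by linear_combination e11 + hdet
  have ht : N.1 0 0 + N.1 1 1 ≠ 0 := by
    intro h0
    rw [h0, mul_zero] at t0
    exact h2 t0.symm
  have m01 : N.1 0 1 = 0 :=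
    (mul_eq_zero.1 (show N.1 0 1 * (N.1 0 0 + N.1 1 1) = 0 by linear_combination e01)).resolve_right ht
  have m10 : N.1 1 0 = 0 :=
    (mul_eq_zero.1 (show N.1 1 0 * (N.1 0 0 + N.1 1 1) = 0 by linear_combination e10)).resolve_right ht
  have m0011 : N.1 0 0 = N.1 1 1 := mul_right_cancel₀ ht (t0.trans t1.symm)
  rw [m01, zero_mul, add_zero] at e00
  rcases mul_self_eq_one_iff.1 e00 with h5 | h5
  · left
    apply Subtype.ext
    ext i j
    fin_cases i <;> fin_cases j
    · simpa only [_root_.Fin.zero_eta, _root_.Fin.isValue, _root_.Matrix.SpecialLinearGroup.coe_one, _root_.Matrix.one_apply_eq] using h5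
    · simpa only [_root_.Fin.zero_eta, _root_.Fin.isValue, _root_.Fin.mk_one, _root_.Matrix.SpecialLinearGroup.coe_one, _root_.Nat.reduceAdd, _root_.ne_eq, _root_.zero_ne_one, _root_.not_false_eq_true, _root_.Matrix.one_apply_ne] using m01
    · simpa only [_root_.Fin.mk_one, _root_.Fin.isValue, _root_.Fin.zero_eta, _root_.Matrix.SpecialLinearGroup.coe_one, _root_.Nat.reduceAdd, _root_.ne_eq, _root_.one_ne_zero, _root_.not_false_eq_true, _root_.Matrix.one_apply_ne] using m10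
    · simpa using (m0011 ▸ h5)
  · right
    apply Subtype.ext
    ext i j
    fin_cases i <;> fin_cases j
    · simpa using h5
    · simpa only [_root_.Fin.zero_eta, _root_.Fin.isValue, _root_.Fin.mk_one, _root_.Matrix.SpecialLinearGroup.coe_neg, _root_.Matrix.SpecialLinearGroup.coe_one, _root_.Matrix.neg_apply, _root_.Nat.reduceAdd, _root_.ne_eq, _root_.zero_ne_one, _root_.not_false_eq_true, _root_.Matrix.one_apply_ne, _root_.neg_zero] using m01
    · simpa only [_root_.Fin.mk_one, _root_.Fin.isValue, _root_.Fin.zero_eta, _root_.Matrix.SpecialLinearGroup.coe_neg, _root_.Matrix.SpecialLinearGroup.coe_one, _root_.Matrix.neg_apply, _root_.Nat.reduceAdd, _root_.ne_eq, _root_.one_ne_zero, _root_.not_false_eq_true, _root_.Matrix.one_apply_ne, _root_.neg_zero] using m10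
    · simpa using (m0011 ▸ h5)

/-! ### the long `SL₂` -/

/-- An element fixing the four vectors commutes with the long `SL₂`. -/
theorem comm_rhoE (h : Four Q e₁ f₁ e₂ f₂) {a : ↥(E Q)} (h1 : ap a e₁ = e₁) (h2 : ap a f₁ = f₁) (h3 : ap a e₂ = e₂)
    (h4 : ap a f₂ = f₂) (M : _root_.Matrix.SpecialLinearGroup (Fin 2) F) : a * h.rhoE M = h.rhoE M * a := by
  apply ext_ap
  intro v
  have k : ∀ x, ap a x = x → polar Q x (ap a v) = polar Q x v := by
    intro x hx
    conv_lhs => rw [← hx]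
    exact polar_ap a x v
  change ap a (h.phi M v) = h.phi M (ap a v)
  unfold Four.phi
  rw [k _ h1, k _ h2, k _ h3, k _ h4]
  simp only [ap_add, ap_smul, h1, h2, h3, h4]

theorem swap_comm (h : Four Q e₁ f₁ e₂ f₂) (M N : _root_.Matrix.SpecialLinearGroup (Fin 2) F) :
    h.rhoE M * h.swap.rhoE N = h.swap.rhoE N * h.rhoE M := by
  apply ext_ap
  intro v
  change h.phi M (h.swap.phi N v) = h.swap.phi N (h.phi M v)
  have key : ∀ w : V, h.phi M w = w + ((M.1 0 0 - 1) * polar Q f₁ w + M.1 0 1 * polar Q f₂ w) • e₁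
    + (M.1 1 0 * polar Q f₁ w + (M.1 1 1 - 1) * polar Q f₂ w) • e₂
    + ((M.1 1 1 - 1) * polar Q e₁ w - M.1 1 0 * polar Q e₂ w) • f₁
    + (-M.1 0 1 * polar Q e₁ w + (M.1 0 0 - 1) * polar Q e₂ w) • f₂ := fun w => rfl
  have key' : ∀ w : V, h.swap.phi N w = w + ((N.1 0 0 - 1) * polar Q f₁ w + N.1 0 1 * polar Q e₂ w) • e₁
    + (N.1 1 0 * polar Q f₁ w + (N.1 1 1 - 1) * polar Q e₂ w) • f₂
    + ((N.1 1 1 - 1) * polar Q e₁ w - N.1 1 0 * polar Q f₂ w) • f₁
    + (-N.1 0 1 * polar Q e₁ w + (N.1 0 0 - 1) * polar Q f₂ w) • e₂ := fun w => rfl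
  rw [key (h.swap.phi N v), key' (h.phi M v), h.swap.polar_f1, h.swap.polar_f2, h.swap.polar_e1, h.swap.polar_e2,
    h.polar_f1, h.polar_f2, h.polar_e1, h.polar_e2, key v, key' v]
  module

/-- the two long `SL₂` share only scalars -/
theorem scalar_of_eq (h : Four Q e₁ f₁ e₂ f₂) {M N : _root_.Matrix.SpecialLinearGroup (Fin 2) F} (hMN : h.rhoE M = h.swap.rhoE N) :
    M * M = 1 := by
  obtain ⟨p1, p2, p3, p4, p5, p6, p7, p8, p9, p10, p11, p12, p13, p14, p15, p16⟩ := h.pols
  have k1 : M.1 0 0 • e₁ + M.1 1 0 • e₂ = N.1 0 0 • e₁ + N.1 1 0 • f₂ := by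
    rw [← h.rho_e1, ← h.swap.rho_e1]
    exact congrArg (fun g : ↥(E Q) => ap g e₁) hMN
  have k2 : M.1 0 1 • e₁ + M.1 1 1 • e₂ = (-N.1 1 0) • f₁ + N.1 0 0 • e₂ := by
    rw [← h.rho_e2, ← h.swap.rho_f2]
    exact congrArg (fun g : ↥(E Q) => ap g e₂) hMN
  have m10 : M.1 1 0 = 0 := by
    have := congrArg (polar Q f₂) k1
    simp only [polar_add_right, polar_smul_right, smul_eq_mul, p12, p8, p4, mul_zero, mul_one, zero_add, add_zero] at this
    exact this
  have m00 : M.1 0 0 = N.1 0 0 := by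
    have := congrArg (polar Q f₁) k1
    simp only [polar_add_right, polar_smul_right, smul_eq_mul, p6, p13, p15, mul_zero, mul_one, zero_add, add_zero] at this
    exact this
  have m01 : M.1 0 1 = 0 := by
    have := congrArg (polar Q f₁) k2
    simp only [polar_add_right, polar_smul_right, smul_eq_mul, p6, p13, p2, mul_zero, mul_one, zero_add, add_zero] at this
    exact this
  have m11 : M.1 1 1 = N.1 0 0 := by
    have := congrArg (polar Q f₂) k2
    simp only [polar_add_right, polar_smul_right, smul_eq_mul, p12, p8, p16, mul_zero, mul_one, zero_add, add_zero] at this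
    exact this
  have hdet : M.1 0 0 * M.1 1 1 - M.1 0 1 * M.1 1 0 = 1 := by
    have := M.2
    rwa [Matrix.det_fin_two] at this
  rw [m01, m10, m00, m11] at hdet
  have hsq : N.1 0 0 * N.1 0 0 = 1 := by linear_combination hdet
  apply Subtype.ext
  change M.1 * M.1 = 1
  ext i j
  fin_cases i <;> fin_cases j
  · simp [Matrix.mul_apply, Fin.sum_univ_two, m01, m10, m00, m11, hsq]
  · simp only [Matrix.mul_apply, Fin.sum_univ_two, m01, m10, m00, m11, hsq, _root_.Fin.zero_eta, _root_.Fin.isValue, _root_.Fin.mk_one, _root_.MulZeroClass.mul_zero, _root_.MulZeroClass.zero_mul, _root_.add_zero, _root_.ne_eq, _root_.zero_ne_one, _root_.not_false_eq_true, _root_.Matrix.one_apply_ne]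
  · simp only [Matrix.mul_apply, Fin.sum_univ_two, m01, m10, m00, m11, hsq, _root_.Fin.mk_one, _root_.Fin.isValue, _root_.Fin.zero_eta, _root_.MulZeroClass.zero_mul, _root_.MulZeroClass.mul_zero, _root_.add_zero, _root_.ne_eq, _root_.one_ne_zero, _root_.not_false_eq_true, _root_.Matrix.one_apply_ne]
  · simp [Matrix.mul_apply, Fin.sum_univ_two, m01, m10, m00, m11, hsq]

/-! ### `-1`-spaces -/

/-- the space of the frame -/
def Wsp (e₁ f₁ e₂ f₂ : V) : Submodule F V := Submodule.span F (Set.range ![e₁, f₁, e₂, f₂])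

theorem mem_Wsp {v : V} : v ∈ Wsp (F := F) e₁ f₁ e₂ f₂ ↔ ∃ a b c d : F, a • e₁ + b • f₁ + c • e₂ + d • f₂ = v := by
  rw [Wsp, Submodule.mem_span_range_iff_exists_fun]
  constructor
  · rintro ⟨c, hc⟩
    refine ⟨c 0, c 1, c 2, c 3, ?_⟩
    rw [← hc, Fin.sum_univ_four]
    rfl
  · rintro ⟨a, b, c, d, hv⟩
    refine ⟨![a, b, c, d], ?_⟩
    rw [← hv, Fin.sum_univ_four]
    rfl

theorem finrank_Wsp (h : Four Q e₁ f₁ e₂ f₂) : finrank F (Wsp (F := F) e₁ f₁ e₂ f₂) = 4 := by
  obtain ⟨p1, p2, p3, p4, p5, p6, p7, p8, p9, p10, p11, p12, p13, p14, p15, p16⟩ := h.pols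
  have hli : LinearIndependent F ![e₁, f₁, e₂, f₂] := by
    rw [Fintype.linearIndependent_iff]
    intro c hc
    rw [Fin.sum_univ_four] at hc
    change c 0 • e₁ + c 1 • f₁ + c 2 • e₂ + c 3 • f₂ = 0 at hc
    have k0 := congrArg (polar Q f₁) hc
    have k1 := congrArg (polar Q e₁) hc
    have k2 := congrArg (polar Q f₂) hc
    have k3 := congrArg (polar Q e₂) hc
    simp only [polar_add_right, polar_smul_right, smul_eq_mul, polar_zero_right, p1, p2, p3, p4, p5, p6, p7, p8, p9,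
      p10, p11, p12, p13, p14, p15, p16, mul_zero, mul_one, zero_add, add_zero] at k0 k1 k2 k3
    intro i
    fin_cases i
    · exact k0
    · exact k1
    · exact k2
    · exact k3
  rw [Wsp, finrank_span_eq_card hli]
  rfl

/-- `-1`-space of a fundamental involution -/
theorem Vm_frame (h2 : (2 : F) ≠ 0) {z : ↥(E Q)} (h : Four Q e₁ f₁ e₂ f₂) (h1 : ap z e₁ = -e₁)
    (h2' : ap z f₁ = -f₁) (h3 : ap z e₂ = -e₂) (h4 : ap z f₂ = -f₂)
    (h5 : ∀ v, polar Q e₁ v = 0 → polar Q f₁ v = 0 → polar Q e₂ v = 0 → polar Q f₂ v = 0 → ap z v = v) :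
    Vm z = Wsp e₁ f₁ e₂ f₂ := by
  apply le_antisymm
  · intro v hv
    rw [mem_Vm, fund_ap h h1 h2' h3 h4 h5 v] at hv
    rw [mem_Wsp]
    refine ⟨polar Q f₁ v, polar Q e₁ v, polar Q f₂ v, polar Q e₂ v, ?_⟩
    have h6 : (2 : F) • (v - (polar Q f₁ v • e₁ + polar Q e₁ v • f₁ + (polar Q f₂ v • e₂ + polar Q e₂ v • f₂))) = 0 := by
      rw [smul_sub, two_smul F v]
      have h7 : v = -(v - (2 : F) • (polar Q f₁ v • e₁ + polar Q e₁ v • f₁ + (polar Q f₂ v • e₂ + polar Q e₂ v • f₂))) := by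
        rw [hv, neg_neg]
      nth_rewrite 2 [h7]
      abel
    have h7 := sub_eq_zero.1 ((smul_eq_zero.1 h6).resolve_left h2)
    nth_rewrite 5 [h7]
    abel
  · intro v hv
    rw [mem_Wsp] at hv
    obtain ⟨a, b, c, d, rfl⟩ := hv
    rw [mem_Vm]
    simp only [ap_add, ap_smul, h1, h2', h3, h4]
    module

theorem rhoE_neg_e1 (h : Four Q e₁ f₁ e₂ f₂) : ap (h.rhoE (-1)) e₁ = -e₁ := by
  change h.rho (-1) e₁ = _
  rw [h.rho_e1]
  simp

theorem rhoE_neg_f1 (h : Four Q e₁ f₁ e₂ f₂) : ap (h.rhoE (-1)) f₁ = -f₁ := by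
  change h.rho (-1) f₁ = _
  rw [h.rho_f1]
  simp

theorem rhoE_neg_e2 (h : Four Q e₁ f₁ e₂ f₂) : ap (h.rhoE (-1)) e₂ = -e₂ := by
  change h.rho (-1) e₂ = _
  rw [h.rho_e2]
  simp

theorem rhoE_neg_f2 (h : Four Q e₁ f₁ e₂ f₂) : ap (h.rhoE (-1)) f₂ = -f₂ := by
  change h.rho (-1) f₂ = _
  rw [h.rho_f2]
  simp

theorem rhoE_fix (h : Four Q e₁ f₁ e₂ f₂) (M : _root_.Matrix.SpecialLinearGroup (Fin 2) F) {v : V} (k1 : polar Q e₁ v = 0)
    (k2 : polar Q f₁ v = 0) (k3 : polar Q e₂ v = 0) (k4 : polar Q f₂ v = 0) : ap (h.rhoE M) v = v := by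
  change h.phi M v = v
  unfold Four.phi
  rw [k1, k2, k3, k4]
  module

/-- `z = ρ(-1)` -/
theorem eq_rhoE_neg {z : ↥(E Q)} (h : Four Q e₁ f₁ e₂ f₂) (h1 : ap z e₁ = -e₁)
    (h2' : ap z f₁ = -f₁) (h3 : ap z e₂ = -e₂) (h4 : ap z f₂ = -f₂)
    (h5 : ∀ v, polar Q e₁ v = 0 → polar Q f₁ v = 0 → polar Q e₂ v = 0 → polar Q f₂ v = 0 → ap z v = v) :
    z = h.rhoE (-1) := by
  apply ext_ap
  intro v
  rw [fund_ap h h1 h2' h3 h4 h5 v, fund_ap h (rhoE_neg_e1 h) (rhoE_neg_f1 h) (rhoE_neg_e2 h) (rhoE_neg_f2 h)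
    (fun w k1 k2 k3 k4 => rhoE_fix h (-1) k1 k2 k3 k4) v]

theorem eq_of_Vm (h2 : (2 : F) ≠ 0) (hQ : Nondeg Q) {g g' : ↥(E Q)} (hg : g * g = 1) (hg' : g' * g' = 1)
    (h : Vm g = Vm g') : g = g' := by
  apply ext_ap
  intro v
  obtain ⟨a, ha, b, hb, rfl⟩ := Submodule.mem_sup.1 (((isCompl h2 hg).codisjoint.eq_top).symm ▸
    Submodule.mem_top : v ∈ Vm g ⊔ Vp g)
  have ha' : a ∈ Vm g' := h ▸ ha
  have hb' : b ∈ Vp g' := by
    rw [mem_Vp_iff h2 hQ hg', ← h, ← mem_Vp_iff h2 hQ hg]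
    exact hb
  rw [ap_add, ap_add, mem_Vm.1 ha, mem_Vp.1 hb, mem_Vm.1 ha', mem_Vp.1 hb']

/-! ### `-1` -/

/-- `-1 ∉ Ω` if the discriminant is not a square -/
theorem neg_notMem [Finite F] [Fintype F] [DecidableEq F] [FiniteDimensional F V] (h2 : (2 : F) ≠ 0) (hG : Good Q)
    (hdc : dc Q = -1) (g : ↥(E Q)) : ¬ ∀ v, ap g v = -v := by
  intro h
  have hg : g * g = 1 := by
    apply ext_ap
    intro v
    rw [ap_mul, h, h, neg_neg, ap_one]
  have h3 := dc_Vp h2 hg hG
  have h4 : Vp g = ⊥ := by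
    rw [eq_bot_iff]
    intro v hv
    rw [mem_Vp, h] at hv
    rw [Submodule.mem_bot]
    have h5 : (2 : F) • v = 0 := by
      rw [two_smul]
      nth_rewrite 1 [← hv]
      exact neg_add_cancel v
    exact (smul_eq_zero.1 h5).resolve_left h2
  have h5 : finrank F (Vp g) = 0 := by rw [h4, finrank_bot]
  have h6 : dc (Q.comp (Vp g).subtype) = 1 := by
    unfold dc
    rw [gdet_of_zero _ h5, map_one]
  rw [h6, hdc] at h3
  exact absurd h3 (by norm_num)

section eight

variable [Finite F] [FiniteDimensional F V] (h2 : (2 : F) ≠ 0) (hG : Good Q) (hN : finrank F V = 8)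
  (hm : ∀ g : ↥(E Q), ¬ ∀ v, ap g v = -v)

include h2 hG hN hm

/-- rank of an involution -/
theorem rank_cases {t : ↥(E Q)} (ht : t * t = 1) (ht1 : t ≠ 1) :
    finrank F (Vm t) = 2 ∨ finrank F (Vm t) = 6 ∨ (finrank F (Vm t) = 4 ∧ Fund Q t) := by
  obtain ⟨k, hk⟩ := even_Vm h2 ht hG
  have h3 := Submodule.finrank_add_eq_of_isCompl (isCompl h2 ht)
  have h0 : finrank F (Vm t) ≠ 0 := by
    intro h
    apply ht1
    rw [Submodule.finrank_eq_zero] at h
    have h4 := (isCompl h2 ht).codisjoint.eq_top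
    rw [h, bot_sup_eq] at h4
    apply ext_ap
    intro v
    rw [ap_one]
    have : v ∈ Vp t := by rw [h4]; trivial
    exact mem_Vp.1 this
  have h8 : finrank F (Vm t) ≠ 8 := by
    intro h
    apply hm t
    intro v
    have : Vm t = ⊤ := Submodule.eq_top_of_finrank_eq (by rw [h, hN])
    have h4 : v ∈ Vm t := by rw [this]; trivial
    exact mem_Vm.1 h4
  have h7 : finrank F (Vm t) = 2 ∨ finrank F (Vm t) = 6 ∨ finrank F (Vm t) = 4 := by omega
  rcases h7 with h7 | h7 | h7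
  · exact Or.inl h7
  · exact Or.inr (Or.inl h7)
  · exact Or.inr (Or.inr ⟨h7, fund_of_finrank h2 hG ht h7⟩)

/-- an involution of rank four trivial on the frame of `z`: impossible -/
theorem not_trivial (h : Four Q e₁ f₁ e₂ f₂) {t : ↥(E Q)} (ht : t * t = 1) (hr : finrank F (Vm t) = 4)
    (k1 : ap t e₁ = e₁) (k2 : ap t f₁ = f₁) (k3 : ap t e₂ = e₂) (k4 : ap t f₂ = f₂) : False := by
  have hW : Wsp e₁ f₁ e₂ f₂ ≤ Vp t := by
    intro v hv
    rw [mem_Wsp] at hv
    obtain ⟨a, b, c, d, rfl⟩ := hv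
    rw [mem_Vp]
    simp only [ap_add, ap_smul, k1, k2, k3, k4]
  have h3 := Submodule.finrank_add_eq_of_isCompl (isCompl h2 ht)
  have h4 : Wsp e₁ f₁ e₂ f₂ = Vp t := Submodule.eq_of_le_of_finrank_eq hW (by rw [finrank_Wsp h]; omega)
  apply hm (t * h.rhoE (-1))
  intro v
  obtain ⟨a, ha, b, hb, rfl⟩ := Submodule.mem_sup.1 (((isCompl h2 ht).codisjoint.eq_top).symm ▸
    Submodule.mem_top : v ∈ Vm t ⊔ Vp t)
  have hz := Vm_frame h2 h (rhoE_neg_e1 h) (rhoE_neg_f1 h) (rhoE_neg_e2 h) (rhoE_neg_f2 h)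
    (fun w k1 k2 k3 k4 => rhoE_fix h (-1) k1 k2 k3 k4)
  have hzz : h.rhoE (-1) * h.rhoE (-1) = 1 := by
    rw [← map_mul, neg_one_mul, neg_neg, map_one]
  have hb1 : ap (h.rhoE (-1)) b = -b := by
    rw [← mem_Vm, hz, h4]
    exact hb
  have ha1 : ap (h.rhoE (-1)) a = a := by
    rw [← mem_Vp, mem_Vp_iff h2 hG.nondeg hzz, hz, h4]
    intro u hu
    rw [polar_comm]
    exact polar_Vm_Vp h2 ha hu
  rw [ap_mul, ap_add, ha1, hb1, ap_add, ap_neg, mem_Vm.1 ha, mem_Vp.1 hb, neg_add]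

/-- an involution of rank four acting as a member of the swapped `SL₂` on the frame of `z` is `z` -/
theorem eq_of_swap (h : Four Q e₁ f₁ e₂ f₂) {t : ↥(E Q)} (ht : t * t = 1) (hr : finrank F (Vm t) = 4)
    (N : _root_.Matrix.SpecialLinearGroup (Fin 2) F) (hN' : ∀ w ∈ ({e₁, f₁, e₂, f₂} : Set V), ap ((h.swap.rhoE N)⁻¹ * t) w = w) :
    t = h.rhoE (-1) := by
  have key : ∀ w ∈ ({e₁, f₁, e₂, f₂} : Set V), ap t w = ap (h.swap.rhoE N) w := by
    intro w hw
    have h3 := hN' w hw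
    rw [ap_mul] at h3
    have h4 := congrArg (ap (h.swap.rhoE N)) h3
    rwa [ap_ap_inv] at h4
  have c1 : ap t e₁ = N.1 0 0 • e₁ + N.1 1 0 • f₂ := by
    rw [key e₁ (by simp)]
    exact h.swap.rho_e1 N
  have c2 : ap t f₂ = N.1 0 1 • e₁ + N.1 1 1 • f₂ := by
    rw [key f₂ (by simp)]
    exact h.swap.rho_e2 N
  have c3 : ap t f₁ = N.1 1 1 • f₁ + (-N.1 0 1) • e₂ := by
    rw [key f₁ (by simp)]
    exact h.swap.rho_f1 N
  have c4 : ap t e₂ = (-N.1 1 0) • f₁ + N.1 0 0 • e₂ := by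
    rw [key e₂ (by simp)]
    exact h.swap.rho_f2 N
  obtain ⟨p1, p2, p3, p4, p5, p6, p7, p8, p9, p10, p11, p12, p13, p14, p15, p16⟩ := h.pols
  have htt : ∀ v, ap t (ap t v) = v := fun v => by rw [← ap_mul, ht, ap_one]
  have hNN : N * N = 1 := by
    have d1 := htt e₁
    rw [c1, ap_add, ap_smul, ap_smul, c1, c2] at d1
    have d2 := htt f₂
    rw [c2, ap_add, ap_smul, ap_smul, c1, c2] at d2
    have a1 := congrArg (polar Q f₁) d1
    have a2 := congrArg (polar Q e₂) d1
    have a3 := congrArg (polar Q f₁) d2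
    have a4 := congrArg (polar Q e₂) d2
    simp only [polar_add_right, polar_smul_right, smul_eq_mul, p1, p2, p3, p4, p5, p6, p7, p8, p9,
      p10, p11, p12, p13, p14, p15, p16, mul_zero, mul_one, zero_add, add_zero] at a1 a2 a3 a4
    apply Subtype.ext
    change N.1 * N.1 = 1
    ext i j
    fin_cases i <;> fin_cases j
    · simp only [Fin.zero_eta, Matrix.mul_apply, Fin.sum_univ_two, Matrix.one_apply_eq]
      linear_combination a1
    · simp only [Fin.zero_eta, Fin.mk_one, Matrix.mul_apply, Fin.sum_univ_two, ne_eq, zero_ne_one, not_false_eq_true,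
        Matrix.one_apply_ne]
      linear_combination a3
    · simp only [Fin.zero_eta, Fin.mk_one, Matrix.mul_apply, Fin.sum_univ_two, ne_eq, one_ne_zero, not_false_eq_true,
        Matrix.one_apply_ne]
      linear_combination a2
    · simp only [Fin.mk_one, Matrix.mul_apply, Fin.sum_univ_two, Matrix.one_apply_eq]
      linear_combination a4
  rcases sq_one_SL h2 hNN with rfl | rfl
  · exfalso
    refine not_trivial h2 hG hN hm h ht hr ?_ ?_ ?_ ?_
    · rw [c1]; simp
    · rw [c3]; simp only [_root_.Fin.isValue, _root_.Matrix.SpecialLinearGroup.coe_one, _root_.Matrix.one_apply_eq, _root_.one_smul, _root_.ne_eq, _root_.zero_ne_one, _root_.not_false_eq_true, _root_.Matrix.one_apply_ne, _root_.neg_zero, _root_.zero_smul, _root_.add_zero]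
    · rw [c4]; simp
    · rw [c2]; simp
  · have hz := Vm_frame h2 h (rhoE_neg_e1 h) (rhoE_neg_f1 h) (rhoE_neg_e2 h) (rhoE_neg_f2 h)
      (fun w k1 k2 k3 k4 => rhoE_fix h (-1) k1 k2 k3 k4)
    have hzz : h.rhoE (-1) * h.rhoE (-1) = 1 := by
      rw [← map_mul, neg_one_mul, neg_neg, map_one]
    apply eq_of_Vm h2 hG.nondeg ht hzz
    rw [hz]
    symm
    apply Submodule.eq_of_le_of_finrank_eq
    · intro v hv
      rw [mem_Wsp] at hv
      obtain ⟨a, b, c, d, rfl⟩ := hv
      rw [mem_Vm]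
      have d1 : ap t e₁ = -e₁ := by rw [c1]; simp
      have d2 : ap t f₁ = -f₁ := by rw [c3]; simp only [_root_.Fin.isValue, _root_.Matrix.SpecialLinearGroup.coe_neg, _root_.Matrix.SpecialLinearGroup.coe_one, _root_.Matrix.neg_apply, _root_.Matrix.one_apply_eq, _root_.neg_smul, _root_.one_smul, _root_.ne_eq, _root_.zero_ne_one, _root_.not_false_eq_true, _root_.Matrix.one_apply_ne, _root_.neg_zero, _root_.zero_smul, _root_.add_zero]
      have d3 : ap t e₂ = -e₂ := by rw [c4]; simp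
      have d4 : ap t f₂ = -f₂ := by rw [c2]; simp
      simp only [ap_add, ap_smul, d1, d2, d3, d4]
      module
    · rw [finrank_Wsp h, hr]

end eight

end Cfsg.Agent.H893.IFE
end

-- part: H215/IFM/Eight
section
/-!
# S5719, `Ω_8^-(q)`, `q` odd: the case of a fundamental involution (helper215)

`eight_minus` : `φ : (SL₂(q) × SL₂(q)) × SL₂(q²) → C_T(z)`.
-/

set_option autoImplicit false
set_option linter.unusedSectionVars false

namespace Cfsg.Agent.H215.IFM

open MulAction Subgroup Cfsg.Agent.H284 Cfsg.Agent.H209.Fxy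
open Cfsg.Agent.LieClassical.SLTwoUnipotent (ext_coe)
open Matrix (SpecialLinearGroup ProjectiveSpecialLinearGroup)

theorem ar1 {k : ℕ} (hk : 2 ≤ k) : 2 * (2 * k + 1) ^ 4 ≤ (2 * k + 1) ^ 2 * (((2 * k + 1) ^ 2) ^ 2 - 1) := by
  have h : 25 ≤ (2 * k + 1) ^ 2 := by nlinarith
  have e : (2 * k + 1) ^ 4 = (2 * k + 1) ^ 2 * (2 * k + 1) ^ 2 := by ring
  rw [e]
  generalize (2 * k + 1) ^ 2 = y at *
  have h1 : 2 * y ≤ y ^ 2 - 1 := by
    have h2 : 2 * y + 1 ≤ y ^ 2 := by nlinarith only [h]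
    omega
  calc 2 * (y * y) = y * (2 * y) := by ring
    _ ≤ _ := Nat.mul_le_mul_left y h1

theorem ar2 {k : ℕ} (hk : 2 ≤ k) : (2 * k + 1) ^ 4 ≤ ((2 * k + 1) ^ 2 + 1) * ((2 * k + 1) * (2 * (k * (k + 1)))) := by
  have h1 : (2 * k + 1) ^ 2 ≤ (2 * k + 1) * (2 * (k * (k + 1))) := by
    have h2 : 2 * k + 1 ≤ 2 * (k * (k + 1)) := by nlinarith
    calc (2 * k + 1) ^ 2 = (2 * k + 1) * (2 * k + 1) := by ring
      _ ≤ _ := Nat.mul_le_mul_left _ h2
  calc (2 * k + 1) ^ 4 = (2 * k + 1) ^ 2 * (2 * k + 1) ^ 2 := by ring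
    _ ≤ _ := Nat.mul_le_mul (Nat.le_succ _) h1

theorem ar3 (k : ℕ) : (2 * k + 1) ^ 4 ≤ (k + 1) * (k + 1) * (4 * (2 * k + 1) ^ 2) := by
  have h1 : (2 * k + 1) ^ 2 ≤ (2 * k + 2) ^ 2 := Nat.pow_le_pow_left (by omega) 2
  calc (2 * k + 1) ^ 4 = (2 * k + 1) ^ 2 * (2 * k + 1) ^ 2 := by ring
    _ ≤ (2 * k + 2) ^ 2 * (2 * k + 1) ^ 2 := Nat.mul_le_mul_right _ h1
    _ = _ := by ring

theorem ar4 {k : ℕ} (hk : 2 ≤ k) : (2 * k + 1) ^ 4 ≤ (2 * k + 1) * (2 * (k * (k + 1))) * (4 * (2 * k + 1) ^ 2) := by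
  have h1 : 2 * k + 1 ≤ 8 * (k * (k + 1)) := by nlinarith
  calc (2 * k + 1) ^ 4 = (2 * k + 1) ^ 3 * (2 * k + 1) := by ring
    _ ≤ (2 * k + 1) ^ 3 * (8 * (k * (k + 1))) := Nat.mul_le_mul_left _ h1
    _ = _ := by ring

theorem ar5 (k : ℕ) : (2 * k + 1) ^ 16 ≤ ((k + 1) * (4 * (2 * k + 1) ^ 2)) ^ 5 * (k + 1) := by
  have h1 : (2 * k + 1) ^ 6 ≤ (2 * k + 2) ^ 6 := Nat.pow_le_pow_left (by omega) 6
  calc (2 * k + 1) ^ 16 = (2 * k + 1) ^ 6 * (2 * k + 1) ^ 10 := by ring
    _ ≤ (2 * k + 2) ^ 6 * (2 * k + 1) ^ 10 := Nat.mul_le_mul_right _ h1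
    _ ≤ 16 * ((2 * k + 2) ^ 6 * (2 * k + 1) ^ 10) := Nat.le_mul_of_pos_left _ (by norm_num)
    _ = _ := by ring

/-- the only involution of `SL₂` is `-1` -/
theorem sq_one {F : Type*} [Field F] (h2 : (2 : F) ≠ 0) {x : _root_.Matrix.SpecialLinearGroup (Fin 2) F} (hx : x * x = 1) :
    x = 1 ∨ x = -1 := by
  have h1 : x = x⁻¹ := eq_inv_of_mul_eq_one_left hx
  have h3 : ∀ i j, x.1 i j = (x⁻¹).1 i j := fun i j => congrArg (fun m : _root_.Matrix.SpecialLinearGroup (Fin 2) F => m.1 i j) h1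
  have e := Matrix.SpecialLinearGroup.SL2_inv_expl x
  have h00 := h3 0 0
  have h01 := h3 0 1
  have h10 := h3 1 0
  have e00 : (x⁻¹).1 0 0 = x.1 1 1 := by rw [e]; simp
  have e01 : (x⁻¹).1 0 1 = -x.1 0 1 := by rw [e]; simp
  have e10 : (x⁻¹).1 1 0 = -x.1 1 0 := by rw [e]; simp
  rw [e00] at h00
  rw [e01] at h01
  rw [e10] at h10
  have k01 : x.1 0 1 = 0 := by
    have : (2 : F) * x.1 0 1 = 0 := by linear_combination h01
    exact (mul_eq_zero.1 this).resolve_left h2
  have k10 : x.1 1 0 = 0 := by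
    have : (2 : F) * x.1 1 0 = 0 := by linear_combination h10
    exact (mul_eq_zero.1 this).resolve_left h2
  have hdet := x.2
  rw [Matrix.det_fin_two, k01, k10, ← h00] at hdet
  have h5 : x.1 0 0 ^ 2 = 1 := by linear_combination hdet
  have h5' : (x.1 0 0 - 1) * (x.1 0 0 + 1) = 0 := by linear_combination h5
  rcases (mul_eq_zero.1 h5').imp sub_eq_zero.1 eq_neg_of_add_eq_zero_left with h6 | h6
  · left
    apply ext_coe
    ext i j
    fin_cases i <;> fin_cases j
    · simpa only [_root_.Fin.zero_eta, _root_.Fin.isValue, _root_.Matrix.SpecialLinearGroup.coe_one, _root_.Matrix.one_apply_eq] using h6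
    · simpa only [_root_.Fin.zero_eta, _root_.Fin.isValue, _root_.Fin.mk_one, _root_.Matrix.SpecialLinearGroup.coe_one, _root_.Nat.reduceAdd, _root_.ne_eq, _root_.zero_ne_one, _root_.not_false_eq_true, _root_.Matrix.one_apply_ne] using k01
    · simpa only [_root_.Fin.mk_one, _root_.Fin.isValue, _root_.Fin.zero_eta, _root_.Matrix.SpecialLinearGroup.coe_one, _root_.Nat.reduceAdd, _root_.ne_eq, _root_.one_ne_zero, _root_.not_false_eq_true, _root_.Matrix.one_apply_ne] using k10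
    · simpa only [_root_.Fin.mk_one, _root_.Fin.isValue, _root_.Matrix.SpecialLinearGroup.coe_one, _root_.Matrix.one_apply_eq] using h00.symm.trans h6
  · right
    apply ext_coe
    ext i j
    fin_cases i <;> fin_cases j
    · simpa using h6
    · simpa only [_root_.Fin.zero_eta, _root_.Fin.isValue, _root_.Fin.mk_one, _root_.Matrix.SpecialLinearGroup.coe_neg, _root_.Matrix.SpecialLinearGroup.coe_one, _root_.Matrix.neg_apply, _root_.Nat.reduceAdd, _root_.ne_eq, _root_.zero_ne_one, _root_.not_false_eq_true, _root_.Matrix.one_apply_ne, _root_.neg_zero] using k01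
    · simpa only [_root_.Fin.mk_one, _root_.Fin.isValue, _root_.Fin.zero_eta, _root_.Matrix.SpecialLinearGroup.coe_neg, _root_.Matrix.SpecialLinearGroup.coe_one, _root_.Matrix.neg_apply, _root_.Nat.reduceAdd, _root_.ne_eq, _root_.one_ne_zero, _root_.not_false_eq_true, _root_.Matrix.one_apply_ne, _root_.neg_zero] using k10
    · simpa using h00.symm.trans h6

variable {T : Type*} [Group T] [Finite T] [IsSimpleGroup T] {A : Subgroup T} {Γ : Subgroup (MulAut T)}

/-- **The case of a fundamental involution in `Ω_8^-(q)`, `q` odd.** -/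
theorem eight_minus (h : IF A Γ) (hna : ∃ a b : T, a * b ≠ b * a) {F K : Type*} [Field F] [Fintype F] [Field K]
    [Fintype K] (hodd : Odd (Fintype.card F)) (hK : Fintype.card K = Fintype.card F ^ 2)
    (φ : (_root_.Matrix.SpecialLinearGroup (Fin 2) F × _root_.Matrix.SpecialLinearGroup (Fin 2) F) × _root_.Matrix.SpecialLinearGroup (Fin 2) K →* T) {z : T}
    (hz : z ∈ A) (hz2 : orderOf z = 2) (hφ : ∀ x, φ x * z = z * φ x) (hker : φ ((1, 1), -1) = 1)
    (h0 : ∀ y : _root_.Matrix.SpecialLinearGroup (Fin 2) K, y * y = -1 → φ ((1, 1), y) ∉ A) (h12 : ∃ a b, φ ((a, b), 1) ∉ A)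
    (hcl : ∀ t ∈ A, orderOf t = 2 → ∃ x : T, x * z * x⁻¹ = t)
    (hc1 : ∀ t ∈ A, orderOf t = 2 → (∀ a, φ ((a, 1), 1) * t = t * φ ((a, 1), 1)) → t = z)
    (hc2 : ∀ t ∈ A, orderOf t = 2 → (∀ a, φ ((1, a), 1) * t = t * φ ((1, a), 1)) → t = z)
    (hN : (centralizer ({z} : Set T)).index ≤ Fintype.card F ^ 16) : False := by
  have hKo : Odd (Fintype.card K) := by rw [hK]; exact hodd.pow
  have hK2 : (2 : K) ≠ 0 := two_ne hKo
  obtain ⟨k, hk⟩ := hodd
  have hk1 : 1 ≤ k := by
    have : 2 ≤ Fintype.card F := Fintype.one_lt_card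
    omega
  have hsq : (2 * k + 1) ^ 2 = 4 * (k * (k + 1)) + 1 := by ring
  have h8 : 8 ∣ Fintype.card K - 1 := by
    rw [hK, hk, hsq, Nat.add_sub_cancel]
    obtain ⟨j, hj⟩ := (Nat.even_mul_succ_self k).two_dvd
    rw [hj]
    exact ⟨j, by ring⟩
  -- the homomorphism modulo the centre
  have hcen : ∀ x ∈ center (_root_.Matrix.SpecialLinearGroup (Fin 2) K), (φ.comp (MonoidHom.inr _ _)) x = 1 := by
    intro x hx
    rcases mem_center2.1 hx with rfl | rfl
    · exact map_one _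
    · exact hker
  let ψ : ProjectiveSpecialLinearGroup (Fin 2) K →* T := QuotientGroup.lift _ (φ.comp (MonoidHom.inr _ _)) hcen
  have hψ : ∀ y, ψ (QuotientGroup.mk y) = φ ((1, 1), y) := fun y => rfl
  let Φ : (_root_.Matrix.SpecialLinearGroup (Fin 2) F × _root_.Matrix.SpecialLinearGroup (Fin 2) F) × ProjectiveSpecialLinearGroup (Fin 2) K →* T :=
    MonoidHom.noncommCoprod (φ.comp (MonoidHom.inl _ _)) ψ (by
      intro x y
      induction y using QuotientGroup.induction_on with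
      | H y =>
        show φ (x, 1) * φ ((1, 1), y) = φ ((1, 1), y) * φ (x, 1)
        rw [← map_mul, ← map_mul]
        congr 1
        refine Prod.ext ?_ ?_
        · show x * 1 = 1 * x
          rw [mul_one, one_mul]
        · show 1 * y = y * 1
          rw [mul_one, one_mul])
  have hΦ : ∀ x y, Φ (x, QuotientGroup.mk y) = φ (x, y) := by
    intro x y
    show φ (x, 1) * φ (1, y) = φ (x, y)
    rw [← map_mul]
    congr 1
    exact Prod.ext (mul_one x) (one_mul y)
  have hΦ1 : ∀ x, Φ (x, 1) = φ (x, 1) := fun x => hΦ x 1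
  have hΦc : ∀ x, Φ x * z = z * Φ x := by
    rintro ⟨x, y⟩
    induction y using QuotientGroup.induction_on with
    | H y => rw [hΦ]; exact hφ _
  have h0' : ∀ y : ProjectiveSpecialLinearGroup (Fin 2) K, y * y = 1 → y ≠ 1 → Φ ((1, 1), y) ∉ A := by
    intro y
    induction y using QuotientGroup.induction_on with
    | H y =>
      intro hy hne
      have h1 : y * y ∈ center (_root_.Matrix.SpecialLinearGroup (Fin 2) K) := (QuotientGroup.eq_one_iff (y * y)).1 hy
      rw [hΦ]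
      rcases mem_center2.1 h1 with h2 | h2
      · exfalso
        apply hne
        exact (QuotientGroup.eq_one_iff y).2 (mem_center2.2 (sq_one hK2 h2))
      · exact h0 y h2
  have hcp := card_psl2 (F := K) hK2
  rw [hK] at hcp
  by_cases hk2 : k = 1
  · -- `q = 3`
    subst hk2
    rw [hk] at hN hK
    have hr : Φ.range ≤ centralizer ({z} : Set T) := by
      rintro _ ⟨x, rfl⟩
      exact mem_centralizer_singleton_iff.2 (hΦc x)
    have h1 := card_invol h hna hz hz2 hr
    have h2 : (A.comap Φ).index = A.relIndex Φ.range := Subgroup.index_comap A Φ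
    rw [← h2, index_fst] at h1
    have h3 : 4 * Fintype.card K ≤ ((A.comap Φ).comap (MonoidHom.inr _ _)).index :=
      odd_psl2 hK2 hKo h8 _ fun y hy hyy => by
        by_contra hne
        exact h0' y hyy hne hy
    have h4 : 0 < ((A.comap Φ).map (MonoidHom.fst _ _)).index := Nat.pos_of_ne_zero Subgroup.index_ne_zero_of_finite
    have h5 : 0 < {t : T | t ∈ A ∧ ∃ x : T, x * z * x⁻¹ = t}.ncard :=
      (Set.ncard_pos (Set.toFinite _)).2 ⟨z, hz, 1, by simp⟩
    have h6 : 36 ≤ ((A.comap Φ).map (MonoidHom.fst _ _)).index * ((A.comap Φ).comap (MonoidHom.inr _ _)).index := by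
      refine le_trans ?_ (Nat.le_mul_of_pos_left _ h4)
      rw [hK] at h3
      omega
    have h7 := Nat.mul_le_mul (Nat.pow_le_pow_left h6 5) h5
    norm_num only [] at h7 hN
    omega
  · have h5 : 5 ≤ Fintype.card F := by omega
    have hodd' : Odd (Fintype.card F) := ⟨k, hk⟩
    have hsimple : IsSimpleGroup (ProjectiveSpecialLinearGroup (Fin 2) K) :=
      Matrix.ProjectiveSpecialLinearGroup.rank_two_simple (by
        rw [Nat.card_eq_fintype_card, hK]
        nlinarith only [h5])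
    have hc0 : Fintype.card F * (Fintype.card F ^ 2 - 1) = 2 * ((2 * k + 1) * (2 * (k * (k + 1)))) := by
      rw [hk, hsq, Nat.add_sub_cancel]
      ring
    have hq : (Fintype.card F : ℤ) = 2 * k + 1 := by rw [hk]; push_cast; ring
    have hkk : 2 ≤ k := by omega
    refine z_case h hna (G₁ := _root_.Matrix.SpecialLinearGroup (Fin 2) F) (G₂ := _root_.Matrix.SpecialLinearGroup (Fin 2) F)
      (G₀ := ProjectiveSpecialLinearGroup (Fin 2) K) (m := k + 1) (c := (2 * k + 1) * (2 * (k * (k + 1))))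
      (m0 := (2 * k + 1) ^ 2 + 1) (o := 4 * (2 * k + 1) ^ 2) (b := (2 * k + 1) ^ 4) ?_ ?_ ?_ ?_ ?_ ?_ ?_ ?_ ?_ ?_ ?_
      Φ hz hz2 hΦc h0' ?_ hcl ?_ ?_ ?_ ?_
    · intro R hR
      have := min_sl2 h5 hodd' hR
      omega
    · intro R hR
      have := min_sl2 h5 hodd' hR
      omega
    · intro N hN hne
      have := norm_sl2 h5 hodd' N hN hne
      omega
    · intro N hN hne
      have := norm_sl2 h5 hodd' N hN hne
      omega
    · intro R hR
      have := min_psl2 (F := K) (by rw [hK, hk]; nlinarith only [hk, h5]) R hR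
      rwa [hK, hk] at this
    · intro Y hY
      have := odd_psl2 hK2 hKo h8 Y hY
      rwa [hK, hk] at this
    · nlinarith only [hc0]
    · rw [hk] at hcp
      have h7 := ar1 hkk
      omega
    · exact ar2 hkk
    · exact ar3 k
    · exact ar4 hkk
    · obtain ⟨a, b, hab⟩ := h12
      exact ⟨a, b, by rw [hΦ1]; exact hab⟩
    · intro t ht ht2 hc
      exact hc1 t ht ht2 fun a => by rw [← hΦ1]; exact hc a
    · intro t ht ht2 hc
      exact hc2 t ht ht2 fun a => by rw [← hΦ1]; exact hc a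
    · refine hN.trans ?_
      rw [hk, ← pow_mul]
      exact Nat.pow_le_pow_right (by omega) (by norm_num)
    · refine hN.trans ?_
      rw [hk]
      exact ar5 k

end Cfsg.Agent.H215.IFM
end

-- part: H893/IF/EightM2
section
/-!
# S5719, `Ω₈⁻(q)`, `q` odd: assembly in `E Q` (helper893)

* `hmin` : the form of "minus type" needed for the model of `Ω₄⁻`;
* `eightM_E` : no counterexample in `Ω₈⁻(q)`, `A` of even order, from the model, the centraliser lemma, CLAIM 0 and the
  class size.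
-/

set_option autoImplicit false
set_option linter.unusedSectionVars false
set_option linter.unusedVariables false
set_option linter.unusedSimpArgs false

namespace Cfsg.Agent.H893.IFE

open QuadraticMap Module Cfsg.Agent.LieClassical Cfsg.Agent.LieClassical.OrthCore Cfsg.Agent.LieClassical.OrthTrans
  Cfsg.Agent.LieClassical.OrthSimple Cfsg.Agent.H989.Gs.Gen Cfsg.Agent.H989.Fx Cfsg.Agent.H325.IF
  Cfsg.Agent.H160.QSpin Cfsg.Agent.H160.QDisc
open Cfsg.Agent.UGT.U2.FOne.Orth (Four)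
open Cfsg.Agent.H209.Fxy
open Matrix (SpecialLinearGroup)

universe u v

variable {F : Type u} [Field F] {V : Type v} [AddCommGroup V] [Module F V] {Q : QuadraticForm F V}
  {e₁ f₁ e₂ f₂ : V}

section eight

variable [Finite F] [FiniteDimensional F V] (h2 : (2 : F) ≠ 0) (hG : Good Q) (hN : finrank F V = 8)
  (hm : ∀ g : ↥(E Q), ¬ ∀ v, ap g v = -v)

include h2 hG hN hm

/-- a space of minus type of dimension eight has no four orthogonal hyperbolic pairs -/
theorem hmin (h : Four Q e₁ f₁ e₂ f₂) {e f : V} (hef : Hyp Q e f) (a1 : polar Q e₁ e = 0) (a2 : polar Q f₁ e = 0)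
    (a3 : polar Q e₂ e = 0) (a4 : polar Q f₂ e = 0) (b1 : polar Q e₁ f = 0) (b2 : polar Q f₁ f = 0)
    (b3 : polar Q e₂ f = 0) (b4 : polar Q f₂ f = 0) {v : V} (c1 : polar Q e₁ v = 0) (c2 : polar Q f₁ v = 0)
    (c3 : polar Q e₂ v = 0) (c4 : polar Q f₂ v = 0) (c5 : polar Q e v = 0) (c6 : polar Q f v = 0) (hv : Q v = 0) :
    v = 0 := by
  by_contra hv0
  obtain ⟨p1, p2, p3, p4, p5, p6, p7, p8, p9, p10, p11, p12, p13, p14, p15, p16⟩ := h.pols
  obtain ⟨y, hy⟩ := hG.nondeg.exists_polar_eq hv0 1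
  -- the projection of `y`
  obtain ⟨y', q1, q2, q3, q4, q5, q6, q7⟩ : ∃ y', polar Q e₁ y' = 0 ∧ polar Q f₁ y' = 0 ∧ polar Q e₂ y' = 0 ∧
      polar Q f₂ y' = 0 ∧ polar Q e y' = 0 ∧ polar Q f y' = 0 ∧ polar Q v y' = 1 := by
    refine ⟨y - (polar Q f₁ y • e₁ + polar Q e₁ y • f₁ + polar Q f₂ y • e₂ + polar Q e₂ y • f₂ + polar Q f y • e +
      polar Q e y • f), ?_, ?_, ?_, ?_, ?_, ?_, ?_⟩
    · simp only [polar_sub_right, polar_add_right, polar_smul_right, smul_eq_mul, p1, p5, p9, p11, a1, b1]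
      ring
    · simp only [polar_sub_right, polar_add_right, polar_smul_right, smul_eq_mul, p2, p6, p13, p15, a2, b2]
      ring
    · simp only [polar_sub_right, polar_add_right, polar_smul_right, smul_eq_mul, p3, p7, p10, p14, a3, b3]
      ring
    · simp only [polar_sub_right, polar_add_right, polar_smul_right, smul_eq_mul, p4, p8, p12, p16, a4, b4]
      ring
    · rw [polar_comm] at a1 a2 a3 a4
      simp only [polar_sub_right, polar_add_right, polar_smul_right, smul_eq_mul, a1, a2, a3, a4, hef.pair,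
        hef.polar_left]
      ring
    · rw [polar_comm] at b1 b2 b3 b4
      simp only [polar_sub_right, polar_add_right, polar_smul_right, smul_eq_mul, b1, b2, b3, b4, hef.pair',
        hef.polar_right]
      ring
    · rw [polar_comm] at c1 c2 c3 c4 c5 c6
      simp only [polar_sub_right, polar_add_right, polar_smul_right, smul_eq_mul, c1, c2, c3, c4, c5, c6, hy]
      ring
  set w := y' - Q y' • v with hw
  have hvw : Hyp Q v w := by
    refine ⟨hv, ?_, ?_⟩
    · rw [hw, sub_eq_add_neg, ← neg_smul, Q_add, QuadraticMap.map_smul, hv, smul_zero, add_zero, polar_smul_right,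
        polar_comm Q y' v, q7, smul_eq_mul, mul_one, add_neg_cancel]
    · rw [hw, polar_sub_right, polar_smul_right, polar_self_of_sing hv, smul_zero, sub_zero, q7]
  have wp : ∀ x : V, polar Q x y' = 0 → polar Q x v = 0 → polar Q x w = 0 := by
    intro x hx hxv
    rw [hw, polar_sub_right, polar_smul_right, hx, hxv, smul_zero, sub_zero]
  have k : Four Q e f v w := ⟨hef, hvw, c5, wp e q5 c5, c6, wp f q6 c6⟩
  have hkk : k.rhoE (-1) * k.rhoE (-1) = 1 := by
    rw [← map_mul, neg_one_mul, neg_neg, map_one]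
  have hz := Vm_frame h2 k (rhoE_neg_e1 k) (rhoE_neg_f1 k) (rhoE_neg_e2 k) (rhoE_neg_f2 k)
    (fun w k1 k2 k3 k4 => rhoE_fix k (-1) k1 k2 k3 k4)
  refine not_trivial h2 hG hN hm h hkk (by rw [hz, finrank_Wsp k]) ?_ ?_ ?_ ?_
  · exact rhoE_fix k (-1) (by rw [polar_comm]; exact a1) (by rw [polar_comm]; exact b1)
      (by rw [polar_comm]; exact c1) (by rw [polar_comm]; exact wp _ q1 c1)
  · exact rhoE_fix k (-1) (by rw [polar_comm]; exact a2) (by rw [polar_comm]; exact b2)
      (by rw [polar_comm]; exact c2) (by rw [polar_comm]; exact wp _ q2 c2)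
  · exact rhoE_fix k (-1) (by rw [polar_comm]; exact a3) (by rw [polar_comm]; exact b3)
      (by rw [polar_comm]; exact c3) (by rw [polar_comm]; exact wp _ q3 c3)
  · exact rhoE_fix k (-1) (by rw [polar_comm]; exact a4) (by rw [polar_comm]; exact b4)
      (by rw [polar_comm]; exact c4) (by rw [polar_comm]; exact wp _ q4 c4)

end eight

theorem exists_sq_neg_one (F : Type u) [Field F] : ∃ a : _root_.Matrix.SpecialLinearGroup (Fin 2) F, a * a = -1 := by
  refine ⟨⟨!![0, 1; -1, 0], by simp [Matrix.det_fin_two]⟩, ?_⟩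
  apply Subtype.ext
  change !![(0 : F), 1; -1, 0] * !![(0 : F), 1; -1, 0] = _
  ext i j
  (revert i j; simp only [Matrix.mul_apply, Fin.sum_univ_two, _root_.Fin.forall_fin_succ, _root_.Matrix.of_apply, _root_.Matrix.cons_val', _root_.Matrix.cons_val_fin_one, Fin.isValue, _root_.Matrix.cons_val_zero, _root_.Matrix.cons_val_one, _root_.Matrix.SpecialLinearGroup.coe_neg, _root_.Matrix.SpecialLinearGroup.coe_one, _root_.Matrix.neg_apply, _root_.MulZeroClass.mul_zero, _root_.mul_neg, _root_.mul_one, _root_.zero_add, _root_.neg_inj, _root_.Matrix.cons_val_succ, _root_.add_zero, _root_.IsEmpty.forall_iff, _root_.and_true, _root_.Matrix.one_apply_eq, Nat.reduceAdd, _root_.Fin.succ_zero_eq_one, _root_.ne_eq, _root_.zero_ne_one, _root_.not_false_eq_true, _root_.Matrix.one_apply_ne, _root_.neg_zero, _root_.and_self, _root_.Fin.succ_ne_zero, _root_.true_and])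

theorem orderOf_eq_two_iff' {G : Type*} [Group G] {t : G} : orderOf t = 2 ↔ t * t = 1 ∧ t ≠ 1 := by
  constructor
  · intro h
    refine ⟨?_, ?_⟩
    · rw [← pow_two, ← h, pow_orderOf_eq_one]
    · rintro rfl
      rw [orderOf_one] at h
      omega
  · rintro ⟨h1, h2⟩
    exact orderOf_eq_prime (by rw [pow_two, h1]) h2

/-- **`Ω₈⁻(q)`, `q` odd** -/
theorem eightM_E [Fintype F] (hodd : Odd (Fintype.card F)) [FiniteDimensional F V] [Finite V] (h2 : (2 : F) ≠ 0) (hG : Good Q)
    (hN : finrank F V = 8) (hm : ∀ g : ↥(E Q), ¬ ∀ v, ap g v = -v) [Finite ↥(E Q)] [IsSimpleGroup ↥(E Q)]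
    {A : Subgroup ↥(E Q)} {Γ : Subgroup (MulAut ↥(E Q))} (h : IF A Γ) (hA : ∃ t ∈ A, orderOf t = 2)
    (claim0 : ∀ t ∈ A, t * t = 1 → (finrank F (Vm t) = 2 ∨ finrank F (Vm t) = 6) → False)
    (hmodel : ∀ {e₁ f₁ e₂ f₂ : V}, Four Q e₁ f₁ e₂ f₂ → ∃ (K : Type u) (_ : Field K) (_ : Fintype K),
      Fintype.card K = Fintype.card F ^ 2 ∧ ∃ ψ : _root_.Matrix.SpecialLinearGroup (Fin 2) K →* ↥(E Q),
        (∀ y, ap (ψ y) e₁ = e₁ ∧ ap (ψ y) f₁ = f₁ ∧ ap (ψ y) e₂ = e₂ ∧ ap (ψ y) f₂ = f₂) ∧ ψ (-1) = 1 ∧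
        ∀ y, ψ y = 1 → y = 1 ∨ y = -1)
    (hcent : ∀ {e₁ f₁ e₂ f₂ : V} (h : Four Q e₁ f₁ e₂ f₂) (g : ↥(E Q)), (∀ M, g * h.rhoE M = h.rhoE M * g) →
      ∃ N, ∀ w ∈ ({e₁, f₁, e₂, f₂} : Set V), ap ((h.swap.rhoE N)⁻¹ * g) w = w)
    (hind : ∀ z : ↥(E Q), Fund Q z → (Subgroup.centralizer ({z} : Set ↥(E Q))).index ≤ Fintype.card F ^ 16) :
    False := by
  -- involutions of `A` are fundamental
  have hF : ∀ t ∈ A, orderOf t = 2 → t * t = 1 ∧ finrank F (Vm t) = 4 ∧ Fund Q t := by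
    intro t ht ho
    obtain ⟨h3, h4⟩ := orderOf_eq_two_iff'.1 ho
    rcases rank_cases h2 hG hN hm h3 h4 with h5 | h5 | h5
    · exact (claim0 t ht h3 (Or.inl h5)).elim
    · exact (claim0 t ht h3 (Or.inr h5)).elim
    · exact ⟨h3, h5.1, h5.2⟩
  obtain ⟨z, hzA, hzo⟩ := hA
  obtain ⟨hzz, hzr, hzF⟩ := hF z hzA hzo
  obtain ⟨e₁, f₁, e₂, f₂, h4, z1, z2, z3, z4, z5⟩ := hzF
  have hzF : Fund Q z := ⟨e₁, f₁, e₂, f₂, h4, z1, z2, z3, z4, z5⟩
  have hzρ : z = h4.rhoE (-1) := eq_rhoE_neg h4 z1 z2 z3 z4 z5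
  have hzρ' : z = h4.swap.rhoE (-1) := eq_rhoE_neg h4.swap z1 z2 z4 z3 (fun v k1 k2 k3 k4 => z5 v k1 k2 k4 k3)
  have hna : ∃ a b : ↥(E Q), a * b ≠ b * a := by
    by_contra hcon
    push Not at hcon
    have hn : A.Normal := ⟨fun a ha g => by rw [hcon g a, mul_inv_cancel_right]; exact ha⟩
    rcases hn.eq_bot_or_eq_top with h7 | h7
    · exact h.ne_bot h7
    · exact h.ne_top h7
  obtain ⟨K, _, _, hK, ψ, hψ, hψ1, hψk⟩ := hmodel h4
  -- the homomorphism
  let φ₁ : _root_.Matrix.SpecialLinearGroup (Fin 2) F × _root_.Matrix.SpecialLinearGroup (Fin 2) F →* ↥(E Q) :=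
    MonoidHom.noncommCoprod h4.rhoE h4.swap.rhoE (fun M N => swap_comm h4 M N)
  have hφ₁ : ∀ x, φ₁ x = h4.rhoE x.1 * h4.swap.rhoE x.2 := fun x => rfl
  have c1 : ∀ M y, h4.rhoE M * ψ y = ψ y * h4.rhoE M := fun M y =>
    (comm_rhoE h4 (hψ y).1 (hψ y).2.1 (hψ y).2.2.1 (hψ y).2.2.2 M).symm
  have c2 : ∀ M y, h4.swap.rhoE M * ψ y = ψ y * h4.swap.rhoE M := fun M y =>
    (comm_rhoE h4.swap (hψ y).1 (hψ y).2.1 (hψ y).2.2.2 (hψ y).2.2.1 M).symm
  let φ : (_root_.Matrix.SpecialLinearGroup (Fin 2) F × _root_.Matrix.SpecialLinearGroup (Fin 2) F) × _root_.Matrix.SpecialLinearGroup (Fin 2) K →* ↥(E Q) :=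
    MonoidHom.noncommCoprod φ₁ ψ (fun x y => by
      show φ₁ x * ψ y = ψ y * φ₁ x
      rw [hφ₁, mul_assoc, c2, ← mul_assoc, c1, mul_assoc])
  have hφ : ∀ x, φ x = h4.rhoE x.1.1 * h4.swap.rhoE x.1.2 * ψ x.2 := fun x => rfl
  have hφa : ∀ a, φ ((a, 1), 1) = h4.rhoE a := fun a => by
    rw [hφ]
    simp only [map_one, mul_one]
  have hφb : ∀ a, φ ((1, a), 1) = h4.swap.rhoE a := fun a => by
    rw [hφ]
    simp only [map_one, mul_one, one_mul]
  have hφc : ∀ y, φ ((1, 1), y) = ψ y := fun y => by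
    rw [hφ]
    simp only [map_one, mul_one, one_mul]
  -- commuting with `ρ(-1)`
  have hcz : ∀ x, φ x * z = z * φ x := by
    intro x
    have d1 : h4.rhoE x.1.1 * z = z * h4.rhoE x.1.1 := by
      rw [hzρ, ← map_mul, ← map_mul, neg_one_mul, mul_neg_one]
    have d2 : h4.swap.rhoE x.1.2 * z = z * h4.swap.rhoE x.1.2 := by
      rw [hzρ', ← map_mul, ← map_mul, neg_one_mul, mul_neg_one]
    have d3 : ψ x.2 * z = z * ψ x.2 := by rw [hzρ]; exact (c1 _ _).symm
    rw [hφ, mul_assoc, d3, ← mul_assoc, mul_assoc (h4.rhoE x.1.1), d2, ← mul_assoc, d1, mul_assoc, mul_assoc,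
      mul_assoc]
  refine Cfsg.Agent.H215.IFM.eight_minus h hna hodd hK φ hzA hzo hcz ?_ ?_ ?_ ?_ ?_ ?_ (hind z hzF)
  · rw [hφc]
    exact hψ1
  · -- elements of order 4 of `SL₂(q²)`
    intro y hy hmem
    rw [hφc] at hmem
    have h5 : ψ y * ψ y = 1 := by rw [← map_mul, hy, hψ1]
    have hK2 : (-1 : _root_.Matrix.SpecialLinearGroup (Fin 2) K) ≠ 1 := by
      intro h6
      have h7 := congrArg (fun M : _root_.Matrix.SpecialLinearGroup (Fin 2) K => M.1 0 0) h6
      have h8 : (-1 : K) = 1 := by simpa using h7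
      have hKo : Odd (Fintype.card K) := by rw [hK]; exact hodd.pow
      exact Cfsg.Agent.H215.IFM.two_ne hKo (by linear_combination -h8)
    have h6 : ψ y ≠ 1 := by
      intro h7
      rcases hψk y h7 with rfl | rfl
      · rw [mul_one] at hy
        exact hK2 hy.symm
      · rw [neg_one_mul, neg_neg] at hy
        exact hK2 hy.symm
    obtain ⟨-, h8, -⟩ := hF _ hmem (orderOf_eq_two_iff'.2 ⟨h5, h6⟩)
    obtain ⟨k1, k2, k3, k4⟩ := hψ y
    exact not_trivial h2 hG hN hm h4 h5 h8 k1 k2 k3 k4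
  · -- two elements of order 4
    obtain ⟨a, ha⟩ := exists_sq_neg_one F
    refine ⟨a, a, fun hmem => ?_⟩
    have hx : φ ((a, a), 1) = h4.rhoE a * h4.swap.rhoE a := by
      rw [hφ]
      simp only [map_one, mul_one]
    rw [hx] at hmem
    set x := h4.rhoE a * h4.swap.rhoE a with hxdef
    have hne : (-1 : _root_.Matrix.SpecialLinearGroup (Fin 2) F) ≠ 1 := by
      intro h6
      have h7 := congrArg (fun M : _root_.Matrix.SpecialLinearGroup (Fin 2) F => M.1 0 0) h6
      have h8 : (-1 : F) = 1 := by simpa using h7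
      exact h2 (by linear_combination -h8)
    have hxx : x * x = 1 := by
      have e1 : x * x = h4.rhoE (a * a) * h4.swap.rhoE (a * a) := by
        rw [hxdef, map_mul, map_mul, mul_assoc, ← mul_assoc (h4.swap.rhoE a), ← swap_comm h4 a a]
        simp only [mul_assoc]
      rw [e1, ha, ← hzρ, ← hzρ', hzz]
    have hx1 : x ≠ 1 := by
      intro h6
      have h7 : h4.rhoE a = h4.swap.rhoE a⁻¹ := by
        rw [map_inv]
        exact eq_inv_of_mul_eq_one_left h6
      have h8 := scalar_of_eq h4 h7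
      exact hne (ha.symm.trans h8)
    obtain ⟨-, h8, -⟩ := hF _ hmem (orderOf_eq_two_iff'.2 ⟨hxx, hx1⟩)
    -- the `-1`-space lies in the space of the frame
    have hfixx : ∀ w : V, polar Q e₁ w = 0 → polar Q f₁ w = 0 → polar Q e₂ w = 0 → polar Q f₂ w = 0 → w ∈ Vp x := by
      intro w g1 g2 g3 g4
      rw [mem_Vp, hxdef, ap_mul, rhoE_fix h4.swap a g1 g2 g4 g3, rhoE_fix h4 a g1 g2 g3 g4]
    have h9 : Vm x ≤ Wsp e₁ f₁ e₂ f₂ := by
      intro v hv
      rw [mem_Wsp]
      obtain ⟨v', ⟨g1, g2, g3, g4⟩, a', b', c', d', hv'⟩ := exists_four_comb h4 v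
      have hvx : ∀ w : V, polar Q v' w = 0 := by
        intro w
        obtain ⟨w', ⟨k1, k2, k3, k4⟩, r1, r2, r3, r4, hw'⟩ := exists_four_comb h4 w
        have u1 : polar Q v w' = 0 := polar_Vm_Vp h2 hv (hfixx w' k1 k2 k3 k4)
        rw [polar_comm] at g1 g2 g3 g4
        rw [hv'] at u1
        simp only [polar_add_left, polar_smul_left, k1, k2, k3, k4, smul_zero, add_zero] at u1
        rw [hw']
        simp only [polar_add_right, polar_smul_right, g1, g2, g3, g4, smul_zero, add_zero, u1]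
      have h0 : v' = 0 := hG.nondeg v' hvx
      exact ⟨a', b', c', d', by rw [hv', h0, zero_add]⟩
    have h10 : Vm x = Vm z := by
      rw [Vm_frame h2 h4 z1 z2 z3 z4 z5]
      exact Submodule.eq_of_le_of_finrank_eq h9 (by rw [h8, finrank_Wsp h4])
    have h11 : x = z := eq_of_Vm h2 hG.nondeg hxx hzz h10
    have h12 : h4.rhoE (a⁻¹ * -1) = h4.swap.rhoE a := by
      rw [map_mul, map_inv, ← hzρ, ← h11, hxdef, inv_mul_cancel_left]
    have h13 := scalar_of_eq h4 h12
    rw [mul_neg_one, neg_mul_neg] at h13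
    have h14 : a * a = 1 := by
      have h15 : (a * a)⁻¹ = 1 := by rw [mul_inv_rev]; exact h13
      exact inv_eq_one.1 h15
    exact hne (ha.symm.trans h14)
  · intro t ht ho
    exact exists_conj_of_fund h2 hG hzF (hF t ht ho).2.2
  · intro t ht ho hcomm
    obtain ⟨k1, k2, k3⟩ := hF t ht ho
    obtain ⟨N, hN'⟩ := hcent h4 t (fun M => by rw [← hφa]; exact (hcomm M).symm)
    rw [hzρ]
    exact eq_of_swap h2 hG hN hm h4 k1 k2 N hN'
  · intro t ht ho hcomm
    obtain ⟨k1, k2, k3⟩ := hF t ht ho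
    obtain ⟨N, hN'⟩ := hcent h4.swap t (fun M => by rw [← hφb]; exact (hcomm M).symm)
    rw [hzρ']
    refine eq_of_swap h2 hG hN hm h4.swap k1 k2 N ?_
    exact hN'

end Cfsg.Agent.H893.IFE
end

-- part: H887/IF/K0c
section
/-!
# S5719, `N = 8`, minus type: kernel of `phi0`, existence of the model (helper887)
-/

set_option autoImplicit false
set_option linter.unusedSimpArgs false
set_option linter.unusedVariables false
set_option linter.unusedSectionVars false

namespace Cfsg.Agent.H887.IF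

open QuadraticMap Cfsg.Agent.LieClassical Cfsg.Agent.LieClassical.OrthCore Cfsg.Agent.LieClassical.OrthTrans
  Cfsg.Agent.LieClassical.OrthSimple Cfsg.Agent.AutOrth.SemiSim Cfsg.Agent.AutOrth.Gen
  Cfsg.Agent.H989.Gs.Gen
open Cfsg.Agent.UGT.U2.FOne.Orth (Four)
open Matrix (SpecialLinearGroup)

universe u v

section ker

variable {F V : Type*} [Field F] [AddCommGroup V] [Module F V] {Q : QuadraticForm F V}
variable {d : F} {e f a b : V} [hF : Fact (∀ r : F, r ^ 2 ≠ d + 0 * r)] (h : FourM Q d e f a b) (h2 : (2 : F) ≠ 0)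

theorem phi0_neg_one : phi0 h h2 (-1) = 1 := by
  apply ext_ap
  intro v
  rw [ap_phi0, ap_one]
  have h1 : cg (-1 : _root_.Matrix.SpecialLinearGroup (Fin 2) (QuadraticAlgebra F d 0)).1 (hp Q d e f a b v) = hp Q d e f a b v := by
    rw [cg_apply]
    have h3 : (-1 : _root_.Matrix.SpecialLinearGroup (Fin 2) (QuadraticAlgebra F d 0)).1 = -1 := by
      ext i j <;> simp only [_root_.Matrix.SpecialLinearGroup.coe_neg, _root_.Matrix.SpecialLinearGroup.coe_one, _root_.Matrix.neg_apply, _root_.QuadraticAlgebra.re_neg, _root_.QuadraticAlgebra.im_neg]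
    rw [h3, Matrix.conjTranspose_neg, Matrix.conjTranspose_one]
    simp
  rw [h1]
  abel

theorem phi0_ker {M : _root_.Matrix.SpecialLinearGroup (Fin 2) (QuadraticAlgebra F d 0)} (hM : phi0 h h2 M = 1) : M = 1 ∨ M = -1 := by
  have key : ∀ v, cg M.1 (hp Q d e f a b v) = hp Q d e f a b v := by
    intro v
    rw [← hp_phi0 h h2, hM, ap_one]
  have he := key e
  have hf := key f
  have ha := key ((1 : QuadraticAlgebra F d 0).re • a + (1 : QuadraticAlgebra F d 0).im • b)
  rw [bk_e h h2] at he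
  rw [bk_f h h2] at hf
  rw [hp_t h h2] at ha
  have hdet : M.1 0 0 * M.1 1 1 - M.1 0 1 * M.1 1 0 = 1 := by
    have := M.2
    rwa [Matrix.det_fin_two] at this
  have e11 := congrFun (congrFun he 1) 1
  have f00 := congrFun (congrFun hf 0) 0
  have e00 := congrFun (congrFun he 0) 0
  have a01 := congrFun (congrFun ha 0) 1
  simp only [cg_apply, Matrix.mul_apply, Fin.sum_univ_two, Matrix.conjTranspose_apply, _root_.Fin.isValue, _root_.Matrix.of_apply, _root_.Matrix.cons_val', _root_.Matrix.cons_val_fin_one, _root_.Matrix.cons_val_zero, _root_.Matrix.cons_val_one, _root_.mul_one, _root_.MulZeroClass.mul_zero, _root_.add_zero, _root_.MulZeroClass.zero_mul, _root_.mul_eq_zero, _root_.star_eq_zero, _root_.or_self, _root_.zero_add, _root_.star_one] at e11 f00 e00 a01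
  have m10 : M.1 1 0 = 0 := e11
  have m01 : M.1 0 1 = 0 := f00
  rw [m10, m01, zero_mul, sub_zero] at hdet
  have hα : M.1 0 0 ≠ 0 := fun h0 => by rw [h0, zero_mul] at hdet; exact zero_ne_one hdet
  have hδ : M.1 1 1 = star (M.1 0 0) := mul_left_cancel₀ hα (hdet.trans e00.symm)
  rw [m01, zero_mul, zero_add, hδ, star_star] at a01
  rcases mul_self_eq_one_iff.1 a01 with h3 | h3
  · left
    ext1 i j
    fin_cases i <;> fin_cases j
    · exact h3
    · exact m01
    · exact m10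
    · change M.1 1 1 = 1
      rw [hδ, h3, star_one]
  · right
    ext1 i j
    fin_cases i <;> fin_cases j
    · change M.1 0 0 = (-1 : Matrix (Fin 2) (Fin 2) (QuadraticAlgebra F d 0)) 0 0
      rw [h3]; simp
    · change M.1 0 1 = (-1 : Matrix (Fin 2) (Fin 2) (QuadraticAlgebra F d 0)) 0 1
      rw [m01]; simp
    · change M.1 1 0 = (-1 : Matrix (Fin 2) (Fin 2) (QuadraticAlgebra F d 0)) 1 0
      rw [m10]; simp
    · change M.1 1 1 = (-1 : Matrix (Fin 2) (Fin 2) (QuadraticAlgebra F d 0)) 1 1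
      rw [hδ, h3, star_neg, star_one]; simp

end ker

section ex

variable {F : Type u} {V : Type v} [Field F] [AddCommGroup V] [Module F V] {Q : QuadraticForm F V}

/-- `v` is orthogonal to the four vectors -/
def Pf (Q : QuadraticForm F V) (e₁ f₁ e₂ f₂ v : V) : Prop :=
  polar Q e₁ v = 0 ∧ polar Q f₁ v = 0 ∧ polar Q e₂ v = 0 ∧ polar Q f₂ v = 0

/-- a hyperbolic pair orthogonal to a four -/
theorem exists_hyp_perp [Finite F] [FiniteDimensional F V] (hQ : Nondeg Q) {e₁ f₁ e₂ f₂ : V} (h : Four Q e₁ f₁ e₂ f₂)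
    (h7 : 7 ≤ Module.finrank F V) : ∃ e f, Hyp Q e f ∧ Pf Q e₁ f₁ e₂ f₂ e ∧ Pf Q e₁ f₁ e₂ f₂ f := by
  obtain ⟨p1, p2, p3, p4, p5, p6, p7, p8, p9, p10, p11, p12, p13, p14, p15, p16⟩ := h.pols
  obtain ⟨e, he0, he, hei⟩ := Cfsg.Agent.LieClassical.OrthFinite.exists_sing_perp (Q := Q) ![e₁, f₁, e₂, f₂] (by omega)
  have hePf : Pf Q e₁ f₁ e₂ f₂ e := ⟨hei 0, hei 1, hei 2, hei 3⟩
  obtain ⟨w0, hw0⟩ : ∃ w, polar Q e w ≠ 0 := by
    by_contra hcon
    push Not at hcon
    exact he0 (hQ e hcon)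
  obtain ⟨q1, q2, q3, q4⟩ := hePf
  obtain ⟨w, hw⟩ : ∃ w, w = w0 - (polar Q f₁ w0 • e₁ + polar Q e₁ w0 • f₁ + polar Q f₂ w0 • e₂ + polar Q e₂ w0 • f₂) :=
    ⟨_, rfl⟩
  have hwP : Pf Q e₁ f₁ e₂ f₂ w := by
    refine ⟨?_, ?_, ?_, ?_⟩
    all_goals
      rw [hw]
      simp only [polar_sub_right, polar_add_right, polar_smul_right, smul_eq_mul, p1, p2, p3, p4, p5, p6, p7, p8, p9,
        p10, p11, p12, p13, p14, p15, p16]
      ring
  have hew : polar Q e w = polar Q e w0 := by
    rw [hw]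
    simp only [polar_sub_right, polar_add_right, polar_smul_right, smul_eq_mul, polar_comm Q e e₁, polar_comm Q e f₁,
      polar_comm Q e e₂, polar_comm Q e f₂, q1, q2, q3, q4]
    ring
  have hew0 : polar Q e w ≠ 0 := by rw [hew]; exact hw0
  obtain ⟨w1, hw1⟩ : ∃ w1, w1 = (polar Q e w)⁻¹ • w := ⟨_, rfl⟩
  have hew1 : polar Q e w1 = 1 := by rw [hw1, polar_smul_right, smul_eq_mul, inv_mul_cancel₀ hew0]
  have hw1P : Pf Q e₁ f₁ e₂ f₂ w1 := by
    obtain ⟨m1, m2, m3, m4⟩ := hwP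
    refine ⟨?_, ?_, ?_, ?_⟩ <;> rw [hw1, polar_smul_right] <;> simp [m1, m2, m3, m4]
  have hee : polar Q e e = 0 := by
    rw [QuadraticMap.polar_self, he, smul_zero]
  refine ⟨e, w1 - Q w1 • e, ⟨he, ?_, ?_⟩, ⟨q1, q2, q3, q4⟩, ?_⟩
  · have : w1 - Q w1 • e = w1 + (-(Q w1)) • e := by module
    rw [this, Q_add, QuadraticMap.map_smul, he, polar_smul_right, polar_comm Q w1 e, hew1]
    simp
  · rw [polar_sub_right, polar_smul_right, hew1, hee]
    simp
  · obtain ⟨m1, m2, m3, m4⟩ := hw1P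
    refine ⟨?_, ?_, ?_, ?_⟩ <;> rw [polar_sub_right, polar_smul_right] <;> simp only [m1, m2, m3, m4, q1, q2, q3, q4, _root_.smul_eq_mul, _root_.MulZeroClass.mul_zero, _root_.sub_self]

/-- **existence of the good basis of the orthogonal space** -/
theorem exists_fourM [Finite F] [FiniteDimensional F V] (h2 : (2 : F) ≠ 0) (hQ : Nondeg Q) {e₁ f₁ e₂ f₂ : V}
    (h : Four Q e₁ f₁ e₂ f₂) (h8 : Module.finrank F V = 8)
    (hmin : ∀ e f, Hyp Q e f → Pf Q e₁ f₁ e₂ f₂ e → Pf Q e₁ f₁ e₂ f₂ f → ∀ v, Pf Q e₁ f₁ e₂ f₂ v → polar Q e v = 0 →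
      polar Q f v = 0 → Q v = 0 → v = 0) :
    ∃ (d : F) (e f a b : V), (∀ r : F, r ^ 2 ≠ d + 0 * r) ∧ FourM Q d e f a b ∧ Pf Q e₁ f₁ e₂ f₂ e ∧
      Pf Q e₁ f₁ e₂ f₂ f ∧ Pf Q e₁ f₁ e₂ f₂ a ∧ Pf Q e₁ f₁ e₂ f₂ b := by
  classical
  haveI : Fintype F := Fintype.ofFinite F
  obtain ⟨e, f, hef, he, hf⟩ := exists_hyp_perp hQ h (by omega)
  -- the anisotropic plane
  obtain ⟨a0, ha00, ha0⟩ := exists_perp_ne (Q := Q) ![e₁, f₁, e₂, f₂, e, f] (by omega)
  have ha0P : Pf Q e₁ f₁ e₂ f₂ a0 := ⟨ha0 0, ha0 1, ha0 2, ha0 3⟩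
  have ha0e : polar Q e a0 = 0 := ha0 4
  have ha0f : polar Q f a0 = 0 := ha0 5
  obtain ⟨b0, hb00, hb0⟩ := exists_perp_ne (Q := Q) ![e₁, f₁, e₂, f₂, e, f, a0] (by omega)
  have hb0P : Pf Q e₁ f₁ e₂ f₂ b0 := ⟨hb0 0, hb0 1, hb0 2, hb0 3⟩
  have hb0e : polar Q e b0 = 0 := hb0 4
  have hb0f : polar Q f b0 = 0 := hb0 5
  have hab0 : polar Q a0 b0 = 0 := hb0 6
  have hα : Q a0 ≠ 0 := fun h0 => ha00 (hmin e f hef he hf a0 ha0P ha0e ha0f h0)
  have hβ : Q b0 ≠ 0 := fun h0 => hb00 (hmin e f hef he hf b0 hb0P hb0e hb0f h0)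
  have hodd : Fintype.card F % 2 = 1 := by
    apply FiniteField.odd_card_of_char_ne_two
    intro h3
    apply h2
    have := ringChar.Nat.cast_ringChar (R := F)
    rw [h3] at this
    exact_mod_cast this
  have hp1 : (Polynomial.C (Q a0) * Polynomial.X ^ 2 + Polynomial.C 1 : Polynomial F).degree = 2 := by
    rw [Polynomial.degree_add_C (by rw [Polynomial.degree_C_mul_X_pow 2 hα]; norm_num),
      Polynomial.degree_C_mul_X_pow 2 hα]
    rfl
  have hp2 : (Polynomial.C (Q b0) * Polynomial.X ^ 2 : Polynomial F).degree = 2 :=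
    Polynomial.degree_C_mul_X_pow 2 hβ
  obtain ⟨x, y, hxy⟩ := FiniteField.exists_root_sum_quadratic hp1 hp2 hodd
  have hxy' : x * x * Q a0 + y * y * Q b0 = -1 := by
    simp only [_root_.map_one, _root_.Polynomial.eval_add, _root_.Polynomial.eval_mul, _root_.Polynomial.eval_C, _root_.Polynomial.eval_pow, _root_.Polynomial.eval_X, _root_.Polynomial.eval_one] at hxy
    linear_combination hxy
  obtain ⟨a, ha⟩ : ∃ a, a = x • a0 + y • b0 := ⟨_, rfl⟩
  have hQa : Q a = -1 := by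
    rw [ha, Q_add, QuadraticMap.map_smul, QuadraticMap.map_smul, polar_smul_left, polar_smul_right, hab0]
    simp only [smul_eq_mul, mul_zero, add_zero]
    exact hxy'
  have haP : Pf Q e₁ f₁ e₂ f₂ a := by
    obtain ⟨m1, m2, m3, m4⟩ := ha0P
    obtain ⟨n1, n2, n3, n4⟩ := hb0P
    refine ⟨?_, ?_, ?_, ?_⟩ <;> rw [ha, polar_add_right, polar_smul_right, polar_smul_right] <;>
      simp only [m1, m2, m3, m4, n1, n2, n3, n4, _root_.smul_eq_mul, _root_.MulZeroClass.mul_zero, _root_.add_zero]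
  have hae : polar Q e a = 0 := by
    rw [ha, polar_add_right, polar_smul_right, polar_smul_right, ha0e, hb0e]; simp
  have haf : polar Q f a = 0 := by
    rw [ha, polar_add_right, polar_smul_right, polar_smul_right, ha0f, hb0f]; simp
  obtain ⟨b, hb00', hb⟩ := exists_perp_ne (Q := Q) ![e₁, f₁, e₂, f₂, e, f, a] (by omega)
  have hbP : Pf Q e₁ f₁ e₂ f₂ b := ⟨hb 0, hb 1, hb 2, hb 3⟩
  have hbe : polar Q e b = 0 := hb 4
  have hbf : polar Q f b = 0 := hb 5
  have hab : polar Q a b = 0 := hb 6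
  have hd : Q b ≠ 0 := fun h0 => hb00' (hmin e f hef he hf b hbP hbe hbf h0)
  refine ⟨Q b, e, f, a, b, ?_, ⟨hef, hQa, rfl, hae, hbe, haf, hbf, hab⟩, he, hf, haP, hbP⟩
  intro r hr
  rw [zero_mul, add_zero] at hr
  have hv : r • a + b = 0 := by
    refine hmin e f hef he hf _ ?_ ?_ ?_ ?_
    · obtain ⟨m1, m2, m3, m4⟩ := haP
      obtain ⟨n1, n2, n3, n4⟩ := hbP
      refine ⟨?_, ?_, ?_, ?_⟩ <;> rw [polar_add_right, polar_smul_right] <;> simp only [m1, m2, m3, m4, n1, n2, n3, n4, _root_.smul_eq_mul, _root_.MulZeroClass.mul_zero, _root_.add_zero]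
    · rw [polar_add_right, polar_smul_right, hae, hbe]; simp
    · rw [polar_add_right, polar_smul_right, haf, hbf]; simp
    · rw [Q_add, QuadraticMap.map_smul, polar_smul_left, hab, hQa, ← hr]
      simp only [smul_eq_mul]
      ring
  have h5 : polar Q a (r • a + b) = 0 := by rw [hv]; simp
  rw [polar_add_right, polar_smul_right, hab, QuadraticMap.polar_self, hQa] at h5
  have h6 : (2 : F) * r = 0 := by
    simp only [_root_.smul_neg, _root_.nsmul_eq_mul, _root_.Nat.cast_ofNat, _root_.mul_one, _root_.smul_eq_mul, _root_.mul_neg, _root_.add_zero, _root_.neg_eq_zero, _root_.mul_eq_zero] at h5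
    rcases h5 with h5 | h5
    · rw [h5, mul_zero]
    · exact absurd h5 h2
  have h7 : r = 0 := (mul_eq_zero.1 h6).resolve_left h2
  apply hd
  rw [← hr, h7]
  ring

/-- **(R3)** -/
theorem exists_phi0 [Finite F] [FiniteDimensional F V] (h2 : (2 : F) ≠ 0) (hQ : Nondeg Q) {e₁ f₁ e₂ f₂ : V}
    (h : Four Q e₁ f₁ e₂ f₂) (h8 : Module.finrank F V = 8)
    (hmin : ∀ e f, Hyp Q e f → Pf Q e₁ f₁ e₂ f₂ e → Pf Q e₁ f₁ e₂ f₂ f → ∀ v, Pf Q e₁ f₁ e₂ f₂ v → polar Q e v = 0 →
      polar Q f v = 0 → Q v = 0 → v = 0) :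
    ∃ (K : Type u) (_ : Field K) (_ : Fintype K), Nat.card K = Nat.card F ^ 2 ∧
      ∃ φ : _root_.Matrix.SpecialLinearGroup (Fin 2) K →* ↥(E Q),
        (∀ y, ap (φ y) e₁ = e₁ ∧ ap (φ y) f₁ = f₁ ∧ ap (φ y) e₂ = e₂ ∧ ap (φ y) f₂ = f₂) ∧ φ (-1) = 1 ∧
        ∀ y, φ y = 1 → y = 1 ∨ y = -1 := by
  obtain ⟨d, e, f, a, b, hd, hM, he, hf, ha, hb⟩ := exists_fourM h2 hQ h h8 hmin
  haveI : Fact (∀ r : F, r ^ 2 ≠ d + 0 * r) := ⟨hd⟩
  haveI : Finite (QuadraticAlgebra F d 0) := Finite.of_equiv _ (QuadraticAlgebra.equivProd d 0).symm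
  refine ⟨QuadraticAlgebra F d 0, inferInstance, Fintype.ofFinite _, ?_, phi0 hM h2, ?_, phi0_neg_one hM h2,
    fun y hy => phi0_ker hM h2 hy⟩
  · rw [Nat.card_congr (QuadraticAlgebra.equivProd d 0), Nat.card_prod, pow_two]
  · intro y
    obtain ⟨a1, a2, a3, a4⟩ := he
    obtain ⟨b1, b2, b3, b4⟩ := hf
    obtain ⟨c1, c2, c3, c4⟩ := ha
    obtain ⟨d1, d2, d3, d4⟩ := hb
    refine ⟨phi0_perp hM h2 y ?_ ?_ ?_ ?_, phi0_perp hM h2 y ?_ ?_ ?_ ?_, phi0_perp hM h2 y ?_ ?_ ?_ ?_,
      phi0_perp hM h2 y ?_ ?_ ?_ ?_⟩ <;> rw [polar_comm] <;> assumption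

end ex

end Cfsg.Agent.H887.IF
end

-- part: H887/IF/Cent
section
/-!
# S5719, `N = 8`: the centralizer of a long `SL₂` in `E Q` (helper887)

`cent1` : if `g ∈ E Q` commutes with `h.rhoE M` for all `M`, then `g` acts on the 4-space as `h.swap.rhoE N` for some `N`.
-/

set_option autoImplicit false
set_option linter.unusedSimpArgs false
set_option linter.unusedVariables false
set_option linter.unusedSectionVars false

namespace Cfsg.Agent.H887.IF

open QuadraticMap Cfsg.Agent.LieClassical Cfsg.Agent.LieClassical.OrthCore Cfsg.Agent.LieClassical.OrthTrans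
  Cfsg.Agent.LieClassical.OrthSimple Cfsg.Agent.AutOrth.SemiSim Cfsg.Agent.AutOrth.Gen
  Cfsg.Agent.H989.Gs.Gen
open Cfsg.Agent.UGT.U2.FOne.Orth (Four tl tl_comb siegel_eq_tl)
open Cfsg.Agent.LieClassical.SLTwoUnipotent (u l coe_u coe_l)
open Matrix (SpecialLinearGroup)

variable {F V : Type*} [Field F] [AddCommGroup V] [Module F V] {Q : QuadraticForm F V} {e₁ f₁ e₂ f₂ : V}

theorem ap_u (h : Four Q e₁ f₁ e₂ f₂) (t : F) (v : V) :
    ap (h.rhoE (u t)) v = v + polar Q e₁ v • ((-t) • f₂) - ((-t) * polar Q f₂ v) • e₁ := by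
  have h1 : ap (h.rhoE (u t)) v = h.rho (u t) v := rfl
  rw [h1, h.rho_u]
  unfold tl
  rw [polar_smul_left, smul_eq_mul]

theorem ap_l (h : Four Q e₁ f₁ e₂ f₂) (t : F) (v : V) :
    ap (h.rhoE (l t)) v = v + polar Q e₂ v • ((-t) • f₁) - ((-t) * polar Q f₁ v) • e₂ := by
  have h1 : ap (h.rhoE (l t)) v = h.rho (l t) v := rfl
  rw [h1, h.rho_l]
  unfold tl
  rw [polar_smul_left, smul_eq_mul]

/-- **the action on the 4-space of an element commuting with the long `SL₂`** -/
theorem cent1 (h : Four Q e₁ f₁ e₂ f₂) (g : ↥(E Q)) (hg : ∀ M, g * h.rhoE M = h.rhoE M * g) :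
    ∃ N, ap g e₁ = ap (h.swap.rhoE N) e₁ ∧ ap g f₁ = ap (h.swap.rhoE N) f₁ ∧ ap g e₂ = ap (h.swap.rhoE N) e₂ ∧
      ap g f₂ = ap (h.swap.rhoE N) f₂ := by
  obtain ⟨p1, p2, p3, p4, p5, p6, p7, p8, p9, p10, p11, p12, p13, p14, p15, p16⟩ := h.pols
  have hu : ∀ v, ap g (ap (h.rhoE (u 1)) v) = ap (h.rhoE (u 1)) (ap g v) := by
    intro v
    rw [← ap_mul, ← ap_mul, hg]
  have hl : ∀ v, ap g (ap (h.rhoE (l 1)) v) = ap (h.rhoE (l 1)) (ap g v) := by
    intro v
    rw [← ap_mul, ← ap_mul, hg]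
  -- `u 1 : e₂ ↦ e₂ + e₁`, `f₁ ↦ f₁ - f₂`
  have hu2 := hu e₂
  have hu1 := hu f₁
  have hl1 := hl e₁
  have hl2 := hl f₂
  rw [ap_u, ap_u] at hu2 hu1
  rw [ap_l, ap_l] at hl1 hl2
  have hg0 : ap g 0 = 0 := map_zero _
  simp only [hg0, neg_zero, p1, p2, p3, p4, p5, p6, p7, p8, p9, p10, p11, p12, p13, p14, p15, p16, ap_add, ap_sub, ap_smul, ap_neg,
    zero_smul, one_smul, mul_one, mul_zero, neg_smul, sub_neg_eq_add, smul_neg, add_zero, sub_zero] at hu2 hu1 hl1 hl2
  obtain ⟨α, hα⟩ : ∃ α, α = polar Q f₂ (ap g e₂) := ⟨_, rfl⟩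
  obtain ⟨β, hβ⟩ : ∃ β, β = -polar Q e₁ (ap g e₂) := ⟨_, rfl⟩
  obtain ⟨γ, hγ⟩ : ∃ γ, γ = -polar Q f₂ (ap g f₁) := ⟨_, rfl⟩
  obtain ⟨δ, hδ⟩ : ∃ δ, δ = polar Q e₁ (ap g f₁) := ⟨_, rfl⟩
  have g1 : ap g e₁ = α • e₁ + β • f₂ := by
    have : ap g e₁ = ap g e₂ + ap g e₁ - ap g e₂ := by abel
    rw [this, hu2, hα, hβ]
    module
  have g4 : ap g f₂ = γ • e₁ + δ • f₂ := by
    have : ap g f₂ = ap g f₁ - (ap g f₁ + -ap g f₂) := by abel
    rw [this, hu1, hγ, hδ]
    module
  have g3 : ap g e₂ = α • e₂ + (-β) • f₁ := by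
    have : ap g e₂ = ap g e₁ + ap g e₂ - ap g e₁ := by abel
    rw [this, hl1, g1]
    simp only [polar_add_right, polar_smul_right, smul_eq_mul, p1, p2, p3, p4, p5, p6, p7, p8, p9, p10, p11, p12, p13,
      p14, p15, p16]
    module
  have g2 : ap g f₁ = δ • f₁ + (-γ) • e₂ := by
    have : ap g f₁ = ap g f₂ - (ap g f₂ + -ap g f₁) := by abel
    rw [this, hl2, g4]
    simp only [polar_add_right, polar_smul_right, smul_eq_mul, p1, p2, p3, p4, p5, p6, p7, p8, p9, p10, p11, p12, p13,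
      p14, p15, p16]
    module
  have hdet : α * δ - γ * β = 1 := by
    have h5 := polar_ap g e₁ f₁
    rw [g1, g2, p5] at h5
    simp only [polar_add_right, polar_add_left, polar_smul_right, polar_smul_left, smul_eq_mul, p1, p2, p3, p4, p5, p6,
      p7, p8, p9, p10, p11, p12, p13, p14, p15, p16] at h5
    linear_combination h5
  obtain ⟨N, hN⟩ : ∃ N : _root_.Matrix.SpecialLinearGroup (Fin 2) F, N = ⟨!![α, γ; β, δ], by rw [Matrix.det_fin_two_of]; exact hdet⟩ :=
    ⟨_, rfl⟩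
  have n00 : N.1 0 0 = α := by rw [hN]; rfl
  have n01 : N.1 0 1 = γ := by rw [hN]; rfl
  have n10 : N.1 1 0 = β := by rw [hN]; rfl
  have n11 : N.1 1 1 = δ := by rw [hN]; rfl
  refine ⟨N, ?_, ?_, ?_, ?_⟩
  · change _ = h.swap.rho N e₁
    rw [g1, h.swap.rho_e1, n00, n10]
  · change _ = h.swap.rho N f₁
    rw [g2, h.swap.rho_f1, n11, n01]
  · change _ = h.swap.rho N e₂
    rw [g3, h.swap.rho_f2, n10, n00]
    abel
  · change _ = h.swap.rho N f₂
    rw [g4, h.swap.rho_e2, n01, n11]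

end Cfsg.Agent.H887.IF
end

-- part: H893/IF/EightM3
section
/-!
# S5719, `PΩ₈⁻(q)`, `q` odd, `|A|` even: the cell modulo CLAIM 0 (helper893)

* `Claim0 Q` : CLAIM 0 for `E Q`;
* `eightM_of` : in `E Q`; `minus_four_of` : the cell.
-/

set_option autoImplicit false
set_option linter.unusedSectionVars false
set_option linter.unusedVariables false

open Cfsg

namespace Cfsg.Agent.H893.IFE

open QuadraticMap Module Cfsg.Agent.LieClassical Cfsg.Agent.LieClassical.OrthCore Cfsg.Agent.LieClassical.OrthTrans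
  Cfsg.Agent.LieClassical.OrthSimple Cfsg.Agent.H989.Gs.Gen Cfsg.Agent.H989.Fx Cfsg.Agent.H325.IF
  Cfsg.Agent.H160.QSpin Cfsg.Agent.H160.QDisc Cfsg.Agent.LieClassical.OrthForms
open Cfsg.Agent.UGT.U2.FOne.Orth (Four)
open Cfsg.Agent.H209.Fxy
open Matrix (SpecialLinearGroup)

universe u v

variable {F : Type u} [Field F] {V : Type v} [AddCommGroup V] [Module F V] {Q : QuadraticForm F V}

/-- **CLAIM 0** for `T = E Q` -/
def Claim0 (Q : QuadraticForm F V) : Prop :=
  ∀ {A : Subgroup ↥(E Q)} {Γ : Subgroup (MulAut ↥(E Q))}, IF A Γ → ∀ t ∈ A, t * t = 1 →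
    (finrank F (Vm t) = 2 ∨ finrank F (Vm t) + 2 = finrank F V) → False

theorem eightM_of [Fintype F] (hodd : Odd (Fintype.card F)) [FiniteDimensional F V] (hG : Good Q)
    (hN : finrank F V = 8) (hm : ∀ g : ↥(E Q), ¬ ∀ v, ap g v = -v) [Finite ↥(E Q)] [IsSimpleGroup ↥(E Q)]
    (hc : Claim0 Q) {A : Subgroup ↥(E Q)} {Γ : Subgroup (MulAut ↥(E Q))} (h : IF A Γ)
    (hA : ∃ t ∈ A, orderOf t = 2) : False := by
  have h2 : (2 : F) ≠ 0 := Cfsg.Agent.H215.IFM.two_ne hodd
  have hfin : Finite V := Module.finite_of_finite F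
  refine eightM_E hodd h2 hG hN hm h hA ?_ ?_ ?_ ?_
  · intro t ht htt hr
    refine hc h t ht htt ?_
    rw [hN]
    omega
  · intro e₁ f₁ e₂ f₂ h4
    obtain ⟨K, i1, i2, hK, hφ⟩ := Cfsg.Agent.H887.IF.exists_phi0 h2 hG.nondeg h4 hN (by
      rintro e f hef ⟨a1, a2, a3, a4⟩ ⟨b1, b2, b3, b4⟩ v ⟨c1, c2, c3, c4⟩ c5 c6 hv
      exact hmin h2 hG hN hm h4 hef a1 a2 a3 a4 b1 b2 b3 b4 c1 c2 c3 c4 c5 c6 hv)
    refine ⟨K, i1, i2, ?_, hφ⟩
    rw [Nat.card_eq_fintype_card, Nat.card_eq_fintype_card] at hK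
    exact hK
  · intro e₁ f₁ e₂ f₂ h4 g hg
    obtain ⟨N, k1, k2, k3, k4⟩ := Cfsg.Agent.H887.IF.cent1 h4 g hg
    refine ⟨N, ?_⟩
    intro w hw
    have key : ap g w = ap (h4.swap.rhoE N) w := by
      rcases hw with rfl | rfl | rfl | rfl
      · exact k1
      · exact k2
      · exact k3
      · exact k4
    rw [ap_mul, key, ap_inv_ap]
  · intro z hz
    have h3 := cls_le h2 hG (by omega) (fund_mul_self hz) (finrank_Vm_of_fund h2 hz)
    rw [hN, Nat.card_eq_fintype_card] at h3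
    exact h3

/-- the centre of `Ω` is trivial if `-1 ∉ Ω` -/
theorem center_bot (hG : Good Q) (hm : ∀ g : ↥(E Q), ¬ ∀ v, ap g v = -v) : Subgroup.center ↥(E Q) = ⊥ := by
  rw [Subgroup.eq_bot_iff_forall]
  intro z hz
  obtain ⟨c, hc⟩ := Cfsg.Agent.ClassicalGeometry.OrthAut1.center_scalar hG hz
  obtain ⟨x, y, hxy⟩ := hG.exists_hyp
  have h1 : polar Q (ap z x) (ap z y) = 1 := by rw [polar_ap, hxy.pair]
  have h2 : ap z x = c • x := hc x
  have h3 : ap z y = c • y := hc y
  rw [h2, h3, polar_smul_left, polar_smul_right, hxy.pair, smul_eq_mul, smul_eq_mul, mul_one] at h1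
  rcases mul_self_eq_one_iff.1 h1 with h4 | h4
  · apply ext_ap
    intro v
    have h5 : ap z v = c • v := hc v
    rw [h5, h4, one_smul, ap_one]
  · exfalso
    apply hm z
    intro v
    have h5 : ap z v = c • v := hc v
    rw [h5, h4, neg_one_smul]

section cell

/-- `PΩ ≃ E Q` if `-1 ∉ Ω` -/
theorem exists_equiv {F : Type} [Field F] [Finite F] {ι : Type} [Fintype ι] [DecidableEq ι]
    {Q : QuadraticForm F (ι → F)} (hG : Good Q) (hm : ∀ g : ↥(E Q), ¬ ∀ v, ap g v = -v) :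
    Nonempty (POmega F ⇑Q ≃* ↥(E Q)) := by
  have h1 : (Cfsg.Agent.H75.OrthIdx.omHom hG).ker = ⊥ := by
    rw [Cfsg.Agent.H75.OrthIdx.omHom_ker, center_bot hG hm]
  exact ⟨(MulEquiv.ofBijective (Cfsg.Agent.H75.OrthIdx.omHom hG)
    ⟨(MonoidHom.ker_eq_bot_iff _).1 h1, Cfsg.Agent.H75.OrthIdx.omHom_surjective hG⟩).symm⟩

theorem killE_of_equiv {T T' : Type*} [Group T] [Group T'] (e : T ≃* T') (h : KillE T') : KillE T := by
  intro A Γ hA ⟨t, ht, ho⟩
  exact h _ _ (hA.map e) ⟨e t, ⟨t, ht, rfl⟩, by rw [MulEquiv.orderOf_eq e t, ho]⟩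

/-- **the cell `minus_mid`, `m = 4`**, modulo CLAIM 0 -/
theorem minus_four_of (F : Type) [Field F] [Fintype F] (a b : F) (hodd : Odd (Fintype.card F))
    (hab : ∀ z₁ z₂ : F, z₁ ^ 2 + a * z₁ * z₂ + b * z₂ ^ 2 = 0 → z₁ = 0 ∧ z₂ = 0)
    (hs : IsSimpleGroup (POmega F (quadFormMinus 3 F a b))) (hc : Claim0 (minusForm 3 F a b)) :
    KillE (POmega F (quadFormMinus 3 F a b)) := by
  classical
  have h2 : (2 : F) ≠ 0 := Cfsg.Agent.H215.IFM.two_ne hodd
  have hG : Good (minusForm 3 F a b) := Cfsg.Agent.ClassicalGeometry.OrthSemiForms.good_minus (F := F) (m := 3) (by omega) a b hab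
  have hN : finrank F ((Fin 3 ⊕ Fin 3) ⊕ Fin 2 → F) = 8 := by
    rw [Module.finrank_fintype_fun_eq_card]
    rfl
  have hm : ∀ g : ↥(E (minusForm 3 F a b)), ¬ ∀ v, ap g v = -v :=
    neg_notMem h2 hG (Cfsg.Agent.H160.QFinal.dc_minusForm h2 hab)
  rw [← coe_minusForm 3 F a b] at hs ⊢
  obtain ⟨e⟩ := exists_equiv hG hm
  have hfin : Finite (POmega F ⇑(minusForm 3 F a b)) := inferInstance
  have hfin2 : Finite ↥(E (minusForm 3 F a b)) := Finite.of_equiv _ e.toEquiv
  have hs2 : IsSimpleGroup ↥(E (minusForm 3 F a b)) := (MulEquiv.isSimpleGroup_congr e).1 hs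
  refine killE_of_equiv e ?_
  intro A Γ h hA
  exact eightM_of hodd hG hN hm hc h hA

end cell

end Cfsg.Agent.H893.IFE
end

private theorem dce_85feac76f2c2 : _root_.True := by
  try have : _root_.True := by simp only [_root_.Cfsg.Agent.H893.IFE.Wsp.eq_1]
  try have : _root_.True := by simp only [_root_.Cfsg.Agent.UGT.U2.FOne.Orth.Four.rhoE.congr_simp]
  exact _root_.True.intro
end

-- part: H893/IF/EightP
section
set_option linter.all false
open scoped Cfsg.Agent.FastGrp

/-!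
# S5719, `PΩ₈⁺(q)`, `q` odd: assembly (helper893)

* `lift_cases` : the lift of an involution;
* `eightP_of` : no counterexample in `PΩ₈⁺(q)`, `A` of even order, from helper709's abstract theorem, CLAIM 0, the class
  (II), the model and the class size.
-/

set_option autoImplicit false
set_option linter.unusedSectionVars false
set_option linter.unusedVariables false

namespace Cfsg.Agent.H893.IFE

open QuadraticMap Module Cfsg.Agent.LieClassical Cfsg.Agent.LieClassical.OrthCore Cfsg.Agent.LieClassical.OrthTrans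
  Cfsg.Agent.LieClassical.OrthSimple Cfsg.Agent.H989.Gs.Gen Cfsg.Agent.H989.Fx Cfsg.Agent.H325.IF
open Cfsg.Agent.UGT.U2.FOne.Orth (Four)
open Cfsg.Agent.H209.Fxy
open Matrix (SpecialLinearGroup)

universe u v w

variable {F : Type u} [Field F] {V : Type v} [AddCommGroup V] [Module F V] {Q : QuadraticForm F V}

section lift

variable {T : Type w} [Group T] (π : ↥(E Q) →* T) (hπ : Function.Surjective π)
  (hker : ∀ g, π g = 1 ↔ g = 1 ∨ ∀ v, ap g v = -v)

include hπ hker

/-- the lift of an involution, dimension 8 -/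
theorem lift_cases [Finite F] [FiniteDimensional F V] (h2 : (2 : F) ≠ 0) (hG : Good Q) (hN : finrank F V = 8) {t : T}
    (ht : orderOf t = 2) : ∃ g : ↥(E Q), π g = t ∧ ((g * g = 1 ∧ (finrank F (Vm g) = 2 ∨ finrank F (Vm g) = 6)) ∨
      Fund Q g ∨ ∀ v, ap g (ap g v) = -v) := by
  obtain ⟨g, rfl⟩ := hπ t
  obtain ⟨h3, h4⟩ := orderOf_eq_two_iff'.1 ht
  refine ⟨g, rfl, ?_⟩
  rw [← map_mul] at h3
  rcases (hker _).1 h3 with h5 | h5
  · obtain ⟨⟨k, hk⟩, k2, k3⟩ := finrank_lift π hker h2 hG h5 h4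
    rw [hN] at k3
    have h7 : finrank F (Vm g) = 2 ∨ finrank F (Vm g) = 6 ∨ finrank F (Vm g) = 4 := by omega
    rcases h7 with h7 | h7 | h7
    · exact Or.inl ⟨h5, Or.inl h7⟩
    · exact Or.inl ⟨h5, Or.inr h7⟩
    · exact Or.inr (Or.inl (fund_of_finrank h2 hG h5 h7))
  · exact Or.inr (Or.inr fun v => by rw [← ap_mul]; exact h5 v)

end lift

/-- the model of the four long `SL₂` of a fundamental involution -/
structure Model8 {T : Type w} [Group T] (π : ↥(E Q) →* T) (z : ↥(E Q))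
    (f : Fin 4 → (SpecialLinearGroup (Fin 2) F →* T)) : Prop where
  comm : ∀ i j, i ≠ j → ∀ s t, Commute (f i s) (f j t)
  neg : ∀ i, f i (-1) = π z
  sup : ∀ i j, i ≠ j → ∀ s t, s * s = -1 → t * t = -1 → ∃ g : ↥(E Q), π g = f i s * f j t ∧
    ((g * g = 1 ∧ finrank F (Vm g) = 2) ∨ ∀ v, ap g (ap g v) = -v)
  cent : ∀ i (g : ↥(E Q)), Fund Q g → (∀ a, π g * f i a = f i a * π g) → π g = π z

/-- the form of helper709's theorem -/
def EightPlus (T : Type w) [Group T] (F : Type u) [Field F] [Fintype F] : Prop :=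
  ∀ {A : Subgroup T} {Γ : Subgroup (MulAut T)}, IF A Γ → (∃ a b : T, a * b ≠ b * a) →
    ∀ (f : Fin 4 → (SpecialLinearGroup (Fin 2) F →* T)), (∀ i j, i ≠ j → ∀ s t, Commute (f i s) (f j t)) →
    ∀ {z : T}, z ∈ A → orderOf z = 2 → (∀ i, f i (-1) = z) →
    (∀ i j, i ≠ j → ∀ s t, s * s = -1 → t * t = -1 → f i s * f j t ∉ A) →
    (∀ t ∈ A, orderOf t = 2 → ∃ x : T, x * z * x⁻¹ = t) →
    (∀ i, ∀ t ∈ A, orderOf t = 2 → (∀ a, f i a * t = t * f i a) → t = z) →
    4 * (Subgroup.centralizer ({z} : Set T)).index ≤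
      Fintype.card F ^ 8 * (Fintype.card F ^ 2 + 1) ^ 2 * (Fintype.card F ^ 4 + Fintype.card F ^ 2 + 1) → False

theorem eightP_of [Fintype F] [FiniteDimensional F V] (h2 : (2 : F) ≠ 0) (hG : Good Q) (hN : finrank F V = 8)
    {T : Type w} [Group T] [Finite T] [IsSimpleGroup T] (π : ↥(E Q) →* T) (hπ : Function.Surjective π)
    (hker : ∀ g, π g = 1 ↔ g = 1 ∨ ∀ v, ap g v = -v) (h709 : EightPlus T F)
    {A : Subgroup T} {Γ : Subgroup (MulAut T)} (h : IF A Γ) (hA : ∃ t ∈ A, orderOf t = 2)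
    (c0 : ∀ g : ↥(E Q), π g ∈ A → g * g = 1 → (finrank F (Vm g) = 2 ∨ finrank F (Vm g) = 6) → False)
    (c1 : ∀ g : ↥(E Q), π g ∈ A → (∀ v, ap g (ap g v) = -v) → False)
    (hmod : ∀ z : ↥(E Q), Fund Q z → ∃ f, Model8 π z f)
    (hind : ∀ z : ↥(E Q), Fund Q z → 4 * (Subgroup.centralizer ({π z} : Set T)).index ≤
      Fintype.card F ^ 8 * (Fintype.card F ^ 2 + 1) ^ 2 * (Fintype.card F ^ 4 + Fintype.card F ^ 2 + 1)) : False := by
  -- involutions of `A` are images of fundamental ones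
  have hF : ∀ t ∈ A, orderOf t = 2 → ∃ g : ↥(E Q), π g = t ∧ Fund Q g := by
    intro t ht ho
    obtain ⟨g, hg, hc⟩ := lift_cases π hπ hker h2 hG hN ho
    rcases hc with ⟨k1, k2⟩ | k | k
    · exact (c0 g (by rw [hg]; exact ht) k1 k2).elim
    · exact ⟨g, hg, k⟩
    · exact (c1 g (by rw [hg]; exact ht) k).elim
  obtain ⟨_, htA, ho⟩ := hA
  obtain ⟨z, rfl, hz⟩ := hF _ htA ho
  have hna : ∃ a b : T, a * b ≠ b * a := by
    by_contra hcon
    push Not at hcon
    have hn : A.Normal := ⟨fun a ha g => by rw [hcon g a, mul_inv_cancel_right]; exact ha⟩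
    rcases hn.eq_bot_or_eq_top with h7 | h7
    · exact h.ne_bot h7
    · exact h.ne_top h7
  obtain ⟨f, hf⟩ := hmod z hz
  refine h709 h hna f hf.comm htA ho hf.neg ?_ ?_ ?_ (hind z hz)
  · intro i j hij s t hs ht hmem
    obtain ⟨g, hg, hc⟩ := hf.sup i j hij s t hs ht
    rw [← hg] at hmem
    rcases hc with ⟨k1, k2⟩ | k
    · exact c0 g hmem k1 (Or.inl k2)
    · exact c1 g hmem k
  · intro t ht ho'
    obtain ⟨g, rfl, hg⟩ := hF t ht ho'
    obtain ⟨x, hx⟩ := exists_conj_of_fund h2 hG hz hg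
    exact ⟨π x, by rw [← map_inv, ← map_mul, ← map_mul, hx]⟩
  · intro i t ht ho' hcomm
    obtain ⟨g, rfl, hg⟩ := hF t ht ho'
    exact hf.cent i g hg fun a => (hcomm a).symm

end Cfsg.Agent.H893.IFE
end

-- part: H768/IF/Suz
section
set_option linter.all false
open scoped Cfsg.Agent.FastGrp

-- part: H768/IF/Jordan
section
/-!
# S5719, sporadic rows: maximal subgroups of small index (helper768)

* `dvd_of_full` : `M` a maximal subgroup of `H` of index `k ≥ 3` such that the group induced on the cosets contains a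
  Sylow `3`-subgroup of `S_k`: then it contains `A_k` (Jordan).
* `eq_top_of_small` : a perfect group `H` with a normal `2`-subgroup `Q`, `H/Q` simple of order `25920`, and no normal
  subgroups of `H` below `Q` of order between `3` and `|Q|`, has no proper subgroup of index at most `10`.
-/

set_option autoImplicit false

namespace Cfsg.Agent.H768.IF5

open Subgroup MulAction Equiv

theorem toPermHom_range_prim {H : Type*} [Group H] [Finite H] {M : Subgroup H} (hM : IsCoatom M) :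
    IsPreprimitive (MulAction.toPermHom H (H ⧸ M)).range (H ⧸ M) := by
  have hnt : Nontrivial (H ⧸ M) := by
    rw [← Finite.one_lt_card_iff_nontrivial]
    have h1 : M.index ≠ 1 := fun h => hM.1 (Subgroup.index_eq_one.1 h)
    have h2 : M.index ≠ 0 := Subgroup.index_ne_zero_of_finite
    show 1 < M.index
    omega
  have h1 : IsPreprimitive H (H ⧸ M) := by
    rw [← isCoatom_stabilizer_iff_preprimitive H ((1 : H) : H ⧸ M), MulAction.stabilizer_quotient]
    exact hM
  let f : (H ⧸ M) →ₑ[(MulAction.toPermHom H (H ⧸ M)).rangeRestrict] (H ⧸ M) :=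
    { toFun := fun x => x
      map_smul' := fun m x => rfl }
  exact IsPreprimitive.of_surjective (f := f) Function.surjective_id

theorem conj_three {α : Type*} [Fintype α] [DecidableEq α] {c : Perm α} (hc : c.IsThreeCycle) (g : Perm α) :
    (g * c * g⁻¹).IsThreeCycle := by
  rw [Perm.IsThreeCycle, Perm.cycleType_conj]
  exact hc

theorem exists_three {α : Type*} [Fintype α] [DecidableEq α] (h : 3 ≤ Fintype.card α) :
    ∃ c : Perm α, c.IsThreeCycle := by
  obtain ⟨a, b, c, hab, hac, hbc⟩ := Fintype.two_lt_card_iff.1 (show 2 < Fintype.card α by omega)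
  exact ⟨swap a b * swap a c, Perm.isThreeCycle_swap_mul_swap_same hab hac hbc⟩

/-- a subgroup containing a Sylow `3`-subgroup contains a `3`-cycle -/
theorem exists_three_mem {α : Type*} [Fintype α] [DecidableEq α] (h : 3 ≤ Fintype.card α) (R : Subgroup (Perm α))
    (hR : (Nat.card R).factorization 3 = (Fintype.card α).factorial.factorization 3) :
    ∃ c ∈ R, c.IsThreeCycle := by
  classical
  obtain ⟨c, hc⟩ := exists_three h
  have hp : Fact (Nat.Prime 3) := ⟨Nat.prime_three⟩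
  obtain ⟨P⟩ := (inferInstance : Nonempty (Sylow 3 R))
  have hPc : Nat.card ((P : Subgroup R).map R.subtype) = 3 ^ (Nat.card (Perm α)).factorization 3 := by
    rw [Nat.card_congr ((P : Subgroup R).equivMapOfInjective _ R.subtype_injective).symm.toEquiv, P.card_eq_multiplicity, hR,
      Nat.card_perm, Nat.card_eq_fintype_card]
  let P' : Sylow 3 (Perm α) := Sylow.ofCard _ hPc
  have hc3 : IsPGroup 3 (zpowers c) := by
    rw [IsPGroup.iff_card]
    exact ⟨1, by rw [Nat.card_zpowers, hc.orderOf, pow_one]⟩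
  obtain ⟨Q, hQ⟩ := hc3.exists_le_sylow
  obtain ⟨g, hg⟩ := MulAction.exists_smul_eq (Perm α) Q P'
  have h1 : g * c * g⁻¹ ∈ (P' : Subgroup (Perm α)) := by
    rw [← hg]
    have : c ∈ (Q : Subgroup (Perm α)) := hQ (mem_zpowers c)
    show g * c * g⁻¹ ∈ ((MulAut.conj g • Q : Sylow 3 (Perm α)) : Subgroup (Perm α))
    exact ⟨c, this, rfl⟩
  have h2 : (P' : Subgroup (Perm α)) ≤ R := by
    show ((P : Subgroup R).map R.subtype) ≤ R
    exact Subgroup.map_subtype_le _
  exact ⟨_, h2 h1, conj_three hc g⟩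

theorem dvd_of_full {H : Type*} [Group H] [Finite H] {M : Subgroup H} (hM : IsCoatom M) (h3 : 3 ≤ M.index)
    (hS : (Nat.card (MulAction.toPermHom H (H ⧸ M)).range).factorization 3 = M.index.factorial.factorization 3) :
    M.index.factorial ∣ 2 * Nat.card (MulAction.toPermHom H (H ⧸ M)).range := by
  classical
  have hf : Fintype (H ⧸ M) := Fintype.ofFinite _
  have hcard : Fintype.card (H ⧸ M) = M.index := by
    rw [← Nat.card_eq_fintype_card]; rfl
  obtain ⟨c, hcR, hc⟩ := exists_three_mem (α := H ⧸ M) (by rw [hcard]; exact h3) _ (by rw [hcard]; exact hS)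
  have hprim := toPermHom_range_prim hM
  have h1 := Perm.alternatingGroup_le_of_isPreprimitive_of_isThreeCycle_mem hprim hc hcR
  have h2 := Subgroup.card_dvd_of_le h1
  have hnt : Nontrivial (H ⧸ M) := by
    rw [← Fintype.one_lt_card_iff_nontrivial, hcard]; omega
  have h4 : 2 * Nat.card (alternatingGroup (H ⧸ M)) = M.index.factorial := by
    rw [Nat.card_eq_fintype_card, two_mul_card_alternatingGroup, Fintype.card_perm, hcard]
  rw [← h4]
  exact Nat.mul_dvd_mul_left 2 h2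

end Cfsg.Agent.H768.IF5
end

-- part: H768/IF/SuzIdx
section
/-!
# `Suz`: the centraliser of a 2-central involution has no proper subgroup of index at most 10 (helper768)
-/

set_option autoImplicit false
set_option maxRecDepth 100000

namespace Cfsg.Agent.H768.IF5.SuzI

open Subgroup Cfsg.Spor Cfsg.Agent.SuzThree.CentA Cfsg.Agent.SuzThree.QZero Cfsg.Agent.KFacts

theorem finSuz : Finite Suz := SuzSheetM.finite_suz

theorem Q_le : Q0 ≤ C1 := SuzThree.QZero.Q0_le

theorem card_C1' : Nat.card C1 = 3317760 := SuzCent.card_C1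

theorem card_Q : Nat.card Q0 = 128 := by rw [SuzR.card_R]; norm_num

theorem isP_Q : IsPGroup 2 Q0 := IsPGroup.of_card (n := 7) SuzR.card_R

/-- a proper normal subgroup of `C1` is contained in `Q0` -/
theorem normal_le (N : Subgroup C1) [hNn : N.Normal] (hN : N ≠ ⊤) : N.map C1.subtype ≤ Q0 := by
  have := finSuz
  set N' : Subgroup Suz := N.map C1.subtype with hN'
  have hN'C : N' ≤ C1 := Subgroup.map_subtype_le _
  have hinvN : ∀ p ∈ C1, ∀ n ∈ N', p * n * p⁻¹ ∈ N' := by
    rintro p hp _ ⟨n, hn, rfl⟩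
    exact ⟨(⟨p, hp⟩ * n * ⟨p, hp⟩⁻¹ :), hNn.conj_mem n hn ⟨p, hp⟩, rfl⟩
  have hinv : ∀ p ∈ C1, ∀ n ∈ N' ⊔ Q0, p * n * p⁻¹ ∈ N' ⊔ Q0 := by
    intro p hp n hn
    have h1 : N' ⊔ Q0 ≤ (N' ⊔ Q0).comap (MulAut.conj p).toMonoidHom := by
      refine sup_le ?_ ?_
      · intro x hx
        exact mem_sup_left (hinvN p hp x hx)
      · intro x hx
        exact mem_sup_right (SuzR.normal_R hp hx)
    exact h1 hn
  rcases SuzSheetM.normal_cases (sup_le hN'C Q_le) le_sup_right hinv with h | h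
  · exact le_sup_left.trans h
  · exfalso
    apply hN
    have hsup : N ⊔ Q0.subgroupOf C1 = ⊤ := by
      apply Subgroup.map_injective C1.subtype_injective
      rw [Subgroup.map_sup, Subgroup.map_subgroupOf_eq_of_le Q_le, ← MonoidHom.range_eq_map, Subgroup.range_subtype]
      exact h
    have h1 : (Q0.subgroupOf C1).map (QuotientGroup.mk' N) = ⊤ := by
      have h2 : (N ⊔ Q0.subgroupOf C1).map (QuotientGroup.mk' N) = ⊤ := by
        rw [hsup]
        exact Subgroup.map_top_of_surjective _ (QuotientGroup.mk'_surjective N)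
      rw [Subgroup.map_sup, QuotientGroup.map_mk'_self, bot_sup_eq] at h2
      exact h2
    have h2 : IsPGroup 2 (Q0.subgroupOf C1) := isP_Q.of_equiv (Subgroup.subgroupOfEquivOfLe Q_le).symm
    have h3 := h2.map (QuotientGroup.mk' N)
    rw [h1] at h3
    have h4 : IsPGroup 2 (C1 ⧸ N) := h3.of_equiv Subgroup.topEquiv
    have hp : Fact (Nat.Prime 2) := ⟨Nat.prime_two⟩
    have h5 : Group.IsNilpotent (C1 ⧸ N) := h4.isNilpotent
    have h7 : commutator (C1 ⧸ N) = ⊤ := by
      have h8 : (commutator C1).map (QuotientGroup.mk' N) = commutator (C1 ⧸ N) := by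
        rw [_root_.commutator_def, _root_.commutator_def, Subgroup.map_commutator,
          Subgroup.map_top_of_surjective _ (QuotientGroup.mk'_surjective N)]
      rw [← h8, SuzR.perfect]
      exact Subgroup.map_top_of_surjective _ (QuotientGroup.mk'_surjective N)
    by_contra hNt
    have hnt : Nontrivial (C1 ⧸ N) := QuotientGroup.nontrivial_iff.2 hNt
    have h9 := Group.IsSolvable.commutator_lt_top_of_nontrivial (C1 ⧸ N)
    rw [h7] at h9
    exact lt_irrefl _ h9

/-- **No proper subgroup of index at most 10.** -/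
theorem eq_top_of_small {X : Subgroup C1} (hX : X.index ≤ 10) : X = ⊤ := by
  have hfin := finSuz
  by_contra hne
  obtain ⟨M, hM, hXM⟩ := (eq_top_or_exists_le_coatom X).resolve_left hne
  have hX0 : 0 < X.index := Nat.pos_of_ne_zero Subgroup.index_ne_zero_of_finite
  have hMi : M.index ≤ 10 := (Nat.le_of_dvd hX0 (Subgroup.index_dvd_of_le hXM)).trans hX
  set f := MulAction.toPermHom C1 (C1 ⧸ M) with hf
  have hker : f.ker = M.normalCore := (Subgroup.normalCore_eq_ker M).symm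
  have hcardR : Nat.card f.range * Nat.card f.ker = Nat.card C1 := by
    rw [← Subgroup.index_ker, mul_comm]
    exact f.ker.card_mul_index
  have hRdvd : Nat.card f.range ∣ M.index.factorial := by
    have h1 := Subgroup.card_subgroup_dvd_card f.range
    rwa [Nat.card_perm] at h1
  have hkt : f.ker ≠ ⊤ := by
    intro h
    apply hM.1
    rw [eq_top_iff, ← h, hker]
    exact Subgroup.normalCore_le M
  have h1 := normal_le f.ker hkt
  have hcm : Nat.card (f.ker.map C1.subtype) = Nat.card f.ker :=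
    (Nat.card_congr (f.ker.equivMapOfInjective _ C1.subtype_injective).toEquiv).symm
  have hinvN : ∀ p ∈ C1, ∀ n ∈ f.ker.map C1.subtype, p * n * p⁻¹ ∈ f.ker.map C1.subtype := by
    rintro p hp _ ⟨n, hn, rfl⟩
    exact Subgroup.mem_map_of_mem C1.subtype ((inferInstance : f.ker.Normal).conj_mem n hn (⟨p, hp⟩ : C1))
  rw [card_C1'] at hcardR
  have h10 : Nat.card f.range ∣ Nat.factorial 10 := hRdvd.trans (Nat.factorial_dvd_factorial hMi)
  rcases SuzR.irr h1 hinvN with h2 | h2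
  · -- the kernel has order at most 2
    have h3 : Nat.card (f.ker.map C1.subtype) ≤ 2 := by
      classical
      have h4 : ((f.ker.map C1.subtype : Subgroup Suz) : Set Suz) ⊆ ({1, z0} : Set Suz) := by
        intro y hy
        rcases h2 y hy with h | h
        · left; exact h
        · right; exact h
      have h5 := Set.ncard_le_ncard h4 (Set.toFinite _)
      have h6 : ({1, z0} : Set Suz).ncard ≤ 2 := (Set.ncard_insert_le _ _).trans (by rw [Set.ncard_singleton])
      have h7 : Nat.card (f.ker.map C1.subtype) = ((f.ker.map C1.subtype : Subgroup Suz) : Set Suz).ncard := rfl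
      omega
    rw [hcm] at h3
    have h4 : 0 < Nat.card f.ker := Nat.card_pos
    generalize Nat.card f.ker = k at hcardR h3 h4
    generalize Nat.card f.range = r at hcardR h10
    have h11 : r = 3317760 ∨ r = 1658880 := by
      rcases (show k = 1 ∨ k = 2 by omega) with rfl | rfl
      · left; omega
      · right; omega
    rcases h11 with rfl | rfl
    · exact absurd h10 (by decide +kernel)
    · exact absurd h10 (by decide +kernel)
  · have h3 : Nat.card f.ker = 128 := by rw [← hcm, h2, card_Q]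
    rw [h3] at hcardR
    have h4 : Nat.card f.range = 25920 := by omega
    rw [h4] at hRdvd
    have h5 : 9 ≤ M.index := by
      by_contra hlt
      push Not at hlt
      generalize M.index = k at hRdvd hlt
      interval_cases k <;> exact absurd hRdvd (by decide +kernel)
    have h6 : M.index.factorial ∣ 2 * 25920 := by
      rw [← h4]
      apply dvd_of_full hM (by omega)
      rw [← hf, h4]
      have h25 : (25920 : ℕ).factorization 3 = 4 := by
        rw [show (25920 : ℕ) = 3 ^ 4 * 320 by norm_num, Nat.factorization_mul (by norm_num) (by norm_num),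
          Finsupp.add_apply, Nat.Prime.factorization_pow Nat.prime_three, Finsupp.single_eq_same,
          Nat.factorization_eq_zero_of_not_dvd (by norm_num)]
      rw [h25]
      rcases (show M.index = 9 ∨ M.index = 10 by omega) with h | h
      · rw [h, show (Nat.factorial 9) = 3 ^ 4 * 4480 by decide, Nat.factorization_mul (by norm_num) (by norm_num),
          Finsupp.add_apply, Nat.Prime.factorization_pow Nat.prime_three, Finsupp.single_eq_same,
          Nat.factorization_eq_zero_of_not_dvd (by norm_num)]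
      · rw [h, show (Nat.factorial 10) = 3 ^ 4 * 44800 by decide, Nat.factorization_mul (by norm_num) (by norm_num),
          Finsupp.add_apply, Nat.Prime.factorization_pow Nat.prime_three, Finsupp.single_eq_same,
          Nat.factorization_eq_zero_of_not_dvd (by norm_num)]
    rcases (show M.index = 9 ∨ M.index = 10 by omega) with h | h
    · rw [h] at h6
      exact absurd h6 (by decide +kernel)
    · rw [h] at h6
      exact absurd h6 (by decide +kernel)

end Cfsg.Agent.H768.IF5.SuzI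
end

-- part: H768/IF/Suz
section
/-!
# S5719, row `Suz` (helper768)

* `A` contains a `2A`-involution `t`: `|C(t) : C_A(t)| ≤ 10` (E2'), hence `C(t) ≤ A` (no subgroups of small index); the
  `2A`-involutions being connected by commuting, `A = T`.
* `A` contains a `2B`-involution: `|TL : TL ∩ A| ≤ 19 < 64` for a Sylow `2`-subgroup `TL` of `L₃(4)`, whose involutions are
  of class `2A`.
* `|A|` odd: `|C_T(σ)|_2 ≥ 128`, `128^6 > |Suz|`.
-/

set_option autoImplicit false
set_option maxRecDepth 100000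

namespace Cfsg.Agent.H768.IF5.SuzR5

open Subgroup Cfsg.Spor Cfsg.Agent.H209.Fxy Cfsg.Agent.SuzThree.CentA Cfsg.Agent.SuzThree.Basic
  Cfsg.Agent.SuzThree.QZero Cfsg.Agent.KFacts Cfsg.Agent.SporadicRecognition.SuzPhi
  Cfsg.Agent.SporadicRecognition.SuzOrder Cfsg.Agent.Lib.PermNetOrbit

/-! ### Generalities -/

theorem exists_two {G : Type*} [Group G] [Finite G] {A B : Subgroup G} (hB : IsPGroup 2 B) (hne : A ⊓ B ≠ ⊥) :
    ∃ x ∈ A, x ∈ B ∧ orderOf x = 2 := by
  have hnt : Nontrivial (A ⊓ B : Subgroup G) := (Subgroup.nontrivial_iff_ne_bot _).2 hne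
  have hp : Fact (Nat.Prime 2) := ⟨Nat.prime_two⟩
  have h1 : IsPGroup 2 (A ⊓ B : Subgroup G) := hB.to_le inf_le_right
  obtain ⟨n, hn0, hn⟩ := (h1.nontrivial_iff_card).1 hnt
  obtain ⟨x, hx⟩ := exists_prime_orderOf_dvd_card' (G := (A ⊓ B : Subgroup G)) 2 (by
    rw [hn]; exact dvd_pow_self 2 (by omega))
  exact ⟨x, x.2.1, x.2.2, by rw [Subgroup.orderOf_coe]; exact hx⟩

theorem relIndex_eq {G : Type*} [Group G] [Finite G] {A B : Subgroup G} (h : A ⊓ B = ⊥) :
    A.relIndex B = Nat.card B := by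
  rw [← Subgroup.inf_relIndex_right, h, Subgroup.relIndex_bot_left]

/-- a `2`-group of fixed points of an involution of `Γ`, `A` of odd order -/
theorem odd_kill {T : Type*} [Group T] [Finite T] {A : Subgroup T} {Γ : Subgroup (MulAut T)} (h : IF A Γ)
    (hodd : ∀ t ∈ A, orderOf t ≠ 2) {σ : MulAut T} (hσ : σ ∈ Γ) (h2 : orderOf σ = 2) {B : Subgroup T}
    (hB2 : IsPGroup 2 B) (hB : ∀ b ∈ B, σ b = b) (hbig : Nat.card T ≤ Nat.card B ^ 6) : False := by
  have h1 : A ⊓ B = ⊥ := by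
    by_contra hne
    obtain ⟨x, hxA, -, hx⟩ := exists_two hB2 hne
    exact hodd x hxA hx
  have h3 := (Cfsg.Agent.H999.IFB.IF.E1 h hσ h2 hB).2
  rw [relIndex_eq h1] at h3
  have h4 : A.index ≤ Nat.card T := Nat.le_of_dvd Nat.card_pos A.index_dvd_card
  omega

/-- conjugating the subgroup -/
theorem IF.conjg {T : Type*} [Group T] {A : Subgroup T} {Γ : Subgroup (MulAut T)} (h : IF A Γ) (g : T) :
    ∃ (A' : Subgroup T) (Γ' : Subgroup (MulAut T)), IF A' Γ' ∧ ∀ y, y ∈ A' ↔ g * y * g⁻¹ ∈ A := by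
  refine ⟨_, _, h.map (MulAut.conj g⁻¹), fun y => ?_⟩
  rw [mem_map_e]
  have : (MulAut.conj g⁻¹).symm y = g * y * g⁻¹ := by
    rw [MulAut.conj_symm_apply, inv_inv]
  rw [this]

/-! ### The class `2A` -/

variable {A : Subgroup Suz} {Γ : Subgroup (MulAut Suz)}

theorem z0_sq : z0 * z0 = 1 := SuzLarge.large.z_sq

theorem ord_z0 : orderOf z0 = 2 :=
  orderOf_eq_prime (by rw [pow_two]; exact z0_sq) SuzLarge.large.z_ne

theorem ord_e0 : orderOf SuzLFour.e0 = 2 :=
  orderOf_eq_prime (by rw [pow_two]; exact SuzLFour.e0_sq) SuzLFour.e0_ne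

theorem hna : ∃ a b : Suz, a * b ≠ b * a := by
  refine ⟨SuzOut.n0, z0, fun h => SuzOut.n0_ne ?_⟩
  rw [h, mul_inv_cancel_right]

/-- `C(z0) ≤ A` -/
theorem cent_le [IsSimpleGroup Suz] (h : IF A Γ) (hz : z0 ∈ A) : C1 ≤ A := by
  have := SuzI.finSuz
  obtain ⟨-, -, -, -, h5⟩ := Cfsg.Agent.H999.IFB.IF.E2' h hna hz ord_z0
  have h1 := (h5 C1 le_rfl).1
  rw [SuzSheet.index_C1] at h1
  have h2 : A.relIndex C1 ≤ 10 := by
    by_contra hlt
    push Not at hlt
    have h3 : 11 ^ 5 ≤ A.relIndex C1 ^ 5 := Nat.pow_le_pow_left hlt 5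
    norm_num at h3
    omega
  have h3 := SuzI.eq_top_of_small (X := A.subgroupOf C1) h2
  exact Subgroup.subgroupOf_eq_top.1 h3

theorem cent_conj_le [IsSimpleGroup Suz] (h : IF A Γ) {g : Suz} (hz : g * z0 * g⁻¹ ∈ A) {x : Suz}
    (hx : x * (g * z0 * g⁻¹) = (g * z0 * g⁻¹) * x) : x ∈ A := by
  obtain ⟨A', Γ', h', hA'⟩ := IF.conjg h g
  have h1 := cent_le h' ((hA' z0).2 hz)
  have h2 : g⁻¹ * x * g ∈ C1 := by
    rw [mem_C1]
    calc g⁻¹ * x * g * z0 = g⁻¹ * (x * (g * z0 * g⁻¹)) * g := by group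
      _ = g⁻¹ * ((g * z0 * g⁻¹) * x) * g := by rw [hx]
      _ = z0 * (g⁻¹ * x * g) := by group
  have h3 := (hA' _).1 (h1 h2)
  have e : g * (g⁻¹ * x * g) * g⁻¹ = x := by group
  rwa [e] at h3

/-- **`A` contains no conjugate of `z0`.** -/
theorem no_z [IsSimpleGroup Suz] (h : IF A Γ) (hz : z0 ∈ A) : False := by
  have hC : C1 ≤ A := cent_le h hz
  have hP : ∀ c : Suz, c * z0 = z0 * c → c ∈ A := fun c hc => hC (mem_C1.2 hc)
  have ha : el [.a] ∈ A := hP _ rfl
  have hc : el [.c] ∈ A := hP _ (SuzOut.comm_of (by decide +kernel))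
  have hd : el [.d] ∈ A := hP _ (SuzOut.comm_of (by decide +kernel))
  have he : el [.e] ∈ A := hP _ (SuzOut.comm_of (by decide +kernel))
  have hf : el [.f] ∈ A := hP _ (SuzOut.comm_of (by decide +kernel))
  have hg : el [.g] ∈ A := hP _ (SuzOut.comm_of (by decide +kernel))
  have hh : el h1 ∈ A := hP _ (mem_C1.1 h1_mem)
  have hcc : SuzOut.n0 * z0 * SuzOut.n0⁻¹ = el [.c] := SuzOut.n0_conj
  -- `u1 = h1 d c d⁻¹ h1⁻¹`
  set p : Suz := el h1 * (el [.d] * SuzOut.n0) with hp
  set u1 : Suz := p * z0 * p⁻¹ with hu1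
  have hu1e : u1 = el h1 * el [.d] * el [.c] * (el [.d])⁻¹ * (el h1)⁻¹ := by
    rw [hu1, hp, ← hcc]; group
  have hdz : el [.d] * z0 = z0 * el [.d] := SuzOut.comm_of (by decide +kernel)
  have hcz : el [.c] * z0 = z0 * el [.c] := SuzOut.comm_of (by decide +kernel)
  have hhz : el h1 * z0 = z0 * el h1 := mem_C1.1 h1_mem
  have hu1C : u1 ∈ C1 := by
    rw [hu1e]
    have h1' : el h1 ∈ C1 := mem_C1.2 hhz
    have h2' : el [.d] ∈ C1 := mem_C1.2 hdz
    have h3' : el [.c] ∈ C1 := mem_C1.2 hcz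
    exact C1.mul_mem (C1.mul_mem (C1.mul_mem (C1.mul_mem h1' h2') h3') (C1.inv_mem h2')) (C1.inv_mem h1')
  have hu1z : u1 * z0 = z0 * u1 := mem_C1.1 hu1C
  -- `u2 = n0 u1 n0⁻¹` commutes with `c`
  set u2 : Suz := (SuzOut.n0 * p) * z0 * (SuzOut.n0 * p)⁻¹ with hu2
  have hu2e : u2 = SuzOut.n0 * u1 * SuzOut.n0⁻¹ := by rw [hu2, hu1]; group
  have hu2A : u2 ∈ A := by
    apply cent_conj_le h (g := SuzOut.n0) (by rw [hcc]; exact hc)
    rw [hu2e]
    calc SuzOut.n0 * u1 * SuzOut.n0⁻¹ * (SuzOut.n0 * z0 * SuzOut.n0⁻¹)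
        = SuzOut.n0 * (u1 * z0) * SuzOut.n0⁻¹ := by group
      _ = SuzOut.n0 * (z0 * u1) * SuzOut.n0⁻¹ := by rw [hu1z]
      _ = _ := by group
  -- `mw z0 mw⁻¹`
  have hmw : el SuzOut.mw = (el h1 * (el [.c] * el [.d])) * (SuzOut.n0 * p) := by
    rw [SuzOut.mw, el_append, el_append, el_append, el_append, el_append, el_append]
    show _ = (el h1 * (el [.c] * el [.d])) * (el SuzOut.nw * (el h1 * (el [.d] * el SuzOut.nw)))
    group
  have hsA : el SuzOut.mw * z0 * (el SuzOut.mw)⁻¹ ∈ A := by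
    have e : el SuzOut.mw * z0 * (el SuzOut.mw)⁻¹ = (el h1 * (el [.c] * el [.d])) * u2 * (el h1 * (el [.c] * el [.d]))⁻¹ := by
      rw [hmw, hu2]; group
    rw [e]
    have h7 : el h1 * (el [.c] * el [.d]) ∈ A := A.mul_mem hh (A.mul_mem hc hd)
    exact A.mul_mem (A.mul_mem h7 hu2A) (A.inv_mem h7)
  have hb : el [.b] ∈ A := cent_conj_le h hsA SuzOut.mw_comm.symm
  apply h.ne_top
  rw [eq_top_iff, ← closure_S7, Subgroup.closure_le]
  rintro g ⟨w, hw, rfl⟩
  simp only [List.mem_cons, List.not_mem_nil, or_false] at hw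
  rcases hw with rfl | rfl | rfl | rfl | rfl | rfl | rfl
  · exact ha
  · exact hb
  · exact hc
  · exact hd
  · exact he
  · exact hf
  · exact hg

theorem no_z' [IsSimpleGroup Suz] (h : IF A Γ) (g : Suz) : g * z0 * g⁻¹ ∉ A := by
  intro hg
  obtain ⟨A', Γ', h', hA'⟩ := IF.conjg h g
  exact no_z h' ((hA' z0).2 hg)

/-! ### The class `2B` -/

/-- 43 fixed points of the involutions of `TL` -/
private def fxW : ℕ := 0x60e5fe5fc5f35e55d75d25d15c65b95b25b15a259659259158a57957857556555455354f54c52d52b5175143243222e82331a413912e0ee0e005002201000100069068f67e67565964b63e63d6205ff5e35e25d95d85c85b65af5a859058f57446e46d45137237137034c27d11e11d10b0ee0cd0cc0cb0be0900500220100010000000000000000000000000000000000000000000000000000000000000000000000000000000000000000000000000000000000000000000000000000000000005654bc44e44d3c43453443432ff2fd2ea2a025821b1e71da1d61d517615a1521320ee0e40d90b009d08007d05a05003803302e02402102001f01b01a01501200f00000000000000000000000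000000000000000000000000000000000000000000000000000000000000000000000000000000000000000000000000000000000057453851250a46344f34b34834725f25e25b21a21920c1d31aa17c15915114e14d10d0f70f20ee0bd0a708808607b07605f05605004d03103001d01c01301100b00000000000000000000000000000000000000000000000000000000000000000000000000000000000000000000000000000000000000000000000000000000055644f3c234b3483472ca2c725f25e25b2572452442271f81f21ef1aa1a51640ee0bd0a708808607c07b07607105f05705605004b04502b02a01800a00900600566f66b66365d65763f63a62f62e62861f6145ef56b56255e55d55a55955755646e46d45137237137034c27d11e11d10b0ee0cd0cc0cb0be0900500220100010005e55db5da5d25d15b95b75b25b15b05a95a259659259158a5895795785755651ac1411331320fc0ee0e50e40d90b60b10b009d08108007d05a05002201000100000000000000000000000000000000000000000000000000000000000000000000000000000000000000000000000000000000000000000000000000000000000000000000000000000000000000000000000000000000000000000000000000000000000000000000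000000000000000000000000000000000000000000000000000000000000000000000000000000000000000000000000000000000000000000000000000000000000000000000000000000000000000000000000000000000000000000000000000000000000000000000000000000000000000000000000000000000000000000000000000000000000000000000000000000000000000000000000000000000000000000000000000000000000000000000000000000000000000000000000000000000000000000000000000000000000000000000000000000000000000000000000000000000000000000000000000000000000000000000000000000000000000000000000000000000000000000000000000000000000069f69969369169068f67565964b5d95d85c85ad5a858d58858757357256f5631ac1411331320fc0ee0e50e40d90b60b10b009d08108007d05a0500220100010006b769d69c69b68c67d67366365763f63c63a63361f6146135fe5fc5f35d75c654d53a53851951250a4bf4630ee0ed0a50a407405004d03103002201c01000100000000000000000000000000000000000000000000000000000000000000000000000000000000000000000000000000000000000000000000000000000000000057946643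d3c33693653302c627321a21920c1d31ac17c15915114e14d14113310d0fc0f70f20ee0e50b60b108105002901d01901701601301100e00d00c00b0080000000000000000000000000000000000000000000000000000000000000000000000000000000000000000000000000000000000000000000000000000000005e954d53a5194bf4bc44e44d3c43c23453443432ca2c72582572442271f21a50ee0ed0a50a407c07407105705004b03802e02102001b01a01200f00a00900600500000000000000000000000000000000000000000000000000000000000000000000000000000000000000000000000000000000000000000000000000000000055646643d3c33693653302ff2fd2ea2c62a027324521b1f81ef1e71da1d61d517616415a1520ee05004503302b02a02902401f01901801701601500e00d00c00865d62f62e6285ef5ad58d58858757357256f56b56356255e55d55a55955755655455354f54c52d52b5175143243222e82331a413912e0ee0e00500220100010006276206176166155ff5ea5e95e35e25db5da5b75b65b05af5a959058f58957454d53a53851951250a4bf4630ee0ed0a50a407405004d03103002201c01000100000000000000000000000000000000000000000000000000000000000000000000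000000000000000000000000000000000000000000000000000000000000000000000000000000000000000000000000000000000000000000000000000000000000000000000000000000000000000000000000000000000000000000000000000000000000000000000000000000000000000000000000000000000000000000000000000000000000000000000000000000000000000000000000000000000000000000000000000000000000000000000000000000000000000000000000000000000000000000000000000000000000000000000000000000000000000000000000000000000000000000000000000000000000000000000000000000000000000000000000000000000000000000000000000000000000000000000000000000000000000000000000000000000000000000000000000000000000000000000000000000000000000000000000000000000000000000000000000000000000068c67d67366365765665565263f63a61f61460f5f25cd5bf5be5a059f59757f1ac1411331320fc0ee0e50e40d90b60b10b009d08108007d05a05002201000100065263e63d62060f5ff5f25e35e25cd5bf5be5b65af5a059f59759058f57f57455455354f54c52d52b5175143243222e82331a413912e0ee0e005002201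00010000000000000000000000000000000000000000000000000000000000000000000000000000000000000000000000000000000000000000000000000000000000005793c23462ca2c725d25a2592572442271f21ac1a91a81a61a51411331300fc0ee0e50b60b108508107c07507105e05d05705505105004b03c03700a00900600500000000000000000000000000000000000000000000000000000000000000000000000000000000000000000000000000000000000000000000000000000000057453851250a4633462ff2fd2ea2a025d25a25921b1e71da1d61d51a91a81a617615a1521300ee08507505e05d05505105004d03c03703303103002401f01c01500000000000000000000000000000000000000000000000000000000000000000000000000000000000000000000000000000000000000000000000000000000055a4bc44e44d3c43453443433312d32c825821a21920c1f91d317c15915114e14d10d0f70f20ee06b05004804603802e02c02102001d01b01a01301201100f00b69f69b69969169068f67565964b63c6336135fe5fc5f35d95d85d75c85c65a83312d32c82451f91f81ef1640ee06b05004804604502c02b02a0220180100010006276176166155ef5ea5e95db5da5b75b05a958956b56255e55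d55a5595575563312d32c82451f91f81ef1640ee06b05004804604502c02b02a0220180100010000000000000000000000000000000000000000000000000000000000000000000000000000000000000000000000000000000000000000000000000000000000000000000000000000000000000000000000000000000000000000000000000000000000000000000000000000000000000000000000000000000000000000000000000000000000000000000000000000000000000000000000000000000000000000000000000000000000000000000000000000000000000000000000000000000000000000000000000000000000000000000000000000000000000000000000000000000000000000000000000000000000000000000000000000000000000000000000000000000000000000000000000000000000000000000000000000000000000000000000000000000000000000000000000000000000000000000000000000000000000000000000000000000000000000000000000000000000000000000000000000000000000000000000000000000000000000000000000000000005e05d25d15b95b55b45b25b15ae5ac5a259659259158e58c58a57957857556546e46d45137237137034c27d11e11d10b0ee0cd0cc0c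b0be09005002201000100066d66c65f64f62a5e15e05b55b45ae5ad5ac58e58d58c58858757357256f56354d53a53851951250a4bf4630ee0ed0a50a407405004d03103002201c01000100000000000000000000000000000000000000000000000000000000000000000000000000000000000000000000000000000000000000000000000000000000000056544f34b3483472c525f25e25b24324223c1f11ee1aa1941601320ee0e40d90bd0b00a709d08808608007d07b07606705f05a05605004a04302d0070040030020000000000000000000000000000000000000000000000000000000000000000000000000000000000000000000000000000000000000000000000000000000005e954d53a5194bf46643d3c33693653302c62c527324324223c1f11ee1941600ee0ed0a50a407406705004a04302d02901901701600e00d00c00800700400300200000000000000000000000000000000000000000000000000000000000000000000000000000000000000000000000000000000000000000000000000000000055a3463312d32c82c525d25a25924324223c1f91f11ee1a91a81a61941601300ee08507506b06705e05d05505105004a04804604303c03702d02c00700400300265565264f62a60f5f25e15e05cd5bf5be5b55b45ae5ac5a059f59758e58c57f3312d32c82451f91f81ef1640ee06b05004804604502c02b02a022018010001000000000000000000000000000000000000000000000000000000000000000000000000000000000000000000000000000000000000000000000000000000000000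

private noncomputable def fxC (f : ℕ → ℕ) (n : ℕ) : ℕ → ℕ → Bool :=
  Nat.rec (fun _ _ => true) (fun _ ih lo W => Bool.rec false (Bool.rec false (Bool.rec false
    (ih (Nat.succ (Nat.land W 4095)) (Nat.shiftRight W 12)) (Nat.beq (f (Nat.land W 4095)) (Nat.land W 4095)))
    (Nat.ble (Nat.land W 4095) 1781)) (Nat.ble lo (Nat.land W 4095))) n

private theorem fxC_le {f : ℕ → ℕ} {S : Finset ℕ} (hS : ∀ p < 1782, f p = p → p ∈ S) (n : ℕ) :
    ∀ lo W, fxC f n lo W = true → n ≤ (S.filter fun p => lo ≤ p).card := by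
  have ra : ∀ {a b : Bool}, (Bool.rec false a b : Bool) = true → b = true ∧ a = true := fun {a b} h => by
    cases b
    · cases h
    · exact ⟨rfl, h⟩
  induction n with
  | zero => exact fun _ _ _ => Nat.zero_le _
  | succ n ih =>
    intro lo W h
    obtain ⟨h1, h⟩ := ra h
    obtain ⟨h2, h⟩ := ra h
    obtain ⟨h3, h⟩ := ra h
    have h4 := ih _ _ h
    generalize Nat.land W 4095 = p at h1 h2 h3 h4
    have h5 := Nat.le_of_ble_eq_true h1
    refine Nat.succ_le_of_lt (h4.trans_lt (Finset.card_lt_card ⟨fun q hq => ?_, fun hq => ?_⟩))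
    · rw [Finset.mem_filter] at hq ⊢
      exact ⟨hq.1, h5.trans (Nat.le_of_succ_le hq.2)⟩
    · exact Nat.not_succ_le_self p (Finset.mem_filter.1 (hq (Finset.mem_filter.2
        ⟨hS p (Nat.lt_succ_of_le (Nat.le_of_ble_eq_true h2)) (Nat.eq_of_beq_eq_true h3), h5⟩))).2

open Cfsg.Agent.SporRec.SuzCl in
private theorem chkTL : allP (fun k => or (Nat.beq k 0)
    (or (not (eqB (fun p => tev SuzTL.tsL k 0 (tev SuzTL.tsL k 0 p)) (fun p => p)))
    (fxC (tev SuzTL.tsL k 0) 43 0 (Nat.shiftRight fxW (Nat.mul 516 k))))) 6 0 = true := by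
  decide +kernel

open Cfsg.Agent.SporRec.SuzCl in
/-- **The involutions of `TL` are conjugate to `z0`.** -/
theorem TL_inv {t : Suz} (ht : t ∈ SuzTL.TL) (h2 : t * t = 1) (h1 : t ≠ 1) : ∃ g, g * z0 * g⁻¹ = t := by
  rcases two t h2 h1 with ⟨g, hg⟩ | ⟨g, hg⟩
  · exact ⟨g, by rw [SuzY.z0_eq]; exact hg⟩
  · exfalso
    obtain ⟨k, hk, rfl⟩ := exists_pr SuzTL.gsL SuzTL.pc_L t ht
    have hk' : k < 64 := hk
    have h3 := allP_spec _ 6 0 chkTL k (Nat.zero_le _) (by omega)
    simp only [Bool.or_eq_true] at h3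
    rcases h3 with h3 | h3 | h3
    · apply h1
      rw [Nat.eq_of_beq_eq_true h3]
      exact pr_zero _
    · have h4 : eqB (fun p => tev SuzTL.tsL k 0 (tev SuzTL.tsL k 0 p)) (fun p => p) = true :=
        eqB_of_eq (x := pr SuzTL.gsL k * pr SuzTL.gsL k) (y := 1)
          (fun p hp => by
            have h5 := tev_zero SuzTL.R_L k p hp
            rw [map_mul, Equiv.Perm.mul_apply, h5.1, (tev_zero SuzTL.R_L k _ h5.2).1])
          (fun p _ => by rw [map_one]; rfl) h2
      rw [h4] at h3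
      exact absurd h3 (by decide)
    · have h4 : (Fx (pr SuzTL.gsL k)).card = 42 := by
        rw [← hg, card_Fx_conj, card_Fx R_e, cntF_e]
      have h5 := (fxC_le (S := Fx (pr SuzTL.gsL k)) (fun p hp h => Finset.mem_filter.2
        ⟨Finset.mem_range.2 hp, (tev_zero SuzTL.R_L k p hp).1.trans h⟩) 43 _ _ h3).trans (Finset.card_filter_le _ _)
      rw [h4] at h5
      exact absurd h5 (by decide)

theorem index_CE : SuzTwoB.CE.index = 2779920 := by
  have h := SuzTwoB.CE.card_mul_index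
  rw [SuzTwoB.card_CE, card_Suz] at h
  omega

theorem no_e [IsSimpleGroup Suz] (h : IF A Γ) (he : SuzLFour.e0 ∈ A) : False := by
  have := SuzI.finSuz
  obtain ⟨-, -, -, -, h5⟩ := Cfsg.Agent.H999.IFB.IF.E2' h hna he ord_e0
  have hTL : SuzTL.TL ≤ SuzTwoB.CE := SuzTL.TL_le.trans Cfsg.Agent.CTwoTab.Suz.L_le_CE
  have h1 := (h5 SuzTL.TL hTL).1
  have h1' : A.relIndex SuzTL.TL ^ 5 < SuzTwoB.CE.index := h1
  rw [index_CE] at h1'
  have hne : A ⊓ SuzTL.TL ≠ ⊥ := by
    intro hbot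
    rw [relIndex_eq hbot, SuzTL.card_TL] at h1'
    norm_num at h1'
  obtain ⟨x, hxA, hxT, hx⟩ := exists_two (IsPGroup.of_card (n := 6) (by rw [SuzTL.card_TL]; norm_num)) hne
  have hx2 : x * x = 1 := by rw [← pow_two, ← hx, pow_orderOf_eq_one]
  have hx1 : x ≠ 1 := by
    rintro rfl
    rw [orderOf_one] at hx
    omega
  obtain ⟨g, hg⟩ := TL_inv hxT hx2 hx1
  exact no_z' h g (by rw [hg]; exact hxA)

theorem no_e' [IsSimpleGroup Suz] (h : IF A Γ) (g : Suz) : g * SuzLFour.e0 * g⁻¹ ∉ A := by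
  intro hg
  obtain ⟨A', Γ', h', hA'⟩ := IF.conjg h g
  exact no_e h' ((hA' _).2 hg)

/-! ### `A` of odd order -/

theorem ord_odd [IsSimpleGroup Suz] (h : IF A Γ) : ∀ t ∈ A, orderOf t ≠ 2 := by
  intro t ht h2
  have ht2 : t * t = 1 := by rw [← pow_two, ← h2, pow_orderOf_eq_one]
  have ht1 : t ≠ 1 := by
    rintro rfl
    rw [orderOf_one] at h2
    omega
  rcases Cfsg.Agent.CTwoTab.Suz.classes ht2 ht1 with hc | hc
  · obtain ⟨g, hg⟩ := isConj_iff.1 hc
    exact no_z' h g (by rw [hg]; exact ht)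
  · obtain ⟨g, hg⟩ := isConj_iff.1 hc
    exact no_e' h g (by rw [hg]; exact ht)

theorem fin_kill (h : IF A Γ) (hodd : ∀ t ∈ A, orderOf t ≠ 2) {σ β : MulAut Suz} (hσ : σ ∈ Γ) (h2 : orderOf σ = 2)
    {g : Suz} (hσe : σ = MulAut.conj g * β * (MulAut.conj g)⁻¹) {F : Subgroup Suz} (hF : ∀ x ∈ F, β x = x)
    (hc : 2 ^ 7 ∣ Nat.card F) : False := by
  have := SuzI.finSuz
  have hp : Fact (Nat.Prime 2) := ⟨Nat.prime_two⟩
  obtain ⟨K, hK⟩ := Sylow.exists_subgroup_card_pow_prime 2 (G := F) (n := 7) hc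
  set B : Subgroup Suz := (K.map F.subtype).map (MulAut.conj g).toMonoidHom with hBdef
  have hBc : Nat.card B = 2 ^ 7 := by
    rw [hBdef, ← Nat.card_congr ((K.map F.subtype).equivMapOfInjective _ (MulAut.conj g).injective).toEquiv,
      ← Nat.card_congr (K.equivMapOfInjective _ F.subtype_injective).toEquiv, hK]
  refine odd_kill h hodd hσ h2 (B := B) (IsPGroup.of_card hBc) ?_ ?_
  · rintro _ ⟨_, ⟨y, hy, rfl⟩, rfl⟩
    have h3 : β (y : Suz) = y := hF _ y.2
    show σ (g * (y : Suz) * g⁻¹) = g * (y : Suz) * g⁻¹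
    rw [hσe, MulAut.mul_apply, MulAut.mul_apply, MulAut.conj_inv_apply]
    have e : g⁻¹ * (g * (y : Suz) * g⁻¹) * g = y := by group
    rw [e, h3, MulAut.conj_apply]
  · rw [hBc, card_Suz]
    norm_num

/-- the fixed points of an automorphism -/
def Fix (β : MulAut Suz) : Subgroup Suz where
  carrier := {x | β x = x}
  one_mem' := map_one β
  mul_mem' := fun {a b} ha hb => by
    show β (a * b) = a * b
    rw [map_mul, show β a = a from ha, show β b = b from hb]
  inv_mem' := fun {a} ha => by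
    show β a⁻¹ = a⁻¹
    rw [map_inv, show β a = a from ha]

theorem kill [IsSimpleGroup Suz] (h : IF A Γ) : False := by
  have := SuzI.finSuz
  have hodd := ord_odd h
  obtain ⟨σ, hσ, h2, -⟩ := h.ex
  have hs2 : σ * σ = 1 := by rw [← pow_two, ← h2, pow_orderOf_eq_one]
  have hout : ∀ s, σ ≠ MulAut.conj s := by
    rintro s rfl
    have h3 := (h.conj s).1 hσ
    rw [Cfsg.Agent.H999.IFB.orderOf_conj hna] at h2
    exact hodd s h3 h2
  rcases SuzInvol.outer hs2 hout with ⟨g, hg⟩ | ⟨g, hg⟩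
  · refine fin_kill h hodd hσ h2 hg (F := stabL φ [1575, 0]) (fun x hx => SuzFix.rho_J hx) ?_
    rw [SuzFix.card_J]
    norm_num
  · refine fin_kill h hodd hσ h2 hg (F := Fix (SuzRho.rho * MulAut.conj (PresentedGroup.of Suz.Gen.e))) (fun x hx => hx) ?_
    have h5 : (SuzRho.rho * MulAut.conj (PresentedGroup.of Suz.Gen.e)) = SuzFix.tau := by
      have : SuzLFour.e0 = (PresentedGroup.of Suz.Gen.e : Suz) := by
        show ([Suz.Gen.e].map fun x => (PresentedGroup.of x : Suz)).prod = _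
        rw [List.map_cons, List.map_nil, List.prod_cons, List.prod_nil, mul_one]
      rw [SuzFix.tau, this]
    rw [SuzFix.card_tau (F := Fix (SuzRho.rho * MulAut.conj (PresentedGroup.of Suz.Gen.e))) (fun g => by rw [h5]; rfl)]
    norm_num

/-- **The row `Suz` of S5719.** -/
theorem suz : Row fun T => Spor.IsoSuz T := by
  refine Row.of_kill ?_
  rintro T _ _ _ - ⟨e⟩
  have hs : IsSimpleGroup Suz := (MulEquiv.isSimpleGroup_congr e).1 inferInstance
  exact Kill.congr e.symm fun A Γ h => kill h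

end Cfsg.Agent.H768.IF5.SuzR5
end

private theorem dce_bb4f9eb6e3c5 : _root_.True := by
  try have : _root_.True := by simp only [_root_.Cfsg.Agent.KFacts.SuzFix.tau.eq_1]
  exact _root_.True.intro
end

-- part: H800/IFx/Row
section
prune_inst 0x4217010612162020000048586110000a55d00059000208c0084050a400201630a0002014006801001502a220000040028130000f00240000004200400000505010888000020400008800008000084000000000000000000000000000000000004200000000
set_option linter.all false
open scoped Cfsg.Agent.FastGrp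

-- part: H800/IFx/Bor
section
/-!
# S5719: `PSL₂(q)`, the point stabiliser is a Borel subgroup (helper800)

* `kill_BB` : `A = B` is impossible: an involution of `ΓB` fixing three points of the projective line fixes at
  least `√q` points;
* `kill_borel` : `A` is isomorphic to a subgroup of `N(P)`, `P` a Sylow `p`-subgroup.
-/

set_option autoImplicit false
set_option linter.unusedSectionVars false

namespace Cfsg.Agent.H800.IFx

open Matrix Subgroup Cfsg.Agent.H209.Fxy
open Cfsg.Agent.LieClassical.SLTwoUnipotent Cfsg.Agent.ClassicalGeometry.PSL2Solvable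
open Cfsg.Agent.ClassicalGeometry.AutPSL.Root Cfsg.Agent.ClassicalGeometry.AutPSL.Auto
  Cfsg.Agent.ClassicalGeometry.AutPSL.Main

section fixed

variable {F : Type*} [Field F]

/-- the fixed field of an automorphism of order at most two -/
theorem card_fixed [Finite F] (τ : F ≃+* F) (hτ : ∀ x, τ (τ x) = x) :
    Nat.card F ≤ (Nat.card {x : F // τ x = x}) ^ 2 := by
  by_cases h : ∀ x, τ x = x
  · have h1 : Nat.card F ≤ Nat.card {x : F // τ x = x} :=
      Nat.card_le_card_of_injective (fun x => ⟨x, h x⟩) (fun x y hxy => congrArg Subtype.val hxy)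
    exact h1.trans (Nat.le_self_pow two_ne_zero _)
  · push Not at h
    obtain ⟨y, hy⟩ := h
    rw [sq, ← Nat.card_prod]
    refine Nat.card_le_card_of_injective (fun x => ((⟨x + τ x, by rw [map_add, hτ, add_comm]⟩,
      ⟨y * x + τ (y * x), by rw [map_add, hτ, add_comm]⟩) : {x : F // τ x = x} × {x : F // τ x = x})) ?_
    intro x x' hxx
    have h1 : x + τ x = x' + τ x' := congrArg (fun z => z.1.1) hxx
    have h2 : y * x + τ (y * x) = y * x' + τ (y * x') := congrArg (fun z => z.2.1) hxx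
    rw [map_mul, map_mul] at h2
    have h3 : (x - x') * (y - τ y) = 0 := by linear_combination h2 - τ y * h1
    rcases mul_eq_zero.1 h3 with h4 | h4
    · exact sub_eq_zero.1 h4
    · exact absurd (sub_eq_zero.1 h4).symm hy

end fixed

section coset

variable {T : Type*} [Group T] {A : Subgroup T}

theorem mem_fixSet {σ : MulAut T} (hσ : ∀ a ∈ A, σ a ∈ A) (y : T) :
    ((y : T ⧸ A) ∈ fixSet A σ) ↔ y⁻¹ * σ y ∈ A := by
  constructor
  · rintro ⟨z, hz, hzA⟩
    have h1 : z⁻¹ * y ∈ A := QuotientGroup.eq.1 hz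
    have h2 : y⁻¹ * σ y = (z⁻¹ * y)⁻¹ * (z⁻¹ * σ z) * σ (z⁻¹ * y) := by
      rw [map_mul, map_inv]
      group
    rw [h2]
    exact A.mul_mem (A.mul_mem (A.inv_mem h1) hzA) (hσ _ h1)
  · intro h
    exact ⟨y, rfl, h⟩

end coset

section Borel

variable {F : Type*} [Field F]

local notation "S2" => Matrix.SpecialLinearGroup (Fin 2) F
local notation "P2" => Matrix.ProjectiveSpecialLinearGroup (Fin 2) F

/-- upper triangular matrices modulo scalars -/
def BB (F : Type*) [Field F] : Subgroup (ProjectiveSpecialLinearGroup (Fin 2) F) := (borel F).map pr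

theorem mem_BB {s : S2} : (pr s : P2) ∈ BB F ↔ s 1 0 = 0 := by
  constructor
  · rintro ⟨t, ht, hts⟩
    rcases Cfsg.Agent.H947.Sy.pr_eq_iff.1 hts with h | h
    · rw [h]
      exact mem_borel_iff.1 ht
    · rw [h]
      have := mem_borel_iff.1 ht
      simp [this]
  · intro h
    exact ⟨s, mem_borel_iff.2 h, rfl⟩

/-- the point `x` of the projective line -/
def gx (x : F) : S2 := ⟨!![x, -1; 1, 0], by simp [det_fin_two]⟩

theorem coe_gx (x : F) : (gx x : Matrix (Fin 2) (Fin 2) F) = !![x, -1; 1, 0] := rfl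

theorem gx_inv_mul (x : F) (s : S2) : ((gx x)⁻¹ * s) 1 0 = -(s 0 0) + x * s 1 0 := by
  rw [Matrix.SpecialLinearGroup.coe_mul, Matrix.SpecialLinearGroup.coe_inv, Matrix.adjugate_fin_two, coe_gx]
  simp only [Matrix.mul_apply, Fin.sum_univ_two, _root_.Fin.isValue, _root_.Matrix.of_apply, _root_.Matrix.cons_val', _root_.Matrix.cons_val_one, _root_.Matrix.cons_val_fin_one, _root_.Matrix.cons_val_zero, _root_.neg_neg, _root_.neg_mul, _root_.one_mul]

theorem exists_gx (c : P2 ⧸ BB F) (hc : c ≠ ((1 : P2) : P2 ⧸ BB F)) : ∃ x : F, c = ((pr (gx x) : P2) : P2 ⧸ BB F) := by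
  induction c using QuotientGroup.induction_on with
  | H y =>
    obtain ⟨s, rfl⟩ := pr_surjective y
    have h0 : s 1 0 ≠ 0 := by
      intro h
      apply hc
      symm
      rw [QuotientGroup.eq, inv_one, one_mul]
      exact mem_BB.2 h
    refine ⟨s 0 0 / s 1 0, ?_⟩
    symm
    rw [QuotientGroup.eq, ← map_inv, ← map_mul, mem_BB, gx_inv_mul, div_mul_cancel₀ _ h0, neg_add_cancel]

theorem gx_inj {x y : F} (h : ((pr (gx x) : P2) : P2 ⧸ BB F) = ((pr (gx y) : P2) : P2 ⧸ BB F)) : x = y := by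
  rw [QuotientGroup.eq, ← map_inv, ← map_mul, mem_BB, gx_inv_mul, coe_gx] at h
  simp only [of_apply, cons_val', cons_val_zero, cons_val_fin_one, cons_val_one, mul_one] at h
  linear_combination h

theorem pr_u_inj {x y : F} (h : (pr (u x) : P2) = pr (u y)) : x = y := by
  rcases Cfsg.Agent.H947.Sy.pr_eq_iff.1 h with h1 | h1
  · have h2 := congrArg (fun s : S2 => s 0 1) h1
    simp only [coe_u] at h2
    simpa using h2.symm
  · have h2 := congrArg (fun s : S2 => s 0 1) h1
    have h3 := congrArg (fun s : S2 => s 0 0) h1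
    simp only [Matrix.SpecialLinearGroup.coe_neg, coe_u] at h2 h3
    simp at h2 h3
    rw [h2]
    linear_combination x * h3

/-- entries of `D s D⁻¹` -/
theorem cj_mul (D : GL (Fin 2) F) (s : S2) : (cj D s : Matrix (Fin 2) (Fin 2) F) * (D : Matrix (Fin 2) (Fin 2) F) =
    (D : Matrix (Fin 2) (Fin 2) F) * (s : Matrix (Fin 2) (Fin 2) F) := by
  rw [coe_cj, mul_assoc, ← Units.val_mul, inv_mul_cancel, Units.val_one, mul_one]

variable [Fintype F]

theorem kill_BB {Γ : Subgroup (MulAut P2)} (h : IF (BB F) Γ) : False := by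
  classical
  obtain ⟨p, hp⟩ := CharP.exists F
  have hfp : Fact p.Prime := ⟨(CharP.char_is_prime_or_zero F p).resolve_right (CharP.char_ne_zero_of_finite F p)⟩
  obtain ⟨β, hβ, hβ2, hβ3⟩ := h.ex
  obtain ⟨D, τ, hD⟩ := surj_two p β
  have hap : ∀ s : S2, β (pr s) = pr (cj D (fld τ s)) := fun s => by rw [hD]; rfl
  have hinv : ∀ y ∈ BB F, β y ∈ BB F := fun y hy => (h.inv β hβ y).2 hy
  obtain ⟨a, ha⟩ : ∃ a, (D : Matrix (Fin 2) (Fin 2) F) 0 0 = a := ⟨_, rfl⟩
  obtain ⟨b, hb⟩ : ∃ a, (D : Matrix (Fin 2) (Fin 2) F) 0 1 = a := ⟨_, rfl⟩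
  obtain ⟨c, hc⟩ : ∃ a, (D : Matrix (Fin 2) (Fin 2) F) 1 0 = a := ⟨_, rfl⟩
  obtain ⟨d, hd⟩ : ∃ a, (D : Matrix (Fin 2) (Fin 2) F) 1 1 = a := ⟨_, rfl⟩
  have hdet : a * d - b * c ≠ 0 := by
    have h1 : (D : Matrix (Fin 2) (Fin 2) F).det ≠ 0 := (Matrix.isUnit_iff_isUnit_det _).1 D.isUnit |>.ne_zero
    rwa [det_fin_two, ha, hb, hc, hd] at h1
  -- entries
  have hent : ∀ s : S2, ((cj D s : S2) 0 0 * a + (cj D s : S2) 0 1 * c = a * s 0 0 + b * s 1 0) ∧
      ((cj D s : S2) 0 0 * b + (cj D s : S2) 0 1 * d = a * s 0 1 + b * s 1 1) ∧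
      ((cj D s : S2) 1 0 * a + (cj D s : S2) 1 1 * c = c * s 0 0 + d * s 1 0) ∧
      ((cj D s : S2) 1 0 * b + (cj D s : S2) 1 1 * d = c * s 0 1 + d * s 1 1) := by
    intro s
    have h1 := cj_mul D s
    have h00 := congrFun (congrFun h1 0) 0
    have h01 := congrFun (congrFun h1 0) 1
    have h10 := congrFun (congrFun h1 1) 0
    have h11 := congrFun (congrFun h1 1) 1
    simp only [Matrix.mul_apply, Fin.sum_univ_two, ha, hb, hc, hd] at h00 h01 h10 h11
    exact ⟨h00, h01, h10, h11⟩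
  have hfu : ∀ x : F, fld τ (u x : S2) = u (τ x) := by
    intro x
    apply Subtype.ext
    ext i j
    rw [coe_fld_apply, coe_u, coe_u]
    (revert i j; simp only [_root_.Fin.forall_fin_succ, _root_.Matrix.of_apply, _root_.Matrix.cons_val', _root_.Matrix.cons_val_fin_one, Fin.isValue, _root_.Matrix.cons_val_zero, _root_.Matrix.cons_val_succ, _root_.forall_const, _root_.map_one, _root_.and_self, _root_.map_zero, _root_.implies_true])
  -- `D` is upper triangular
  have hc0 : c = 0 := by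
    have h1 : (pr (cj D (u 1 : S2)) : P2) ∈ BB F := by
      have h2 := hinv (pr (u 1)) (mem_BB.2 (by rw [coe_u]; simp))
      rwa [hap, hfu, map_one] at h2
    rw [mem_BB] at h1
    obtain ⟨-, -, h10, h11⟩ := hent (u 1)
    have e00 : (u 1 : S2) 0 0 = 1 := by rw [coe_u]; simp
    have e01 : (u 1 : S2) 0 1 = 1 := by rw [coe_u]; simp
    have e10 : (u 1 : S2) 1 0 = 0 := by rw [coe_u]; simp
    have e11 : (u 1 : S2) 1 1 = 1 := by rw [coe_u]; simp
    rw [h1, e00, e10] at h10
    rw [h1, e01, e11] at h11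
    by_contra hc1
    have h2 : (cj D (u 1 : S2) : S2) 1 1 = 1 := by
      have h3 : ((cj D (u 1 : S2) : S2) 1 1 - 1) * c = 0 := by linear_combination h10
      rcases mul_eq_zero.1 h3 with h4 | h4
      · exact sub_eq_zero.1 h4
      · exact absurd h4 hc1
    rw [h2] at h11
    apply hc1
    linear_combination -h11
  have ha0 : a ≠ 0 := by
    rintro rfl
    apply hdet
    rw [hc0]
    ring
  have hd0 : d ≠ 0 := by
    rintro rfl
    apply hdet
    rw [hc0]
    ring
  have hcu : ∀ y : F, cj D (u y : S2) = u (a / d * y) := by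
    intro y
    obtain ⟨h00, h01, h10, h11⟩ := hent (u y)
    have e00 : (u y : S2) 0 0 = 1 := by rw [coe_u]; simp
    have e01 : (u y : S2) 0 1 = y := by rw [coe_u]; simp
    have e10 : (u y : S2) 1 0 = 0 := by rw [coe_u]; simp
    have e11 : (u y : S2) 1 1 = 1 := by rw [coe_u]; simp
    rw [e00, e10, hc0] at h00 h10
    rw [e01, e11] at h01 h11
    have f00 : (cj D (u y : S2) : S2) 0 0 = 1 := mul_right_cancel₀ ha0 (by linear_combination h00)
    have f10 : (cj D (u y : S2) : S2) 1 0 = 0 := mul_right_cancel₀ ha0 (by linear_combination h10)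
    rw [f10] at h11
    rw [f00] at h01
    have f11 : (cj D (u y : S2) : S2) 1 1 = 1 := mul_right_cancel₀ hd0 (by linear_combination h11 + y * hc0)
    have f01 : (cj D (u y : S2) : S2) 0 1 = a / d * y := by
      rw [div_mul_eq_mul_div, eq_div_iff hd0]
      linear_combination h01
    apply Subtype.ext
    ext i j
    rw [coe_u]
    (revert i j; simp only [f00, f01, f10, f11, _root_.Fin.forall_fin_succ, _root_.Matrix.of_apply, _root_.Matrix.cons_val', _root_.Matrix.cons_val_fin_one, Fin.isValue, _root_.Matrix.cons_val_zero, _root_.Matrix.cons_val_succ, _root_.Fin.succ_zero_eq_one, _root_.IsEmpty.forall_iff, _root_.and_true, _root_.and_self])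
  have hτ : ∀ x, τ (τ x) = x := by
    have h1 : ∀ x : F, a / d * τ (a / d * τ x) = x := by
      intro x
      apply pr_u_inj
      rw [← hcu, ← hfu, ← hap, ← hcu, ← hfu, ← hap]
      have h2 : β ^ 2 = 1 := by
        have h2' := pow_orderOf_eq_one β
        rwa [hβ2] at h2'
      rw [← MulAut.mul_apply, ← sq, h2, MulAut.one_apply]
    intro x
    have h2 := h1 1
    have h3 := h1 x
    rw [map_one, mul_one] at h2
    rw [map_mul, ← mul_assoc, h2, one_mul] at h3
    exact h3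
  -- the fixed points
  have hfix : ∀ x : F, (((pr (gx x) : P2) : P2 ⧸ BB F) ∈ fixSet (BB F) β ↔ a * τ x + b = d * x) := by
    intro x
    rw [mem_fixSet hinv, hap, ← map_inv, ← map_mul, mem_BB, gx_inv_mul]
    obtain ⟨h00, -, h10, -⟩ := hent (fld τ (gx x))
    have e00 : (fld τ (gx x) : S2) 0 0 = τ x := by rw [coe_fld_apply, coe_gx]; simp
    have e10 : (fld τ (gx x) : S2) 1 0 = 1 := by rw [coe_fld_apply, coe_gx]; simp
    rw [e00, e10, hc0] at h00 h10
    constructor
    · intro h1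
      linear_combination -h00 + x * h10 - a * h1
    · intro h1
      apply mul_right_cancel₀ ha0
      linear_combination -h00 + x * h10 - h1
  -- two of them
  obtain ⟨x1, x2, hx1, hx2, hx12⟩ : ∃ x1 x2 : F, a * τ x1 + b = d * x1 ∧ a * τ x2 + b = d * x2 ∧ x1 ≠ x2 := by
    have h1 : 1 < (fixSet (BB F) β \ {((1 : P2) : P2 ⧸ BB F)}).ncard := by
      have h2 := Set.pred_ncard_le_ncard_sdiff_singleton (fixSet (BB F) β) ((1 : P2) : P2 ⧸ BB F)
      have h3 : 3 ≤ (fixSet (BB F) β).ncard := hβ3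
      omega
    obtain ⟨y, hy, z, hz, hyz⟩ := (Set.one_lt_ncard_iff (Set.toFinite _)).1 h1 |> fun ⟨y, z, hy, hz, hyz⟩ =>
      (⟨y, hy, z, hz, hyz⟩ : ∃ y, y ∈ (fixSet (BB F) β \ {((1 : P2) : P2 ⧸ BB F)}) ∧
        ∃ z, z ∈ (fixSet (BB F) β \ {((1 : P2) : P2 ⧸ BB F)}) ∧ y ≠ z)
    obtain ⟨x1, rfl⟩ := exists_gx y (fun h4 => hy.2 h4)
    obtain ⟨x2, rfl⟩ := exists_gx z (fun h4 => hz.2 h4)
    exact ⟨x1, x2, (hfix x1).1 hy.1, (hfix x2).1 hz.1, fun h4 => hyz (by rw [h4])⟩
  have hcard : Nat.card {t : F // τ t = t} ≤ fx (BB F) β := by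
    have h1 : fx (BB F) β = Nat.card (fixSet (BB F) β) := rfl
    rw [h1]
    refine Nat.card_le_card_of_injective (fun t => ⟨((pr (gx (x1 + (x1 - x2) * t.1)) : P2) : P2 ⧸ BB F),
      (hfix _).2 ?_⟩) ?_
    · rw [map_add, map_mul, map_sub, t.2]
      linear_combination hx1 + t.1 * hx1 - t.1 * hx2
    · intro t t' htt
      have h2 := gx_inj (congrArg Subtype.val htt)
      have h3 : (x1 - x2) * (t.1 - t'.1) = 0 := by linear_combination h2
      rcases mul_eq_zero.1 h3 with h4 | h4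
      · exact absurd (sub_eq_zero.1 h4) hx12
      · exact Subtype.ext (sub_eq_zero.1 h4)
  -- contradiction
  have h1 := card_fixed τ hτ
  have h2 := h.small β hβ hβ2
  have h3 : (BB F).index ≤ Nat.card F ^ 3 := by
    have h4 : (BB F).index ≤ Nat.card P2 := Nat.le_of_dvd Nat.card_pos (Subgroup.index_dvd_card _)
    have h5 : Nat.card P2 ≤ Nat.card S2 := Nat.card_le_card_of_surjective (pr : S2 → P2) pr_surjective
    have h6 := Cfsg.Agent.ClassicalGeometry.PSL2Basic.card_SL2 F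
    rw [← Nat.card_eq_fintype_card] at h6
    have h7 : Nat.card F * (Nat.card F ^ 2 - 1) ≤ Nat.card F * Nat.card F ^ 2 := Nat.mul_le_mul_left _ (Nat.sub_le _ _)
    have h8 : Nat.card F * Nat.card F ^ 2 = Nat.card F ^ 3 := by ring
    omega
  have h4 : Nat.card F ^ 3 ≤ fx (BB F) β ^ 6 := by
    calc Nat.card F ^ 3 ≤ ((Nat.card {t : F // τ t = t}) ^ 2) ^ 3 := Nat.pow_le_pow_left h1 3
      _ ≤ (fx (BB F) β ^ 2) ^ 3 := Nat.pow_le_pow_left (Nat.pow_le_pow_left hcard 2) 3
      _ = _ := by rw [← pow_mul]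
  omega

theorem kill_borel [IsSimpleGroup P2] (hna : ∃ a b : P2, a * b ≠ b * a) {p : ℕ} [Fact p.Prime] [CharP F p]
    {A : Subgroup P2} {Γ : Subgroup (MulAut P2)} (h : IF A Γ) (P : Sylow p P2) (K : Subgroup P2)
    (hK : K ≤ normalizer ((P : Subgroup P2) : Set P2)) (e : A ≃* K) : False := by
  -- `p`-elements of the normaliser
  have hPel : ∀ x ∈ normalizer ((P : Subgroup P2) : Set P2), (∃ k : ℕ, x ^ p ^ k = 1) → x ∈ (P : Subgroup P2) := by
    rintro x hx ⟨k, hk⟩
    have hz : IsPGroup p (zpowers x) := by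
      rintro ⟨y, hy⟩
      obtain ⟨j, rfl⟩ := mem_zpowers_iff.1 hy
      refine ⟨k, Subtype.ext ?_⟩
      change (x ^ j) ^ p ^ k = 1
      rw [← zpow_natCast, ← _root_.zpow_mul, mul_comm, _root_.zpow_mul, zpow_natCast, hk, _root_.one_zpow]
    have hs : IsPGroup p (zpowers x ⊔ (P : Subgroup P2) : Subgroup P2) :=
      IsPGroup.to_sup_of_normal_right' hz P.isPGroup' (by rwa [zpowers_le])
    have := P.3 hs le_sup_right
    rw [← this]
    exact le_sup_left (b := (P : Subgroup P2)) (mem_zpowers x)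
  obtain ⟨R, hRdef⟩ : ∃ R : Subgroup P2, R = (((P : Subgroup P2).subgroupOf K).comap e.toMonoidHom).map A.subtype :=
    ⟨_, rfl⟩
  have hRA : R ≤ A := by
    rw [hRdef]
    rintro _ ⟨y, -, rfl⟩
    exact y.2
  have hR2 : ∀ x ∈ A, (∃ k : ℕ, x ^ p ^ k = 1) → x ∈ R := by
    rintro x hx ⟨k, hk⟩
    rw [hRdef]
    refine ⟨⟨x, hx⟩, ?_, rfl⟩
    change (e ⟨x, hx⟩ : P2) ∈ (P : Subgroup P2)
    refine hPel _ (hK (e ⟨x, hx⟩).2) ⟨k, ?_⟩
    have h1 : (⟨x, hx⟩ : A) ^ p ^ k = 1 := Subtype.ext hk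
    have h2 : e ⟨x, hx⟩ ^ p ^ k = 1 := by rw [← map_pow, h1, map_one]
    exact congrArg Subtype.val h2
  have hR3 : ∀ x ∈ R, ∃ k : ℕ, x ^ p ^ k = 1 := by
    rw [hRdef]
    rintro _ ⟨y, hy, rfl⟩
    obtain ⟨k, hk⟩ := P.isPGroup' ⟨(e y : P2), hy⟩
    refine ⟨k, ?_⟩
    have h1 : (e y : P2) ^ p ^ k = 1 := congrArg Subtype.val hk
    have h2 : y ^ p ^ k = 1 := by
      apply e.injective
      rw [map_pow, map_one]
      exact Subtype.ext h1
    exact congrArg Subtype.val h2
  have hRinv : ∀ σ ∈ Γ, ∀ k ∈ R, σ k ∈ R := fun σ hσ k hk => by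
    obtain ⟨j, hj⟩ := hR3 k hk
    exact hR2 _ ((h.inv σ hσ k).2 (hRA hk)) ⟨j, by rw [← map_pow, hj, map_one]⟩
  by_cases hR : R = ⊥
  · -- `A` is abelian
    refine not_abel hna h fun a ha b hb => ?_
    obtain ⟨k, hk⟩ := Cfsg.Agent.H947.Sy.commutator_mem P (hK (e ⟨a, ha⟩).2) (hK (e ⟨b, hb⟩).2)
    have h1 : a * b * a⁻¹ * b⁻¹ ∈ R := by
      refine hR2 _ (A.mul_mem (A.mul_mem (A.mul_mem ha hb) (A.inv_mem ha)) (A.inv_mem hb)) ⟨k, ?_⟩
      have h2 : ((⟨a, ha⟩ : A) * ⟨b, hb⟩ * (⟨a, ha⟩ : A)⁻¹ * (⟨b, hb⟩ : A)⁻¹) ^ p ^ k = 1 := by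
        apply e.injective
        rw [map_pow, map_one, map_mul, map_mul, map_mul, map_inv, map_inv]
        exact Subtype.ext hk
      exact congrArg Subtype.val h2
    rw [hR, mem_bot] at h1
    have h2 : a * b * a⁻¹ = b := mul_inv_eq_one.1 h1
    exact mul_inv_eq_iff_eq_mul.1 h2 |>.trans rfl
  · have hRp : IsPGroup p R := by
      rintro ⟨x, hx⟩
      obtain ⟨k, hk⟩ := hR3 x hx
      exact ⟨k, Subtype.ext hk⟩
    obtain ⟨g, h1, h2⟩ := Cfsg.Agent.H947.Sy.exists_borel hR hRp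
    have hnorm : ∀ x : P2, (∀ k ∈ R, x * k * x⁻¹ ∈ R) → x ∈ A := fun x hx =>
      Cfsg.Agent.H680.Fxy.IF.norm h hRA hRinv hR hx
    have hA : ∀ x ∈ A, ∃ b ∈ borel F, x = pr (g * b * g⁻¹) := by
      intro x hx
      refine h2 x fun a ha => ?_
      obtain ⟨j, hj⟩ := hR3 a ha
      refine hR2 _ (A.mul_mem (A.mul_mem hx (hRA ha)) (A.inv_mem hx)) ⟨j, ?_⟩
      rw [conj_pow, hj, mul_one, mul_inv_cancel]
    have hU : ∀ c : F, (pr (g * u c * g⁻¹) : P2) ∈ R := by
      intro c
      refine hR2 _ (hnorm _ fun k hk => ?_) ⟨1, ?_⟩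
      · obtain ⟨c', rfl⟩ := h1 k hk
        have h3 : (pr (g * u c * g⁻¹) : P2) * pr (g * u c' * g⁻¹) * (pr (g * u c * g⁻¹))⁻¹ = pr (g * u c' * g⁻¹) := by
          rw [← map_mul, ← map_inv, ← map_mul]
          congr 1
          have h4 : g * u c * g⁻¹ * (g * u c' * g⁻¹) * (g * u c * g⁻¹)⁻¹ = g * (u c * u c' * (u c)⁻¹) * g⁻¹ := by group
          rw [h4, ← u_add, add_comm, u_add, mul_inv_cancel_right]
        rw [h3]
        exact hk
      · rw [← map_pow, pow_one, conj_pow, Cfsg.Agent.H947.Sy.u_pow, mul_one, mul_inv_cancel, map_one]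
    have hB : ∀ b ∈ borel F, (pr (g * b * g⁻¹) : P2) ∈ A := by
      intro b hb
      refine hnorm _ fun k hk => ?_
      obtain ⟨c', rfl⟩ := h1 k hk
      have h3 : b * u c' * b⁻¹ ∈ upperUnipSL F := conj_mem_upperUnipSL (mem_borel_iff.1 hb) (u_mem_upperUnipSL c')
      have h4 : (pr (g * b * g⁻¹) : P2) * pr (g * u c' * g⁻¹) * (pr (g * b * g⁻¹))⁻¹ =
          pr (g * u ((b * u c' * b⁻¹ : S2) 0 1) * g⁻¹) := by
        rw [← map_mul, ← map_inv, ← map_mul, ← eq_u_of_mem_upperUnipSL h3]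
        congr 1
        group
      rw [h4]
      exact hU _
    have hmap : A.map (MulAut.conj ((pr g : P2)⁻¹)).toMonoidHom = BB F := by
      ext y
      obtain ⟨s, rfl⟩ := pr_surjective y
      rw [mem_map_e]
      have h3 : (MulAut.conj ((pr g : P2)⁻¹)).symm (pr s) = pr (g * s * g⁻¹) := by
        rw [MulAut.conj_symm_apply, inv_inv, map_mul, map_mul, map_inv]
      rw [h3]
      constructor
      · intro h4
        obtain ⟨b, hb, h5⟩ := hA _ h4
        refine ⟨b, hb, ?_⟩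
        rw [map_mul, map_mul, map_mul, map_mul] at h5
        exact (mul_left_cancel (mul_right_cancel h5)).symm
      · intro h4
        exact hB _ (mem_borel_iff.2 (mem_BB.1 h4))
    have hIF := h.map (MulAut.conj ((pr g : P2)⁻¹))
    rw [hmap] at hIF
    exact kill_BB hIF

end Borel

end Cfsg.Agent.H800.IFx
end

-- part: H800/IFx/Cnt
section
/-!
# S5719, `PSL(2, q)`: counting (helper800)

* `num_four`, `num_sub`, `num_two` : arithmetic;
* `card_cent_ge` : centralizers of involutions of `PSL(2, q)` have order at least `q - 1`;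
* `exists_pgl`, `exists_psl`, `exists_dih` : involutions with small centralizers in the groups of Dickson's list.
-/

set_option autoImplicit false
set_option linter.unusedSectionVars false

namespace Cfsg.Agent.H800.IFx

open Matrix Cfsg Cfsg.Agent.H209.Fxy

/-! ### Arithmetic -/

theorem num_four {r n : ℕ} (hn : 729 < n) (h1 : 6 * n ≤ r * (r + 1) * (r + 2)) (h2 : r ^ 6 < 4096 * n) : False := by
  have hr : 16 ≤ r := by
    by_contra hcon
    have h3 : r ≤ 15 := by omega
    have h4 : r * (r + 1) * (r + 2) ≤ 15 * 16 * 17 := by gcongr <;> omega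
    omega
  have h3 : 6 * r ^ 6 < 4096 * (r * (r + 1) * (r + 2)) := by linarith
  have h4 : 6 * r ^ 5 < 4096 * ((r + 1) * (r + 2)) := by
    have h5 : r * (6 * r ^ 5) < r * (4096 * ((r + 1) * (r + 2))) := by
      calc r * (6 * r ^ 5) = 6 * r ^ 6 := by ring
        _ < _ := h3
        _ = _ := by ring
    exact lt_of_mul_lt_mul_left h5 (Nat.zero_le r)
  have h5 : 16 ^ 3 * r ^ 2 ≤ r ^ 5 := by
    calc 16 ^ 3 * r ^ 2 ≤ r ^ 3 * r ^ 2 := by gcongr
      _ = r ^ 5 := by ring
  nlinarith only [hr, h4, h5]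

theorem num_two {r n : ℕ} (hr : 31 ≤ r) (h1 : 6 * n ≤ r * (r + 1) * (r + 2)) (h2 : r ^ 6 < 6 ^ 6 * n) : False := by
  have h3 : 6 * r ^ 6 < 6 ^ 6 * (r * (r + 1) * (r + 2)) := by linarith
  have h4 : 6 * r ^ 5 < 6 ^ 6 * ((r + 1) * (r + 2)) := by
    have h5 : r * (6 * r ^ 5) < r * (6 ^ 6 * ((r + 1) * (r + 2))) := by
      calc r * (6 * r ^ 5) = 6 * r ^ 6 := by ring
        _ < _ := h3
        _ = _ := by ring
    exact lt_of_mul_lt_mul_left h5 (Nat.zero_le r)
  have h5 : 31 ^ 3 * r ^ 2 ≤ r ^ 5 := by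
    calc 31 ^ 3 * r ^ 2 ≤ r ^ 3 * r ^ 2 := by gcongr
      _ = r ^ 5 := by ring
  nlinarith only [hr, h4, h5]

/-- `a = d + 1`, `q = r + 1 ≥ a ^ 2` -/
theorem num_sub {r d n : ℕ} (hd : 2 ≤ d) (hn : 729 < n) (hr : d * (d + 2) ≤ r)
    (h1 : n * (d * (d + 1) * (d + 2)) ≤ r * (r + 1) * (r + 2)) (h2 : r ^ 6 < (2 * (d + 2)) ^ 6 * n) : False := by
  have hpos : 0 < d * (d + 1) * (d + 2) := by positivity
  have h3 : r ^ 6 * (d * (d + 1) * (d + 2)) < (2 * (d + 2)) ^ 6 * (r * (r + 1) * (r + 2)) := by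
    calc r ^ 6 * (d * (d + 1) * (d + 2)) < ((2 * (d + 2)) ^ 6 * n) * (d * (d + 1) * (d + 2)) :=
          Nat.mul_lt_mul_of_pos_right h2 hpos
      _ = (2 * (d + 2)) ^ 6 * (n * (d * (d + 1) * (d + 2))) := by ring
      _ ≤ _ := Nat.mul_le_mul_left _ h1
  have h4 : r ^ 5 * (d * (d + 1)) < 64 * (d + 2) ^ 5 * ((r + 1) * (r + 2)) := by
    have h5 : (r * (d + 2)) * (r ^ 5 * (d * (d + 1))) < (r * (d + 2)) * (64 * (d + 2) ^ 5 * ((r + 1) * (r + 2))) := by
      calc (r * (d + 2)) * (r ^ 5 * (d * (d + 1))) = r ^ 6 * (d * (d + 1) * (d + 2)) := by ring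
        _ < _ := h3
        _ = _ := by ring
    exact lt_of_mul_lt_mul_left h5 (Nat.zero_le _)
  have h6 : 730 * (d * (d + 1) * (d + 2)) ≤ r * (r + 1) * (r + 2) :=
    (Nat.mul_le_mul_right _ (by omega)).trans h1
  rcases Nat.lt_or_ge d 5 with hd5 | hd5
  · have hd' : d = 2 ∨ d = 3 ∨ d = 4 := by omega
    rcases hd' with rfl | rfl | rfl
    · have hr' : 25 ≤ r := by
        by_contra hcon
        have h7 : r * (r + 1) * (r + 2) ≤ 24 * 25 * 26 := by gcongr <;> omega
        omega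
      have h5 : 25 ^ 3 * r ^ 2 ≤ r ^ 5 := by
        calc 25 ^ 3 * r ^ 2 ≤ r ^ 3 * r ^ 2 := by gcongr
          _ = r ^ 5 := by ring
      norm_num at h4
      nlinarith only [hr', h5, h4]
    · have hr' : 35 ≤ r := by
        by_contra hcon
        have h7 : r * (r + 1) * (r + 2) ≤ 34 * 35 * 36 := by gcongr <;> omega
        omega
      have h5 : 35 ^ 3 * r ^ 2 ≤ r ^ 5 := by
        calc 35 ^ 3 * r ^ 2 ≤ r ^ 3 * r ^ 2 := by gcongr
          _ = r ^ 5 := by ring
      norm_num at h4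
      nlinarith only [hr', h5, h4]
    · have hr' : 44 ≤ r := by
        by_contra hcon
        have h7 : r * (r + 1) * (r + 2) ≤ 43 * 44 * 45 := by gcongr <;> omega
        omega
      have h5 : 44 ^ 3 * r ^ 2 ≤ r ^ 5 := by
        calc 44 ^ 3 * r ^ 2 ≤ r ^ 3 * r ^ 2 := by gcongr
          _ = r ^ 5 := by ring
      norm_num at h4
      nlinarith only [hr', h5, h4]
  · -- `d ≥ 5`
    have h7 : (d * (d + 2)) ^ 3 * r ^ 2 ≤ r ^ 5 := by
      calc (d * (d + 2)) ^ 3 * r ^ 2 ≤ r ^ 3 * r ^ 2 := by gcongr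
        _ = r ^ 5 := by ring
    have h8 : r ^ 2 * (d ^ 4 * (d + 1)) < 64 * (d + 2) ^ 2 * ((r + 1) * (r + 2)) := by
      have h9 : (d + 2) ^ 3 * (r ^ 2 * (d ^ 4 * (d + 1))) < (d + 2) ^ 3 * (64 * (d + 2) ^ 2 * ((r + 1) * (r + 2))) := by
        calc (d + 2) ^ 3 * (r ^ 2 * (d ^ 4 * (d + 1))) = ((d * (d + 2)) ^ 3 * r ^ 2) * (d * (d + 1)) := by ring
          _ ≤ r ^ 5 * (d * (d + 1)) := Nat.mul_le_mul_right _ h7
          _ < _ := h4
          _ = _ := by ring
      exact lt_of_mul_lt_mul_left h9 (Nat.zero_le _)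
    have hr' : 35 ≤ r := by nlinarith only [hr, hd5]
    have h9 : 1225 * ((r + 1) * (r + 2)) ≤ 1332 * r ^ 2 := by nlinarith only [hr']
    have h10 : 25 * (d + 2) ^ 2 ≤ 49 * d ^ 2 := by nlinarith only [hd5]
    have h11 : r ^ 2 * (1225 * 25 * (d ^ 4 * (d + 1))) < r ^ 2 * (64 * 49 * 1332 * d ^ 2) := by
      calc r ^ 2 * (1225 * 25 * (d ^ 4 * (d + 1))) = 1225 * 25 * (r ^ 2 * (d ^ 4 * (d + 1))) := by ring
        _ < 1225 * 25 * (64 * (d + 2) ^ 2 * ((r + 1) * (r + 2))) := Nat.mul_lt_mul_of_pos_left h8 (by norm_num)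
        _ = 64 * (25 * (d + 2) ^ 2) * (1225 * ((r + 1) * (r + 2))) := by ring
        _ ≤ 64 * (49 * d ^ 2) * (1332 * r ^ 2) := by gcongr
        _ = _ := by ring
    have h12 : 1225 * 25 * (d ^ 4 * (d + 1)) < 64 * 49 * 1332 * d ^ 2 := lt_of_mul_lt_mul_left h11 (Nat.zero_le _)
    have h13 : 5 ^ 2 * d ^ 2 * (5 + 1) ≤ d ^ 4 * (d + 1) := by
      calc 5 ^ 2 * d ^ 2 * (5 + 1) ≤ d ^ 2 * d ^ 2 * (d + 1) := by gcongr
        _ = _ := by ring
    have h14 : 0 < d ^ 2 := by positivity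
    omega

/-! ### Centralizers -/

/-- the element `w` -/
def wS (K : Type*) [Field K] : _root_.Matrix.SpecialLinearGroup (Fin 2) K := ⟨!![0, 1; -1, 0], by simp [det_fin_two]⟩

theorem coe_wS (K : Type*) [Field K] : (wS K : Matrix (Fin 2) (Fin 2) K) = !![0, 1; -1, 0] := rfl

section pgl

variable (K : Type*) [Field K] [Fintype K]

/-- the class of `w` in `PGL(2, K)` -/
def wP : ProjGenLinGroup (Fin 2) K := ProjectiveSpecialLinearGroup.toPGL (QuotientGroup.mk (wS K))

variable {K}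

theorem shape {g : GL (Fin 2) K} (hg : ProjGenLinGroup.mk g * wP K = wP K * ProjGenLinGroup.mk g) :
    ((g 0 0 : K), (g 0 1 : K)) ≠ 0 ∧ ((g 1 1 = g 0 0 ∧ g 1 0 = - g 0 1) ∨ (g 1 1 = - g 0 0 ∧ g 1 0 = g 0 1)) := by
  have h1 : (QuotientGroup.mk (g * SpecialLinearGroup.toGL (wS K)) : GL (Fin 2) K ⧸ Subgroup.center (GL (Fin 2) K)) =
      QuotientGroup.mk (SpecialLinearGroup.toGL (wS K) * g) := hg
  rw [QuotientGroup.eq, GeneralLinearGroup.center_eq_range_scalar] at h1
  obtain ⟨c, hc⟩ := h1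
  have h2 : g * SpecialLinearGroup.toGL (wS K) * GeneralLinearGroup.scalar (Fin 2) c =
      SpecialLinearGroup.toGL (wS K) * g := by
    rw [hc]; group
  have h3 : (g : Matrix (Fin 2) (Fin 2) K) * !![0, 1; -1, 0] * scalar (Fin 2) (c : K) =
      !![0, 1; -1, 0] * (g : Matrix (Fin 2) (Fin 2) K) := congrArg (fun x : GL (Fin 2) K => (x : Matrix (Fin 2) (Fin 2) K)) h2
  have e00 : -(g 0 1 * c) = g 1 0 := by
    have := congrFun (congrFun h3 0) 0
    simpa only [Matrix.mul_apply, Fin.sum_univ_two, Matrix.scalar_apply, Matrix.diagonal, _root_.Fin.isValue, _root_.Matrix.of_apply, _root_.Matrix.cons_val', _root_.Matrix.cons_val_fin_one, _root_.Matrix.cons_val_zero, _root_.Matrix.cons_val_one, _root_.mul_ite, _root_.MulZeroClass.mul_zero, _root_.Finset.sum_ite_eq', _root_.Finset.mem_univ, ↓ _root_.reduceIte, _root_.mul_neg, _root_.mul_one, _root_.zero_add, _root_.neg_mul, _root_.MulZeroClass.zero_mul, _root_.one_mul] using this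
  have e01 : g 0 0 * c = g 1 1 := by
    have := congrFun (congrFun h3 0) 1
    simpa only [Matrix.mul_apply, Fin.sum_univ_two, Matrix.scalar_apply, Matrix.diagonal, _root_.Fin.isValue, _root_.Matrix.of_apply, _root_.Matrix.cons_val', _root_.Matrix.cons_val_fin_one, _root_.Matrix.cons_val_zero, _root_.Matrix.cons_val_one, _root_.mul_ite, _root_.MulZeroClass.mul_zero, _root_.Finset.sum_ite_eq', _root_.Finset.mem_univ, ↓ _root_.reduceIte, _root_.mul_one, _root_.add_zero, _root_.MulZeroClass.zero_mul, _root_.one_mul, _root_.zero_add] using this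
  have e10 : g 1 1 * c = g 0 0 := by
    have := congrFun (congrFun h3 1) 0
    simpa only [Matrix.mul_apply, Fin.sum_univ_two, Matrix.scalar_apply, Matrix.diagonal, _root_.Fin.isValue, _root_.Matrix.of_apply, _root_.Matrix.cons_val', _root_.Matrix.cons_val_fin_one, _root_.Matrix.cons_val_zero, _root_.Matrix.cons_val_one, _root_.mul_ite, _root_.MulZeroClass.mul_zero, _root_.Finset.sum_ite_eq', _root_.Finset.mem_univ, ↓ _root_.reduceIte, _root_.mul_neg, _root_.mul_one, _root_.zero_add, _root_.neg_mul, _root_.one_mul, _root_.MulZeroClass.zero_mul, _root_.add_zero, _root_.neg_inj] using this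
  have e11 : g 1 0 * c = - g 0 1 := by
    have := congrFun (congrFun h3 1) 1
    simpa only [Matrix.mul_apply, Fin.sum_univ_two, Matrix.scalar_apply, Matrix.diagonal, _root_.Fin.isValue, _root_.Matrix.of_apply, _root_.Matrix.cons_val', _root_.Matrix.cons_val_fin_one, _root_.Matrix.cons_val_zero, _root_.Matrix.cons_val_one, _root_.mul_ite, _root_.MulZeroClass.mul_zero, _root_.Finset.sum_ite_eq', _root_.Finset.mem_univ, ↓ _root_.reduceIte, _root_.mul_one, _root_.add_zero, _root_.neg_mul, _root_.one_mul, _root_.MulZeroClass.zero_mul] using this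
  have hdet : g 0 0 * g 1 1 - g 0 1 * g 1 0 ≠ 0 := by
    have h4 : IsUnit (Matrix.det (g : Matrix (Fin 2) (Fin 2) K)) := (Matrix.isUnit_iff_isUnit_det _).1 g.isUnit
    rw [det_fin_two] at h4
    exact h4.ne_zero
  have hne : ((g 0 0 : K), (g 0 1 : K)) ≠ 0 := by
    intro h0
    have h5 : g 0 0 = 0 := congrArg Prod.fst h0
    have h6 : g 0 1 = 0 := congrArg Prod.snd h0
    apply hdet
    rw [h5, h6]; ring
  refine ⟨hne, ?_⟩
  have hc2 : ((c : K) - 1) * (c + 1) = 0 := by
    by_cases h5 : g 0 0 = 0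
    · have h6 : g 0 1 ≠ 0 := fun h6 => hne (Prod.ext h5 h6)
      have : g 0 1 * (((c : K) - 1) * (c + 1)) = 0 := by linear_combination (-(c : K)) * e00 - e11
      exact (mul_eq_zero.1 this).resolve_left h6
    · have : g 0 0 * (((c : K) - 1) * (c + 1)) = 0 := by linear_combination (c : K) * e01 + e10
      exact (mul_eq_zero.1 this).resolve_left h5
  rcases mul_eq_zero.1 hc2 with h5 | h5
  · left
    have h6 : (c : K) = 1 := sub_eq_zero.1 h5
    rw [h6, mul_one] at e00 e01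
    exact ⟨e01.symm, e00.symm⟩
  · right
    have h6 : (c : K) = -1 := eq_neg_of_add_eq_zero_left h5
    rw [h6] at e00 e01
    exact ⟨by rw [← e01]; ring, by rw [← e00]; ring⟩

theorem card_cent_pgl : Nat.card (Subgroup.centralizer ({wP K} : Set (ProjGenLinGroup (Fin 2) K))) ≤
    2 * (Fintype.card K + 1) := by
  classical
  set C := Subgroup.centralizer ({wP K} : Set (ProjGenLinGroup (Fin 2) K)) with hC
  have h1 : Nat.card (C.comap (QuotientGroup.mk' (Subgroup.center (GL (Fin 2) K)))) =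
      Nat.card C * Nat.card (Subgroup.center (GL (Fin 2) K)) :=
    Cfsg.Agent.Lib.SolvableNormalP.card_comap_mk (Subgroup.center (GL (Fin 2) K)) C
  have hZ : Nat.card (Subgroup.center (GL (Fin 2) K)) = Fintype.card K - 1 := by
    have hinj : Function.Injective (GeneralLinearGroup.scalar (Fin 2) : Kˣ →* GL (Fin 2) K) := by
      intro x y hxy
      have h := congrFun (congrFun (congrArg (fun g : GL (Fin 2) K => (g : Matrix (Fin 2) (Fin 2) K)) hxy) 0) 0
      simp only [GeneralLinearGroup.coe_scalar, scalar_apply, diagonal_apply_eq] at h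
      exact Units.ext h
    rw [GeneralLinearGroup.center_eq_range_scalar,
      ← Nat.card_congr (MonoidHom.ofInjective hinj).toEquiv, Nat.card_eq_fintype_card, Fintype.card_units]
  let f : (C.comap (QuotientGroup.mk' (Subgroup.center (GL (Fin 2) K)))) → Bool × {x : K × K // x ≠ 0} := fun g =>
    (decide ((g : GL (Fin 2) K) 1 1 = (g : GL (Fin 2) K) 0 0 ∧ (g : GL (Fin 2) K) 1 0 = - (g : GL (Fin 2) K) 0 1),
      ⟨((g : GL (Fin 2) K) 0 0, (g : GL (Fin 2) K) 0 1), (shape (Subgroup.mem_centralizer_singleton_iff.1 g.2)).1⟩)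
  have hf : Function.Injective f := by
    intro g g' hgg
    have s := (shape (Subgroup.mem_centralizer_singleton_iff.1 g.2)).2
    have s' := (shape (Subgroup.mem_centralizer_singleton_iff.1 g'.2)).2
    have h2 := congrArg Prod.fst hgg
    have h3 := congrArg (fun x => (Prod.snd x).1.1) hgg
    have h4 := congrArg (fun x => (Prod.snd x).1.2) hgg
    change (g : GL (Fin 2) K) 0 0 = (g' : GL (Fin 2) K) 0 0 at h3
    change (g : GL (Fin 2) K) 0 1 = (g' : GL (Fin 2) K) 0 1 at h4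
    have h5 : ((g : GL (Fin 2) K) 1 1 = (g : GL (Fin 2) K) 0 0 ∧ (g : GL (Fin 2) K) 1 0 = - (g : GL (Fin 2) K) 0 1) ↔
        ((g' : GL (Fin 2) K) 1 1 = (g' : GL (Fin 2) K) 0 0 ∧ (g' : GL (Fin 2) K) 1 0 = - (g' : GL (Fin 2) K) 0 1) :=
      decide_eq_decide.1 h2
    have h6 : (g : GL (Fin 2) K) 1 1 = (g' : GL (Fin 2) K) 1 1 ∧ (g : GL (Fin 2) K) 1 0 = (g' : GL (Fin 2) K) 1 0 := by
      by_cases h7 : (g : GL (Fin 2) K) 1 1 = (g : GL (Fin 2) K) 0 0 ∧ (g : GL (Fin 2) K) 1 0 = - (g : GL (Fin 2) K) 0 1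
      · have h8 := h5.1 h7
        rw [h7.1, h7.2, h8.1, h8.2, h3, h4]
        exact ⟨rfl, rfl⟩
      · have h8 := s.resolve_left h7
        have h9 := s'.resolve_left fun h9 => h7 (h5.2 h9)
        rw [h8.1, h8.2, h9.1, h9.2, h3, h4]
        exact ⟨rfl, rfl⟩
    apply Subtype.ext
    apply Units.ext
    ext i j
    fin_cases i <;> fin_cases j
    · exact h3
    · exact h4
    · exact h6.2
    · exact h6.1
  have h2 := Nat.card_le_card_of_injective f hf
  have h3 : Nat.card (Bool × {x : K × K // x ≠ 0}) = 2 * (Fintype.card K ^ 2 - 1) := by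
    have h4 : Fintype.card {x : K × K // x ≠ 0} = Fintype.card K ^ 2 - 1 := by
      rw [Fintype.card_subtype_compl (fun x : K × K => x = 0), Fintype.card_prod, Fintype.card_subtype_eq, pow_two]
    rw [Nat.card_prod, Nat.card_eq_fintype_card, Fintype.card_bool, Nat.card_eq_fintype_card, h4]
  rw [h3, h1, hZ] at h2
  have hq : 1 < Fintype.card K := Fintype.one_lt_card
  obtain ⟨r, hr⟩ : ∃ r, Fintype.card K = r + 1 := ⟨Fintype.card K - 1, by omega⟩
  rw [hr] at h2 hq ⊢
  have h4 : (r + 1) ^ 2 - 1 = (r + 2) * r := by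
    rw [Nat.sub_eq_iff_eq_add (Nat.one_le_pow _ _ (by omega))]
    ring
  rw [h4, Nat.add_sub_cancel, ← mul_assoc] at h2
  exact Nat.le_of_mul_le_mul_right h2 (by omega)

theorem wP_sq : orderOf (wP K) = 2 := by
  have : Fact (Nat.Prime 2) := ⟨Nat.prime_two⟩
  refine orderOf_eq_prime ?_ ?_
  · rw [wP, ← map_pow, ← QuotientGroup.mk_pow]
    have h1 : (QuotientGroup.mk (wS K ^ 2) : ProjectiveSpecialLinearGroup (Fin 2) K) = 1 := by
      rw [QuotientGroup.eq_one_iff, Matrix.SpecialLinearGroup.mem_center_iff]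
      refine ⟨-1, by simp only [_root_.Fintype.card_fin, _root_.even_two, _root_.Even.neg_pow, _root_.one_pow], ?_⟩
      ext i j
      have h2 : ((wS K ^ 2 : _root_.Matrix.SpecialLinearGroup (Fin 2) K) : Matrix (Fin 2) (Fin 2) K) = !![0, 1; -1, 0] * !![0, 1; -1, 0] := by
        rw [pow_two]; rfl
      change scalar (Fin 2) (-1 : K) i j = ((wS K ^ 2 : _root_.Matrix.SpecialLinearGroup (Fin 2) K) : Matrix (Fin 2) (Fin 2) K) i j
      rw [h2]
      (revert i j; simp only [Matrix.mul_apply, Fin.sum_univ_two, _root_.Fin.forall_fin_succ, _root_.Matrix.scalar_apply, _root_.Matrix.of_apply, _root_.Matrix.cons_val', _root_.Matrix.cons_val_fin_one, Fin.isValue, _root_.Matrix.cons_val_zero, _root_.Matrix.cons_val_one, _root_.MulZeroClass.mul_zero, _root_.mul_neg, _root_.mul_one, _root_.zero_add, _root_.Matrix.cons_val_succ, _root_.add_zero, _root_.Fin.succ_zero_eq_one, _root_.IsEmpty.forall_iff, _root_.and_true, _root_.Matrix.diagonal_apply_eq, _root_.ne_eq,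 _root_.zero_ne_one, _root_.not_false_eq_true, _root_.Matrix.diagonal_apply_ne, _root_.and_self, _root_.Fin.succ_ne_zero, _root_.neg_zero, _root_.true_and])
    rw [h1, map_one]
  · intro h1
    have h2 : (QuotientGroup.mk (wS K) : ProjectiveSpecialLinearGroup (Fin 2) K) = 1 :=
      ProjectiveSpecialLinearGroup.toPGL_injective (by rw [map_one]; exact h1)
    rw [QuotientGroup.eq_one_iff, Matrix.SpecialLinearGroup.mem_center_iff] at h2
    obtain ⟨r, -, hr⟩ := h2
    have h3 := congrFun (congrFun hr 0) 1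
    rw [coe_wS] at h3
    simp at h3

theorem card_cent_le_of_injective {B C : Type*} [Group B] [Group C] [Finite C] (f : B →* C) (hf : Function.Injective f)
    (s : B) : Nat.card (Subgroup.centralizer ({s} : Set B)) ≤ Nat.card (Subgroup.centralizer ({f s} : Set C)) := by
  refine Nat.card_le_card_of_injective (fun x => (⟨f x, ?_⟩ : Subgroup.centralizer ({f s} : Set C))) ?_
  · have h1 := Subgroup.mem_centralizer_singleton_iff.1 x.2
    rw [Subgroup.mem_centralizer_singleton_iff, ← map_mul, ← map_mul, h1]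
  · intro x y hxy
    exact Subtype.ext (hf (congrArg Subtype.val hxy))

theorem exists_psl : ∃ s : ProjectiveSpecialLinearGroup (Fin 2) K, orderOf s = 2 ∧
    Nat.card (Subgroup.centralizer ({s} : Set (ProjectiveSpecialLinearGroup (Fin 2) K))) ≤ 2 * (Fintype.card K + 1) := by
  have hfin : Finite (ProjGenLinGroup (Fin 2) K) := Quotient.finite _
  refine ⟨QuotientGroup.mk (wS K), ?_, ?_⟩
  · rw [← orderOf_injective _ ProjectiveSpecialLinearGroup.toPGL_injective]
    exact wP_sq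
  · exact (card_cent_le_of_injective _ ProjectiveSpecialLinearGroup.toPGL_injective _).trans card_cent_pgl

end pgl

end Cfsg.Agent.H800.IFx
end

-- part: H800/IFx/Row
section
/-!
# S5719: the row `PSL₂(q)` (helper800)

`kill_psl_two` : no counterexample to the statement on involution fixity has socle `PSL₂(q)`, `q ≥ 4`.

* the point stabiliser `A` in the socle is a subgroup of Dickson's list (S0799);
* cyclic: `not_abel`; a subgroup of a Borel subgroup: `kill_borel`;
* otherwise an involution `t ∈ A` with `|C_T(t)| ≥ q - 1` and small `|C_A(t)|` fixes too many points.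
-/

set_option autoImplicit false
set_option linter.unusedSectionVars false

namespace Cfsg.Agent.H800.IFx

open Matrix Subgroup Cfsg.Agent.H209.Fxy
open Cfsg.Agent.LieClassical.SLTwoUnipotent
open Cfsg.Agent.ClassicalGeometry.AutPSL.Root

/-! ### Small groups -/

theorem dihedral_comm {k : ℕ} (hk : k = 1 ∨ k = 2) (a b : DihedralGroup k) : a * b = b * a := by
  rcases hk with rfl | rfl
  · rcases a with i | i <;> rcases b with j | j <;> revert i j <;> decide
  · rcases a with i | i <;> rcases b with j | j <;> revert i j <;> decide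

theorem dihedral_cent {k : ℕ} (hk : 0 < k) :
    Nat.card (Subgroup.centralizer ({DihedralGroup.sr 0} : Set (DihedralGroup k))) ≤ 4 := by
  classical
  have hk0 : NeZero k := ⟨hk.ne'⟩
  have h1 : Nat.card {i : ZMod k // 2 • i = 0} ≤ 2 := by
    rw [Nat.card_eq_fintype_card, Fintype.card_subtype]
    exact IsAddCyclic.card_nsmul_eq_zero_le (by norm_num)
  have h2 : Nat.card ({i : ZMod k // 2 • i = 0} ⊕ {i : ZMod k // 2 • i = 0}) ≤ 4 := by
    rw [Nat.card_sum]
    omega
  refine le_trans ?_ h2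
  have h3 : ∀ i : ZMod k, DihedralGroup.r i * DihedralGroup.sr 0 = DihedralGroup.sr 0 * DihedralGroup.r i →
      2 • i = 0 := by
    intro i hi
    rw [DihedralGroup.r_mul_sr, DihedralGroup.sr_mul_r] at hi
    have h4 : (0 : ZMod k) - i = 0 + i := DihedralGroup.sr.inj hi
    rw [two_nsmul]
    linear_combination -h4
  have h3' : ∀ i : ZMod k, DihedralGroup.sr i * DihedralGroup.sr 0 = DihedralGroup.sr 0 * DihedralGroup.sr i →
      2 • i = 0 := by
    intro i hi
    rw [DihedralGroup.sr_mul_sr, DihedralGroup.sr_mul_sr] at hi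
    have h4 : (0 : ZMod k) - i = i - 0 := DihedralGroup.r.inj hi
    rw [two_nsmul]
    linear_combination -h4
  refine Nat.card_le_card_of_injective (fun x : Subgroup.centralizer ({DihedralGroup.sr 0} : Set (DihedralGroup k)) =>
    match x with
    | ⟨DihedralGroup.r i, hx⟩ => Sum.inl ⟨i, h3 i (Subgroup.mem_centralizer_singleton_iff.1 hx)⟩
    | ⟨DihedralGroup.sr i, hx⟩ => Sum.inr ⟨i, h3' i (Subgroup.mem_centralizer_singleton_iff.1 hx)⟩) ?_
  rintro ⟨i | i, hi⟩ ⟨j | j, hj⟩ hij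
  · have h5 := congrArg Subtype.val (Sum.inl.inj hij)
    exact Subtype.ext (congrArg DihedralGroup.r h5)
  · exact absurd hij Sum.inl_ne_inr
  · exact absurd hij Sum.inr_ne_inl
  · have h5 := congrArg Subtype.val (Sum.inr.inj hij)
    exact Subtype.ext (congrArg DihedralGroup.sr h5)

theorem cent_s4 : ∃ s : Equiv.Perm (Fin 4), orderOf s = 2 ∧
    Nat.card (Subgroup.centralizer ({s} : Set (Equiv.Perm (Fin 4)))) ≤ 4 := by
  refine ⟨Equiv.swap 0 1, orderOf_eq_prime (by decide) (by decide), ?_⟩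
  have h1 : Nat.card (Subgroup.centralizer ({Equiv.swap 0 1} : Set (Equiv.Perm (Fin 4)))) =
      Nat.card {x : Equiv.Perm (Fin 4) // x * Equiv.swap 0 1 = Equiv.swap 0 1 * x} :=
    Nat.card_congr (Equiv.subtypeEquivRight fun x => Subgroup.mem_centralizer_singleton_iff)
  rw [h1, Nat.card_eq_fintype_card]
  decide +kernel

/-- `(01)(23)` -/
def tA4 : alternatingGroup (Fin 4) :=
  ⟨Equiv.swap 0 1 * Equiv.swap 2 3, Equiv.Perm.mem_alternatingGroup.2 (by decide)⟩

theorem cent_a4 : ∃ s : alternatingGroup (Fin 4), orderOf s = 2 ∧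
    Nat.card (Subgroup.centralizer ({s} : Set (alternatingGroup (Fin 4)))) ≤ 4 := by
  refine ⟨tA4, orderOf_eq_prime (by decide) (by decide), ?_⟩
  have h1 : Nat.card (Subgroup.centralizer ({tA4} :
      Set (alternatingGroup (Fin 4)))) =
      Nat.card {x : alternatingGroup (Fin 4) // x * tA4 =
        tA4 * x} :=
    Nat.card_congr (Equiv.subtypeEquivRight fun x => Subgroup.mem_centralizer_singleton_iff)
  rw [h1, Nat.card_eq_fintype_card]
  (set_option synthInstance.maxSize 9000 in open scoped Cfsg.Agent.Lib.FastPerm in decide +kernel)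

/-- `(01)(23)` -/
def tA5 : alternatingGroup (Fin 5) :=
  ⟨Equiv.swap 0 1 * Equiv.swap 2 3, Equiv.Perm.mem_alternatingGroup.2 (by decide)⟩

theorem cent_a5 : ∃ s : alternatingGroup (Fin 5), orderOf s = 2 ∧
    Nat.card (Subgroup.centralizer ({s} : Set (alternatingGroup (Fin 5)))) ≤ 4 := by
  refine ⟨tA5, orderOf_eq_prime (by decide) (by decide), ?_⟩
  have h1 : Nat.card (Subgroup.centralizer ({tA5} :
      Set (alternatingGroup (Fin 5)))) =
      Nat.card {x : alternatingGroup (Fin 5) // x * tA5 =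
        tA5 * x} :=
    Nat.card_congr (Equiv.subtypeEquivRight fun x => Subgroup.mem_centralizer_singleton_iff)
  rw [h1, Nat.card_eq_fintype_card]
  (set_option synthInstance.maxSize 9000 in open scoped Cfsg.Agent.Lib.FastPerm in decide +kernel)

section

variable {F : Type*} [Field F]

local notation "S2" => Matrix.SpecialLinearGroup (Fin 2) F
local notation "P2" => Matrix.ProjectiveSpecialLinearGroup (Fin 2) F

variable [Fintype F]

/-- centralizers of involutions of `PSL₂(q)` have order at least `q - 1` -/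
theorem card_cent_ge {t : P2} (ht : orderOf t = 2) :
    Fintype.card F - 1 ≤ Nat.card (Subgroup.centralizer ({t} : Set P2)) := by
  rcases Nat.even_or_odd (Fintype.card F) with hev | hodd
  · have h2 : (2 : F) = 0 := by
      by_contra h
      exact (Nat.not_even_iff_odd.2 ((Cfsg.Agent.ClassicalGeometry.PSL2Basic.two_ne_zero_iff_odd F).1 h)) hev
    have hch : CharP F 2 := CharTwo.of_one_ne_zero_of_two_eq_zero one_ne_zero h2
    have hf2 : Fact (Nat.Prime 2) := ⟨Nat.prime_two⟩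
    have hQp : IsPGroup 2 (zpowers t) := by
      rw [IsPGroup.iff_card]
      exact ⟨1, by rw [Nat.card_zpowers, ht, pow_one]⟩
    have hQ : zpowers t ≠ ⊥ := by
      rw [Ne, zpowers_eq_bot]
      rintro rfl
      rw [orderOf_one] at ht
      omega
    obtain ⟨g, h1, -⟩ := Cfsg.Agent.H947.Sy.exists_borel hQ hQp
    obtain ⟨c, hc⟩ := h1 t (mem_zpowers t)
    have h3 : Nat.card F ≤ Nat.card (Subgroup.centralizer ({t} : Set P2)) := by
      refine Nat.card_le_card_of_injective (fun y => ⟨pr (g * u y * g⁻¹), ?_⟩) ?_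
      · rw [Subgroup.mem_centralizer_singleton_iff, hc, ← map_mul, ← map_mul]
        congr 1
        have h4 : g * u y * g⁻¹ * (g * u c * g⁻¹) = g * (u y * u c) * g⁻¹ := by group
        have h5 : g * u c * g⁻¹ * (g * u y * g⁻¹) = g * (u c * u y) * g⁻¹ := by group
        rw [h4, h5, ← u_add, ← u_add, add_comm]
      · intro x y hxy
        have h4 : (pr (g * u x * g⁻¹) : P2) = pr (g * u y * g⁻¹) := congrArg Subtype.val hxy
        rw [map_mul, map_mul, map_mul, map_mul] at h4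
        exact pr_u_inj (mul_left_cancel (mul_right_cancel h4))
    rw [Nat.card_eq_fintype_card] at h3
    omega
  · rw [Cfsg.Agent.TwoFusion.PSLTwoGood.card_centralizer hodd ht]
    have h4 : Fintype.card F % 4 = 1 ∨ Fintype.card F % 4 = 3 := by
      rw [Nat.odd_iff] at hodd
      omega
    rcases h4 with h4 | h4
    · rw [Cfsg.Agent.ClassicalGeometry.SLTwoFour.card_circle_one h4]
    · rw [Cfsg.Agent.ClassicalGeometry.SLTwoFour.card_circle_three h4]
      omega

/-- `|T| (2, q-1) = (q-1) q (q+1)` -/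
theorem card_T : Nat.card P2 * Nat.gcd 2 (Fintype.card F - 1) =
    (Fintype.card F - 1) * (Fintype.card F - 1 + 1) * (Fintype.card F - 1 + 2) := by
  rw [Cfsg.Agent.ClassicalGeometry.PSL2Basic.card_PSL2_gcd]
  have h1 : 1 ≤ Fintype.card F := Fintype.card_pos
  obtain ⟨r, hr⟩ := Nat.exists_eq_add_of_le' h1
  rw [hr, Nat.add_sub_cancel]
  have h2 : (r + 1) ^ 2 - 1 = r * (r + 2) := by
    have : (r + 1) ^ 2 = r * (r + 2) + 1 := by ring
    omega
  rw [h2]
  ring

variable [IsSimpleGroup (ProjectiveSpecialLinearGroup (Fin 2) F)]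
  {A : Subgroup (ProjectiveSpecialLinearGroup (Fin 2) F)} {Γ : Subgroup (MulAut (ProjectiveSpecialLinearGroup (Fin 2) F))}

theorem bound (hna : ∃ a b : P2, a * b ≠ b * a) (h : IF A Γ) {B : Type*} [Group B] (e : A ≃* B) (s : B)
    (hs : orderOf s = 2) {c : ℕ} (hc : Nat.card (Subgroup.centralizer ({s} : Set B)) ≤ c) :
    (Fintype.card F - 1) ^ 6 < c ^ 6 * A.index := by
  have ht2 : orderOf ((e.symm s : A) : P2) = 2 := by
    rw [orderOf_coe, MulEquiv.orderOf_eq, hs]
  have h1 := cent_bound (Cfsg.Agent.H999.IFB.orderOf_conj hna) h (e.symm s).2 ht2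
  have h2 := card_cent_equiv e (e.symm s).2
  have h3 : e ⟨((e.symm s : A) : P2), (e.symm s).2⟩ = s := e.apply_symm_apply s
  rw [h3] at h2
  rw [h2] at h1
  calc (Fintype.card F - 1) ^ 6 ≤ Nat.card (Subgroup.centralizer ({((e.symm s : A) : P2)} : Set P2)) ^ 6 :=
        Nat.pow_le_pow_left (card_cent_ge ht2) 6
    _ < _ := h1
    _ ≤ A.index * c ^ 6 := Nat.mul_le_mul_left _ (Nat.pow_le_pow_left hc 6)
    _ = _ := mul_comm _ _

theorem kill_four (hna : ∃ a b : P2, a * b ≠ b * a) (h : IF A Γ) {B : Type*} [Group B] (e : A ≃* B)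
    (hB : 6 ≤ Nat.card B) (s : B)
    (hs : orderOf s = 2) (hc : Nat.card (Subgroup.centralizer ({s} : Set B)) ≤ 4) : False := by
  have h1 := bound hna h e s hs hc
  have h2 : Nat.card A = Nat.card B := Nat.card_congr e.toEquiv
  have h3 := A.index_mul_card
  have h4 := card_T (F := F)
  have h5 : 0 < Nat.gcd 2 (Fintype.card F - 1) := Nat.gcd_pos_of_pos_left _ (by norm_num)
  refine num_four h.big ?_ h1
  rw [← h4, ← h3, h2]
  calc 6 * A.index = A.index * 6 * 1 := by ring
    _ ≤ A.index * Nat.card B * Nat.gcd 2 (Fintype.card F - 1) := by gcongr; omega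

theorem kill_sub (hna : ∃ a b : P2, a * b ≠ b * a) (h : IF A Γ) {B : Type*} [Group B] (e : A ≃* B) {a m : ℕ}
    (ha : 2 ≤ a) (ham : a ^ m = Fintype.card F)
    (hcard : A.index * ((a - 1) * (a - 1 + 1) * (a - 1 + 2)) ≤
      (Fintype.card F - 1) * (Fintype.card F - 1 + 1) * (Fintype.card F - 1 + 2))
    (s : B) (hs : orderOf s = 2) (hc : Nat.card (Subgroup.centralizer ({s} : Set B)) ≤ 2 * (a + 1)) : False := by
  have h1 := bound hna h e s hs hc
  have hbig := h.big
  obtain ⟨d, rfl⟩ : ∃ d, a = d + 1 := ⟨a - 1, by omega⟩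
  rw [Nat.add_sub_cancel] at hcard
  obtain ⟨r, hr⟩ : ∃ r, Fintype.card F - 1 = r := ⟨_, rfl⟩
  have hq : Fintype.card F = r + 1 := by
    have := Fintype.card_pos (α := F)
    omega
  rw [hr] at h1 hcard
  have hm : 2 ≤ m := by
    by_contra hcon
    have h2 : m = 0 ∨ m = 1 := by omega
    have h3 : r ≤ d := by
      rcases h2 with rfl | rfl
      · rw [pow_zero] at ham
        omega
      · rw [pow_one] at ham
        omega
    have h4 : r * (r + 1) * (r + 2) ≤ d * (d + 1) * (d + 2) := by gcongr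
    have h5 : 0 < d * (d + 1) * (d + 2) := by
      have : 0 < d := by omega
      (clear * - this; positivity)
    have h6 : A.index * (d * (d + 1) * (d + 2)) ≤ 1 * (d * (d + 1) * (d + 2)) := by linarith only [hcard, h4]
    have h7 := Nat.le_of_mul_le_mul_right h6 h5
    omega
  have hr2 : d * (d + 2) ≤ r := by
    have h2 : (d + 1) ^ 2 ≤ (d + 1) ^ m := Nat.pow_le_pow_right (by omega) hm
    rw [ham, hq] at h2
    have h3 : (d + 1) ^ 2 = d * (d + 2) + 1 := by ring
    omega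
  rcases Nat.lt_or_ge d 2 with hd | hd
  · obtain rfl : d = 1 := by omega
    have h2 : A.index * 6 ≤ r * (r + 1) * (r + 2) := by
      simpa only [_root_.Nat.reduceAdd, _root_.one_mul, _root_.Nat.reduceMul] using hcard
    have h3 : 31 ≤ r := by
      by_contra hcon
      have hm4 : m ≤ 4 := by
        by_contra hcon2
        have h4 : 2 ^ 5 ≤ 2 ^ m := Nat.pow_le_pow_right (by norm_num) (by omega)
        have h5 : (1 + 1) ^ m = 2 ^ m := by norm_num
        omega
      have h4 : 2 ^ m ≤ 2 ^ 4 := Nat.pow_le_pow_right (by norm_num) hm4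
      have h5 : (1 + 1) ^ m = 2 ^ m := by norm_num
      have h6 : r ≤ 15 := by omega
      have h7 : r * (r + 1) * (r + 2) ≤ 15 * (15 + 1) * (15 + 2) := by gcongr
      omega
    exact num_two (n := A.index) h3 (by linarith only [hcard]) (by simpa using h1)
  · exact num_sub hd hbig hr2 hcard (by simpa [add_assoc] using h1)

end

/-- **The row `PSL₂(q)` of S5719.** -/
theorem kill_psl_two (F : Type*) [Field F] [Fintype F] (hF : 4 ≤ Fintype.card F) :
    Kill (ProjectiveSpecialLinearGroup (Fin 2) F) := by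
  classical
  intro A Γ h
  obtain ⟨p, hp⟩ := CharP.exists F
  have hfp : Fact p.Prime := ⟨(CharP.char_is_prime_or_zero F p).resolve_right (CharP.char_ne_zero_of_finite F p)⟩
  have hs : IsSimpleGroup (ProjectiveSpecialLinearGroup (Fin 2) F) :=
    ProjectiveSpecialLinearGroup.rank_two_simple (by rwa [Nat.card_eq_fintype_card])
  have hna : ∃ a b : ProjectiveSpecialLinearGroup (Fin 2) F, a * b ≠ b * a := by
    by_contra hcon
    push Not at hcon
    exact Cfsg.Agent.ClassicalGeometry.PSL2Solvable.not_isSolvable_psl F hF (Group.isSolvable_of_comm hcon)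
  rcases Cfsg.Agent.S0799.result rfl p A with ⟨k, -, hk⟩ | ⟨P, K, hK, ⟨e⟩⟩ | ⟨⟨e⟩⟩ | ⟨⟨e⟩⟩ | ⟨⟨e⟩⟩ | ⟨K, iK, iK', m, hKm, he⟩
  · rcases hk with ⟨hc, -⟩ | ⟨⟨e⟩⟩
    · refine not_abel hna h fun a ha b hb => ?_
      have := (hc.isMulCommutative).is_comm.comm (⟨a, ha⟩ : A) ⟨b, hb⟩
      exact congrArg Subtype.val this
    · have hk0 : k ≠ 0 := by
        rintro rfl
        have h1 : Finite (DihedralGroup 0) := Finite.of_equiv _ e.toEquiv
        have h2 : Function.Injective (fun i : ℤ => (DihedralGroup.r (i : ZMod 0) : DihedralGroup 0)) := by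
          intro i j hij
          exact DihedralGroup.r.inj hij
        exact (Infinite.not_finite (α := ℤ)) (Finite.of_injective _ h2)
      by_cases hk2 : k ≤ 2
      · refine not_abel hna h fun a ha b hb => ?_
        have h1 : (⟨a, ha⟩ : A) * ⟨b, hb⟩ = ⟨b, hb⟩ * ⟨a, ha⟩ := by
          apply e.injective
          rw [map_mul, map_mul]
          exact dihedral_comm (by omega) _ _
        exact congrArg Subtype.val h1
      · refine kill_four hna h e ?_ (DihedralGroup.sr 0) (DihedralGroup.orderOf_sr 0) (dihedral_cent (by omega))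
        rw [DihedralGroup.nat_card]
        omega
  · exact kill_borel hna h P K hK e
  · obtain ⟨s, hs2, hc⟩ := cent_a4
    refine kill_four hna h e ?_ s hs2 hc
    rw [Nat.card_eq_fintype_card]
    decide +kernel
  · obtain ⟨s, hs2, hc⟩ := cent_s4
    refine kill_four hna h e ?_ s hs2 hc
    rw [Nat.card_eq_fintype_card]
    decide +kernel
  · obtain ⟨s, hs2, hc⟩ := cent_a5
    refine kill_four hna h e ?_ s hs2 hc
    rw [Nat.card_eq_fintype_card]
    (set_option synthInstance.maxSize 9000 in open scoped Cfsg.Agent.Lib.FastPerm in decide +kernel)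
  · have hK2 : 2 ≤ Fintype.card K := Fintype.one_lt_card
    have hK1 := card_T (F := K)
    have hF1 := card_T (F := F)
    have h3 := A.index_mul_card
    rcases he with ⟨⟨e⟩⟩ | ⟨⟨e⟩⟩
    · obtain ⟨s, hs2, hc⟩ := exists_psl (K := K)
      refine kill_sub hna h e hK2 hKm ?_ s hs2 hc
      have h2 : Nat.card A = Nat.card (ProjectiveSpecialLinearGroup (Fin 2) K) := Nat.card_congr e.toEquiv
      have h4 : Nat.gcd 2 (Fintype.card K - 1) ∣ Nat.gcd 2 (Fintype.card F - 1) := by
        apply Nat.dvd_gcd (Nat.gcd_dvd_left _ _)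
        refine (Nat.gcd_dvd_right _ _).trans ?_
        rw [← hKm]
        have h5 := Nat.sub_dvd_pow_sub_pow (Fintype.card K) 1 m
        rwa [one_pow] at h5
      have h5 : Nat.gcd 2 (Fintype.card K - 1) ≤ Nat.gcd 2 (Fintype.card F - 1) :=
        Nat.le_of_dvd (Nat.gcd_pos_of_pos_left _ (by norm_num)) h4
      rw [← hK1, ← hF1, ← h3, h2, ← mul_assoc]
      exact Nat.mul_le_mul_left _ h5
    · have hfin : Finite (ProjGenLinGroup (Fin 2) K) := Quotient.finite _
      refine kill_sub hna h e hK2 hKm ?_ (wP K) wP_sq card_cent_pgl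
      have h2 : Nat.card A = Nat.card (ProjGenLinGroup (Fin 2) K) := Nat.card_congr e.toEquiv
      have h4 : Nat.card (ProjGenLinGroup (Fin 2) K) =
          (Fintype.card K - 1) * (Fintype.card K - 1 + 1) * (Fintype.card K - 1 + 2) := by
        rw [← hK1, Cfsg.Agent.ClassicalGeometry.PSL2Basic.card_PSL2_gcd,
          Cfsg.Agent.ClassicalGeometry.PSL2Basic.card_PGL2]
      rw [← h4, ← h2, h3, ← hF1]
      exact Nat.le_mul_of_pos_right _ (Nat.gcd_pos_of_pos_left _ (by norm_num))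

end Cfsg.Agent.H800.IFx
end

private theorem dce_04a98860056b : _root_.True := by
  try have : _root_.True := by simp only [_root_.Cfsg.Agent.H800.IFx.wP.eq_1]
  exact _root_.True.intro
end

-- part: H460/IFO/Field
section
prune_inst 0x435703524654202000000859673001c66aa000402004b8c0084e10b000e89e82a05022e602e001311402800840034002813100090424000000e200000011d05810000100091080c00b20008000080000000000000000000000000000000000004200000000
set_option linter.all false
open scoped Cfsg.Agent.FastGrp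

-- part: H460/IFO/StIdx
section
/-!
# S5719, `|A|` odd: the index of a subgroup of odd order (helper460)

* `even_sum` : `Σ z - z 1` is even for `z (x⁻¹) = z x`, `|X|` odd;
* `lt_index` : `χ` irreducible, integer valued, of odd degree `d > 1`: a subgroup of odd order has index `> d`;
* `st_le_index` : a subgroup of odd order of `D.group F` has index at least `|F| ^ N` (Steinberg character).
-/

set_option autoImplicit false
set_option linter.unusedSectionVars false

namespace Cfsg.Agent.H460.IFO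

open Cfsg Cfsg.Lie Module

universe u v

/-- **Parity.** -/
theorem even_sum {X : Type*} [Group X] [Fintype X] (hX : Odd (Nat.card X)) (z : X → ℤ) (hz : ∀ x, z x⁻¹ = z x) :
    Even (∑ x, z x - z 1) := by
  classical
  have h1 : ∑ x, z x - z 1 = ∑ x ∈ Finset.univ.erase (1 : X), z x := by
    rw [← Finset.add_sum_erase _ _ (Finset.mem_univ (1 : X))]
    ring
  rw [h1, ← ZMod.intCast_eq_zero_iff_even, Int.cast_sum]
  refine Finset.sum_involution (fun x _ => x⁻¹) ?_ ?_ ?_ ?_
  · intro x _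
    rw [hz]
    have : ((z x : ℤ) : ZMod 2) + z x = 0 := CharTwo.add_self_eq_zero _
    exact this
  · intro x hx _ h
    have h2 : x ^ 2 = 1 := by
      rw [pow_two]
      nth_rewrite 1 [← h]
      exact inv_mul_cancel x
    have h3 : orderOf x ∣ 2 := orderOf_dvd_of_pow_eq_one h2
    have h4 : orderOf x ∣ Nat.card X := orderOf_dvd_natCard x
    have h5 : orderOf x ∣ 1 := (Nat.coprime_two_left.2 hX) ▸ Nat.dvd_gcd h3 h4
    exact (Finset.mem_erase.1 hx).1 (orderOf_eq_one_iff.1 (Nat.dvd_one.1 h5))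
  · intro x hx
    exact Finset.mem_erase.2 ⟨inv_ne_one.2 (Finset.mem_erase.1 hx).1, Finset.mem_univ _⟩
  · intro x _
    exact inv_inv x

variable {K : Type u} [Group K] [Finite K]

/-- **The index of a subgroup of odd order.** -/
theorem lt_index {χ : K → ℂ} (hχ : IsIrrCharacter K χ) (z : K → ℤ) (hz : ∀ g, χ g = z g) (hinv : ∀ g, z g⁻¹ = z g)
    {d : ℕ} (hd : χ 1 = d) (hodd : Odd d) (h1 : 1 < d) {X : Subgroup K} (hX : Odd (Nat.card X)) : d < X.index := by
  classical
  obtain ⟨n, ρ, hirr, rfl⟩ := hχ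
  have hn : d = n := by
    rw [Representation.char_one, finrank_fin_fun] at hd
    exact_mod_cast hd.symm
  subst hn
  have := Fintype.ofFinite K
  have := Fintype.ofFinite X
  -- a fixed vector
  obtain ⟨v, hv0, hv⟩ : ∃ v : Fin d → ℂ, v ≠ 0 ∧ ∀ x ∈ X, ρ x v = v := by
    let σ : Representation ℂ X (Fin d → ℂ) := ρ.comp X.subtype
    have hc0 : ((Nat.card X : ℕ) : ℂ) ≠ 0 := Nat.cast_ne_zero.2 Nat.card_pos.ne'
    have : Invertible ((Nat.card X : ℕ) : ℂ) := invertibleOfNonzero hc0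
    have h2 := Representation.card_inv_mul_sum_char_eq_finrank σ
    have h3 : ∀ x : X, σ.character x = ((z x : ℤ) : ℂ) := fun x => hz x
    have h4 : (∑ x : X, z x : ℤ) = Nat.card X * finrank ℂ (Representation.invariants σ) := by
      have h5 : ((∑ x : X, z x : ℤ) : ℂ) = (Nat.card X : ℂ) * finrank ℂ (Representation.invariants σ) := by
        rw [← h2, ← mul_assoc, mul_inv_cancel₀ hc0, one_mul, Int.cast_sum]
        exact Finset.sum_congr rfl fun x _ => (h3 x).symm
      exact_mod_cast h5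
    have h5 := even_sum hX (fun x : X => z x) (fun x => hinv x)
    have h6 : z 1 = d := by
      have := hz 1
      rw [Representation.char_one, finrank_fin_fun] at this
      exact_mod_cast this.symm
    have h7 : finrank ℂ (Representation.invariants σ) ≠ 0 := by
      intro h0
      rw [h4, h0] at h5
      have h8 : z ((1 : X) : K) = d := h6
      rw [h8] at h5
      have h9 : Even (d : ℤ) := by simpa only [_root_.Int.even_coe_nat, _root_.Nat.card_eq_fintype_card, _root_.CharP.cast_eq_zero, _root_.MulZeroClass.mul_zero, _root_.zero_sub, _root_.even_neg] using h5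
      exact (Nat.not_even_iff_odd.2 hodd) (by exact_mod_cast h9)
    have h8 : Nontrivial (Representation.invariants σ) := Module.nontrivial_of_finrank_pos (Nat.pos_of_ne_zero h7)
    obtain ⟨w, hw⟩ := exists_ne (0 : Representation.invariants σ)
    refine ⟨w, fun h => hw (Subtype.ext h), fun x hx => ?_⟩
    exact (Representation.mem_invariants σ w.1).1 w.2 ⟨x, hx⟩
  -- the orbit map
  let c : K ⧸ X → (Fin d → ℂ) := Quotient.lift (fun g : K => ρ g v) (by
    intro a b hab
    have h2 : a⁻¹ * b ∈ X := QuotientGroup.leftRel_apply.1 hab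
    have h3 := hv _ h2
    show ρ a v = ρ b v
    conv_lhs => rw [← h3]
    rw [← Module.End.mul_apply, ← map_mul, mul_inv_cancel_left])
  have hc : ∀ g : K, c (g : K ⧸ X) = ρ g v := fun g => rfl
  have hcm : ∀ (g : K) (q : K ⧸ X), ρ g (c q) = c (g • q) := by
    intro g q
    induction q using QuotientGroup.induction_on with
    | H a =>
      rw [hc, ← Module.End.mul_apply, ← map_mul]
      rfl
  have htop : ⊤ ≤ Submodule.span ℂ (Set.range c) := by
    let S : Subrepresentation ρ := ⟨Submodule.span ℂ (Set.range c), by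
      intro g w hw
      induction hw using Submodule.span_induction with
      | mem w hw =>
        obtain ⟨q, rfl⟩ := hw
        rw [hcm]
        exact Submodule.subset_span ⟨_, rfl⟩
      | zero => rw [map_zero]; exact Submodule.zero_mem _
      | add a b _ _ ha hb => rw [map_add]; exact Submodule.add_mem _ ha hb
      | smul r a _ ha => rw [map_smul]; exact Submodule.smul_mem _ _ ha⟩
    rcases hirr.eq_bot_or_eq_top S with h2 | h2
    · exfalso
      have h3 : S.toSubmodule = ⊥ := by rw [h2]; rfl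
      have h4 : v ∈ S.toSubmodule := Submodule.subset_span ⟨((1 : K) : K ⧸ X), by rw [hc, map_one]; rfl⟩
      rw [h3, Submodule.mem_bot] at h4
      exact hv0 h4
    · have h3 : S.toSubmodule = ⊤ := by rw [h2]; rfl
      exact h3.ge
  have hle : d ≤ X.index := by
    have h2 := finrank_range_le_card (R := ℂ) c
    rw [Set.finrank, top_le_iff.1 htop, finrank_top, finrank_fin_fun] at h2
    rwa [Subgroup.index, Nat.card_eq_fintype_card]
  refine lt_of_le_of_ne hle fun heq => ?_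
  have hli : LinearIndependent ℂ c := by
    refine linearIndependent_of_top_le_span_of_card_eq_finrank htop ?_
    rw [finrank_fin_fun, heq, Subgroup.index, Nat.card_eq_fintype_card]
  have hs0 : ∑ q, c q ≠ 0 := by
    intro h0
    have h2 := Fintype.linearIndependent_iff.1 hli (fun _ => 1) (by simpa only [_root_.one_smul] using h0) ((1 : K) : K ⧸ X)
    exact one_ne_zero h2
  -- the sum is invariant
  have hsi : ∀ g, ρ g (∑ q, c q) = ∑ q, c q := by
    intro g
    rw [map_sum]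
    simp_rw [hcm]
    exact Fintype.sum_equiv (MulAction.toPerm g) _ _ fun q => rfl
  let S : Subrepresentation ρ := ⟨Submodule.span ℂ {∑ q, c q}, by
    intro g w hw
    obtain ⟨r, rfl⟩ := Submodule.mem_span_singleton.1 hw
    rw [map_smul, hsi]
    exact Submodule.smul_mem _ _ (Submodule.mem_span_singleton_self _)⟩
  rcases hirr.eq_bot_or_eq_top S with h2 | h2
  · have h3 : S.toSubmodule = ⊥ := by rw [h2]; rfl
    exact hs0 (Submodule.span_singleton_eq_bot.1 h3)
  · have h3 : S.toSubmodule = ⊤ := by rw [h2]; rfl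
    have h4 : finrank ℂ (Submodule.span ℂ {∑ q, c q}) = 1 := finrank_span_singleton hs0
    have h5 : Submodule.span ℂ {∑ q, c q} = ⊤ := h3
    rw [h5, finrank_top, finrank_fin_fun] at h4
    omega

/-! ### the Steinberg character -/

/-- the seven data -/
def L7 (D : ChevalleyDatum) : Prop := D ∈ [chevG2, chevB2, chevD4, chevF4, chevE6, chevE7, chevE8]

theorem fixedBy_inv {G Ω : Type*} [Group G] [MulAction G Ω] (g : G) :
    MulAction.fixedBy Ω g⁻¹ = MulAction.fixedBy Ω g := by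
  ext x
  rw [MulAction.mem_fixedBy, MulAction.mem_fixedBy, inv_smul_eq_iff]
  exact eq_comm

/-- the integral values of the Steinberg character -/
noncomputable def stZ (D : ChevalleyDatum) (F : Type u) [Field F] (g : ↥(D.group F)) : ℤ :=
  ∑ J ∈ (Finset.range D.rank).powerset,
    (-1 : ℤ) ^ J.card * (Nat.card ((MulAction.fixedBy (↥(D.group F) ⧸ D.parabolicIn F J) g :)) : ℤ)

theorem stZ_eq (D : ChevalleyDatum) (F : Type u) [Field F] (g : ↥(D.group F)) :
    D.steinbergCharacter F g = (stZ D F g : ℂ) := by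
  unfold ChevalleyDatum.steinbergCharacter stZ fixedPointCharacter
  push_cast
  rfl

theorem stZ_inv (D : ChevalleyDatum) (F : Type u) [Field F] (g : ↥(D.group F)) : stZ D F g⁻¹ = stZ D F g := by
  unfold stZ
  simp only [fixedBy_inv]

/-- **A subgroup of odd order of `D.group F` has index at least `|F| ^ N`.** -/
theorem st_le_index {D : ChevalleyDatum} (hD : L7 D) {F : Type u} [Field F] [Finite F] {X : Subgroup ↥(D.group F)}
    (hX : Odd (Nat.card X)) : Nat.card F ^ (D.nroots / 2) ≤ X.index := by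
  have := Fintype.ofFinite F
  have hirr := Cfsg.Agent.S2311.result (F := F) D hD
  have hdeg := Cfsg.Agent.S2327.result (F := F) D hD
  rw [Nat.card_eq_fintype_card]
  have hdeg' : D.steinbergCharacter F 1 = ((Fintype.card F ^ (D.nroots / 2) : ℕ) : ℂ) := by
    rw [hdeg]
    push_cast
    rfl
  have hfin : Finite ↥(D.group F) := inferInstance
  rcases Nat.even_or_odd (Fintype.card F) with he | ho
  · have h2 : (2 : ℕ).Prime := Nat.prime_two
    obtain ⟨p, n, hp, hn, hq⟩ := (FiniteField.isPrimePow_card F)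
    have hp' : p.Prime := hp.nat_prime
    have h3 : 2 = p := (Nat.prime_dvd_prime_iff_eq h2 hp').1 (h2.dvd_of_dvd_pow (hq ▸ he.two_dvd))
    subst h3
    have h4 : Fintype.card F ^ (D.nroots / 2) ∣ Nat.card ↥(D.group F) :=
      Cfsg.Agent.Blocks.CentralProduct.degree_dvd_card hirr hdeg'
    rw [← hq, ← pow_mul] at h4 ⊢
    exact two_pow_le_index hX h4
  · have hN : D.nroots / 2 ≠ 0 := by
      unfold L7 at hD
      simp only [List.mem_cons, List.not_mem_nil, or_false] at hD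
      rcases hD with rfl | rfl | rfl | rfl | rfl | rfl | rfl <;> decide
    have h1 : 1 < Fintype.card F ^ (D.nroots / 2) := Nat.one_lt_pow hN Fintype.one_lt_card
    exact (lt_index hirr (stZ D F) (stZ_eq D F) (stZ_inv D F) hdeg' ho.pow h1 hX).le

open Cfsg.Agent.H209.Fxy in
/-- **The Steinberg bound**: `D.group F₀` fixed by the involution `σ ∈ Γ`, `|A|` odd: `(|F₀| ^ N) ^ 6 < |T : A|`. -/
theorem st_lt {T : Type v} [Group T] [Finite T] {A : Subgroup T} {Γ : Subgroup (MulAut T)} (h : IF A Γ)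
    (hO : Odd (Nat.card A)) {σ : MulAut T} (hσ : σ ∈ Γ) (h2 : orderOf σ = 2) {D : ChevalleyDatum} (hD : L7 D)
    {F₀ : Type u} [Field F₀] [Finite F₀] (j : ↥(D.group F₀) →* T) (hi : Function.Injective j)
    (hj : ∀ k, σ (j k) = j k) : (Nat.card F₀ ^ (D.nroots / 2)) ^ 6 < A.index :=
  (Nat.pow_le_pow_left (st_le_index hD (odd_comap hO hi)) 6).trans_lt (comap_lt h hσ h2 j hj)

end Cfsg.Agent.H460.IFO
end

-- part: H460/IFO/FieldFix
section
/-!
# S5719, `|A|` odd: involutory automorphisms of field type, the five exceptional Chevalley types (helper460)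

`D ∈ {G₂, F₄, E₆, E₇, E₈}`, `F` finite, `x` an automorphism of order two of `D.group F`, `x = conj y * d * φ`,
`d` diagonal, `φ ≠ 1` a field automorphism.
* `exists_fix` : `|F| = |F₀| ^ 2` and an injective homomorphism `j : D.group F₀ → D.group F` with image fixed by `x`.
-/

set_option autoImplicit false
set_option linter.unusedSectionVars false

namespace Cfsg.Agent.H460.IFO

open CoxeterSystem Subgroup Cfsg Cfsg.Lie Cfsg.Lie.ChevalleyDatum
open Cfsg.Agent.ChevalleyStructure Cfsg.Agent.ChevalleyStructure.Elts Cfsg.Agent.ChevalleyStructure.CoxeterGeom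
  Cfsg.Agent.ChevalleyStructure.CoxeterGeomTypes
open Cfsg.Agent.Nodes.RGDChev Cfsg.Agent.KFacts.RgdChevCoord Cfsg.Agent.CpAut.RgdUntw
open Cfsg.Agent.GpExc.Field (glMap emb coe_emb glMap_xG emb_injective coe_glMap)
open Cfsg.Agent.BpExc.FamExt Cfsg.Agent.BpExc.FamField Cfsg.Agent.BpExc.Tow Cfsg.Agent.BpExc.TowChev Cfsg.Agent.BpExc.FamUntw
  Cfsg.Agent.BpExc.FamInst Cfsg.Agent.H296.Core Cfsg.Agent.H249.Pi.FldType

universe u v

/-- the elements over the fixed field are fixed -/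
theorem fld_emb {D : ChevalleyDatum} (hD : InList D) {F : Type u} [Field F] {τ : F ≃+* F} {F₀ : Subfield F}
    (h : ∀ a ∈ F₀, τ a = a) (k : ↥(D.group F₀)) : fld D τ (emb hD F₀.subtype k) = emb hD F₀.subtype k := by
  apply Subtype.ext
  rw [Cfsg.Agent.BpExc.FamTw.Gr.coe_fld, coe_emb]
  apply Units.ext
  rw [coe_glMap, coe_glMap, Matrix.map_map]
  ext i j
  exact h _ (((k : GL D.Idx F₀) : Matrix D.Idx D.Idx F₀) i j).2

/-- **Automorphisms of order two of field type.** -/
theorem exists_fix {D : ChevalleyDatum} (hE : Ex5 D) {F : Type u} [Field F] [Finite F]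
    {x : MulAut ↥(D.group F)} (hx : x * x = 1) {y : ↥(D.group F)} {d φ : MulAut ↥(D.group F)}
    (hd : D.IsDiagonalAut d) (hφ : D.IsFieldAut φ) (hφ1 : φ ≠ 1) (hxy : ∀ a, x a = y * d (φ a) * y⁻¹) :
    ∃ (F₀ : Subfield F) (j : ↥(D.group F₀) →* ↥(D.group F)), Nat.card F = Nat.card F₀ ^ 2 ∧
      Function.Injective j ∧ ∀ k, x (j k) = j k := by
  obtain ⟨l, M, hp, m', B, hm', hB⟩ := hE.data
  obtain ⟨r, hr⟩ := CharP.exists F
  have : Fact r.Prime := ⟨CharP.char_is_prime F r⟩
  have h1 := charP_closure F r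
  have hk := locFin_closure F r
  obtain ⟨n, hn0, hn⟩ := exists_card (F := F) r
  obtain ⟨τ, rfl⟩ := Cfsg.Agent.H296.ESixGF.eq_fld hp hφ
  have hτ1 : τ ≠ 1 := by
    rintro rfl
    exact hφ1 fld_one
  obtain ⟨m, hnm, hτ, -, ζ, hζ⟩ := Cfsg.Agent.H296.Core.main hp r (algebraMap F (AlgebraicClosure F))
    (Cfsg.Agent.H296.ESixGF.gam_one hp r (algebraMap F (AlgebraicClosure F)) hk) hk (hE.center _) hB hm'
    (fun c _ => IsAlgClosed.exists_pow_nat_eq _ (Nat.pos_of_ne_zero hm')) (Or.inl rfl) hn hx hd (fun _ => hτ1) hxy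
  rw [one_mul] at hζ
  have hτ2 : τ * τ = 1 := by
    ext a
    rw [RingAut.mul_apply, hτ, hτ, ← pow_mul, ← pow_add]
    have h2 := (forall_pow_iff r hn (m + m)).2 ⟨1, by omega⟩ a
    exact h2
  have ho : orderOf τ = 2 := orderOf_eq_prime (by rw [pow_two]; exact hτ2) hτ1
  have hinj := emb_injective hp.inList (FixedPoints.subfield (Subgroup.zpowers τ) F).subtype
  refine ⟨FixedPoints.subfield (Subgroup.zpowers τ) F,
    (ζ⁻¹ : MulAut ↥(D.group F)).toMonoidHom.comp (emb hp.inList (FixedPoints.subfield (Subgroup.zpowers τ) F).subtype), ?_, ?_, ?_⟩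
  · have h3 := Cfsg.Agent.H69.CosetP.card_fixed τ
    rwa [ho] at h3
  · intro a b hab
    exact hinj ((ζ⁻¹ : MulAut ↥(D.group F)).injective hab)
  · intro k
    have h4 : ∀ a : ↥(D.group F), x ((ζ⁻¹ : MulAut ↥(D.group F)) a) = (ζ⁻¹ : MulAut ↥(D.group F)) (fld D τ a) := by
      intro a
      rw [hζ, MulAut.mul_apply, MulAut.mul_apply]
      congr 2
      exact MulAut.apply_inv_self _ ζ a
    show x ((ζ⁻¹ : MulAut ↥(D.group F)) _) = (ζ⁻¹ : MulAut ↥(D.group F)) _
    rw [h4]
    congr 1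
    exact fld_emb hp.inList (fun a ha => Cfsg.Agent.H69.CosetP.mem_fixed.1 ha) k

end Cfsg.Agent.H460.IFO
end

-- part: H460/IFO/Field
section
/-!
# S5719, `|A|` odd: no involution of field type, all `q` (helper460)

* `card_le` : `|D.group F| ≤ |F| ^ (3 N)`;
* `no_field` : `T = D.group F`, `D ∈ {G₂, F₄, E₆, E₇, E₈}`: no involution of `Γ` is of field type.
-/

set_option autoImplicit false
set_option linter.unusedSectionVars false

namespace Cfsg.Agent.H460.IFO

open Cfsg Cfsg.Lie Cfsg.Agent.H249.Pi.FldType Cfsg.Agent.H209.Fxy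

universe u

theorem card_le {D : ChevalleyDatum} (hE : Ex5 D) (F : Type u) [Field F] [Finite F] :
    Nat.card ↥(D.group F) ≤ Nat.card F ^ (3 * (D.nroots / 2)) := by
  have := Fintype.ofFinite F
  have hq : 0 < Fintype.card F := Fintype.card_pos
  have hq1 : 1 ≤ Fintype.card F := hq
  have hs : ∀ d, Fintype.card F ^ d - 1 ≤ Fintype.card F ^ d := fun d => Nat.sub_le _ _
  rw [Nat.card_eq_fintype_card (α := F)]
  unfold Ex5 at hE
  simp only [List.mem_cons, List.not_mem_nil, or_false] at hE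
  rcases hE with rfl | rfl | rfl | rfl | rfl
  · have h1 := Cfsg.Agent.S1059.result (F := F) rfl
    have h2 : 3 * (chevG2.nroots / 2) = 18 := by decide
    rw [h1, h2]
    calc _ ≤ Fintype.card F ^ 6 * Fintype.card F ^ 2 * Fintype.card F ^ 6 := by gcongr <;> exact hs _
      _ = Fintype.card F ^ 14 := by ring
      _ ≤ _ := Nat.pow_le_pow_right hq (by norm_num)
  · have h1 := Cfsg.Agent.S1062.result (F := F) rfl
    have h2 : 3 * (chevF4.nroots / 2) = 72 := by decide
    rw [h1, h2]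
    calc _ ≤ Fintype.card F ^ 24 * Fintype.card F ^ 2 * Fintype.card F ^ 6 * Fintype.card F ^ 8 * Fintype.card F ^ 12 := by
          gcongr <;> exact hs _
      _ = Fintype.card F ^ 52 := by ring
      _ ≤ _ := Nat.pow_le_pow_right hq (by norm_num)
  · have h1 := Cfsg.Agent.S1063.result (F := F) rfl
    have h2 : 3 * (chevE6.nroots / 2) = 108 := by decide
    have h3 : Nat.card ↥(chevE6.group F) ≤ Nat.gcd 3 (Fintype.card F - 1) * Nat.card ↥(chevE6.group F) :=
      Nat.le_mul_of_pos_left _ (Nat.gcd_pos_of_pos_left _ (by norm_num))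
    rw [h2]
    refine h3.trans ?_
    rw [h1]
    calc _ ≤ Fintype.card F ^ 36 * Fintype.card F ^ 2 * Fintype.card F ^ 5 * Fintype.card F ^ 6 * Fintype.card F ^ 8 *
          Fintype.card F ^ 9 * Fintype.card F ^ 12 := by gcongr <;> exact hs _
      _ = Fintype.card F ^ 78 := by ring
      _ ≤ _ := Nat.pow_le_pow_right hq (by norm_num)
  · have h1 := Cfsg.Agent.S1064.result (F := F) rfl
    have h2 : 3 * (chevE7.nroots / 2) = 189 := by decide
    have h3 : Nat.card ↥(chevE7.group F) ≤ Nat.gcd 2 (Fintype.card F - 1) * Nat.card ↥(chevE7.group F) :=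
      Nat.le_mul_of_pos_left _ (Nat.gcd_pos_of_pos_left _ (by norm_num))
    rw [h2]
    refine h3.trans ?_
    rw [h1]
    calc _ ≤ Fintype.card F ^ 63 * Fintype.card F ^ 2 * Fintype.card F ^ 6 * Fintype.card F ^ 8 * Fintype.card F ^ 10 *
          Fintype.card F ^ 12 * Fintype.card F ^ 14 * Fintype.card F ^ 18 := by gcongr <;> exact hs _
      _ = Fintype.card F ^ 133 := by ring
      _ ≤ _ := Nat.pow_le_pow_right hq (by norm_num)
  · have h1 := Cfsg.Agent.S1065.result (F := F) rfl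
    have h2 : 3 * (chevE8.nroots / 2) = 360 := by decide
    rw [h1, h2]
    calc _ ≤ Fintype.card F ^ 120 * Fintype.card F ^ 2 * Fintype.card F ^ 8 * Fintype.card F ^ 12 * Fintype.card F ^ 14 *
          Fintype.card F ^ 18 * Fintype.card F ^ 20 * Fintype.card F ^ 24 * Fintype.card F ^ 30 := by gcongr <;> exact hs _
      _ = Fintype.card F ^ 248 := by ring
      _ ≤ _ := Nat.pow_le_pow_right hq (by norm_num)

/-- **No involution of field type in `Γ`** (`|A|` odd, all `q`). -/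
theorem no_field {D : ChevalleyDatum} (hE : Ex5 D) {F : Type u} [Field F] [Finite F] {A : Subgroup ↥(D.group F)}
    {Γ : Subgroup (MulAut ↥(D.group F))} (h : IF A Γ) (hO : Odd (Nat.card A)) {σ : MulAut ↥(D.group F)} (hσ : σ ∈ Γ)
    (h2 : orderOf σ = 2) {y : ↥(D.group F)} {d φ : MulAut ↥(D.group F)} (hd : D.IsDiagonalAut d)
    (hφ : D.IsFieldAut φ) (hφ1 : φ ≠ 1) (hxy : ∀ a, σ a = y * d (φ a) * y⁻¹) : False := by
  have hfin : Finite ↥(D.group F) := inferInstance
  have hx : σ * σ = 1 := by rw [← pow_two, ← h2, pow_orderOf_eq_one]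
  obtain ⟨F₀, j, hF, hi, hj⟩ := exists_fix hE hx hd hφ hφ1 hxy
  have hL : L7 D := by
    have := hE.inList
    unfold L7
    unfold Ex5 at hE
    simp only [List.mem_cons, List.not_mem_nil, or_false] at hE ⊢
    (clear * - hE; itauto)
  have h3 := (st_lt h hO hσ h2 hL j hi hj).trans_le (index_le_card A)
  have h4 := card_le hE F
  have h5 : (Nat.card F₀ ^ (D.nroots / 2)) ^ 6 = Nat.card F ^ (3 * (D.nroots / 2)) := by
    rw [hF, ← pow_mul, ← pow_mul]
    congr 1
    ring
  rw [h5] at h3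
  exact absurd h3 (not_lt.2 h4)

end Cfsg.Agent.H460.IFO
end
end

-- part: H465/IF/BOne
section
prune_inst 0x425703065414002000004859641003ce7df000490006b8c01c5a50f42068aff6a05022760fc801f115800aa04003c8028100000300058000024208400411d05a18c8252423340a10ca7000f801886180c00000000000000000000000000041000200000000
set_option linter.all false
open scoped Cfsg.Agent.FastGrp

-- part: H293/IF/Extra
section
/-!
# Abelian subgroups of extraspecial-like groups (helper293)

`card_sq_le` : in a finite group with commutators in `{1, z}` and centre `{1, z}`, an abelian subgroup `A` satisfies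
`|A|² ≤ 2 |Γ|`.
-/

set_option autoImplicit false

namespace Cfsg.Agent.H293.IF

open Subgroup

variable {Γ : Type*} [Group Γ]

/-- a finite group has at most `|Γ|` linear characters -/
theorem card_hom_le [Finite Γ] : Nat.card (Γ →* ℚ) ≤ Nat.card Γ := by
  classical
  have : Fintype Γ := Fintype.ofFinite Γ
  have h := linearIndependent_monoidHom Γ ℚ
  have hf : Finite (Γ →* ℚ) := by
    have := h.finite_of_isNoetherian
    exact this
  have : Fintype (Γ →* ℚ) := Fintype.ofFinite _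
  have h2 := h.fintype_card_le_finrank
  rw [Module.finrank_fintype_fun_eq_card] at h2
  rwa [Nat.card_eq_fintype_card, Nat.card_eq_fintype_card]

section

variable {z : Γ} (hz1 : z ≠ 1) (hzz : z * z = 1) (hzc : ∀ x : Γ, x * z = z * x)
  (hc : ∀ x y : Γ, x * y = y * x ∨ x * y = y * x * z)

open Classical in
/-- the commutator character of an element -/
noncomputable def chi (_hz1 : z ≠ 1) (hzz : z * z = 1) (hzc : ∀ x : Γ, x * z = z * x)
    (hc : ∀ x y : Γ, x * y = y * x ∨ x * y = y * x * z) (a : Γ) : Γ →* ℚ where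
  toFun q := if q * a = a * q then 1 else -1
  map_one' := by rw [one_mul, mul_one, if_pos rfl]
  map_mul' q q' := by
    have key : ∀ u v : Γ, u * a = a * u → v * a = a * v → (u * v) * a = a * (u * v) := by
      intro u v h1 h2
      rw [mul_assoc, h2, ← mul_assoc, h1, mul_assoc]
    by_cases h1 : q * a = a * q
    · by_cases h2 : q' * a = a * q'
      · rw [if_pos h1, if_pos h2, if_pos (key q q' h1 h2), one_mul]
      · have h3 := (hc q' a).resolve_left h2
        have h4 : ¬ (q * q') * a = a * (q * q') := by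
          intro h5
          apply h2
          have h6 : q * (q' * a) = q * (a * q') := by rw [← mul_assoc, h5, ← mul_assoc, ← mul_assoc, h1]
          exact mul_left_cancel h6
        rw [if_pos h1, if_neg h2, if_neg h4, one_mul]
    · by_cases h2 : q' * a = a * q'
      · have h4 : ¬ (q * q') * a = a * (q * q') := by
          intro h5
          apply h1
          have h6 : (q * a) * q' = (a * q) * q' := by rw [mul_assoc, ← h2, ← mul_assoc, h5, mul_assoc]
          exact mul_right_cancel h6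
        rw [if_neg h1, if_pos h2, if_neg h4, mul_one]
      · have h3 := (hc q a).resolve_left h1
        have h4 := (hc q' a).resolve_left h2
        have h5 : (q * q') * a = a * (q * q') := by
          calc (q * q') * a = q * (q' * a) := mul_assoc _ _ _
            _ = q * (a * q' * z) := by rw [h4]
            _ = (q * a) * (q' * z) := by group
            _ = (a * q * z) * (q' * z) := by rw [h3]
            _ = a * q * (z * q') * z := by group
            _ = a * q * (q' * z) * z := by rw [hzc q']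
            _ = a * (q * q') * (z * z) := by group
            _ = a * (q * q') := by rw [hzz, mul_one]
        rw [if_neg h1, if_neg h2, if_pos h5]
        norm_num

theorem chi_apply_one {a q : Γ} (h : q * a = a * q) : chi hz1 hzz hzc hc a q = 1 := if_pos h

theorem comm_of_chi {a q : Γ} (h : chi hz1 hzz hzc hc a q = 1) : q * a = a * q := by
  classical
  by_contra h1
  have h2 : chi hz1 hzz hzc hc a q = -1 := if_neg h1
  rw [h2] at h
  norm_num at h

include hz1 hzz hzc hc in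
/-- the case `z ∈ A` -/
theorem card_sq_le_aux [Finite Γ] (hcen : ∀ x : Γ, (∀ y, x * y = y * x) → x = 1 ∨ x = z) {A : Subgroup Γ}
    (hzA : z ∈ A) (hA : ∀ x ∈ A, ∀ y ∈ A, x * y = y * x) : Nat.card A ^ 2 ≤ 2 * Nat.card Γ := by
  classical
  have hN : A.Normal := by
    refine ⟨fun a ha g => ?_⟩
    rcases hc g a with h | h
    · rw [h, mul_inv_cancel_right]; exact ha
    · have e : g * a * g⁻¹ = a * (g * z * g⁻¹) := by rw [h]; group
      rw [e, hzc g, mul_inv_cancel_right]
      exact A.mul_mem ha hzA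
  have key : ∀ a ∈ A, ∀ q ∈ A, chi hz1 hzz hzc hc a q = 1 := fun a ha q hq =>
    chi_apply_one hz1 hzz hzc hc (hA q hq a ha)
  let f : A → (Γ ⧸ A →* ℚ) := fun a => QuotientGroup.lift A (chi hz1 hzz hzc hc a.1) (key a.1 a.2)
  -- the fibres have at most two elements
  have hfib : ∀ a b : A, f a = f b → (b : Γ) = a ∨ (b : Γ) = a * z := by
    intro a b h
    have h1 : ∀ q : Γ, chi hz1 hzz hzc hc a.1 q = chi hz1 hzz hzc hc b.1 q := by
      intro q
      have := DFunLike.congr_fun h (q : Γ ⧸ A)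
      exact this
    have h2 : ∀ q : Γ, (a.1⁻¹ * b.1) * q = q * (a.1⁻¹ * b.1) := by
      intro q
      by_cases hq : q * a.1 = a.1 * q
      · have hb := comm_of_chi hz1 hzz hzc hc ((h1 q).symm.trans (chi_apply_one hz1 hzz hzc hc hq))
        have h3 : a.1⁻¹ * q = q * a.1⁻¹ := by
          rw [inv_mul_eq_iff_eq_mul, ← mul_assoc, ← hq, mul_inv_cancel_right]
        rw [mul_assoc, ← hb, ← mul_assoc, h3, mul_assoc]
      · have hq' : ¬ q * b.1 = b.1 * q := by
          intro hb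
          exact hq (comm_of_chi hz1 hzz hzc hc ((h1 q).trans (chi_apply_one hz1 hzz hzc hc hb)))
        have h3 := (hc q a.1).resolve_left hq
        have h4 := (hc q b.1).resolve_left hq'
        have h5 : a.1⁻¹ * q = q * a.1⁻¹ * z := by
          rw [inv_mul_eq_iff_eq_mul]
          calc q = q * (a.1 * a.1⁻¹) * (z * z) := by rw [hzz]; group
            _ = (q * a.1) * a.1⁻¹ * z * z := by group
            _ = (a.1 * q * z) * a.1⁻¹ * z * z := by rw [h3]
            _ = a.1 * q * (z * a.1⁻¹) * (z * z) := by group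
            _ = a.1 * q * (a.1⁻¹ * z) := by rw [hzz, ← hzc a.1⁻¹, mul_one]
            _ = _ := by group
        have h6 : b.1 * q = q * b.1 * z := by
          rw [h4, mul_assoc (b.1 * q), hzz, mul_one]
        calc (a.1⁻¹ * b.1) * q = a.1⁻¹ * (b.1 * q) := by group
          _ = (a.1⁻¹ * q) * (b.1 * z) := by rw [h6]; group
          _ = q * a.1⁻¹ * (z * b.1) * z := by rw [h5]; group
          _ = q * a.1⁻¹ * b.1 * (z * z) := by rw [← hzc b.1]; group
          _ = _ := by rw [hzz]; group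
    rcases hcen _ h2 with h3 | h3
    · left
      exact (inv_mul_eq_one.1 h3).symm
    · right
      rw [← h3]; group
  have h1 : Nat.card A ≤ 2 * Nat.card (Γ ⧸ A →* ℚ) := by
    have hfinH : Finite (Γ ⧸ A →* ℚ) := (linearIndependent_monoidHom (Γ ⧸ A) ℚ).finite_of_isNoetherian
    have : Fintype A := Fintype.ofFinite A
    have : Fintype (Γ ⧸ A →* ℚ) := Fintype.ofFinite _
    rw [Nat.card_eq_fintype_card, Nat.card_eq_fintype_card, ← Finset.card_univ (α := A), ← Finset.card_univ (α := Γ ⧸ A →* ℚ)]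
    refine Finset.card_le_mul_card_image_of_maps_to (f := f) (fun a _ => Finset.mem_univ _) 2 ?_
    intro g _
    by_cases hg : ∃ a : A, f a = g
    · obtain ⟨a, ha⟩ := hg
      have hsub : (Finset.univ.filter fun x : A => f x = g) ⊆ {a, ⟨a.1 * z, A.mul_mem a.2 hzA⟩} := by
        intro b hb
        rw [Finset.mem_filter] at hb
        rw [Finset.mem_insert, Finset.mem_singleton]
        rcases hfib a b (ha.trans hb.2.symm) with h | h
        · exact Or.inl (Subtype.ext h)
        · exact Or.inr (Subtype.ext h)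
      exact (Finset.card_le_card hsub).trans Finset.card_le_two
    · have : (Finset.univ.filter fun x : A => f x = g) = ∅ := by
        rw [Finset.filter_eq_empty_iff]
        intro x _ hx
        exact hg ⟨x, hx⟩
      rw [this]; simp
  have h2 : Nat.card A ≤ 2 * Nat.card (Γ ⧸ A) := h1.trans (Nat.mul_le_mul_left 2 card_hom_le)
  have h3 := Subgroup.card_eq_card_quotient_mul_card_subgroup A
  rw [h3, pow_two, ← mul_assoc]
  exact Nat.mul_le_mul_right _ h2

include hz1 hzz hzc hc in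
/-- **abelian subgroups are small** -/
theorem card_sq_le [Finite Γ] (hcen : ∀ x : Γ, (∀ y, x * y = y * x) → x = 1 ∨ x = z) {A : Subgroup Γ}
    (hA : ∀ x ∈ A, ∀ y ∈ A, x * y = y * x) : Nat.card A ^ 2 ≤ 2 * Nat.card Γ := by
  have h1 : z ∈ A ⊔ zpowers z := (le_sup_right : zpowers z ≤ A ⊔ zpowers z) (mem_zpowers z)
  have hZ : (zpowers z).Normal := by
    refine ⟨fun a ha g => ?_⟩
    obtain ⟨k, rfl⟩ := ha
    have e : Commute g (z ^ k) := (show Commute g z from hzc g).zpow_right k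
    rw [e.eq, mul_inv_cancel_right]
    exact ⟨k, rfl⟩
  have h2 : ∀ x ∈ A ⊔ zpowers z, ∀ y ∈ A ⊔ zpowers z, x * y = y * x := by
    intro x hx y hy
    obtain ⟨a, ha, u, hu, rfl⟩ := Subgroup.mem_sup_of_normal_right.1 hx
    obtain ⟨b, hb, v, hv, rfl⟩ := Subgroup.mem_sup_of_normal_right.1 hy
    obtain ⟨k, rfl⟩ := hu
    obtain ⟨l, rfl⟩ := hv
    have cz : ∀ (g : Γ) (m : ℤ), Commute g (z ^ m) := fun g m => (show Commute g z from hzc g).zpow_right m
    have e1 : Commute (a * z ^ k) (b * z ^ l) :=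
      Commute.mul_right (Commute.mul_left (hA a ha b hb) (cz b k).symm) (cz _ l)
    exact e1.eq
  have h3 := card_sq_le_aux hz1 hzz hzc hc hcen h1 h2
  have h4 : Nat.card A ≤ Nat.card ↥(A ⊔ zpowers z) := Subgroup.card_le_of_le le_sup_left
  exact (Nat.pow_le_pow_left h4 2).trans h3

end

end Cfsg.Agent.H293.IF
end

-- part: H293/IF/BabyQ
section
/-!
# `B`: long orbits of `2^{1+22}.Co₂` on `2^{22}` (helper293, for row `B` of S5719)

* `Dat.index_ge` : abstract form;
* `index_ge` : for `q ∈ Q - Z` the stabilizer in `C` of the class `qZ` has index at least 1024 (`M : BData`, `A : BAll M K₀`).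
-/

set_option autoImplicit false

namespace Cfsg.Agent.H293.IF

open Subgroup

section

variable {Γ : Type*} [Group Γ]

/-- the facts on `C = C(z)`, `Q = O₂(C)` and an element `τ` moving `z` into `Q` -/
structure Dat (C Q : Subgroup Γ) (z τ : Γ) : Prop where
  zQ : z ∈ Q
  z1 : z ≠ 1
  zz : z * z = 1
  QC : Q ≤ C
  finC : Finite C
  card : Nat.card Q = 2 ^ 23
  zc : ∀ g ∈ C, g * z = z * g
  norm : ∀ g ∈ C, ∀ q ∈ Q, g * q * g⁻¹ ∈ Q
  comm : ∀ x ∈ Q, ∀ y ∈ Q, x * y = y * x ∨ x * y = y * x * z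
  cen : ∀ x ∈ Q, (∀ y ∈ Q, x * y = y * x) → x = 1 ∨ x = z
  irr : ∀ N : Subgroup Γ, N ≤ Q → (∀ g ∈ C, ∀ n ∈ N, g * n * g⁻¹ ∈ N) → (∀ n ∈ N, n = 1 ∨ n = z) ∨ N = Q
  t1 : τ * z * τ⁻¹ ∈ Q
  tne : τ * z * τ⁻¹ ≠ z
  t2 : τ⁻¹ * z * τ ∈ Q
  cz : ∀ q ∈ Q, (τ * q * τ⁻¹) * z = z * (τ * q * τ⁻¹) → τ * q * τ⁻¹ ∈ C

variable {C Q : Subgroup Γ} {z τ : Γ}

/-- abelian subgroups of `Q` have order at most `2^12` -/
theorem Dat.abel (D : Dat C Q z τ) {S : Subgroup Γ} (hS : S ≤ Q) (hc : ∀ x ∈ S, ∀ y ∈ S, x * y = y * x) :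
    Nat.card S ≤ 2 ^ 12 := by
  have hQ : Finite Q := Nat.finite_of_card_ne_zero (by rw [D.card]; norm_num)
  have h := card_sq_le (Γ := Q) (z := ⟨z, D.zQ⟩) (by
      intro h
      exact D.z1 (congrArg Subtype.val h)) (Subtype.ext D.zz) (fun x => Subtype.ext (D.zc x.1 (D.QC x.2)))
    (fun x y => (D.comm x.1 x.2 y.1 y.2).imp (fun h => Subtype.ext h) (fun h => Subtype.ext h))
    (fun x hx => (D.cen x.1 x.2 (fun y hy => congrArg Subtype.val (hx ⟨y, hy⟩))).imp (fun h => Subtype.ext h)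
      (fun h => Subtype.ext h)) (A := S.subgroupOf Q)
    (fun x hx y hy => Subtype.ext (hc x.1 (mem_subgroupOf.1 hx) y.1 (mem_subgroupOf.1 hy)))
  rw [D.card, Nat.card_congr (subgroupOfEquivOfLe hS).toEquiv] at h
  by_contra hlt
  push Not at hlt
  have h2 := Nat.pow_lt_pow_left hlt (n := 2) (by norm_num)
  norm_num only [] at h h2
  omega

end

/-! ### The model of the Baby Monster -/

open Cfsg.Agent.BabyM.Model

variable {W : Type} [AddCommGroup W] [Module ℚ W] {M : BData W} {K₀ : Type} [Group K₀]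

/-- the data of the model -/
theorem dat (A : BAll M K₀) : Dat M.C M.Q M.z M.τ where
  zQ := A.grp.z_mem
  z1 := A.grp.z_ne
  zz := A.grp.z_sq
  QC := A.grp.Q_le
  finC := by
    have h := A.grp.card_C
    exact Nat.finite_of_card_ne_zero (by rw [h]; norm_num)
  card := A.grp.Q_card
  zc := A.grp.z_comm
  norm := A.grp.Q_normal
  comm := A.grp.Q_comm
  cen := A.grp.Q_center
  irr := A.grp.Q_irred
  t1 := A.orb.τ_z
  tne := A.orb.τ_z_ne
  t2 := by
    obtain ⟨s, hs, hc⟩ := A.orb.τ_inv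
    set c := s * M.τ * s⁻¹ * M.τ with hcdef
    have hz1 := A.grp.z_comm s hs
    have h1 : M.τ⁻¹ * M.z * M.τ = c⁻¹ * (s * (M.τ * M.z * M.τ⁻¹) * s⁻¹) * c := by
      have e1 : s⁻¹ * M.z = M.z * s⁻¹ := by
        rw [inv_mul_eq_iff_eq_mul, ← mul_assoc, hz1, mul_inv_cancel_right]
      have e2 : s * (M.τ * M.z * M.τ⁻¹) * s⁻¹ = (s * M.τ * s⁻¹) * M.z * (s * M.τ * s⁻¹)⁻¹ := by
        calc s * (M.τ * M.z * M.τ⁻¹) * s⁻¹ = s * M.τ * (M.z * s⁻¹) * s * M.τ⁻¹ * s⁻¹ := by group
          _ = s * M.τ * (s⁻¹ * M.z) * s * M.τ⁻¹ * s⁻¹ := by rw [e1]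
          _ = _ := by group
      rw [e2, hcdef]
      group
    rw [h1]
    exact A.grp.Q_normal' c hc _ (A.grp.Q_normal s hs _ A.orb.τ_z)
  cz := by
    intro q hq h
    refine A.cent_z _ ?_ h
    exact M.G.mul_mem (M.G.mul_mem A.τ_mem_G (A.C_le_G (A.grp.Q_le hq))) (M.G.inv_mem A.τ_mem_G)

end Cfsg.Agent.H293.IF
end

-- part: H465/IF/BOne
section
/-!
# S5719, the Baby Monster: no transposition (helper465)

* `eq_top_of` : a subgroup `A` of the model containing a transposition and such that `|C(t) : C_A(t)| ≤ 1023` for all its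
  transpositions `t` is the whole group;
* `no_2A` : `A` contains no transposition if `IF A Γ`.
-/

set_option autoImplicit false
set_option linter.unusedSectionVars false

namespace Cfsg.Agent.H465.IF.BOne

open Subgroup
open Cfsg.Agent.H465.Gen Cfsg.Agent.H465.Gen.BAbs
open Cfsg.Agent.BabyM.Model Cfsg.Agent.H995.BSch
open Cfsg.Agent.H465.Gen.BDisp (τ τ_mk ts τ_smul t₀_sq)
open Cfsg.Agent.BabyM.Inst (M)
open Cfsg.Agent.H209.Fxy

/-- the central involution -/
noncomputable def z : M.G := ⟨M.z, BabyM.Instance.all.C_le_G BabyM.Instance.all.grp.z_mem_C⟩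

/-- `O₂(C(z))` -/
noncomputable def Q : Subgroup M.G := M.Q.subgroupOf M.G

theorem finG : Finite M.G := BabyM.Instance.all.finite_G

theorem Q_le_G : M.Q ≤ M.G := fun _ h => BabyM.Instance.all.C_le_G (BabyM.Instance.all.grp.Q_le h)

theorem t₀_mem : BDisp.t₀ ∈ Q := BabyM.Instance.all.rep.t₀_mem

theorem z_sq : z * z = 1 := Subtype.ext BabyM.Instance.all.grp.z_sq

theorem z_comm {x : M.G} (hx : x ∈ Q) : x * z = z * x :=
  Subtype.ext (BabyM.Instance.all.grp.z_comm x (BabyM.Instance.all.grp.Q_le hx))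

theorem Q_comm {x y : M.G} (hx : x ∈ Q) (hy : y ∈ Q) : x * y = y * x ∨ x * y = y * x * z :=
  (BabyM.Instance.all.grp.Q_comm x hx y hy).imp (fun h => Subtype.ext h) (fun h => Subtype.ext h)

theorem card_Q : Nat.card Q = 2 ^ 23 := by
  unfold Q
  rw [Nat.card_congr (subgroupOfEquivOfLe Q_le_G).toEquiv]
  exact BabyM.Instance.all.grp.Q_card

/-- the centraliser of `t₀` in `Q` -/
noncomputable def P : Subgroup M.G := Q ⊓ centralizer ({BDisp.t₀} : Set M.G)

theorem card_P : 2 ^ 22 ≤ Nat.card P := by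
  have hG := finG
  have h2 : (centralizer ({BDisp.t₀} : Set M.G)).relIndex Q ∣ 2 := by
    rw [relIndex_dvd_two_iff]
    by_cases h : ∃ a ∈ Q, ¬ a * BDisp.t₀ = BDisp.t₀ * a
    · obtain ⟨a, ha, hna⟩ := h
      refine ⟨a, ha, fun b hb => ?_⟩
      by_cases hb' : b * BDisp.t₀ = BDisp.t₀ * b
      · exact Or.inr (mem_centralizer_singleton_iff.2 hb')
      · left
        rw [mem_centralizer_singleton_iff]
        have e1 := (Q_comm ha t₀_mem).resolve_left hna
        have e2 := (Q_comm hb t₀_mem).resolve_left hb'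
        have e3 := z_comm ha
        calc b * a * BDisp.t₀ = b * (a * BDisp.t₀) := by group
          _ = b * (BDisp.t₀ * a * z) := by rw [e1]
          _ = (b * BDisp.t₀) * (a * z) := by group
          _ = (BDisp.t₀ * b * z) * (a * z) := by rw [e2]
          _ = BDisp.t₀ * b * (z * (a * z)) := by group
          _ = BDisp.t₀ * b * (z * (z * a)) := by rw [e3]
          _ = BDisp.t₀ * b * ((z * z) * a) := by group
          _ = _ := by rw [z_sq]; group
    · refine ⟨1, Q.one_mem, fun b hb => Or.inr (mem_centralizer_singleton_iff.2 ?_)⟩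
      by_contra hb'
      exact h ⟨b, hb, hb'⟩
  have h3 : P.relIndex Q = (centralizer ({BDisp.t₀} : Set M.G)).relIndex Q := by
    unfold P
    rw [inf_comm, inf_relIndex_right]
  have h4 : P.relIndex Q ≤ 2 := by
    rw [h3]; exact Nat.le_of_dvd (by norm_num) h2
  have h5 : Nat.card P * P.relIndex Q = Nat.card Q := by
    have h6 := Subgroup.card_mul_index (P.subgroupOf Q)
    have hle : P ≤ Q := inf_le_left
    rw [Nat.card_congr (subgroupOfEquivOfLe hle).toEquiv] at h6
    exact h6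
  rw [card_Q] at h5
  have h6 : Nat.card P * P.relIndex Q ≤ Nat.card P * 2 := Nat.mul_le_mul_left _ h4
  rw [h5] at h6
  norm_num only [_root_.ge_iff_le] at h6 ⊢
  omega

/-- abelian subgroups of `Q` -/
theorem abel {S : Subgroup M.G} (hS : S ≤ Q) (hc : ∀ x ∈ S, ∀ y ∈ S, x * y = y * x) : Nat.card S ≤ 2 ^ 12 := by
  have h1 := (H293.IF.dat BabyM.Instance.all).abel (S := S.map M.G.subtype) (by
    rintro _ ⟨x, hx, rfl⟩
    exact hS hx) (by
    rintro _ ⟨x, hx, rfl⟩ _ ⟨y, hy, rfl⟩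
    rw [← map_mul, ← map_mul, hc x hx y hy])
  rwa [← Nat.card_congr (S.equivMapOfInjective _ M.G.subtype_injective).toEquiv] at h1

/-- a subgroup of small relative index in `C(t₀)` contains `z` -/
theorem z_mem_of {D : Subgroup M.G} (h : D.relIndex (centralizer ({BDisp.t₀} : Set M.G)) ≤ 1023) : z ∈ D := by
  have hG := finG
  by_contra hz
  have h1 : D.relIndex P ≤ 1023 := by
    refine le_trans (relIndex_le_of_le_right inf_le_right ?_) h
    unfold Subgroup.relIndex
    exact Subgroup.index_ne_zero_of_finite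
  have h2 : Nat.card ↥(D ⊓ P) ≤ 2 ^ 12 := by
    refine abel (inf_le_right.trans inf_le_left) fun x hx y hy => ?_
    refine (Q_comm hx.2.1 hy.2.1).resolve_right fun e => hz ?_
    have h3 : z = (y * x)⁻¹ * (x * y) := by rw [e]; group
    rw [h3]
    exact D.mul_mem (D.inv_mem (D.mul_mem hy.1 hx.1)) (D.mul_mem hx.1 hy.1)
  have h5 : Nat.card ↥(D ⊓ P) * (D ⊓ P).relIndex P = Nat.card P := by
    have h6 := Subgroup.card_mul_index ((D ⊓ P).subgroupOf P)
    rw [Nat.card_congr (subgroupOfEquivOfLe (inf_le_right : D ⊓ P ≤ P)).toEquiv] at h6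
    exact h6
  rw [inf_relIndex_right] at h5
  have h6 := card_P
  have h7 : Nat.card ↥(D ⊓ P) * D.relIndex P ≤ 2 ^ 12 * 1023 := Nat.mul_le_mul h2 h1
  rw [h5] at h7
  norm_num only [] at h6 h7
  omega

theorem relIndex_conj {A : Subgroup M.G} (g t : M.G) :
    (A.map (MulAut.conj g⁻¹).toMonoidHom).relIndex (centralizer ({t} : Set M.G)) =
      A.relIndex (centralizer ({g * t * g⁻¹} : Set M.G)) := by
  have h4 : (centralizer ({t} : Set M.G)) =
      (centralizer ({g * t * g⁻¹} : Set M.G)).map (MulAut.conj g⁻¹).toMonoidHom := by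
    ext x
    rw [Subgroup.mem_map_equiv, mem_centralizer_singleton_iff, mem_centralizer_singleton_iff, MulAut.conj_symm_apply,
      inv_inv]
    constructor
    · intro h
      calc g * x * g⁻¹ * (g * t * g⁻¹) = g * (x * t) * g⁻¹ := by group
        _ = g * t * g⁻¹ * (g * x * g⁻¹) := by rw [h]; group
    · intro h
      calc x * t = g⁻¹ * (g * x * g⁻¹ * (g * t * g⁻¹)) * g := by group
        _ = t * x := by rw [h]; group
  rw [h4]
  exact relIndex_map_map_of_injective _ _ (MulAut.conj g⁻¹).injective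

/-- **Subgroups with transpositions.** -/
theorem eq_top_of {A : Subgroup M.G}
    (hA : ∀ t ∈ A, IsConj BDisp.t₀ t → A.relIndex (centralizer ({t} : Set M.G)) ≤ 1023)
    {t : M.G} (ht : t ∈ A) (hc : IsConj BDisp.t₀ t) : A = ⊤ := by
  obtain ⟨q, hq, hq1, hq2⟩ := BabyM.Instance.all.d₁_mem'
  have hqG : q ∈ M.G := Q_le_G hq
  set y₁ : X M := QuotientGroup.mk ⟨q, hqG⟩ with hy₁
  have hcol : cX M (QuotientGroup.mk 1) y₁ = 1 := by
    rw [hy₁, cX_mk BabyM.Instance.all]
    show col M ((1 : BabyM.Conc.V ≃ₗ[ℚ] BabyM.Conc.V) M.d₀) (q M.d₀) = 1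
    rw [hq1]
    exact col_d₀_d₁ BabyM.Instance.all
  have hτ₁ : τ y₁ = BDisp.t₀ * z := by
    rw [hy₁, τ_mk]
    refine Subtype.ext ?_
    show q * M.t₀ * q⁻¹ = M.t₀ * M.z
    have h1 := BabyM.Instance.all.grp.z_comm q⁻¹ (M.C.inv_mem (BabyM.Instance.all.grp.Q_le hq))
    rw [hq2, mul_assoc, ← h1]
    group
  have hτ₀ : τ (QuotientGroup.mk 1 : X M) = BDisp.t₀ := by rw [τ_mk]; group
  have hall : ∀ y, τ y ∈ A := by
    obtain ⟨k, hk⟩ := isConj_iff.1 hc
    have hx : τ (QuotientGroup.mk k : X M) ∈ A := by rw [τ_mk, hk]; exact ht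
    refine fun y => ts.connected (P := fun y => τ y ∈ A) ?_ hx y
    intro x y hx hxy
    obtain ⟨g, rfl, rfl⟩ := ts.col.tr _ _ _ _ (hcol.trans hxy.symm)
    rw [τ_smul, hτ₀] at hx
    rw [τ_smul, hτ₁]
    have h1 := hA _ hx (isConj_iff.2 ⟨g, rfl⟩)
    rw [← relIndex_conj] at h1
    have h2 := z_mem_of h1
    rw [Subgroup.mem_map_equiv, MulAut.conj_symm_apply, inv_inv] at h2
    have h3 : g * (BDisp.t₀ * z) * g⁻¹ = g * BDisp.t₀ * g⁻¹ * (g * z * g⁻¹) := by group
    rw [h3]
    exact A.mul_mem hx h2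
  rw [eq_top_iff, ← ts.gen, closure_le]
  rintro _ ⟨y, rfl⟩
  exact hall y

theorem hna : ∃ a b : M.G, a * b ≠ b * a := by
  by_contra hcon
  push Not at hcon
  have h1 := BDisp.center_eq_one BDisp.t₀ fun k => hcon _ _
  have h2 := BabyM.Instance.all.card_cent BabyM.Instance.tr
  rw [show (⟨M.t₀, BabyM.Instance.all.C_le_G BabyM.Instance.all.t₀_C⟩ : M.G) = BDisp.t₀ from rfl, h1] at h2
  have h3 : centralizer ({1} : Set M.G) = ⊤ := by
    rw [Subgroup.eq_top_iff']
    intro x
    rw [mem_centralizer_singleton_iff, mul_one, one_mul]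
  rw [h3, Subgroup.card_top, BabyM.Instance.all.card_G] at h2
  omega

theorem index_t₀ : (centralizer ({BDisp.t₀} : Set M.G)).index = 13571955000 := by
  have := finG
  have h1 := card_mul_index (centralizer ({BDisp.t₀} : Set M.G))
  have h2 := BabyM.Instance.all.card_cent BabyM.Instance.tr
  rw [show (⟨M.t₀, BabyM.Instance.all.C_le_G BabyM.Instance.all.t₀_C⟩ : M.G) = BDisp.t₀ from rfl] at h2
  rw [h2, BabyM.Instance.all.card_G] at h1
  omega

theorem index_conj {t u : M.G} (h : IsConj t u) :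
    (centralizer ({u} : Set M.G)).index = (centralizer ({t} : Set M.G)).index := by
  obtain ⟨g, rfl⟩ := isConj_iff.1 h
  have h1 : (centralizer ({g * t * g⁻¹} : Set M.G)) = (centralizer ({t} : Set M.G)).map (MulAut.conj g).toMonoidHom := by
    ext x
    rw [Subgroup.mem_map_equiv, mem_centralizer_singleton_iff, mem_centralizer_singleton_iff, MulAut.conj_symm_apply]
    constructor
    · intro h
      calc g⁻¹ * x * g * t = g⁻¹ * (x * (g * t * g⁻¹)) * g := by group
        _ = t * (g⁻¹ * x * g) := by rw [h]; group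
    · intro h
      calc x * (g * t * g⁻¹) = g * (g⁻¹ * x * g * t) * g⁻¹ := by group
        _ = g * t * g⁻¹ * x := by rw [h]; group
  rw [h1]
  exact Subgroup.index_map_of_bijective (MulAut.conj g).bijective _

theorem orderOf_t₀ : orderOf BDisp.t₀ = 2 := by
  refine orderOf_eq_prime (by rw [pow_two, t₀_sq]) ?_
  intro h
  exact BabyM.Instance.all.rep.t₀_ne (congrArg Subtype.val h)

/-- **No transpositions.** -/
theorem no_2A {A : Subgroup M.G} {Γ : Subgroup (MulAut M.G)} (h : IF A Γ) {t : M.G} (ht : t ∈ A)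
    (hc : IsConj BDisp.t₀ t) : False := by
  have hfin := finG
  have hsim := BabyM.Instance.all.simple
  refine h.ne_top (eq_top_of (fun u hu hcu => ?_) ht hc)
  have ho : orderOf u = 2 := by
    obtain ⟨g, rfl⟩ := isConj_iff.1 hcu
    rw [← MulAut.conj_apply, MulEquiv.orderOf_eq, orderOf_t₀]
  have h3 := (H999.IFB.IF.E2' h hna hu ho).2.2.2.2 (centralizer ({u} : Set M.G)) le_rfl
  rw [index_conj hcu, index_t₀] at h3
  by_contra hcon
  push Not at hcon
  have h5 : 1024 ^ 5 ≤ A.relIndex (centralizer ({u} : Set M.G)) ^ 5 := Nat.pow_le_pow_left hcon 5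
  have h6 := lt_of_le_of_lt h5 h3.1
  norm_num at h6

end Cfsg.Agent.H465.IF.BOne
end
end

-- part: H94/IF/Mid
section
set_option linter.all false
open scoped Cfsg.Agent.FastGrp

/-!
# S5719: the cells `plus_mid`, `minus_mid` of the orthogonal groups, `q` odd, from their boxes (helper94)
-/

set_option autoImplicit false
set_option linter.unusedSectionVars false
set_option linter.unusedVariables false

namespace Cfsg.Agent.H94.IF

open QuadraticMap Cfsg Cfsg.Agent.LieClassical.OrthCore Cfsg.Agent.LieClassical.OrthTrans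
  Cfsg.Agent.LieClassical.OrthFinite Cfsg.Agent.LieClassical.OrthForms Cfsg.Agent.H209.Fxy
  Cfsg.Agent.H75.OrthIdx Cfsg.Agent.H112.Row2.OrthExt
open Module (finrank)
open Cfsg.Agent.H325.IF (Vm Vp)

/-- CLAIM 0 for the model -/
def ClaimZ {ι : Type} [Fintype ι] [DecidableEq ι] {F : Type} [Field F] (Q : QuadraticForm F (ι → F)) : Prop :=
  ∀ (hG : Good Q) (A : Subgroup (POmega F ⇑Q)) (Γ : Subgroup (MulAut (POmega F ⇑Q))), IF A Γ →
    ∀ t ∈ A.comap (omHom hG), t * t = 1 → (finrank F (Vm t) = 2 ∨ finrank F (Vm t) + 2 = finrank F (ι → F)) → False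

theorem ten_of {ι : Type} [Fintype ι] [DecidableEq ι] {F : Type} [Field F] [Fintype F]
    (ho : Odd (Fintype.card F)) (Q : QuadraticForm F (ι → F)) (hQ : Nondeg Q) (h10 : Fintype.card ι = 10)
    (hs : IsSimpleGroup (POmega F ⇑Q)) (hC : ClaimZ Q) : KillE (POmega F ⇑Q) := by
  have hfr : finrank F (ι → F) = 10 := by rw [Module.finrank_pi F, h10]
  have hG : Good Q := good_of_finite hQ (by rw [hfr]; omega)
  refine Cfsg.Agent.H556.IF.ten_killE (Cfsg.Agent.H254.IF.two_ne_zero_of_odd ho) hG hfr hs ?_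
  intro A Γ hIF t ht htt hr
  refine hC hG A Γ hIF t ht htt ?_
  rw [hfr]
  omega

end Cfsg.Agent.H94.IF
end

-- part: H94/IF/Mid_mg
section

end

-- part: H94/IF/CZero_mg
section
prune_inst 0x4240000014100000000048010400000851100040000000c0004a501020008202805022040080000014800800000000000020000200000000000200000000101000800020001400008000000000000000000000000000000000000000000000000000000000
set_option linter.all false
open scoped Cfsg.Agent.FastGrp

-- part: H178/IFO/MI
section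
/-!
# S5719: the minimal index of `Ω` in dimension at least six (helper178)

`mi` : `Q` nondegenerate on a space of dimension `n ≥ 6` over a finite field of odd order `q`: a subgroup of `GL(V)`
which does not contain `E Q` has (relative) index at least `(q - 1) q ^ (n - 4)` in `E Q`.

The group `rad Q e` of the Siegel elements at `e` has a nontrivial character in the permutation module, with it its
whole orbit under the stabiliser of the line of `e`.
-/

set_option autoImplicit false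

namespace Cfsg.Agent.H178.IFO

open QuadraticMap Cfsg.Agent.LieClassical.OrthCore Cfsg.Agent.LieClassical.OrthTrans Cfsg.Agent.H75.OrthIdx

variable {F V : Type*} [Field F] [AddCommGroup V] [Module F V] {Q : QuadraticForm F V} [Finite F]
  [FiniteDimensional F V]

theorem exists_vecSet_lt (hG : Good Q) (hd : 6 ≤ Module.finrank F V) {e f : V} (h : Hyp Q e f)
    {H : Subgroup (V ≃ₗ[F] V)} (hrad : ¬ rad Q e ≤ H) :
    ∃ v, polar Q e v = 0 ∧ v ∉ Submodule.span F {e} ∧
      (VecSet Q e v).ncard < Nat.card F * H.relIndex (E Q) := by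
  classical
  have : Finite V := Module.finite_of_finite F
  obtain ⟨p, hp, θ, -, hθ, hcard, -⟩ := exists_dual hG.nondeg
  set B := Bs Q H e with hB
  set S := dl Q θ B with hS
  have he0 : e ≠ 0 := h.left_ne
  have hq : 0 < Nat.card F := Nat.card_pos
  have h1 := relIndex_rad_mul hG.nondeg he0 H
  have h2 : Nat.card S * Nat.card B = Nat.card V := hcard B
  have hV : Nat.card V = Nat.card F ^ (Module.finrank F V - 1) * Nat.card F := by
    rw [Module.natCard_eq_pow_finrank (K := F) (V := V), ← pow_succ]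
    congr 1
    omega
  have hBpos : 0 < Nat.card B := Nat.card_pos
  have hSr : Nat.card S = Nat.card F * H.relIndex (rad Q e) := by
    apply Nat.eq_of_mul_eq_mul_right hBpos
    rw [h2, hV, ← h1]
    ring
  have hr : 2 ≤ H.relIndex (rad Q e) := by
    have h3 : H.relIndex (rad Q e) ≠ 0 := relIndex_ne _ _
    have h4 : H.relIndex (rad Q e) ≠ 1 := fun h5 => hrad (Subgroup.relIndex_eq_one.1 h5)
    omega
  -- `F e` lies in `B` and in `S`
  have heB : ∀ c : F, c • e ∈ B := fun c =>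
    ⟨by rw [polar_smul_right, polar_self_of_sing h.left, smul_zero], by
      rw [sg_smul_self h.left]; exact H.one_mem⟩
  have hSe : ∀ v ∈ S, polar Q e v = 0 := by
    intro v hv
    by_contra hne
    obtain ⟨c, hc⟩ := hθ _ hne
    apply hc
    have h3 := hv (c • e) (heB c)
    rwa [polar_smul_left, smul_eq_mul] at h3
  have heS : ∀ c : F, c • e ∈ S := by
    intro c v hv
    have h3 : polar Q e v = 0 := hv.1
    rw [polar_smul_right, polar_comm, h3, smul_zero, map_zero]
  have hspan : Nat.card (Submodule.span F {e}) = Nat.card F := by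
    rw [Module.natCard_eq_pow_finrank (K := F) (V := Submodule.span F {e}), finrank_span_singleton he0, pow_one]
  obtain ⟨v, hvS, hvn⟩ : ∃ v ∈ S, v ∉ Submodule.span F {e} := by
    by_contra hcon
    push Not at hcon
    have h3 : (S : Set V).ncard ≤ (Submodule.span F {e} : Set V).ncard :=
      Set.ncard_le_ncard (fun x hx => hcon x hx) (Set.toFinite _)
    have h4 : Nat.card S ≤ Nat.card (Submodule.span F {e}) := h3
    rw [hSr, hspan] at h4
    nlinarith only [hq, hr, h4]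
  refine ⟨v, hSe v hvS, hvn, ?_⟩
  have h5 := vec_bound hG hd h false (Nst Q H e) S (stab_dl h) hvS (hSe v hvS) hvn
  have h6 : (VecSet Q e v ∩ (S : Set V)).ncard + Nat.card F ≤ Nat.card S := by
    have h7 : Disjoint (VecSet Q e v ∩ (S : Set V)) (Submodule.span F {e} : Set V) := by
      rw [Set.disjoint_left]
      rintro w ⟨⟨-, hli, -⟩, -⟩ hw
      exact notMem_of_li2 hli hw
    have h8 : VecSet Q e v ∩ (S : Set V) ∪ (Submodule.span F {e} : Set V) ⊆ (S : Set V) := by
      rintro w (hw | hw)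
      · exact hw.2
      · obtain ⟨a, rfl⟩ := Submodule.mem_span_singleton.1 hw
        exact heS a
    have h9 := Set.ncard_le_ncard h8 (Set.toFinite _)
    rw [Set.ncard_union_eq h7 (Set.toFinite _) (Set.toFinite _)] at h9
    have h10 : (Submodule.span F {e} : Set V).ncard = Nat.card (Submodule.span F {e}) := rfl
    rw [h10, hspan] at h9
    exact h9
  have h11 := relIndex_ge h.left H
  have hN : 0 < (Nst Q H e).relIndex (Pst Q e) := Nat.pos_of_ne_zero (relIndex_ne _ _)
  rw [hSr] at h6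
  calc (VecSet Q e v).ncard ≤ (Nst Q H e).relIndex (Pst Q e) * (VecSet Q e v ∩ (S : Set V)).ncard := h5
    _ < (Nst Q H e).relIndex (Pst Q e) * (Nat.card F * H.relIndex (rad Q e)) := by
        apply Nat.mul_lt_mul_of_pos_left _ hN
        omega
    _ = Nat.card F * (H.relIndex (rad Q e) * (Nst Q H e).relIndex (Pst Q e)) := by ring
    _ ≤ _ := Nat.mul_le_mul_left _ h11

theorem le_ncard_perp (hG : Good Q) {e f : V} (h : Hyp Q e f) (c : F) :
    (Nat.card F - 1) * Nat.card F ^ (Module.finrank F V - 3) ≤ {w : V | polar Q e w = 0 ∧ Q w = c}.ncard := by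
  classical
  have : Finite V := Module.finite_of_finite F
  obtain ⟨x, y, hxy, hex, hey, -, -⟩ := hG.exists_hyp2 h
  have hli : LinearIndependent F ![e] := by
    rw [linearIndependent_unique_iff]
    exact h.left_ne
  refine (le_ncard_norm hG.nondeg ![e] hli ![0] hxy ?_ ?_ c).trans (Set.ncard_le_ncard ?_ (Set.toFinite _))
  · intro i
    fin_cases i
    exact hex
  · intro i
    fin_cases i
    exact hey
  · rintro w ⟨h1, h2, -⟩
    exact ⟨h1 0, h2⟩


omit [Finite F] [FiniteDimensional F V] in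
theorem le_of_rad (hQ : Nondeg Q) {e f : V} (h : Hyp Q e f) {H : Subgroup (V ≃ₗ[F] V)} (he : rad Q e ≤ H)
    (hf : rad Q f ≤ H) : E Q ≤ H :=
  E_le_of_opp hQ h (fun _ hv => he (sg_mem_rad hv)) (fun _ hv => hf (sg_mem_rad hv))

/-- **MI.** -/
theorem mi (hG : Good Q) (hd : 6 ≤ Module.finrank F V) (h2 : (2 : F) ≠ 0) {H : Subgroup (V ≃ₗ[F] V)}
    (hH : ¬ E Q ≤ H) :
    (Nat.card F - 1) * Nat.card F ^ (Module.finrank F V - 4) ≤ H.relIndex (E Q) := by
  classical
  have : Finite V := Module.finite_of_finite F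
  have hq3 : 3 ≤ Nat.card F := by
    have := Fintype.ofFinite F
    have h3 := Finite.one_lt_card (α := F)
    by_contra hcon
    have h4 : Nat.card F = 2 := by omega
    apply h2
    have h5 : CharP F 2 := by
      have h6 : Fintype.card F = 2 := by rw [← Nat.card_eq_fintype_card, h4]
      obtain ⟨p, hp⟩ := CharP.exists F
      have h7 : p.Prime := CharP.char_is_prime F p
      have : Fact p.Prime := ⟨h7⟩
      obtain ⟨n, hn⟩ := FiniteField.card F p
      rw [h6] at hn
      have h8 : p ∣ 2 := by rw [hn.2]; exact dvd_pow_self p n.ne_zero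
      have h9 : p = 2 := (Nat.prime_dvd_prime_iff_eq h7 Nat.prime_two).1 h8
      rwa [h9] at hp
    exact_mod_cast CharP.cast_eq_zero F 2
  obtain ⟨e, f, h⟩ := hG.exists_hyp
  have key : ∃ e f : V, Hyp Q e f ∧ ¬ rad Q e ≤ H := by
    by_cases he : rad Q e ≤ H
    · refine ⟨f, e, h.symm, fun hf => hH (le_of_rad hG.nondeg h he hf)⟩
    · exact ⟨e, f, h, he⟩
  obtain ⟨e, f, h, hr⟩ := key
  obtain ⟨v, hev, hvn, hlt⟩ := exists_vecSet_lt hG hd h hr
  obtain ⟨q, hq⟩ : ∃ q, q = Nat.card F := ⟨_, rfl⟩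
  obtain ⟨k, hk⟩ : ∃ k, Module.finrank F V = k + 6 := ⟨Module.finrank F V - 6, by omega⟩
  rw [hk, show k + 6 - 4 = k + 2 by omega]
  rw [← hq] at hlt hq3 ⊢
  obtain ⟨r, rfl⟩ : ∃ r, q = r + 3 := ⟨q - 3, by omega⟩
  have hP : 0 < (r + 3) ^ k := by positivity
  by_cases hv : Q v = 0
  · have h3 := ncard_vecSet_sing h.left_ne h.left hv
    have h4 := le_ncard_perp hG h 0
    rw [← h3, ← hq, hk, show k + 6 - 3 = k + 3 by omega] at h4
    have h5 : (r + 3) * ((r + 3 - 1) * (r + 3) ^ (k + 2)) < (r + 3) * (H.relIndex (E Q) + 1) := by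
      calc (r + 3) * ((r + 3 - 1) * (r + 3) ^ (k + 2)) = (r + 3 - 1) * (r + 3) ^ (k + 3) := by ring
        _ ≤ (VecSet Q e v).ncard + (r + 3) := h4
        _ < (r + 3) * H.relIndex (E Q) + (r + 3) := by omega
        _ = (r + 3) * (H.relIndex (E Q) + 1) := by ring
    have h6 := lt_of_mul_lt_mul_left h5 (Nat.zero_le _)
    omega
  · have h3 := mul_le_ncard_vecSet h.left_ne h.left hv (K := (Nat.card F - 1) * Nat.card F ^ (Module.finrank F V - 3))
      (fun c _ => le_ncard_perp hG h c)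
    rw [← hq, hk, show k + 6 - 3 = k + 3 by omega, show r + 3 - 1 = r + 2 by omega] at h3
    have h5 : (r + 3) * ((r + 3 - 1) * (r + 3) ^ (k + 2) * 2) < (r + 3) * (H.relIndex (E Q) * 2) := by
      calc (r + 3) * ((r + 3 - 1) * (r + 3) ^ (k + 2) * 2) = 2 * ((r + 2) * (r + 3) ^ (k + 3)) := by
            rw [show r + 3 - 1 = r + 2 by omega]; ring
        _ ≤ (r + 2) * ((r + 2) * (r + 3) ^ (k + 3)) := Nat.mul_le_mul_right _ (by omega)
        _ ≤ (VecSet Q e v).ncard * 2 := h3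
        _ < (r + 3) * H.relIndex (E Q) * 2 := by omega
        _ = (r + 3) * (H.relIndex (E Q) * 2) := by ring
    have h6 := lt_of_mul_lt_mul_left h5 (Nat.zero_le _)
    omega

end Cfsg.Agent.H178.IFO
end

-- part: H886/IF/Eight
section
/-!
# S5719, `POmega_8^+(q)`, `q` odd: the subgroup `SL₂(q)⁴` (helper886)

* `exists_eight` : a fundamental involution gives two perpendicular 4-spaces of plus type;
* `inv_two`, `inv_half` : the products of two elements of square `-1`;
* `package` : four commuting `SL₂ → P Q` with `-1 ↦ z`.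
-/

set_option autoImplicit false
set_option linter.unusedSectionVars false
set_option linter.unusedSimpArgs false

namespace Cfsg.Agent.H886.IF8

open QuadraticMap Module Cfsg.Agent.LieClassical Cfsg.Agent.LieClassical.OrthCore Cfsg.Agent.LieClassical.OrthTrans
open Cfsg.Agent.LieClassical.OrthFinite
open Cfsg.Agent.H989.Gs.Gen Cfsg.Agent.H989.Fx Cfsg.Agent.H325.IF
open Cfsg.Agent.ClassicalGeometry.OrthAut1 (P center_scalar mem_center_of_scalar)
open Cfsg.Agent.UGT.U2.FOne.Orth (Four)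
open Matrix (SpecialLinearGroup)

universe u v

variable {F : Type u} {V : Type v} [Field F] [AddCommGroup V] [Module F V] {Q : QuadraticForm F V}

/-- `SL₂(F)` -/
abbrev SL2 (F : Type u) [Field F] : Type u := _root_.Matrix.SpecialLinearGroup (Fin 2) F

theorem ap_rhoE {e₁ f₁ e₂ f₂ : V} (h : Four Q e₁ f₁ e₂ f₂) (M : SL2 F) (v : V) : ap (h.rhoE M) v = h.rho M v := rfl

/-! ### one half -/

section half

variable {e₁ f₁ e₂ f₂ : V} (h : Four Q e₁ f₁ e₂ f₂)

/-- `v` is perpendicular to the four vectors -/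
def Pp (Q : QuadraticForm F V) (e₁ f₁ e₂ f₂ v : V) : Prop :=
  polar Q e₁ v = 0 ∧ polar Q f₁ v = 0 ∧ polar Q e₂ v = 0 ∧ polar Q f₂ v = 0

/-- `SL₂ × SL₂` on the 4-space -/
def two : SL2 F × SL2 F →* ↥(E Q) := MonoidHom.noncommCoprod h.rhoE h.swap.rhoE fun M N => h.comm_swap M N

theorem two_apply (x : SL2 F × SL2 F) : two h x = h.rhoE x.1 * h.swap.rhoE x.2 := rfl

theorem ap_two (x : SL2 F × SL2 F) (v : V) : ap (two h x) v = h.rho x.1 (h.swap.rho x.2 v) := rfl

theorem two_perp {v : V} (hv : Pp Q e₁ f₁ e₂ f₂ v) (x : SL2 F × SL2 F) : ap (two h x) v = v := by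
  obtain ⟨h1, h2, h3, h4⟩ := hv
  rw [ap_two, h.swap.rho_perp h1 h2 h4 h3, h.rho_perp h1 h2 h3 h4]

/-- combinations of the four vectors -/
def cb (e₁ f₁ e₂ f₂ : V) (a b c d : F) : V := a • e₁ + b • f₁ + c • e₂ + d • f₂

theorem ap_two_cb (x : SL2 F × SL2 F) (a b c d : F) :
    ap (two h x) (cb e₁ f₁ e₂ f₂ a b c d) = cb e₁ f₁ e₂ f₂
      (x.1.1 0 0 * (x.2.1 0 0 * a + x.2.1 0 1 * d) + x.1.1 0 1 * (-x.2.1 0 1 * b + x.2.1 0 0 * c))
      (x.1.1 1 1 * (x.2.1 1 1 * b - x.2.1 1 0 * c) - x.1.1 1 0 * (x.2.1 1 0 * a + x.2.1 1 1 * d))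
      (x.1.1 1 0 * (x.2.1 0 0 * a + x.2.1 0 1 * d) + x.1.1 1 1 * (-x.2.1 0 1 * b + x.2.1 0 0 * c))
      (-x.1.1 0 1 * (x.2.1 1 1 * b - x.2.1 1 0 * c) + x.1.1 0 0 * (x.2.1 1 0 * a + x.2.1 1 1 * d)) := by
  rw [ap_two, cb, cb]
  simp only [map_add, map_smul, h.swap.rho_e1, h.swap.rho_e2, h.swap.rho_f1, h.swap.rho_f2, h.rho_e1, h.rho_e2, h.rho_f1,
    h.rho_f2]
  module

include h in
theorem cb_eq {a b c d a' b' c' d' : F} (h0 : cb e₁ f₁ e₂ f₂ a b c d = cb e₁ f₁ e₂ f₂ a' b' c' d') :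
    a = a' ∧ b = b' ∧ c = c' ∧ d = d' := by
  have h1 : (a - a') • e₁ + (b - b') • f₁ + (c - c') • e₂ + (d - d') • f₂ = 0 := by
    have h2 := sub_eq_zero.2 h0
    rw [← h2, cb, cb]
    module
  obtain ⟨h2, h3, h4, h5⟩ := h.indep h1
  exact ⟨sub_eq_zero.1 h2, sub_eq_zero.1 h3, sub_eq_zero.1 h4, sub_eq_zero.1 h5⟩

theorem ext_SL2 {M : SL2 F} {s : F} (h00 : M.1 0 0 = s) (h01 : M.1 0 1 = 0) (h10 : M.1 1 0 = 0) (h11 : M.1 1 1 = s) :
    M = 1 ∧ s = 1 ∨ M = -1 ∧ s = -1 := by
  have hdet := M.2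
  rw [Matrix.det_fin_two, h00, h01, h10, h11] at hdet
  have h1 : (s - 1) * (s + 1) = 0 := by linear_combination hdet
  rcases mul_eq_zero.1 h1 with h2 | h2
  · left
    have h3 : s = 1 := by linear_combination h2
    refine ⟨?_, h3⟩
    ext i j
    fin_cases i <;> fin_cases j
    · simpa only [_root_.Fin.zero_eta, _root_.Fin.isValue, _root_.Matrix.SpecialLinearGroup.coe_one, _root_.Matrix.one_apply_eq] using h00.trans h3
    · simpa only [_root_.Fin.zero_eta, _root_.Fin.isValue, _root_.Fin.mk_one, _root_.Matrix.SpecialLinearGroup.coe_one, _root_.Nat.reduceAdd, _root_.ne_eq, _root_.zero_ne_one, _root_.not_false_eq_true, _root_.Matrix.one_apply_ne] using h01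
    · simpa only [_root_.Fin.mk_one, _root_.Fin.isValue, _root_.Fin.zero_eta, _root_.Matrix.SpecialLinearGroup.coe_one, _root_.Nat.reduceAdd, _root_.ne_eq, _root_.one_ne_zero, _root_.not_false_eq_true, _root_.Matrix.one_apply_ne] using h10
    · simpa only [_root_.Fin.mk_one, _root_.Fin.isValue, _root_.Matrix.SpecialLinearGroup.coe_one, _root_.Matrix.one_apply_eq] using h11.trans h3
  · right
    have h3 : s = -1 := by linear_combination h2
    refine ⟨?_, h3⟩
    ext i j
    fin_cases i <;> fin_cases j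
    · simpa using h00.trans h3
    · simpa only [_root_.Fin.zero_eta, _root_.Fin.isValue, _root_.Fin.mk_one, _root_.Matrix.SpecialLinearGroup.coe_neg, _root_.Matrix.SpecialLinearGroup.coe_one, _root_.Matrix.neg_apply, _root_.Nat.reduceAdd, _root_.ne_eq, _root_.zero_ne_one, _root_.not_false_eq_true, _root_.Matrix.one_apply_ne, _root_.neg_zero] using h01
    · simpa only [_root_.Fin.mk_one, _root_.Fin.isValue, _root_.Fin.zero_eta, _root_.Matrix.SpecialLinearGroup.coe_neg, _root_.Matrix.SpecialLinearGroup.coe_one, _root_.Matrix.neg_apply, _root_.Nat.reduceAdd, _root_.ne_eq, _root_.one_ne_zero, _root_.not_false_eq_true, _root_.Matrix.one_apply_ne, _root_.neg_zero] using h10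
    · simpa using h11.trans h3

/-- elements acting as scalars on the 4-space -/
theorem two_scalar {x : SL2 F × SL2 F} {c : F} (hc : ∀ a b c' d : F, ap (two h x) (cb e₁ f₁ e₂ f₂ a b c' d) =
    c • cb e₁ f₁ e₂ f₂ a b c' d) :
    (x = (1, 1) ∧ c = 1) ∨ (x = (-1, -1) ∧ c = 1) ∨ (x = (1, -1) ∧ c = -1) ∨ (x = (-1, 1) ∧ c = -1) := by
  have hs : ∀ a b c' d : F, c • cb e₁ f₁ e₂ f₂ a b c' d = cb e₁ f₁ e₂ f₂ (c * a) (c * b) (c * c') (c * d) := by
    intro a b c' d
    rw [cb, cb]
    module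
  have k1 := hc 1 0 0 0
  have k2 := hc 0 0 1 0
  have k3 := hc 0 0 0 1
  rw [ap_two_cb, hs] at k1 k2 k3
  obtain ⟨a1, -, a3, a4⟩ := cb_eq h k1
  obtain ⟨b1, -, b3, -⟩ := cb_eq h k2
  obtain ⟨c1, -, -, c4⟩ := cb_eq h k3
  simp only [mul_one, mul_zero, add_zero, zero_add, sub_zero, neg_mul, neg_zero, sub_self] at a1 a3 a4 b1 b3 c1 c4
  have hc0 : c ≠ 0 := by
    rintro rfl
    have h1 := hc 1 0 0 0
    rw [zero_smul] at h1
    have h2 : cb e₁ f₁ e₂ f₂ (1 : F) 0 0 0 = 0 := by
      rw [← ap_inv_ap (two h x) (cb e₁ f₁ e₂ f₂ (1 : F) 0 0 0), h1]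
      exact map_zero _
    have h3 : cb e₁ f₁ e₂ f₂ (1 : F) 0 0 0 = cb e₁ f₁ e₂ f₂ (0 : F) 0 0 0 := by
      rw [h2, cb]; simp
    exact one_ne_zero (cb_eq h h3).1
  have hx0 : x.1.1 0 0 ≠ 0 := by
    intro h1
    rw [h1, zero_mul] at a1
    exact hc0 a1.symm
  have hy0 : x.2.1 0 0 ≠ 0 := by
    intro h1
    rw [h1, mul_zero] at a1
    exact hc0 a1.symm
  have hx10 : x.1.1 1 0 = 0 := (mul_eq_zero.1 a3).resolve_right hy0
  have hy10 : x.2.1 1 0 = 0 := (mul_eq_zero.1 a4).resolve_left hx0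
  have hx01 : x.1.1 0 1 = 0 := (mul_eq_zero.1 b1).resolve_right hy0
  have hy01 : x.2.1 0 1 = 0 := (mul_eq_zero.1 c1).resolve_left hx0
  have hx11 : x.1.1 1 1 = x.1.1 0 0 := mul_right_cancel₀ hy0 (b3.trans a1.symm)
  have hy11 : x.2.1 1 1 = x.2.1 0 0 := mul_left_cancel₀ hx0 (c4.trans a1.symm)
  rcases ext_SL2 rfl hx01 hx10 hx11 with ⟨h1, h1'⟩ | ⟨h1, h1'⟩ <;>
    rcases ext_SL2 rfl hy01 hy10 hy11 with ⟨h2, h2'⟩ | ⟨h2, h2'⟩
  · exact Or.inl ⟨Prod.ext h1 h2, by rw [← a1, h1', h2', mul_one]⟩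
  · exact Or.inr (Or.inr (Or.inl ⟨Prod.ext h1 h2, by rw [← a1, h1', h2', one_mul]⟩))
  · exact Or.inr (Or.inr (Or.inr ⟨Prod.ext h1 h2, by rw [← a1, h1', h2', mul_one]⟩))
  · exact Or.inr (Or.inl ⟨Prod.ext h1 h2, by rw [← a1, h1', h2', neg_mul_neg, one_mul]⟩)

theorem rho_neg_cb (a b c d : F) : ap (h.rhoE (-1)) (cb e₁ f₁ e₂ f₂ a b c d) = -cb e₁ f₁ e₂ f₂ a b c d := by
  have h1 : h.rhoE (-1) = two h (-1, 1) := by rw [two_apply, map_one, mul_one]
  rw [h1, ap_two_cb, cb, cb]
  simp only [_root_.Fin.isValue, _root_.Matrix.SpecialLinearGroup.coe_neg, _root_.Matrix.SpecialLinearGroup.coe_one, _root_.Matrix.neg_apply, _root_.Matrix.one_apply_eq, _root_.one_mul, _root_.ne_eq, _root_.zero_ne_one, _root_.not_false_eq_true, _root_.Matrix.one_apply_ne, _root_.MulZeroClass.zero_mul, _root_.add_zero, _root_.neg_mul, _root_.neg_zero, _root_.zero_add, _root_.neg_smul, _root_.one_ne_zero, _root_.sub_zero, _root_.neg_add_rev]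
  module

end half

/-! ### the two halves -/

/-- two perpendicular 4-spaces of plus type -/
structure Eight (Q : QuadraticForm F V) (e₁ f₁ e₂ f₂ e₃ f₃ e₄ f₄ : V) : Prop where
  h : Four Q e₁ f₁ e₂ f₂
  k : Four Q e₃ f₃ e₄ f₄
  p3 : Pp Q e₁ f₁ e₂ f₂ e₃
  q3 : Pp Q e₁ f₁ e₂ f₂ f₃
  p4 : Pp Q e₁ f₁ e₂ f₂ e₄
  q4 : Pp Q e₁ f₁ e₂ f₂ f₄
  span : ∀ v : V, ∃ a b c d a' b' c' d' : F, v = cb e₁ f₁ e₂ f₂ a b c d + cb e₃ f₃ e₄ f₄ a' b' c' d'

namespace Eight

variable {e₁ f₁ e₂ f₂ e₃ f₃ e₄ f₄ : V} (H : Eight Q e₁ f₁ e₂ f₂ e₃ f₃ e₄ f₄)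

include H in
theorem symm : Eight Q e₃ f₃ e₄ f₄ e₁ f₁ e₂ f₂ where
  h := H.k
  k := H.h
  p3 := ⟨polar_zero_of_comm H.p3.1, polar_zero_of_comm H.q3.1, polar_zero_of_comm H.p4.1, polar_zero_of_comm H.q4.1⟩
  q3 := ⟨polar_zero_of_comm H.p3.2.1, polar_zero_of_comm H.q3.2.1, polar_zero_of_comm H.p4.2.1,
    polar_zero_of_comm H.q4.2.1⟩
  p4 := ⟨polar_zero_of_comm H.p3.2.2.1, polar_zero_of_comm H.q3.2.2.1, polar_zero_of_comm H.p4.2.2.1,
    polar_zero_of_comm H.q4.2.2.1⟩
  q4 := ⟨polar_zero_of_comm H.p3.2.2.2, polar_zero_of_comm H.q3.2.2.2, polar_zero_of_comm H.p4.2.2.2,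
    polar_zero_of_comm H.q4.2.2.2⟩
  span v := by
    obtain ⟨a, b, c, d, a', b', c', d', hv⟩ := H.span v
    exact ⟨a', b', c', d', a, b, c, d, by rw [hv, add_comm]⟩

include H in
theorem pp (a b c d : F) : Pp Q e₁ f₁ e₂ f₂ (cb e₃ f₃ e₄ f₄ a b c d) := by
  have k : ∀ v : V, polar Q v e₃ = 0 → polar Q v f₃ = 0 → polar Q v e₄ = 0 → polar Q v f₄ = 0 →
      polar Q v (cb e₃ f₃ e₄ f₄ a b c d) = 0 := by
    intro v h1 h2 h3 h4
    rw [cb]
    simp only [polar_add_right, polar_smul_right, h1, h2, h3, h4]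
    simp
  exact ⟨k _ H.p3.1 H.q3.1 H.p4.1 H.q4.1, k _ H.p3.2.1 H.q3.2.1 H.p4.2.1 H.q4.2.1,
    k _ H.p3.2.2.1 H.q3.2.2.1 H.p4.2.2.1 H.q4.2.2.1, k _ H.p3.2.2.2 H.q3.2.2.2 H.p4.2.2.2 H.q4.2.2.2⟩

/-- the action on a sum -/
theorem ap_mul (x y : SL2 F × SL2 F) (a b c d a' b' c' d' : F) :
    ap (two H.h x * two H.k y) (cb e₁ f₁ e₂ f₂ a b c d + cb e₃ f₃ e₄ f₄ a' b' c' d') =
      ap (two H.h x) (cb e₁ f₁ e₂ f₂ a b c d) + ap (two H.k y) (cb e₃ f₃ e₄ f₄ a' b' c' d') := by
  rw [Cfsg.Agent.H989.Gs.Gen.ap_mul, ap_add, two_perp H.k (H.symm.pp a b c d), ap_add]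
  congr 1
  rw [ap_two_cb H.k]
  exact two_perp H.h (H.pp _ _ _ _) x

theorem comm (x y : SL2 F × SL2 F) : two H.h x * two H.k y = two H.k y * two H.h x := by
  refine ext_ap fun v => ?_
  obtain ⟨a, b, c, d, a', b', c', d', rfl⟩ := H.span v
  rw [H.ap_mul, add_comm (cb e₁ f₁ e₂ f₂ a b c d), H.symm.ap_mul, add_comm]

theorem z_mul (v : V) : ap (H.h.rhoE (-1) * H.k.rhoE (-1)) v = -v := by
  obtain ⟨a, b, c, d, a', b', c', d', rfl⟩ := H.span v
  have h1 : H.h.rhoE (-1) = two H.h (-1, 1) := by rw [two_apply, map_one, mul_one]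
  have h2 : H.k.rhoE (-1) = two H.k (-1, 1) := by rw [two_apply, map_one, mul_one]
  rw [h1, h2, H.ap_mul, ← h1, ← h2, rho_neg_cb, rho_neg_cb, neg_add]

end Eight

/-! ### existence -/

theorem exists_cb [FiniteDimensional F V] {e₁ f₁ e₂ f₂ : V} (h : Four Q e₁ f₁ e₂ f₂) {U : Submodule F V}
    (hU : finrank F U = 4) (m1 : e₁ ∈ U) (m2 : f₁ ∈ U) (m3 : e₂ ∈ U) (m4 : f₂ ∈ U) {v : V} (hv : v ∈ U) :
    ∃ a b c d : F, v = cb e₁ f₁ e₂ f₂ a b c d := by
  have h1 : Submodule.span F (Set.range ![e₁, f₁, e₂, f₂]) = U := by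
    apply Submodule.eq_of_le_of_finrank_eq
    · rw [Submodule.span_le]
      rintro _ ⟨i, rfl⟩
      fin_cases i <;> assumption
    · rw [finrank_span_eq_card (linInd_four h), Fintype.card_fin, hU]
  rw [← h1, Submodule.mem_span_range_iff_exists_fun] at hv
  obtain ⟨c, hc⟩ := hv
  rw [Fin.sum_univ_four] at hc
  exact ⟨c 0, c 1, c 2, c 3, hc.symm⟩

theorem dc_eight [Fintype F] [DecidableEq F] [FiniteDimensional F V] (h2 : (2 : F) ≠ 0) (hT : Ty Q 8 1) :
    Cfsg.Agent.H160.QDisc.dc Q = 1 := by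
  rw [Ty.disc_eq h2 4 hT]
  rcases quadraticChar_dichotomy (neg_ne_zero.2 (one_ne_zero (α := F))) with h | h <;> rw [h] <;> norm_num

/-- **a fundamental involution of `Ω₈⁺` gives the configuration** -/
theorem exists_eight [Finite F] [FiniteDimensional F V] (h2 : (2 : F) ≠ 0) (hG : Good Q) (hT : Ty Q 8 1)
    {z : ↥(E Q)} (hz : Fund Q z) :
    ∃ (e₁ f₁ e₂ f₂ e₃ f₃ e₄ f₄ : V) (H : Eight Q e₁ f₁ e₂ f₂ e₃ f₃ e₄ f₄), z = H.h.rhoE (-1) := by
  classical
  cases nonempty_fintype F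
  have hz2 := fund_mul_self hz
  have hd := finrank_Vm_of_fund h2 hz
  obtain ⟨e₁, f₁, e₂, f₂, h, h1, h1', h3, h4, h5⟩ := hz
  have hV : finrank F (Vp z) = 4 := by
    have h6 := Submodule.finrank_add_eq_of_isCompl (isCompl h2 hz2)
    rw [hT.dim] at h6
    omega
  obtain ⟨e₃, f₃, e₄, f₄, k, m1, m2, m3, m4, -⟩ :=
    exists_four h2 (nondeg_Vp h2 hG.nondeg hz2) hV ((dc_Vp h2 hz2 hG).trans (dc_eight h2 hT))
  have n1 : e₁ ∈ Vm z := mem_Vm.2 h1
  have n2 : f₁ ∈ Vm z := mem_Vm.2 h1'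
  have n3 : e₂ ∈ Vm z := mem_Vm.2 h3
  have n4 : f₂ ∈ Vm z := mem_Vm.2 h4
  refine ⟨e₁, f₁, e₂, f₂, e₃, f₃, e₄, f₄, ⟨h, k, ?_, ?_, ?_, ?_, ?_⟩, ?_⟩
  · exact ⟨polar_Vm_Vp h2 n1 m1, polar_Vm_Vp h2 n2 m1, polar_Vm_Vp h2 n3 m1, polar_Vm_Vp h2 n4 m1⟩
  · exact ⟨polar_Vm_Vp h2 n1 m2, polar_Vm_Vp h2 n2 m2, polar_Vm_Vp h2 n3 m2, polar_Vm_Vp h2 n4 m2⟩
  · exact ⟨polar_Vm_Vp h2 n1 m3, polar_Vm_Vp h2 n2 m3, polar_Vm_Vp h2 n3 m3, polar_Vm_Vp h2 n4 m3⟩
  · exact ⟨polar_Vm_Vp h2 n1 m4, polar_Vm_Vp h2 n2 m4, polar_Vm_Vp h2 n3 m4, polar_Vm_Vp h2 n4 m4⟩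
  · intro v
    have hv : v ∈ Vm z ⊔ Vp z := by
      rw [(isCompl h2 hz2).codisjoint.eq_top]
      exact Submodule.mem_top
    obtain ⟨a, ha, b, hb, rfl⟩ := Submodule.mem_sup.1 hv
    obtain ⟨x, y, z', w, rfl⟩ := exists_cb h hd n1 n2 n3 n4 ha
    obtain ⟨x', y', z'', w', rfl⟩ := exists_cb k hV m1 m2 m3 m4 hb
    exact ⟨x, y, z', w, x', y', z'', w', rfl⟩
  · refine ext_ap fun v => ?_
    rw [fund_ap h h1 h1' h3 h4 h5 v, ap_rhoE, h.rho_neg]
    module

/-! ### products of elements of square `-1` -/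

theorem ne_pm (h2 : (2 : F) ≠ 0) {s : SL2 F} (hs : s * s = -1) : s ≠ 1 ∧ s ≠ -1 := by
  have h1 : (1 : SL2 F) ≠ -1 := by
    intro h
    have h3 := congrArg (fun M : SL2 F => M.1 0 0) h
    simp at h3
    apply h2
    linear_combination h3
  constructor
  · rintro rfl
    rw [mul_one] at hs
    exact h1 hs
  · rintro rfl
    rw [neg_mul_neg, one_mul] at hs
    exact h1 hs

section inv

variable [Finite F] [FiniteDimensional F V]

/-- in the same half: an involution of rank two -/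
theorem inv_two (h2 : (2 : F) ≠ 0) (hG : Good Q) {e₁ f₁ e₂ f₂ : V} (h : Four Q e₁ f₁ e₂ f₂) {s t : SL2 F}
    (hs : s * s = -1) (ht : t * t = -1) :
    two h (s, t) * two h (s, t) = 1 ∧ finrank F (Vm (two h (s, t))) = 2 := by
  obtain ⟨s1, s2⟩ := ne_pm h2 hs
  have g2 : two h (s, t) * two h (s, t) = 1 := by
    rw [← map_mul]
    show two h (s * s, t * t) = 1
    rw [hs, ht, two_apply]
    show h.rhoE (-1) * h.swap.rhoE (-1) = 1
    rw [h.rhoE_neg_swap, ← map_mul, neg_mul_neg, one_mul, map_one]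
  refine ⟨g2, ?_⟩
  have key : ∀ c : F, (∀ a b c' d : F, ap (two h (s, t)) (cb e₁ f₁ e₂ f₂ a b c' d) = c • cb e₁ f₁ e₂ f₂ a b c' d) →
      False := by
    intro c hc
    rcases two_scalar h hc with ⟨h1, -⟩ | ⟨h1, -⟩ | ⟨h1, -⟩ | ⟨h1, -⟩ <;> rw [Prod.mk.injEq] at h1
    · exact s1 h1.1
    · exact s2 h1.1
    · exact s1 h1.1
    · exact s2 h1.1
  have hW : finrank F (Submodule.span F (Set.range ![e₁, f₁, e₂, f₂])) = 4 := by
    rw [finrank_span_eq_card (linInd_four h), Fintype.card_fin]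
  have w1 : e₁ ∈ Submodule.span F (Set.range ![e₁, f₁, e₂, f₂]) := Submodule.subset_span ⟨0, rfl⟩
  have w2 : f₁ ∈ Submodule.span F (Set.range ![e₁, f₁, e₂, f₂]) := Submodule.subset_span ⟨1, rfl⟩
  have w3 : e₂ ∈ Submodule.span F (Set.range ![e₁, f₁, e₂, f₂]) := Submodule.subset_span ⟨2, rfl⟩
  have w4 : f₂ ∈ Submodule.span F (Set.range ![e₁, f₁, e₂, f₂]) := Submodule.subset_span ⟨3, rfl⟩
  have wc : ∀ a b c d : F, cb e₁ f₁ e₂ f₂ a b c d ∈ Submodule.span F (Set.range ![e₁, f₁, e₂, f₂]) := by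
    intro a b c d
    exact add_mem (add_mem (add_mem (Submodule.smul_mem _ _ w1) (Submodule.smul_mem _ _ w2))
      (Submodule.smul_mem _ _ w3)) (Submodule.smul_mem _ _ w4)
  have hg1 : two h (s, t) ≠ 1 := by
    intro h1
    refine key 1 fun a b c d => ?_
    rw [h1, ap_one, one_smul]
  have hmv : ∀ v, ap (two h (s, t)) v - v ∈ Submodule.span F (Set.range ![e₁, f₁, e₂, f₂]) := by
    intro v
    obtain ⟨v', hv', a, b, c, d, rfl⟩ := exists_four_comb h v
    have h1 : v' + a • e₁ + b • f₁ + c • e₂ + d • f₂ = v' + cb e₁ f₁ e₂ f₂ a b c d := by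
      rw [cb]; abel
    rw [h1, ap_add, two_perp h hv', add_sub_add_left_eq_sub, ap_two_cb]
    exact sub_mem (wc _ _ _ _) (wc _ _ _ _)
  rcases two_or_fund' h2 hG g2 hg1 ⟨_, hW.le, hmv⟩ with h3 | h3
  · exact h3
  · exfalso
    have h4 := finrank_Vm_of_fund h2 h3
    have h5 : Vm (two h (s, t)) = Submodule.span F (Set.range ![e₁, f₁, e₂, f₂]) := by
      apply Submodule.eq_of_le_of_finrank_eq
      · intro v hv
        have h6 := hmv ((-(2 : F)⁻¹) • v)
        rw [ap_smul, mem_Vm.1 hv, smul_neg, neg_smul, neg_neg, sub_neg_eq_add, ← add_smul] at h6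
        have h7 : (2 : F)⁻¹ + (2 : F)⁻¹ = 1 := by rw [← two_mul, mul_inv_cancel₀ h2]
        rwa [h7, one_smul] at h6
      · rw [h4, hW]
    refine key (-1) fun a b c d => ?_
    rw [neg_smul, one_smul, ← mem_Vm, h5]
    exact wc a b c d

end inv

/-- in different halves: an element of square `-1` -/
theorem inv_half {e₁ f₁ e₂ f₂ e₃ f₃ e₄ f₄ : V} (H : Eight Q e₁ f₁ e₂ f₂ e₃ f₃ e₄ f₄) {x y : SL2 F × SL2 F}
    (hx : x * x = (-1, 1) ∨ x * x = (1, -1)) (hy : y * y = (-1, 1) ∨ y * y = (1, -1)) (v : V) :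
    ap (two H.h x * two H.k y) (ap (two H.h x * two H.k y) v) = -v := by
  have k : ∀ {a b c d : V} (h : Four Q a b c d) (x : SL2 F × SL2 F), (x * x = (-1, 1) ∨ x * x = (1, -1)) →
      two h x * two h x = h.rhoE (-1) := by
    intro a b c d h x hx
    rw [← map_mul]
    rcases hx with h1 | h1
    · rw [h1, two_apply, map_one, mul_one]
    · rw [h1, two_apply, map_one, one_mul, h.rhoE_neg_swap]
  have h1 : two H.h x * two H.k y * (two H.h x * two H.k y) = H.h.rhoE (-1) * H.k.rhoE (-1) := by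
    rw [← k H.h x hx, ← k H.k y hy, mul_assoc, mul_assoc, ← mul_assoc (two H.k y), ← H.comm, mul_assoc]
  rw [← Cfsg.Agent.H989.Gs.Gen.ap_mul, h1, H.z_mul]

/-! ### the four homomorphisms -/

section package

variable {T : Type*} [Group T] (π : ↥(E Q) →* T)

/-- the four homomorphisms -/
def fs {e₁ f₁ e₂ f₂ e₃ f₃ e₄ f₄ : V} (H : Eight Q e₁ f₁ e₂ f₂ e₃ f₃ e₄ f₄) : Fin 4 → (SL2 F →* T) :=
  ![π.comp H.h.rhoE, π.comp H.h.swap.rhoE, π.comp H.k.rhoE, π.comp H.k.swap.rhoE]

variable {e₁ f₁ e₂ f₂ e₃ f₃ e₄ f₄ : V} (H : Eight Q e₁ f₁ e₂ f₂ e₃ f₃ e₄ f₄)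

theorem rho_two {a b c d : V} (h : Four Q a b c d) (s : SL2 F) : h.rhoE s = two h (s, 1) := by
  rw [two_apply, map_one, mul_one]

theorem swap_two {a b c d : V} (h : Four Q a b c d) (s : SL2 F) : h.swap.rhoE s = two h (1, s) := by
  rw [two_apply, map_one, one_mul]

theorem comm_half (x y : SL2 F × SL2 F) : Commute (π (two H.h x)) (π (two H.k y)) := by
  rw [Commute, SemiconjBy, ← map_mul, H.comm, map_mul]

theorem comm_same {a b c d : V} (h : Four Q a b c d) (s t : SL2 F) : Commute (π (h.rhoE s)) (π (h.swap.rhoE t)) := by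
  have h1 : h.rhoE s * h.swap.rhoE t = h.swap.rhoE t * h.rhoE s := h.comm_swap s t
  rw [Commute, SemiconjBy, ← map_mul, h1, map_mul]

theorem fs_comm (i j : Fin 4) (hij : i ≠ j) (s t : SL2 F) : Commute (fs π H i s) (fs π H j t) := by
  have a0 : fs π H 0 = π.comp H.h.rhoE := rfl
  have a1 : fs π H 1 = π.comp H.h.swap.rhoE := rfl
  have a2 : fs π H 2 = π.comp H.k.rhoE := rfl
  have a3 : fs π H 3 = π.comp H.k.swap.rhoE := rfl
  have c02 : ∀ s t, Commute (π (H.h.rhoE s)) (π (H.k.rhoE t)) := fun s t => by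
    rw [rho_two, rho_two]; exact comm_half π H _ _
  have c03 : ∀ s t, Commute (π (H.h.rhoE s)) (π (H.k.swap.rhoE t)) := fun s t => by
    rw [rho_two, swap_two]; exact comm_half π H _ _
  have c12 : ∀ s t, Commute (π (H.h.swap.rhoE s)) (π (H.k.rhoE t)) := fun s t => by
    rw [swap_two, rho_two]; exact comm_half π H _ _
  have c13 : ∀ s t, Commute (π (H.h.swap.rhoE s)) (π (H.k.swap.rhoE t)) := fun s t => by
    rw [swap_two, swap_two]; exact comm_half π H _ _
  fin_cases i <;> fin_cases j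
  · exact absurd rfl hij
  · exact comm_same π H.h s t
  · exact c02 s t
  · exact c03 s t
  · exact (comm_same π H.h t s).symm
  · exact absurd rfl hij
  · exact c12 s t
  · exact c13 s t
  · exact (c02 t s).symm
  · exact (c12 t s).symm
  · exact absurd rfl hij
  · exact comm_same π H.k s t
  · exact (c03 t s).symm
  · exact (c13 t s).symm
  · exact (comm_same π H.k t s).symm
  · exact absurd rfl hij

theorem fs_neg (hker : ∀ g, π g = 1 ↔ g = 1 ∨ ∀ v, ap g v = -v) (i : Fin 4) :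
    fs π H i (-1) = π (H.h.rhoE (-1)) := by
  have h1 : π (H.h.rhoE (-1)) * π (H.h.rhoE (-1)) = 1 := by
    rw [← map_mul, ← map_mul, neg_mul_neg, one_mul, map_one, map_one]
  have h2 : π (H.h.rhoE (-1)) * π (H.k.rhoE (-1)) = 1 := by
    rw [← map_mul, hker]
    exact Or.inr H.z_mul
  have h3 : π (H.k.rhoE (-1)) = π (H.h.rhoE (-1)) := mul_left_cancel (h2.trans h1.symm)
  fin_cases i
  · rfl
  · show π (H.h.swap.rhoE (-1)) = _
    rw [H.h.rhoE_neg_swap]
  · exact h3
  · show π (H.k.swap.rhoE (-1)) = _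
    rw [H.k.rhoE_neg_swap, h3]

theorem fs_four (i : Fin 4) : ∃ (a b c d : V) (h : Four Q a b c d), ∀ s, fs π H i s = π (h.rhoE s) := by
  fin_cases i
  · exact ⟨_, _, _, _, H.h, fun _ => rfl⟩
  · exact ⟨_, _, _, _, H.h.swap, fun _ => rfl⟩
  · exact ⟨_, _, _, _, H.k, fun _ => rfl⟩
  · exact ⟨_, _, _, _, H.k.swap, fun _ => rfl⟩

theorem fs_sup [Finite F] [FiniteDimensional F V] (h2 : (2 : F) ≠ 0) (hG : Good Q) {p : T → Prop}
    (hp0 : ∀ g : ↥(E Q), g * g = 1 → finrank F (Vm g) = 2 → p (π g))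
    (hp1 : ∀ g : ↥(E Q), (∀ v, ap g (ap g v) = -v) → p (π g))
    (i j : Fin 4) (hij : i ≠ j) (s t : SL2 F) (hs : s * s = -1) (ht : t * t = -1) : p (fs π H i s * fs π H j t) := by
  have same : ∀ {a b c d : V} (h : Four Q a b c d) (s t : SL2 F), s * s = -1 → t * t = -1 →
      p (π (h.rhoE s) * π (h.swap.rhoE t)) := by
    intro a b c d h s t hs ht
    rw [← map_mul]
    obtain ⟨h1, h3⟩ := inv_two h2 hG h hs ht
    exact hp0 _ h1 h3
  have half : ∀ x y : SL2 F × SL2 F, (x * x = (-1, 1) ∨ x * x = (1, -1)) → (y * y = (-1, 1) ∨ y * y = (1, -1)) →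
      p (π (two H.h x) * π (two H.k y)) := by
    intro x y hx hy
    rw [← map_mul]
    exact hp1 _ (inv_half H hx hy)
  have l1 : ∀ s : SL2 F, s * s = -1 → (s, (1 : SL2 F)) * (s, 1) = (-1, 1) := fun s hs => by
    rw [Prod.mk_mul_mk, hs, mul_one]
  have l2 : ∀ s : SL2 F, s * s = -1 → ((1 : SL2 F), s) * (1, s) = (1, -1) := fun s hs => by
    rw [Prod.mk_mul_mk, hs, mul_one]
  have c02 : ∀ s t : SL2 F, s * s = -1 → t * t = -1 → p (π (H.h.rhoE s) * π (H.k.rhoE t)) := fun s t hs ht => by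
    rw [rho_two, rho_two]; exact half _ _ (Or.inl (l1 s hs)) (Or.inl (l1 t ht))
  have c03 : ∀ s t : SL2 F, s * s = -1 → t * t = -1 → p (π (H.h.rhoE s) * π (H.k.swap.rhoE t)) := fun s t hs ht => by
    rw [rho_two, swap_two]; exact half _ _ (Or.inl (l1 s hs)) (Or.inr (l2 t ht))
  have c12 : ∀ s t : SL2 F, s * s = -1 → t * t = -1 → p (π (H.h.swap.rhoE s) * π (H.k.rhoE t)) := fun s t hs ht => by
    rw [swap_two, rho_two]; exact half _ _ (Or.inr (l2 s hs)) (Or.inl (l1 t ht))
  have c13 : ∀ s t : SL2 F, s * s = -1 → t * t = -1 → p (π (H.h.swap.rhoE s) * π (H.k.swap.rhoE t)) :=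
    fun s t hs ht => by
      rw [swap_two, swap_two]; exact half _ _ (Or.inr (l2 s hs)) (Or.inr (l2 t ht))
  have hc := fs_comm π H i j hij s t
  fin_cases i <;> fin_cases j
  · exact absurd rfl hij
  · exact same H.h s t hs ht
  · exact c02 s t hs ht
  · exact c03 s t hs ht
  · rw [hc.eq]; exact same H.h t s ht hs
  · exact absurd rfl hij
  · exact c12 s t hs ht
  · exact c13 s t hs ht
  · rw [hc.eq]; exact c02 t s ht hs
  · rw [hc.eq]; exact c12 t s ht hs
  · exact absurd rfl hij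
  · exact same H.k s t hs ht
  · rw [hc.eq]; exact c03 t s ht hs
  · rw [hc.eq]; exact c13 t s ht hs
  · rw [hc.eq]; exact same H.k t s ht hs
  · exact absurd rfl hij

end package

end Cfsg.Agent.H886.IF8
end

-- part: H989/Fx/ClsP
section
/-!
# S5719: the class of the fundamental involutions in `PΩ_8^+` (helper989)

* `two_mul_index_le` : classes in a quotient by a central involution `m` with `z ∼ m z`;
* `exists_neg_eight` : `-1 ∈ E Q`;
* `eight_plus_T` : `4 |z^T| ≤ q^8 (q^2 + 1)^2 (q^4 + q^2 + 1)`.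
-/

set_option autoImplicit false
set_option linter.unusedSectionVars false

namespace Cfsg.Agent.H989.Fx

open QuadraticMap Module Cfsg.Agent.LieClassical Cfsg.Agent.LieClassical.OrthCore Cfsg.Agent.LieClassical.OrthTrans
open Cfsg.Agent.H160.QSpin Cfsg.Agent.H160.QDisc
open Cfsg.Agent.H325.IF (Vm Vp mem_Vm mem_Vp isConj_of_finrank)
open Cfsg.Agent.H989.Gs.Gen

universe u v

/-- **classes in a quotient** -/
theorem two_mul_index_le {G T : Type*} [Group G] [Group T] [Finite G] (π : G →* T) (hπ : Function.Surjective π)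
    {z m : G} (hm1 : m ≠ 1) (hπm : π m = 1) (hm : ∀ g, m * g = g * m) (hzm : IsConj z (m * z)) :
    2 * (Subgroup.centralizer ({π z} : Set T)).index ≤ (Subgroup.centralizer ({z} : Set G)).index := by
  rw [index_centralizer_eq, index_centralizer_eq]
  have key : ∀ x : {s : T // IsConj (π z) s}, ∃ y : G, IsConj z y ∧ π y = x := by
    rintro ⟨x, hx⟩
    obtain ⟨c, rfl⟩ := isConj_iff.1 hx
    obtain ⟨g, rfl⟩ := hπ c
    exact ⟨g * z * g⁻¹, isConj_iff.2 ⟨g, rfl⟩, by rw [map_mul, map_mul, map_inv]⟩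
  choose σ hσ hσ' using key
  have hmσ : ∀ x, IsConj z (m * σ x) := by
    intro x
    obtain ⟨g, hg⟩ := isConj_iff.1 (hσ x)
    have h1 : m * σ x = g * (m * z) * g⁻¹ := by
      rw [← hg, ← mul_assoc, ← mul_assoc, hm g]
      group
    rw [h1]
    exact hzm.trans (isConj_iff.2 ⟨g, rfl⟩)
  have h2 : Nat.card (Bool × {s : T // IsConj (π z) s}) = 2 * Nat.card {s : T // IsConj (π z) s} := by
    rw [Nat.card_prod, Nat.card_eq_fintype_card, Fintype.card_bool]
  rw [← h2]
  refine Nat.card_le_card_of_injective (fun x : Bool × {s : T // IsConj (π z) s} =>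
    (if x.1 then ⟨m * σ x.2, hmσ x.2⟩ else ⟨σ x.2, hσ x.2⟩ : {s : G // IsConj z s})) ?_
  have hval : ∀ x : Bool × {s : T // IsConj (π z) s},
      π ((if x.1 then ⟨m * σ x.2, hmσ x.2⟩ else ⟨σ x.2, hσ x.2⟩ : {s : G // IsConj z s}) : G) = x.2 := by
    rintro ⟨b, x⟩
    cases b
    · exact hσ' x
    · change π (m * σ x) = x
      rw [map_mul, hπm, one_mul, hσ']
  rintro ⟨b, x⟩ ⟨b', x'⟩ h
  have h3 : x = x' := by
    apply Subtype.ext
    rw [← hval (b, x), ← hval (b', x')]
    exact congrArg (fun s : {s : G // IsConj z s} => π (s : G)) h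
  subst h3
  have hne : m * σ x ≠ σ x := fun h4 => hm1 (mul_eq_right.1 h4)
  cases b <;> cases b'
  · rfl
  · exact absurd (congrArg Subtype.val h).symm hne
  · exact absurd (congrArg Subtype.val h) hne
  · rfl

variable {F : Type u} {V : Type v} [Field F] [AddCommGroup V] [Module F V] {Q : QuadraticForm F V}

/-- `-1 ∈ E Q` -/
theorem exists_neg_eight [Finite F] [FiniteDimensional F V] (h2 : (2 : F) ≠ 0) (hG : Good Q) {m : ℕ}
    (hT : Ty Q (2 * (2 * m)) 1) : ∃ g : ↥(E Q), ∀ v, ap g v = -v := by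
  classical
  cases nonempty_fintype F
  have hT' : Ty (rU Q (⊤ : Submodule F V)) (2 * (2 * m)) 1 := hT.congr Submodule.topEquiv fun w => rfl
  have hdc : dc (rU Q (⊤ : Submodule F V)) = 1 := by
    rw [hT'.disc_eq h2, mul_one, pow_mul]
    have hχ : quadraticChar F (-1) ^ 2 = 1 := quadraticChar_sq_one (neg_ne_zero.2 one_ne_zero)
    rw [hχ, one_pow]
  obtain ⟨g, -, hg⟩ := Cfsg.Agent.H325.IF.exists_inv h2 hG (U := ⊤) hT'.nd (by rw [hT'.dim]; exact even_two_mul _) hdc
  refine ⟨g, fun v => ?_⟩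
  rw [← mem_Vm, hg]
  exact Submodule.mem_top

/-- **the class of `z` in `PΩ_8^+`** -/
theorem eight_plus_T [Finite F] [FiniteDimensional F V] (h2 : (2 : F) ≠ 0) (hG : Good Q) {T : Type*} [Group T]
    (π : ↥(E Q) →* T) (hπ : Function.Surjective π) (hker : ∀ g, π g = 1 ↔ g = 1 ∨ ∀ v, ap g v = -v)
    (hT : Ty Q 8 1) {z : ↥(E Q)} (hz : Fund Q z) :
    4 * (Subgroup.centralizer ({π z} : Set T)).index ≤
      Nat.card F ^ 8 * (Nat.card F ^ 2 + 1) ^ 2 * (Nat.card F ^ 4 + Nat.card F ^ 2 + 1) := by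
  have hfin : Finite V := Module.finite_of_finite F
  have hfinE : Finite (V ≃ₗ[F] V) :=
    Finite.of_injective (fun e : V ≃ₗ[F] V => (e : V → V)) DFunLike.coe_injective
  obtain ⟨m, hm⟩ := exists_neg_eight (m := 2) h2 hG hT
  have hmc : ∀ g, m * g = g * m := fun g => ext_ap fun v => by rw [ap_mul, ap_mul, hm, hm, ap_neg]
  have hm2 : m * m = 1 := ext_ap fun v => by rw [ap_mul, hm, hm, neg_neg, ap_one]
  have hm1 : m ≠ 1 := by
    rintro rfl
    have hnt : Nontrivial V := Module.nontrivial_of_finrank_pos (R := F) (by rw [hT.dim]; norm_num)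
    obtain ⟨v, hv⟩ := exists_ne (0 : V)
    have h3 := hm v
    rw [ap_one] at h3
    have h4 : (2 : F) • v = 0 := by rw [two_smul]; nth_rewrite 2 [h3]; exact add_neg_cancel v
    exact hv ((smul_eq_zero.1 h4).resolve_left h2)
  have hmz : (m * z) * (m * z) = 1 := by
    calc (m * z) * (m * z) = m * (z * m) * z := by group
      _ = (m * m) * (z * z) := by rw [← hmc z]; group
      _ = 1 := by rw [hm2, hz.sq, one_mul]
  have hVm : Vm (m * z) = Vp z := by
    ext v
    rw [mem_Vm, mem_Vp, ap_mul, hm, neg_inj]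
  have hd : finrank F (Vm z) = finrank F (Vm (m * z)) := by
    rw [hVm, finrank_Vm_fund h2 hz, (hT.fund_types h2 hG hz).2.2.dim]
  have h1 := two_mul_index_le π hπ hm1 ((hker m).2 (Or.inr hm)) hmc (isConj_of_finrank h2 hG hz.sq hmz hd)
  have h3 := fund_eight_plus h2 hG hT hz
  have h4 : 2 * (Subgroup.centralizer ({z} : Set ↥(E Q))).index =
      Nat.card F ^ 8 * (Nat.card F ^ 2 + 1) ^ 2 * (Nat.card F ^ 4 + Nat.card F ^ 2 + 1) := by exact_mod_cast h3
  rw [← h4]
  omega

end Cfsg.Agent.H989.Fx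
end

-- part: H989/Fx/Hc
section
/-!
# S5719: `PΩ_8^+`, involutions which commute with a fundamental `SL_2` (helper989)

`hc_eight` : a fundamental involution whose image commutes with the image of `rhoE (SL_2)` is `rhoE (-1)` up to sign.
-/

set_option autoImplicit false
set_option linter.unusedSectionVars false
set_option linter.unusedSimpArgs false
set_option linter.unusedVariables false

namespace Cfsg.Agent.H989.Fx

open QuadraticMap Module Cfsg.Agent.LieClassical Cfsg.Agent.LieClassical.OrthCore Cfsg.Agent.LieClassical.OrthTrans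
open Cfsg.Agent.H325.IF (Vm Vp mem_Vm mem_Vp Vm_of_fund finrank_Vm_of_fund)
open Cfsg.Agent.H989.Gs.Gen
open Cfsg.Agent.UGT.U2.FOne.Orth (Four tl)
open Cfsg.Agent.LieClassical.SLTwoUnipotent (u l)
open Matrix (SpecialLinearGroup)

universe u v

variable {F : Type u} {V : Type v} [Field F] [AddCommGroup V] [Module F V] {Q : QuadraticForm F V}

theorem rhoE_u {e₁ f₁ e₂ f₂ : V} (h : Four Q e₁ f₁ e₂ f₂) : h.rhoE (u (-1)) = S Q e₁ f₂ := by
  apply ext_ap
  intro v
  change h.rho (u (-1)) v = _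
  rw [h.rho_u, ap_S_tl h.h1.left h.h2.right h.ef, neg_neg, one_smul]

theorem rhoE_l {e₁ f₁ e₂ f₂ : V} (h : Four Q e₁ f₁ e₂ f₂) : h.rhoE (l (-1)) = S Q e₂ f₁ := by
  apply ext_ap
  intro v
  change h.rho (l (-1)) v = _
  rw [h.rho_l, ap_S_tl h.h2.left h.h1.right (by rw [polar_comm]; exact h.fe), neg_neg, one_smul]

/-- commuting up to sign with an element of odd order -/
theorem comm_of_pow {g x : ↥(E Q)} {p : ℕ} (hp : Odd p) (hx : x ^ p = 1)
    (h : g * x = x * g ∨ ∀ v, ap (g * x * (x * g)⁻¹) v = -v) : g * x = x * g := by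
  rcases h with h | h
  · exact h
  · obtain ⟨y, hy⟩ : ∃ y, y = g * x * (x * g)⁻¹ := ⟨_, rfl⟩
    rw [← hy] at h
    have hyc : ∀ k, y * k = k * y := fun k => ext_ap fun v => by rw [ap_mul, ap_mul, h, h, ap_neg]
    have hy2 : y * y = 1 := ext_ap fun v => by rw [ap_mul, h, h, neg_neg, ap_one]
    have h1 : g * x * g⁻¹ = y * x := by
      rw [hy]
      group
    have h2 : (g * x * g⁻¹) ^ p = 1 := by rw [conj_pow, hx, mul_one, mul_inv_cancel]
    rw [h1, (show Commute y x from hyc x).mul_pow, hx, mul_one] at h2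
    obtain ⟨k, rfl⟩ := hp
    have h3 : y = 1 := by
      rw [pow_succ, pow_mul, pow_two, hy2, one_pow, one_mul] at h2
      exact h2
    rw [h3, one_mul] at h1
    exact mul_inv_eq_iff_eq_mul.1 h1

/-- an involution commuting with a fundamental `SL_2` is a scalar on the 4-space -/
theorem scalar_of_comm (h2 : (2 : F) ≠ 0) {e₁ f₁ e₂ f₂ : V} (h : Four Q e₁ f₁ e₂ f₂) {g : ↥(E Q)} (hg : g * g = 1)
    (c1 : g * S Q e₁ f₂ = S Q e₁ f₂ * g) (c2 : g * S Q e₂ f₁ = S Q e₂ f₁ * g) :
    ∃ a : F, (a = 1 ∨ a = -1) ∧ ap g e₁ = a • e₁ ∧ ap g f₁ = a • f₁ ∧ ap g e₂ = a • e₂ ∧ ap g f₂ = a • f₂ := by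
  obtain ⟨p1, p2, p3, p4, p5, p6, p7, p8, p9, p10, p11, p12, p13, p14, p15, p16⟩ := h.pols
  have hgg : ∀ v, ap g (ap g v) = v := fun v => by rw [← ap_mul, hg, ap_one]
  have s1 : ∀ v, ap (S Q e₁ f₂) v = v + polar Q e₁ v • f₂ - polar Q f₂ v • e₁ :=
    fun v => S_ap' h.h1.left h.ef h.h2.right v
  have s2 : ∀ v, ap (S Q e₂ f₁) v = v + polar Q e₂ v • f₁ - polar Q f₁ v • e₂ :=
    fun v => S_ap' h.h2.left (by rw [polar_comm]; exact h.fe) h.h1.right v
  have k1 : ∀ v, ap g (polar Q e₁ v • f₂ - polar Q f₂ v • e₁) =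
      polar Q e₁ (ap g v) • f₂ - polar Q f₂ (ap g v) • e₁ := by
    intro v
    have h3 : ap g (ap (S Q e₁ f₂) v) = ap (S Q e₁ f₂) (ap g v) := by rw [← ap_mul, ← ap_mul, c1]
    rw [s1, s1, add_sub_assoc, ap_add, add_sub_assoc] at h3
    exact add_left_cancel h3
  have k2 : ∀ v, ap g (polar Q e₂ v • f₁ - polar Q f₁ v • e₂) =
      polar Q e₂ (ap g v) • f₁ - polar Q f₁ (ap g v) • e₂ := by
    intro v
    have h3 : ap g (ap (S Q e₂ f₁) v) = ap (S Q e₂ f₁) (ap g v) := by rw [← ap_mul, ← ap_mul, c2]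
    rw [s2, s2, add_sub_assoc, ap_add, add_sub_assoc] at h3
    exact add_left_cancel h3
  obtain ⟨a, b, hf1⟩ : ∃ a b : F, ap g f₁ = a • f₁ + b • e₂ := by
    have := k2 f₂
    rw [p7, p15, one_smul, zero_smul, sub_zero] at this
    exact ⟨_, _, this.trans (by rw [sub_eq_add_neg, ← neg_smul])⟩
  obtain ⟨c, d, he2⟩ : ∃ c d : F, ap g e₂ = c • f₁ + d • e₂ := by
    have := k2 e₁
    rw [p6, p10, zero_smul, one_smul, zero_sub, ap_neg] at this
    refine ⟨-polar Q e₂ (ap g e₁), polar Q f₁ (ap g e₁), ?_⟩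
    rw [← neg_neg (ap g e₂), this]
    module
  have hf2 : ap g f₂ = a • f₂ - b • e₁ := by
    have := k1 f₁
    rw [hf1] at this
    simp only [polar_add_right, polar_smul_right, p1, p2, p3, p4, p5, p6, p7, p8, p9, p10, p11, p12, p13, p14, p15,
      p16, smul_eq_mul, mul_zero, mul_one, add_zero, zero_add, zero_smul, one_smul, sub_zero] at this
    exact this
  have he1 : ap g e₁ = d • e₁ - c • f₂ := by
    have := k1 e₂
    rw [he2] at this
    simp only [polar_add_right, polar_smul_right, p1, p2, p3, p4, p5, p6, p7, p8, p9, p10, p11, p12, p13, p14, p15,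
      p16, smul_eq_mul, mul_zero, mul_one, add_zero, zero_add, zero_smul, one_smul, zero_sub, ap_neg] at this
    rw [← neg_neg (ap g e₁), this]
    module
  have d1 : d * a - c * b = 1 := by
    have : polar Q (ap g e₁) (ap g f₁) = 1 := by rw [polar_ap, p5]
    rw [he1, hf1] at this
    simp only [polar_sub_left, polar_add_right, polar_smul_right, polar_smul_left, p1, p2, p3, p4, p5, p6, p7, p8, p9,
      p10, p11, p12, p13, p14, p15, p16, smul_eq_mul, mul_zero, mul_one, add_zero, zero_add, zero_sub, sub_zero] at this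
    linear_combination this
  have q1 : a • (a • f₁ + b • e₂) + b • (c • f₁ + d • e₂) = f₁ := by
    have := hgg f₁
    rw [hf1, ap_add, ap_smul, ap_smul, hf1, he2] at this
    exact this
  have q2 : c • (a • f₁ + b • e₂) + d • (c • f₁ + d • e₂) = e₂ := by
    have := hgg e₂
    rw [he2, ap_add, ap_smul, ap_smul, hf1, he2] at this
    exact this
  have r1 := congrArg (polar Q e₁) q1
  have r2 := congrArg (polar Q f₂) q1
  have r3 := congrArg (polar Q e₁) q2
  have r4 := congrArg (polar Q f₂) q2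
  simp only [polar_add_right, polar_smul_right, p1, p2, p3, p4, p5, p6, p7, p8, p9, p10, p11, p12, p13, p14, p15,
    p16, smul_eq_mul, mul_zero, mul_one, add_zero, zero_add] at r1 r2 r3 r4
  have t1 : a * (a + d) = 2 := by linear_combination r1 + d1
  have hne : a + d ≠ 0 := by
    intro h3
    rw [h3, mul_zero] at t1
    exact h2 t1.symm
  have hb : b = 0 := (mul_eq_zero.1 (show b * (a + d) = 0 by linear_combination r2)).resolve_right hne
  have hc : c = 0 := (mul_eq_zero.1 (show c * (a + d) = 0 by linear_combination r3)).resolve_right hne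
  subst hb hc
  have ha2 : a * a = 1 := by linear_combination r1
  have had : d = a := by
    have : d * a = 1 := by linear_combination d1
    calc d = d * (a * a) := by rw [ha2, mul_one]
      _ = (d * a) * a := by ring
      _ = a := by rw [this, one_mul]
  subst had
  refine ⟨d, mul_self_eq_one_iff.1 ha2, ?_, ?_, ?_, ?_⟩
  · rw [he1, zero_smul, sub_zero]
  · rw [hf1, zero_smul, add_zero]
  · rw [he2, zero_smul, zero_add]
  · rw [hf2, zero_smul, sub_zero]

/-- **`hc`** -/
theorem hc_eight [Finite F] [FiniteDimensional F V] (h2 : (2 : F) ≠ 0) (hG : Good Q) {T : Type*} [Group T]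
    (π : ↥(E Q) →* T) (hker : ∀ g, π g = 1 ↔ g = 1 ∨ ∀ v, ap g v = -v) (hT : Ty Q 8 1)
    {e₁ f₁ e₂ f₂ : V} (h : Four Q e₁ f₁ e₂ f₂) {g : ↥(E Q)} (hg : Fund Q g)
    (hcomm : ∀ M, π g * π (h.rhoE M) = π (h.rhoE M) * π g) : π g = π (h.rhoE (-1)) := by
  have hz : Fund Q (h.rhoE (-1)) := fund_of_four h (by simp)
  obtain ⟨p, hp⟩ := CharP.exists F
  cases nonempty_fintype F
  have hpp : Fact p.Prime := ⟨CharP.char_is_prime F p⟩
  have hpo : Odd p := by
    apply hpp.out.odd_of_ne_two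
    rintro rfl
    exact h2 (by exact_mod_cast CharP.cast_eq_zero F 2)
  have hcm : ∀ M, g * h.rhoE M = h.rhoE M * g ∨ ∀ v, ap (g * h.rhoE M * (h.rhoE M * g)⁻¹) v = -v := by
    intro M
    have h3 : π (g * h.rhoE M * (h.rhoE M * g)⁻¹) = 1 := by
      rw [map_mul, map_inv, map_mul, map_mul, hcomm M, mul_inv_cancel]
    rcases (hker _).1 h3 with h4 | h4
    · left
      exact mul_inv_eq_one.1 h4
    · right
      exact h4
  have c1 : g * S Q e₁ f₂ = S Q e₁ f₂ * g := by
    rw [← rhoE_u h]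
    apply comm_of_pow hpo _ (hcm _)
    rw [rhoE_u]
    exact S_pow_char h.h1.left h.ef
  have c2 : g * S Q e₂ f₁ = S Q e₂ f₁ * g := by
    rw [← rhoE_l h]
    apply comm_of_pow hpo _ (hcm _)
    rw [rhoE_l]
    exact S_pow_char h.h2.left (by rw [polar_comm]; exact h.fe)
  obtain ⟨a, ha, a1, a2, a3, a4⟩ := scalar_of_comm h2 h hg.sq c1 c2
  obtain ⟨m, hm⟩ := exists_neg_eight (m := 2) h2 hG hT
  have hπm : π m = 1 := (hker m).2 (Or.inr hm)
  -- the 4-space
  have hVz : Vm (h.rhoE (-1)) = Submodule.span F (Set.range ![e₁, f₁, e₂, f₂]) := by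
    have key : ∀ v, ap (h.rhoE (-1)) v = h.phi (-1) v := fun v => rfl
    obtain ⟨p1, p2, p3, p4, p5, p6, p7, p8, p9, p10, p11, p12, p13, p14, p15, p16⟩ := h.pols
    have a00 : (-1 : _root_.Matrix.SpecialLinearGroup (Fin 2) F).1 0 0 = -1 := by simp
    have a01 : (-1 : _root_.Matrix.SpecialLinearGroup (Fin 2) F).1 0 1 = 0 := by simp
    have a10 : (-1 : _root_.Matrix.SpecialLinearGroup (Fin 2) F).1 1 0 = 0 := by simp
    have a11 : (-1 : _root_.Matrix.SpecialLinearGroup (Fin 2) F).1 1 1 = -1 := by simp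
    refine Vm_of_fund h2 h ?_ ?_ ?_ ?_ ?_
    · rw [key]; unfold Four.phi
      rw [a00, a01, a10, a11, p1, p6, p10, p12]
      module
    · rw [key]; unfold Four.phi
      rw [a00, a01, a10, a11, p2, p5, p14, p16]
      module
    · rw [key]; unfold Four.phi
      rw [a00, a01, a10, a11, p9, p13, p3, p8]
      module
    · rw [key]; unfold Four.phi
      rw [a00, a01, a10, a11, p11, p15, p4, p7]
      module
    · intro v k1 k2 k3 k4
      rw [key]; unfold Four.phi
      rw [k1, k2, k3, k4]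
      module
  -- an involution of rank four which is `-1` there
  have fin : ∀ y : ↥(E Q), y * y = 1 → finrank F (Vm y) = 4 → ap y e₁ = -e₁ → ap y f₁ = -f₁ → ap y e₂ = -e₂ →
      ap y f₂ = -f₂ → y = h.rhoE (-1) := by
    intro y hy hd y1 y2 y3 y4
    have hle : Vm (h.rhoE (-1)) ≤ Vm y := by
      rw [hVz, Submodule.span_le]
      rintro _ ⟨i, rfl⟩
      fin_cases i
      · exact mem_Vm.2 y1
      · exact mem_Vm.2 y2
      · exact mem_Vm.2 y3
      · exact mem_Vm.2 y4
    have heq : Vm (h.rhoE (-1)) = Vm y :=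
      Submodule.eq_of_le_of_finrank_eq hle (by rw [finrank_Vm_of_fund h2 hz, hd])
    apply Cfsg.Agent.H237.IF.eq_of_neg h2 hG.nondeg hy hz.sq
    intro v
    rw [← mem_Vm, ← mem_Vm, heq]
  rcases ha with rfl | rfl
  · -- `g = -z`
    have hmc : ∀ k, m * k = k * m := fun k => ext_ap fun v => by rw [ap_mul, ap_mul, hm, hm, ap_neg]
    have hm2 : m * m = 1 := ext_ap fun v => by rw [ap_mul, hm, hm, neg_neg, ap_one]
    have hVm : Vm (m * g) = Vp g := by
      ext v
      rw [mem_Vm, mem_Vp, ap_mul, hm, neg_inj]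
    have h3 : m * g = h.rhoE (-1) := by
      apply fin
      · calc (m * g) * (m * g) = m * (g * m) * g := by group
          _ = (m * m) * (g * g) := by rw [← hmc g]; group
          _ = 1 := by rw [hm2, hg.sq, one_mul]
      · rw [hVm, (hT.fund_types h2 hG hg).2.2.dim]
      · rw [ap_mul, hm, a1, one_smul]
      · rw [ap_mul, hm, a2, one_smul]
      · rw [ap_mul, hm, a3, one_smul]
      · rw [ap_mul, hm, a4, one_smul]
    rw [← h3, map_mul, hπm, one_mul]
  · rw [fin g hg.sq (finrank_Vm_of_fund h2 hg) (by rw [a1, neg_one_smul]) (by rw [a2, neg_one_smul])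
      (by rw [a3, neg_one_smul]) (by rw [a4, neg_one_smul])]

open Cfsg.Agent.ClassicalGeometry.OrthAut1 (P center_scalar)

end Cfsg.Agent.H989.Fx
end

-- part: H94/IF/CZero
section
/-!
# S5719, orthogonal groups, `q` odd, dimension at least 8: CLAIM 0 (helper94)

`claim0` : the preimage of `A` contains no involution whose `(-1)`-space or whose fixed space is of dimension two.
-/

set_option autoImplicit false
set_option linter.unusedSectionVars false
set_option linter.unusedSimpArgs false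

namespace Cfsg.Agent.H94.CZ

open QuadraticMap Cfsg.Agent.LieClassical Cfsg.Agent.LieClassical.OrthCore Cfsg.Agent.LieClassical.OrthTrans
  Cfsg.Agent.LieClassical.OrthSimple Cfsg.Agent.AutOrth.SemiSim Cfsg.Agent.AutOrth.Gen
  Cfsg.Agent.H989.Gs.Gen Cfsg.Agent.H989.Fx
open Cfsg.Agent.UGT.U2.FOne.Orth (Four)
open Cfsg.Agent.H276.IF (Ns EB nondeg_QU EB_comm EB_fix EB_le_of finite_E)
open Cfsg.Agent.H325.IF (Vm Vp mem_Vm mem_Vp isCompl polar_Vm_Vp)
open Cfsg.Agent.H209.Fxy Cfsg.Agent.H112.Row2.OrthExt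
open Module (finrank)

variable {F V : Type*} [Field F] [AddCommGroup V] [Module F V] {Q : QuadraticForm F V}

theorem ns_Vm (h2 : (2 : F) ≠ 0) (hQ : Nondeg Q) {t : ↥(E Q)} (ht : t * t = 1) : Ns Q (Vm t) := by
  intro x hx h
  refine hQ x fun y => ?_
  have hy : y ∈ Vm t ⊔ Vp t := by rw [(isCompl h2 ht).codisjoint.eq_top]; exact Submodule.mem_top
  obtain ⟨a, ha, b, hb, rfl⟩ := Submodule.mem_sup.1 hy
  rw [polar_add_right, h a ha, polar_Vm_Vp h2 hx hb, add_zero]

theorem ns_Vp (h2 : (2 : F) ≠ 0) (hQ : Nondeg Q) {t : ↥(E Q)} (ht : t * t = 1) : Ns Q (Vp t) := by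
  intro x hx h
  refine hQ x fun y => ?_
  have hy : y ∈ Vm t ⊔ Vp t := by rw [(isCompl h2 ht).codisjoint.eq_top]; exact Submodule.mem_top
  obtain ⟨a, ha, b, hb, rfl⟩ := Submodule.mem_sup.1 hy
  rw [polar_add_right, h b hb, polar_comm, polar_Vm_Vp h2 ha hx, add_zero]

/-- **MI** in a nondegenerate subspace -/
theorem mi_D [Finite F] [FiniteDimensional F V] (h2 : (2 : F) ≠ 0) {D : Submodule F V} (hD : Ns Q D)
    (h6 : 6 ≤ finrank F D) (H : Subgroup ↥(E (QU Q D))) (hH : H ≠ ⊤) :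
    (Nat.card F - 1) * Nat.card F ^ (finrank F D - 4) ≤ H.index := by
  have hG : Good (QU Q D) := OrthFinite.good_of_finite (nondeg_QU hD) (by omega)
  have h1 := Cfsg.Agent.H178.IFO.mi hG h6 h2 (H := H.map (E (QU Q D)).subtype) (by
    intro hle
    apply hH
    rw [eq_top_iff]
    rintro g -
    obtain ⟨k, hk, hkg⟩ := hle g.2
    rwa [← Subtype.ext hkg])
  have h3 : (H.map (E (QU Q D)).subtype).relIndex (E (QU Q D)) = H.index := by
    rw [Subgroup.relIndex, Subgroup.subgroupOf,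
      Subgroup.comap_map_eq_self_of_injective (Subgroup.subtype_injective _)]
  rwa [h3] at h1

theorem three_le [Finite F] (h2 : (2 : F) ≠ 0) : 3 ≤ Nat.card F := by
  have h3 := Finite.one_lt_card (α := F)
  by_contra hcon
  have h4 : Nat.card F = 2 := by omega
  apply h2
  have := Fintype.ofFinite F
  have h5 : CharP F 2 := by
    have h6 : Fintype.card F = 2 := by rw [← Nat.card_eq_fintype_card, h4]
    obtain ⟨p, hp⟩ := CharP.exists F
    have h7 : p.Prime := CharP.char_is_prime F p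
    have : Fact p.Prime := ⟨h7⟩
    obtain ⟨n, hn⟩ := FiniteField.card F p
    rw [h6] at hn
    have h8 : p ∣ 2 := by rw [hn.2]; exact dvd_pow_self p n.ne_zero
    have h9 : p = 2 := (Nat.prime_dvd_prime_iff_eq h7 Nat.prime_two).1 h8
    rwa [h9] at hp
  exact_mod_cast CharP.cast_eq_zero F 2

/-- the arithmetic -/
theorem arith {q j r : ℕ} (hq : 3 ≤ q) (h : r ^ 5 < q ^ (2 * (j + 6))) : r < (q - 1) * q ^ (j + 2) := by
  by_contra hcon
  push Not at hcon
  have h1 : ((q - 1) * q ^ (j + 2)) ^ 5 ≤ r ^ 5 := Nat.pow_le_pow_left hcon 5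
  have h3 : q ≤ (q - 1) ^ 2 := by
    obtain ⟨k, rfl⟩ : ∃ k, q = k + 3 := ⟨q - 3, by omega⟩
    rw [show k + 3 - 1 = k + 2 by omega]
    nlinarith only []
  have h4 : q ^ 2 ≤ (q - 1) ^ 5 := by
    calc q ^ 2 ≤ ((q - 1) ^ 2) ^ 2 := Nat.pow_le_pow_left h3 2
      _ = (q - 1) ^ 4 := by ring
      _ ≤ (q - 1) ^ 5 := Nat.pow_le_pow_right (by omega) (by norm_num)
  have h5 : q ^ (2 * (j + 6)) ≤ ((q - 1) * q ^ (j + 2)) ^ 5 := by
    calc q ^ (2 * (j + 6)) ≤ q ^ (2 + (j + 2) * 5) := Nat.pow_le_pow_right (by omega) (by omega)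
      _ = q ^ 2 * (q ^ (j + 2)) ^ 5 := by rw [pow_add, pow_mul]
      _ ≤ (q - 1) ^ 5 * (q ^ (j + 2)) ^ 5 := Nat.mul_le_mul_right _ h4
      _ = _ := by rw [mul_pow]
  omega

theorem S_neg_neg {u w : V} (hu : Q u = 0) (hw : polar Q u w = 0) : S Q (-u) (-w) = S Q u w := by
  have hu' : Q (-u) = 0 := by rw [QuadraticMap.map_neg, hu]
  have hw' : polar Q (-u) (-w) = 0 := by rw [polar_neg_left, polar_neg_right, hw, neg_zero, neg_zero]
  apply ext_ap
  intro v
  rw [S_ap hu hw, S_ap hu' hw', polar_neg_left, polar_neg_left, QuadraticMap.map_neg]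
  module

/-- an element acting as `-1` on `D` commutes with `E(D)` -/
theorem EB_comm_neg {D : Submodule F V} {z : ↥(E Q)} (hz : ∀ u ∈ D, ap z u = -u) : ∀ b ∈ EB Q D, z * b = b * z := by
  have h1 : EB Q D ≤ Subgroup.centralizer ({z} : Set ↥(E Q)) := by
    rw [EB, Subgroup.closure_le]
    rintro _ ⟨u, hu, w, hw, hQu, hp, rfl⟩
    rw [SetLike.mem_coe, Subgroup.mem_centralizer_singleton_iff]
    have h3 := S_conj z u w
    rw [hz u hu, hz w hw, S_neg_neg hQu hp] at h3
    rw [← h3, inv_mul_cancel_right, h3]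
  intro b hb
  exact (Subgroup.mem_centralizer_singleton_iff.1 (h1 hb)).symm

section step

variable {T : Type*} [Group T] [Finite T] [IsSimpleGroup T] [Finite F] [FiniteDimensional F V]

/-- `E(D)` is in the preimage of `A` -/
theorem EB_le (h2 : (2 : F) ≠ 0) (hQ : Nondeg Q) (hN : 8 ≤ finrank F V) (hna : ∃ a b : T, a * b ≠ b * a)
    {A : Subgroup T} {Γ : Subgroup (MulAut T)} (h : IF A Γ) (π : ↥(E Q) →* T) (hπ : Function.Surjective π)
    (hk : KerScalar π) {t : ↥(E Q)} (htA : t ∈ A.comap π) (ht : t * t = 1) {D D2 : Submodule F V}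
    (hD : (D = Vm t ∧ D2 = Vp t) ∨ (D = Vp t ∧ D2 = Vm t)) (hr : finrank F D2 = 2) : EB Q D ≤ A.comap π := by
  have hfin := _root_.Cfsg.Agent.H276.IF.finite_E Q
  have hG : Good Q := OrthFinite.good_of_finite hQ (by omega)
  have hc : IsCompl D D2 := by
    rcases hD with ⟨rfl, rfl⟩ | ⟨rfl, rfl⟩
    · exact isCompl h2 ht
    · exact (isCompl h2 ht).symm
  have ho : ∀ u ∈ D, ∀ w ∈ D2, polar Q u w = 0 := by
    rcases hD with ⟨rfl, rfl⟩ | ⟨rfl, rfl⟩
    · intro u hu w hw
      exact polar_Vm_Vp h2 hu hw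
    · intro u hu w hw
      rw [polar_comm]
      exact polar_Vm_Vp h2 hw hu
  have hns : Ns Q D := by
    rcases hD with ⟨rfl, rfl⟩ | ⟨rfl, rfl⟩
    · exact ns_Vm h2 hQ ht
    · exact ns_Vp h2 hQ ht
  have hsum := Submodule.finrank_add_eq_of_isCompl hc
  obtain ⟨j, hj⟩ : ∃ j, finrank F V = j + 8 := ⟨finrank F V - 8, by omega⟩
  have hfD : finrank F D = j + 6 := by omega
  have hcls : (Subgroup.centralizer ({t} : Set ↥(E Q))).index ≤ Nat.card F ^ (2 * (j + 6)) := by
    rcases hD with ⟨rfl, rfl⟩ | ⟨rfl, rfl⟩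
    · have h1 := cls_le h2 hG (by omega) ht hfD
      rw [hj, show j + 8 - (j + 6) = 2 by omega, mul_comm] at h1
      exact h1
    · have h1 := cls_le h2 hG (by omega) ht hr
      rw [hj, show j + 8 - 2 = j + 6 by omega] at h1
      exact h1
  -- `π t ≠ 1`
  have hDne : D ≠ ⊥ := by
    rintro rfl
    rw [finrank_bot] at hfD
    omega
  have hD2ne : D2 ≠ ⊥ := by
    rintro rfl
    rw [finrank_bot] at hr
    omega
  have hmne : Vm t ≠ ⊥ := by
    rcases hD with ⟨rfl, rfl⟩ | ⟨rfl, rfl⟩ <;> assumption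
  have hpne : Vp t ≠ ⊥ := by
    rcases hD with ⟨rfl, rfl⟩ | ⟨rfl, rfl⟩ <;> assumption
  obtain ⟨x, hx, hx0⟩ := (Submodule.ne_bot_iff _).1 hmne
  obtain ⟨y, hy, hy0⟩ := (Submodule.ne_bot_iff _).1 hpne
  rw [mem_Vm] at hx
  rw [mem_Vp] at hy
  have ht1 : π t ≠ 1 := by
    intro h1
    obtain ⟨c, hc'⟩ := hk t h1
    have k1 : ap t x = c • x := hc' x
    have k2 : ap t y = c • y := hc' y
    rw [hy] at k2
    have k3 : (c - 1) • y = 0 := by rw [sub_smul, ← k2, one_smul, sub_self]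
    have k4 : c = 1 := sub_eq_zero.1 ((smul_eq_zero.1 k3).resolve_right hy0)
    rw [hx, k4, one_smul] at k1
    have k5 : (2 : F) • x = 0 := by rw [two_smul]; nth_rewrite 1 [← k1]; exact neg_add_cancel x
    exact hx0 ((smul_eq_zero.1 k5).resolve_left h2)
  have hcomm : ∀ b ∈ EB Q D, t * b = b * t := by
    rcases hD with ⟨rfl, rfl⟩ | ⟨rfl, rfl⟩
    · exact EB_comm_neg fun u hu => mem_Vm.1 hu
    · exact EB_comm fun u hu => mem_Vp.1 hu
  have h4 := Cfsg.Agent.H847.IF.lift_E2 h hna π hπ (t := t) htA ht1 (by rw [ht, map_one]) (B := EB Q D)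
    (fun b hb => by rw [hcomm b hb])
  refine EB_le_of hc ho (fun H hH => mi_D h2 hns (by omega) H hH) ?_
  rw [hfD, show j + 6 - 4 = j + 2 by omega]
  exact arith (three_le h2) (lt_of_lt_of_le h4 hcls)

omit [FiniteDimensional F V] in
/-- a quadruple in `D` -/
theorem exists_frame {D : Submodule F V} (hD : Ns Q D) (h6 : 6 ≤ finrank F D) :
    ∃ e₁ f₁ e₂ f₂ : V, Four Q e₁ f₁ e₂ f₂ ∧ e₁ ∈ D ∧ f₁ ∈ D ∧ e₂ ∈ D ∧ f₂ ∈ D := by
  have hG : Good (QU Q D) := OrthFinite.good_of_finite (nondeg_QU hD) (by omega)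
  obtain ⟨x, y, hxy⟩ := hG.exists_hyp
  obtain ⟨z, w, hzw, p1, p2, p3, p4⟩ := hG.exists_hyp2 hxy
  have hyp : ∀ {a b : D}, Hyp (QU Q D) a b → Hyp Q (a : V) (b : V) := by
    intro a b hab
    refine ⟨hab.left, hab.right, ?_⟩
    have := hab.pair
    rwa [polar_QU] at this
  rw [polar_QU] at p1 p2 p3 p4
  exact ⟨x, y, z, w, ⟨hyp hxy, hyp hzw, p1, p2, p3, p4⟩, x.2, y.2, z.2, w.2⟩

omit [FiniteDimensional F V] in
/-- a hyperbolic pair in a nondegenerate space of dimension at least three -/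
theorem exists_pair {D : Submodule F V} (hD : Ns Q D) (h3 : 3 ≤ finrank F D) :
    ∃ e f : V, Hyp Q e f ∧ e ∈ D ∧ f ∈ D := by
  obtain ⟨w, hw0, hw, -⟩ := OrthFinite.exists_sing_perp (Q := QU Q D) (n := 0) ![] (by omega)
  obtain ⟨y, hy⟩ := OrthTrans.exists_hyp (nondeg_QU hD) hw hw0
  refine ⟨w, y, ⟨hy.left, hy.right, ?_⟩, w.2, y.2⟩
  have := hy.pair
  rwa [polar_QU] at this

end step

open Cfsg.Agent.LieClassical.SLTwoUnipotent (u l) in
/-- an element of order four -/
def sE (F : Type*) [Field F] : Matrix.SpecialLinearGroup (Fin 2) F := u (-1) * (l (-1))⁻¹ * u (-1)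

theorem coe_sE (F : Type*) [Field F] : ((sE F : Matrix.SpecialLinearGroup (Fin 2) F) : Matrix (Fin 2) (Fin 2) F) =
    !![0, -1; 1, 0] := by
  rw [sE, Cfsg.Agent.LieClassical.SLTwoUnipotent.l_neg, inv_inv, Matrix.SpecialLinearGroup.coe_mul,
    Matrix.SpecialLinearGroup.coe_mul, Cfsg.Agent.LieClassical.SLTwoUnipotent.coe_u,
    Cfsg.Agent.LieClassical.SLTwoUnipotent.coe_l]
  ext i j
  (revert i j; simp only [Matrix.mul_apply, Fin.sum_univ_two, _root_.Fin.forall_fin_succ, _root_.Matrix.cons_mul, _root_.Nat.succ_eq_add_one, Nat.reduceAdd, _root_.Matrix.vecMul_cons, _root_.Matrix.head_cons, _root_.one_smul, _root_.Matrix.tail_cons, _root_.neg_smul, _root_.Matrix.neg_cons, _root_.Matrix.neg_empty, _root_.Matrix.empty_vecMul, _root_.add_zero, _root_.Matrix.add_cons, _root_.add_neg_cancel, _root_.zero_add, _root_.Matrix.empty_add_empty, _root_.zero_smul, _root_.Matrix.empty_mul, _root_.Equiv.symm_apply_apply, _root_.Matrix.of_apply, _root_.Matrix.cons_val',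 _root_.Matrix.cons_val_fin_one, Fin.isValue, _root_.Matrix.cons_val_zero, _root_.Matrix.cons_val_one, _root_.mul_one, _root_.MulZeroClass.mul_zero, _root_.Matrix.cons_val_succ, _root_.mul_neg, _root_.forall_const, _root_.true_and, _root_.neg_zero, _root_.neg_add_cancel, _root_.implies_true, _root_.and_self])

theorem sE_sq (F : Type*) [Field F] : sE F * sE F = -1 := by
  apply Subtype.ext
  change ((sE F * sE F : Matrix.SpecialLinearGroup (Fin 2) F) : Matrix (Fin 2) (Fin 2) F) = _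
  rw [Matrix.SpecialLinearGroup.coe_mul, coe_sE]
  ext i j
  (revert i j; simp only [Matrix.mul_apply, Fin.sum_univ_two, _root_.Fin.forall_fin_succ, _root_.Matrix.of_apply, _root_.Matrix.cons_val', _root_.Matrix.cons_val_fin_one, Fin.isValue, _root_.Matrix.cons_val_zero, _root_.Matrix.cons_val_one, _root_.Matrix.SpecialLinearGroup.coe_neg, _root_.Matrix.SpecialLinearGroup.coe_one, _root_.Matrix.neg_apply, _root_.MulZeroClass.mul_zero, _root_.mul_one, _root_.zero_add, _root_.Matrix.cons_val_succ, _root_.mul_neg, _root_.add_zero, _root_.neg_inj, _root_.IsEmpty.forall_iff, _root_.and_true, _root_.Matrix.one_apply_eq, Nat.reduceAdd, _root_.Fin.succ_zero_eq_one, _root_.ne_eq, _root_.zero_ne_one, _root_.not_false_eq_true, _root_.Matrix.one_apply_ne, _root_.and_self, _root_.Fin.succ_ne_zero, _root_.neg_zero, _root_.true_and])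

theorem rhoE_sE {D : Submodule F V} {e₁ f₁ e₂ f₂ : V} (h : Four Q e₁ f₁ e₂ f₂) (m1 : e₁ ∈ D) (m2 : f₁ ∈ D)
    (m3 : e₂ ∈ D) (m4 : f₂ ∈ D) : h.rhoE (sE F) ∈ EB Q D := by
  rw [sE, map_mul, map_mul, map_inv, rhoE_u, rhoE_l]
  have h1 : S Q e₁ f₂ ∈ EB Q D := Subgroup.subset_closure ⟨e₁, m1, f₂, m4, h.h1.left, h.ef, rfl⟩
  have h3 : S Q e₂ f₁ ∈ EB Q D := Subgroup.subset_closure
    ⟨e₂, m3, f₁, m2, h.h2.left, by rw [polar_comm]; exact h.fe, rfl⟩
  exact mul_mem (mul_mem h1 (inv_mem h3)) h1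

open Cfsg.Agent.H886.IF8 in
/-- an involution of `E(D)` with a two-dimensional `(-1)`-space -/
theorem exists_inv [Finite F] [FiniteDimensional F V] (h2 : (2 : F) ≠ 0) (hQ : Nondeg Q) (hN : 5 ≤ finrank F V)
    {D : Submodule F V} (hD : Ns Q D) (h6 : 6 ≤ finrank F D) :
    ∃ t ∈ EB Q D, t * t = 1 ∧ finrank F (Vm t) = 2 := by
  obtain ⟨e₁, f₁, e₂, f₂, h, m1, m2, m3, m4⟩ := exists_frame hD h6
  have hG : Good Q := OrthFinite.good_of_finite hQ hN
  obtain ⟨k1, k2⟩ := inv_two h2 hG h (sE_sq F) (sE_sq F)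
  refine ⟨two h (sE F, sE F), ?_, k1, k2⟩
  rw [two_apply]
  exact mul_mem (rhoE_sE h m1 m2 m3 m4) (rhoE_sE h.swap m1 m2 m4 m3)

section main

variable {T : Type*} [Group T] [Finite T] [IsSimpleGroup T] [Finite F] [FiniteDimensional F V]

/-- **CLAIM 0** -/
theorem claim0 (h2 : (2 : F) ≠ 0) (hQ : Nondeg Q) (hN : 8 ≤ finrank F V) (hna : ∃ a b : T, a * b ≠ b * a)
    {A : Subgroup T} {Γ : Subgroup (MulAut T)} (h : IF A Γ) (π : ↥(E Q) →* T) (hπ : Function.Surjective π)
    (hk : KerScalar π) {t : ↥(E Q)} (htA : t ∈ A.comap π) (ht : t * t = 1)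
    (hr : finrank F (Vm t) = 2 ∨ finrank F (Vm t) + 2 = finrank F V) : False := by
  have hc0 := isCompl h2 ht
  have hs0 := Submodule.finrank_add_eq_of_isCompl hc0
  obtain ⟨D, D2, hD, hr2⟩ : ∃ D D2 : Submodule F V, ((D = Vm t ∧ D2 = Vp t) ∨ (D = Vp t ∧ D2 = Vm t)) ∧
      finrank F D2 = 2 := by
    rcases hr with h1 | h1
    · exact ⟨Vp t, Vm t, Or.inr ⟨rfl, rfl⟩, h1⟩
    · exact ⟨Vm t, Vp t, Or.inl ⟨rfl, rfl⟩, by omega⟩
  have hc : IsCompl D D2 := by
    rcases hD with ⟨rfl, rfl⟩ | ⟨rfl, rfl⟩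
    · exact isCompl h2 ht
    · exact (isCompl h2 ht).symm
  have ho : ∀ u ∈ D, ∀ w ∈ D2, polar Q u w = 0 := by
    rcases hD with ⟨rfl, rfl⟩ | ⟨rfl, rfl⟩
    · intro u hu w hw
      exact polar_Vm_Vp h2 hu hw
    · intro u hu w hw
      rw [polar_comm]
      exact polar_Vm_Vp h2 hw hu
  have hns : Ns Q D := by
    rcases hD with ⟨rfl, rfl⟩ | ⟨rfl, rfl⟩
    · exact ns_Vm h2 hQ ht
    · exact ns_Vp h2 hQ ht
  have hsum := Submodule.finrank_add_eq_of_isCompl hc
  have hE1 : EB Q D ≤ A.comap π := EB_le h2 hQ hN hna h π hπ hk htA ht hD hr2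
  obtain ⟨s, hsB, hs, hs2⟩ := exists_inv h2 hQ (by omega) hns (by omega)
  have hE2 : EB Q (Vp s) ≤ A.comap π := EB_le h2 hQ hN hna h π hπ hk (hE1 hsB) hs (Or.inr ⟨rfl, rfl⟩) hs2
  -- `D2 ≤ Vp s`, `Vm s ≤ D`
  have hD2 : D2 ≤ Vp s := fun x hx => mem_Vp.2 (EB_fix (fun u hu => ho u hu x hx) s hsB)
  have hmD : Vm s ≤ D := by
    intro x hx
    have hx' : x ∈ D ⊔ D2 := by rw [hc.codisjoint.eq_top]; exact Submodule.mem_top
    obtain ⟨a, ha, b, hb, rfl⟩ := Submodule.mem_sup.1 hx'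
    have hb0 : b = 0 := by
      refine hQ b fun y => ?_
      have hy : y ∈ D ⊔ D2 := by rw [hc.codisjoint.eq_top]; exact Submodule.mem_top
      obtain ⟨c, hc', d, hd, rfl⟩ := Submodule.mem_sup.1 hy
      have h1 : polar Q (a + b) d = 0 := polar_Vm_Vp h2 hx (hD2 hd)
      rw [polar_add_left, ho a ha d hd, zero_add] at h1
      rw [polar_add_right, polar_comm, ho c hc' b hb, h1, add_zero]
    rw [hb0, add_zero]
    exact ha
  have hcs := isCompl h2 hs
  -- a hyperbolic pair in `D ∩ Vp s`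
  have hnsI : Ns Q (D ⊓ Vp s) := by
    rintro x ⟨hxD, hxp⟩ hx
    refine hQ x fun y => ?_
    have hy : y ∈ D ⊔ D2 := by rw [hc.codisjoint.eq_top]; exact Submodule.mem_top
    obtain ⟨d, hd, d2, hd2, rfl⟩ := Submodule.mem_sup.1 hy
    have hd' : d ∈ Vm s ⊔ Vp s := by rw [hcs.codisjoint.eq_top]; exact Submodule.mem_top
    obtain ⟨a, ha, b, hb, rfl⟩ := Submodule.mem_sup.1 hd'
    have hbD : b ∈ D := by
      have h1 := D.sub_mem hd (hmD ha)
      rwa [add_sub_cancel_left] at h1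
    rw [polar_add_right, ho x hxD d2 hd2, polar_add_right, hx b ⟨hbD, hb⟩, polar_comm,
      polar_Vm_Vp h2 ha hxp, add_zero, add_zero]
  have hfI : 3 ≤ finrank F ↥(D ⊓ Vp s) := by
    have h1 := Submodule.finrank_sup_add_finrank_inf_eq D (Vp s)
    have h3 : finrank F ↥(D ⊔ Vp s) ≤ finrank F V := Submodule.finrank_le _
    have h4 := Submodule.finrank_add_eq_of_isCompl hcs
    omega
  obtain ⟨e, f, hef, ⟨heD, hep⟩, ⟨hfD, hfp⟩⟩ := exists_pair hnsI hfI
  -- generation
  have gen : ∀ x : V, Q x = 0 → x ∈ D → x ∈ Vp s → ∀ w, polar Q x w = 0 → S Q x w ∈ A.comap π := by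
    intro x hx hxD hxp w hw
    have hw' : w ∈ D ⊔ D2 := by rw [hc.codisjoint.eq_top]; exact Submodule.mem_top
    obtain ⟨a, ha, b, hb, rfl⟩ := Submodule.mem_sup.1 hw'
    have h1 : polar Q x b = 0 := ho x hxD b hb
    have h3 : polar Q x a = 0 := by rwa [polar_add_right, h1, add_zero] at hw
    rw [S_add hx h3 h1]
    exact mul_mem (hE1 (Subgroup.subset_closure ⟨x, hxD, a, ha, hx, h3, rfl⟩))
      (hE2 (Subgroup.subset_closure ⟨x, hxp, b, hD2 hb, hx, h1, rfl⟩))
  have hle : E Q ≤ (A.comap π).map (E Q).subtype := by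
    refine Cfsg.Agent.H75.OrthIdx.E_le_of_opp hQ hef ?_ ?_
    · intro v hv
      rw [Cfsg.Agent.H75.OrthIdx.sg_eq hef.left hv]
      refine ⟨S Q e v, gen e hef.left heD hep v hv, ?_⟩
      rw [S_eq hef.left hv]
      rfl
    · intro v hv
      rw [Cfsg.Agent.H75.OrthIdx.sg_eq hef.right hv]
      refine ⟨S Q f v, gen f hef.right hfD hfp v hv, ?_⟩
      rw [S_eq hef.right hv]
      rfl
  apply h.ne_top
  rw [eq_top_iff]
  rintro x -
  obtain ⟨g, rfl⟩ := hπ x
  obtain ⟨k, hk1, hk2⟩ := hle g.2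
  rw [← Subtype.ext hk2]
  exact hk1

end main

end Cfsg.Agent.H94.CZ
end

-- part: H276/IF/RowT
section
/-!
# S5719, orthogonal groups, q odd, dimension at least 11: the row theorem from the minimal index theorem (helper276)
-/

set_option autoImplicit false
set_option linter.unusedSectionVars false

namespace Cfsg.Agent.H276.IF

open QuadraticMap Cfsg.Agent.LieClassical.OrthCore Cfsg.Agent.AutOrth.Gen
open Cfsg.Agent.H112.Row2.OrthExt (QU)

/-- the minimal index theorem for the groups `E Q` -/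
def MinIdx : Prop := ∀ (F V : Type) [Field F] [Finite F] [AddCommGroup V] [Module F V] [FiniteDimensional F V]
  (Q : QuadraticForm F V), (2 : F) ≠ 0 → Nondeg Q → 7 ≤ Module.finrank F V → ∀ H : Subgroup ↥(E Q), H ≠ ⊤ →
    Nat.card F ^ (Module.finrank F V - 2) ≤ H.index

/-- **the row theorem**, from the minimal index theorem -/
theorem rowThm_of (hmin : MinIdx) : Cfsg.Agent.H254.IF.RowThm := by
  intro F V _ _ _ _ _ Q h2 hQ hN T _ _ _ pi hpi hk hna A Γ h hA
  exact killE_min h2 hQ hN hna h pi hpi hk hA fun D hD h7 H hH => hmin F D (QU Q D) h2 (nondeg_QU hD) h7 H hH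

end Cfsg.Agent.H276.IF
end

-- part: H63/IF/PlusThree
section
/-!
# Plus type, odd characteristic: a proper subgroup of `E Q` has index at least `q ^ (2 m - 2)` (helper63)

Adapted from `H75/PlusMain`, `PlusGeo`, `PlusFinal` (there `q ≥ 4`); under the weaker hypothesis
`index < q ^ (2 m - 2)` the argument works for `q = 3` and there is no exceptional case.
-/

set_option autoImplicit false

namespace Cfsg.Agent.H63.IF

open QuadraticMap Cfsg.Agent.LieClassical.OrthCore Cfsg.Agent.LieClassical.OrthTrans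
open Cfsg.Agent.H75.OrthIdx

section arith

theorem aux1 {s t n β VS D : ℕ} (h1 : VS ≤ t * β) (h2 : s * t ≤ n) (h4 : s * β = D) :
    VS * D ≤ n * (β * β) := by
  calc VS * D = (s * β) * VS := by rw [h4]; ring
    _ ≤ (s * β) * (t * β) := Nat.mul_le_mul_left _ h1
    _ = (s * t) * (β * β) := by ring
    _ ≤ n * (β * β) := Nat.mul_le_mul_right _ h2

theorem A1 {q s t n β VS Y : ℕ} (hq : 3 ≤ q) (hY : 1 ≤ Y)
    (h1 : VS ≤ t * β) (h2 : s * t ≤ n)
    (h3 : n < Y * Y) (h4 : s * β = q * (Y * Y))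
    (hVS : Y * Y ≤ VS) (hβ : β ≤ Y) : False := by
  have h5 := aux1 h1 h2 h4
  have hβ2 : β * β ≤ Y * Y := Nat.mul_le_mul hβ hβ
  have hYY : 0 < Y * Y := Nat.mul_pos hY hY
  have h6 : (Y * Y) * (q * (Y * Y)) ≤ VS * (q * (Y * Y)) := Nat.mul_le_mul_right _ hVS
  have h7 : n * (β * β) ≤ n * (Y * Y) := Nat.mul_le_mul_left _ hβ2
  have h8 : n * (Y * Y) < (Y * Y) * (Y * Y) := Nat.mul_lt_mul_of_pos_right h3 hYY
  have h9 : (Y * Y) * (Y * Y) ≤ (Y * Y) * (q * (Y * Y)) :=
    Nat.mul_le_mul_left _ (Nat.le_mul_of_pos_left _ (by omega))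
  omega

theorem A2 {q p s t n β VS Y K : ℕ} (hq : 3 ≤ q) (hY : 9 ≤ Y)
    (h1 : VS ≤ t * β) (h2 : s * t ≤ n)
    (h3 : n < Y * Y) (h4 : s * β = q * (Y * Y))
    (hVS : 4 * ((q - 1) * K) ≤ p * p * VS) (hK : K = Y * (Y - 1))
    (hβ : p * β ≤ q * Y) : False := by
  obtain ⟨q', rfl⟩ : ∃ q', q = q' + 3 := ⟨q - 3, by omega⟩
  rw [show q' + 3 - 1 = q' + 2 by omega] at *
  obtain ⟨y, rfl⟩ : ∃ y, Y = y + 1 := ⟨Y - 1, by omega⟩
  rw [Nat.add_sub_cancel] at hK
  have h5 := aux1 h1 h2 h4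
  have h6 : (4 * (q' + 2) * y) * ((q' + 3) * (y + 1) * ((y + 1) * (y + 1))) <
      ((q' + 3) * (y + 1)) * ((q' + 3) * (y + 1) * ((y + 1) * (y + 1))) := by
    calc (4 * (q' + 2) * y) * ((q' + 3) * (y + 1) * ((y + 1) * (y + 1)))
        = ((q' + 3) * ((y + 1) * (y + 1))) * (4 * ((q' + 2) * K)) := by rw [hK]; ring
      _ ≤ ((q' + 3) * ((y + 1) * (y + 1))) * (p * p * VS) := Nat.mul_le_mul_left _ hVS
      _ = p * p * (VS * ((q' + 3) * ((y + 1) * (y + 1)))) := by ring
      _ ≤ p * p * (n * (β * β)) := Nat.mul_le_mul_left _ h5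
      _ = ((p * β) * (p * β)) * n := by ring
      _ ≤ (((q' + 3) * (y + 1)) * ((q' + 3) * (y + 1))) * n :=
          Nat.mul_le_mul_right _ (Nat.mul_le_mul hβ hβ)
      _ < (((q' + 3) * (y + 1)) * ((q' + 3) * (y + 1))) * ((y + 1) * (y + 1)) :=
          Nat.mul_lt_mul_of_pos_left h3 (by positivity)
      _ = _ := by ring
  have h7 := lt_of_mul_lt_mul_right h6 (Nat.zero_le _)
  have hy : 8 ≤ y := by omega
  linarith only [hY, h7, Nat.zero_le (q' * y), Nat.mul_le_mul_left q' hy]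

theorem A3 {q p s t n β VS M Y u : ℕ} (hq : 3 ≤ q) (hp : 2 ≤ p) (hu : q ^ 2 ≤ u)
    (hYu : Y = q * u) (h1 : VS * M ≤ t * (β * β)) (h2 : s * t ≤ n)
    (h3 : n < Y * Y) (h4 : s * β = q * (Y * Y))
    (hVS : Y * Y ≤ VS) (hM : Y * u ≤ M) (hβ : p * β ≤ q * Y) : False := by
  have hu0 : 0 < u := lt_of_lt_of_le (by positivity) hu
  have hY0 : 0 < Y := by rw [hYu]; positivity
  have h8 : 1 ≤ p * p * p := Nat.mul_pos (Nat.mul_pos (by omega) (by omega)) (by omega)
  have h6 : u * (q * Y * Y * Y * (Y * Y)) < q ^ 2 * (q * Y * Y * Y * (Y * Y)) := by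
    calc u * (q * Y * Y * Y * (Y * Y))
        = 1 * ((q * (Y * Y)) * ((Y * Y) * (Y * u))) := by ring
      _ ≤ (p * p * p) * ((q * (Y * Y)) * (VS * M)) :=
          Nat.mul_le_mul h8 (Nat.mul_le_mul_left _ (Nat.mul_le_mul hVS hM))
      _ ≤ (p * p * p) * ((q * (Y * Y)) * (t * (β * β))) :=
          Nat.mul_le_mul_left _ (Nat.mul_le_mul_left _ h1)
      _ = ((p * β) * (p * β) * (p * β)) * (s * t) := by rw [← h4]; ring
      _ ≤ ((q * Y) * (q * Y) * (q * Y)) * n :=
          Nat.mul_le_mul (Nat.mul_le_mul (Nat.mul_le_mul hβ hβ) hβ) h2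
      _ < ((q * Y) * (q * Y) * (q * Y)) * (Y * Y) :=
          Nat.mul_lt_mul_of_pos_left h3 (by positivity)
      _ = _ := by ring
  have h7 := lt_of_mul_lt_mul_right h6 (Nat.zero_le _)
  omega

theorem A4 {q p s t n a VS M Y u : ℕ} (hq : 3 ≤ q) (hp : 2 ≤ p) (hu : q ^ 2 ≤ u)
    (hYu : Y = q * u) (h1 : VS * M ≤ t * (a * a)) (h2 : s * t ≤ n) (_hs : 0 < s)
    (h3 : n < Y * Y) (ha : a = q * s)
    (hVS : Y * Y ≤ VS) (hM : Y * u ≤ M) (hβ : p * s ≤ Y) : False := by
  have hu0 : 0 < u := lt_of_lt_of_le (by positivity) hu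
  have hY0 : 0 < Y := by rw [hYu]; positivity
  have h6 : u * (Y * Y * Y) < q ^ 2 * (Y * Y * Y) := by
    calc u * (Y * Y * Y)
        = 1 * ((Y * Y) * (Y * u)) := by ring
      _ ≤ p * (VS * M) := Nat.mul_le_mul (by omega) (Nat.mul_le_mul hVS hM)
      _ ≤ p * (t * (a * a)) := Nat.mul_le_mul_left _ h1
      _ = (p * s) * (q ^ 2 * (s * t)) := by rw [ha]; ring
      _ ≤ Y * (q ^ 2 * n) := Nat.mul_le_mul hβ (Nat.mul_le_mul_left _ h2)
      _ < Y * (q ^ 2 * (Y * Y)) :=
          Nat.mul_lt_mul_of_pos_left (Nat.mul_lt_mul_of_pos_left h3 (by positivity)) hY0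
      _ = _ := by ring
  have h7 := lt_of_mul_lt_mul_right h6 (Nat.zero_le _)
  omega

theorem A5 {q s t n a K Y u : ℕ} (hq : 3 ≤ q) (hu : q ^ 2 ≤ u)
    (hYu : Y = q * u) (h2 : s * t ≤ n) (hs : 0 < s)
    (h3 : n < Y * Y) (ha : a = q * s)
    (hK : K = Y * (Y - 1)) (h1 : (q - 1) * K * ((q - 1) * u ^ 2) ≤ t * (a * a))
    (hsY : s ≤ Y) : False := by
  obtain ⟨q', rfl⟩ : ∃ q', q = q' + 3 := ⟨q - 3, by omega⟩
  rw [show q' + 3 - 1 = q' + 2 by omega] at *
  have hu0 : 0 < u := lt_of_lt_of_le (by positivity) hu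
  have hY27 : 27 ≤ Y := by
    rw [hYu]
    have h16 : 9 ≤ u := by nlinarith only [hu, _root_.Nat.cast_nonneg (α := ℤ) (q')]
    calc 27 = 3 * 9 := by norm_num
      _ ≤ _ := Nat.mul_le_mul (by omega) h16
  obtain ⟨y, hy⟩ : ∃ y, Y = y + 1 := ⟨Y - 1, by omega⟩
  have hK' : K = Y * y := by rw [hK, hy, Nat.add_sub_cancel]
  have h6 : ((q' + 2) ^ 2 * y * u) * (Y * u) < ((q' + 3) ^ 3 * Y) * (Y * u) := by
    calc ((q' + 2) ^ 2 * y * u) * (Y * u)
        = (q' + 2) * K * ((q' + 2) * u ^ 2) := by rw [hK']; ring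
      _ ≤ t * (a * a) := h1
      _ = s * (q' + 3) ^ 2 * (s * t) := by rw [ha]; ring
      _ ≤ Y * (q' + 3) ^ 2 * n := Nat.mul_le_mul (Nat.mul_le_mul_right _ hsY) h2
      _ < Y * (q' + 3) ^ 2 * (Y * Y) := Nat.mul_lt_mul_of_pos_left h3 (by positivity)
      _ = (q' + 3) ^ 2 * Y * Y * Y := by ring
      _ = (q' + 3) ^ 2 * Y * Y * ((q' + 3) * u) := by rw [← hYu]
      _ = _ := by ring
  have h9 := lt_of_mul_lt_mul_right h6 (Nat.zero_le _)
  have h10 : (q' + 2) ^ 2 * y * (q' + 3) ^ 2 ≤ (q' + 2) ^ 2 * y * u := Nat.mul_le_mul_left _ hu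
  have h11 : ((q' + 2) ^ 2 * y) * (q' + 3) ^ 2 < ((q' + 3) * Y) * (q' + 3) ^ 2 := by
    calc _ ≤ _ := h10
      _ < _ := h9
      _ = _ := by ring
  have h12 := lt_of_mul_lt_mul_right h11 (Nat.zero_le _)
  rw [hy] at h12
  have hy63 : 26 ≤ y := by omega
  have e1 : (q' + 2) ^ 2 * y = q' ^ 2 * y + 4 * (q' * y) + 4 * y := by ring
  have e2 : (q' + 3) * (y + 1) = q' * y + 3 * y + q' + 3 := by ring
  rw [e1, e2] at h12
  have e4 : q' * 26 ≤ q' * y := Nat.mul_le_mul_left _ hy63
  (clear * - hY27 hy h12 e4; omega)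

theorem A6 {q t n VS M Y u : ℕ} (hq : 3 ≤ q) (hu : q ^ 2 ≤ u)
    (hYu : Y = q * u) (h1 : VS * M ≤ t * ((q * Y) * (q * Y))) (h2 : Y * t ≤ n)
    (h3 : n < Y * Y)
    (hVS : Y * Y ≤ VS) (hM : Y * u ≤ M) : False := by
  have hu0 : 0 < u := lt_of_lt_of_le (by positivity) hu
  have hY0 : 0 < Y := by rw [hYu]; positivity
  have h6 : u * (Y * Y * Y * Y) < q ^ 2 * (Y * Y * Y * Y) := by
    calc u * (Y * Y * Y * Y)
        = Y * ((Y * Y) * (Y * u)) := by ring
      _ ≤ Y * (VS * M) := Nat.mul_le_mul_left _ (Nat.mul_le_mul hVS hM)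
      _ ≤ Y * (t * ((q * Y) * (q * Y))) := Nat.mul_le_mul_left _ h1
      _ = ((q * Y) * (q * Y)) * (Y * t) := by ring
      _ ≤ ((q * Y) * (q * Y)) * n := Nat.mul_le_mul_left _ h2
      _ < ((q * Y) * (q * Y)) * (Y * Y) := Nat.mul_lt_mul_of_pos_left h3 (by positivity)
      _ = _ := by ring
  have h9 := lt_of_mul_lt_mul_right h6 (Nat.zero_le _)
  omega

end arith

variable {F V : Type*} [Field F] [AddCommGroup V] [Module F V] {Q : QuadraticForm F V}

section fin

variable [Finite F] [FiniteDimensional F V]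

set_option maxHeartbeats 2000000 in
/-- The dichotomy for the dual of `Bs` in plus type. -/
theorem plus_dual' (hG : Good Q) {m : ℕ} (hC : PlusCount Q m) (hq3 : 3 ≤ Nat.card F)
    {p : ℕ} [hpp : Fact p.Prime]
    (θ : F →+ ZMod p) (hpF : p ∣ Nat.card F)
    (hθ : ∀ x : F, x ≠ 0 → ∃ c : F, θ (c * x) ≠ 0)
    (hcard : ∀ B : AddSubgroup V, Nat.card (dl Q θ B) * Nat.card B = Nat.card V)
    (hdd : ∀ B : AddSubgroup V, dl Q θ (dl Q θ B) = B)
    {H : Subgroup (V ≃ₗ[F] V)}
    (hH : H.relIndex (E Q) < Nat.card F ^ (2 * m - 2))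
    {e f : V} (h : Hyp Q e f) {v : V} (hv : v ∈ Bs Q H e) (hvn : v ∉ Submodule.span F {e}) :
    ∃ a ∈ dl Q θ (Bs Q H e), ∀ x ∈ dl Q θ (Bs Q H e), x ∈ Submodule.span F {e, a} := by
  classical
  have : Finite V := Module.finite_of_finite F
  have hm := hC.four
  have hd := hC.finrank
  have hQ := hG.nondeg
  have he0 : e ≠ 0 := h.left_ne
  set q := Nat.card F with hq
  obtain ⟨k, hk0, hqk⟩ : ∃ k, 0 < k ∧ q = p ^ k := by
    have := Fintype.ofFinite F
    obtain ⟨p', hp'⟩ := CharP.exists F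
    obtain ⟨n, hprime, hn⟩ := FiniteField.card F p'
    rw [← Nat.card_eq_fintype_card, ← hq] at hn
    rw [hn] at hpF
    have h1 := hpp.out.dvd_of_dvd_pow hpF
    have h2 := (Nat.prime_dvd_prime_iff_eq hpp.out hprime).1 h1
    exact ⟨n, n.pos, by rw [hn, h2]⟩
  have hp2 : 2 ≤ p := hpp.out.two_le
  have hpq : p ≤ q := Nat.le_of_dvd (by omega) hpF
  set u := q ^ (m - 2) with hu
  set Y := q * u with hYu
  obtain ⟨r, hr⟩ : ∃ r, m = r + 4 := ⟨m - 4, by omega⟩
  have hYm : Y = q ^ (m - 1) := by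
    rw [hYu, hu, ← pow_succ']; congr 1; omega
  have hqYm : q * Y = q ^ m := by
    rw [hYm, ← pow_succ']; congr 1; omega
  have hqYY : q ^ (2 * m - 1) = q * (Y * Y) := by
    rw [hYm, ← pow_add, ← pow_succ']; congr 1; omega
  have hYY : q ^ (2 * m - 2) = Y * Y := by
    rw [hYm, ← pow_add]; congr 1; omega
  rw [hYY] at hH
  have hu2 : q ^ 2 ≤ u := Nat.pow_le_pow_right (by omega) (by omega)
  have hu9 : 9 ≤ u := by nlinarith only [hq3, hu2]
  have hY27 : 27 ≤ Y := by
    rw [hYu]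
    calc 27 = 3 * 9 := by norm_num
      _ ≤ _ := Nat.mul_le_mul hq3 hu9
  obtain ⟨hK, hVS, hM⟩ := hC.data hQ h hu hYu
  rw [← hq] at hVS hM
  have hVS' : ∀ w : V, Q w = 0 → Y * Y ≤ (VecSet Q e w).ncard := by
    intro w hw
    have h1 := hVS w hw
    have h2 : q ≤ (q - 1) * Y := by
      obtain ⟨q', hq'⟩ : ∃ q', q = q' + 3 := ⟨q - 3, by (clear * - hq3; omega)⟩
      rw [hq', show q' + 3 - 1 = q' + 2 by omega]
      linarith only [hY27, Nat.mul_le_mul_left q' hY27]
    omega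
  have hMle : Y * u ≤ Y * u + (q - 1) * Y - q ^ 2 := by
    have h1 : q ^ 2 ≤ (q - 1) * Y := by
      have h2 : q ^ 2 ≤ Y := hu2.trans (Nat.le_mul_of_pos_left _ (by omega))
      calc q ^ 2 ≤ 1 * Y := by omega
        _ ≤ _ := Nat.mul_le_mul_right _ (by omega)
    omega
  set B := Bs Q H e with hB
  set A := dl Q θ B with hA
  set s := H.relIndex (rad Q e) with hs
  set t := (Nst Q H e).relIndex (Pst Q e) with ht
  set n := H.relIndex (E Q) with hn
  have hst : s * t ≤ n := relIndex_ge h.left H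
  have hsβ : s * Nat.card B = q * (Y * Y) := by
    have h1 := relIndex_rad_mul hQ he0 H
    rw [hd, ← hq, hqYY] at h1
    exact h1
  have haβ : Nat.card A * Nat.card B = q * (q * (Y * Y)) := by
    have h1 := hcard B
    rw [Module.natCard_eq_pow_finrank (K := F) (V := V), hd, ← hq,
      show 2 * m = (2 * m - 1) + 1 by omega, pow_succ', hqYY] at h1
    exact h1
  have hβpos : 0 < Nat.card B := Nat.card_pos
  have haqs : Nat.card A = q * s := by
    have h1 : Nat.card A * Nat.card B = (q * s) * Nat.card B := by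
      rw [haβ, ← hsβ]; ring
    exact Nat.eq_of_mul_eq_mul_right hβpos h1
  have hspos : 0 < s := Nat.pos_of_ne_zero (relIndex_ne _ _)
  have hd4 : q ^ (Module.finrank F V - 4) = u ^ 2 := by
    rw [hd, hu, ← pow_mul]; congr 1; (clear * -; omega)
  have hBe : ∀ x ∈ B, polar Q e x = 0 := fun x hx => hx.1
  have hAe : ∀ x ∈ A, polar Q e x = 0 := fun x hx => dl_perp hθ h.left hx
  -- powers of `p`
  have hBp : ∃ j, Nat.card B = p ^ j := by
    have h1 : Nat.card B ∣ p ^ (k * (2 * m - 1)) := by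
      rw [pow_mul, ← hqk, hqYY, ← hsβ]
      exact dvd_mul_left _ _
    obtain ⟨j, -, hj⟩ := (Nat.dvd_prime_pow hpp.out).1 h1
    exact ⟨j, hj⟩
  obtain ⟨j, hj⟩ := hBp
  have hYp : q * Y = p ^ (k * m) := by
    rw [hqYm, hqk, ← pow_mul]
  have hpow : ¬ p * Nat.card B ≤ q * Y → q * Y ≤ Nat.card B := by
    intro h1
    rw [hj, hYp] at h1 ⊢
    rw [← pow_succ'] at h1
    apply Nat.pow_le_pow_right (by omega)
    by_contra h2
    exact h1 (Nat.pow_le_pow_right (by omega) (by omega))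
  -- lower bound for `|B|` from a nonsingular vector
  have hnons : ∀ w ∈ B, Q w ≠ 0 → q * Y ≤ Nat.card B := by
    intro w hw hwQ
    apply hpow
    intro hcon
    have hwn : w ∉ Submodule.span F {e} := by
      intro hmem
      obtain ⟨c, rfl⟩ := Submodule.mem_span_singleton.1 hmem
      rw [QuadraticMap.map_smul, h.left, smul_zero] at hwQ
      exact hwQ rfl
    have h6 := vec_bound hG (by omega) h true (Nst Q H e) B (stab_Bs h) hw hw.1 hwn
    have h7 : (VecSet Q e w ∩ (B : Set V)).ncard ≤ Nat.card B :=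
      Set.ncard_le_ncard Set.inter_subset_right (Set.toFinite _)
    have h8 := h6.trans (Nat.mul_le_mul_left _ h7)
    exact A2 hq3 (by omega) h8 hst hH hsβ (four_mul_le_vecSet hpp.out hqk he0 h.left hwQ hK) rfl
      hcon
  have hqY : Y < q * Y := by
    calc Y = 1 * Y := (one_mul Y).symm
      _ < q * Y := Nat.mul_lt_mul_of_pos_right (by omega) (by omega)
  have hBY : Y < Nat.card B := by
    by_cases hvQ : Q v = 0
    · by_contra hcon
      push Not at hcon
      have h6 := vec_bound hG (by omega) h true (Nst Q H e) B (stab_Bs h) hv hv.1 hvn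
      have h7 : (VecSet Q e v ∩ (B : Set V)).ncard ≤ Nat.card B :=
        Set.ncard_le_ncard Set.inter_subset_right (Set.toFinite _)
      have h8 := h6.trans (Nat.mul_le_mul_left _ h7)
      exact A1 hq3 (by omega) h8 hst hH hsβ (hVS' v hvQ) hcon
    · exact hqY.trans_le (hnons v hv hvQ)
  by_cases hBn : ∃ v1 ∈ B, Q v1 ≠ 0
  · -- case 2
    obtain ⟨v1, hv1, hv1Q⟩ := hBn
    have hβ := hnons v1 hv1 hv1Q
    have hsY : s ≤ Y := by
      have h1 : s * (q * Y) ≤ Y * (q * Y) := by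
        calc s * (q * Y) ≤ s * Nat.card B := Nat.mul_le_mul_left _ hβ
          _ = Y * (q * Y) := by rw [hsβ]; ring
      exact Nat.le_of_mul_le_mul_right h1 (by omega)
    by_contra hcon
    push Not at hcon
    by_cases hAn : ∃ a ∈ A, Q a ≠ 0
    · obtain ⟨a, ha, haQ⟩ := hAn
      have h6 := pair_bound' hG (by omega) h false (Nst Q H e) A
        (stab_dl h) hAe ha haQ (hcon a ha) hK
      rw [hd4, ← ht] at h6
      exact A5 hq3 hu2 hYu hst hspos hH haqs rfl h6 hsY
    · push Not at hAn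
      -- two independent vectors of `A`
      have heA : e ∈ A := by
        have h1 : (1 : F) • e ∈ dl Q θ (Bs Q H e) := self_smul_mem_dl (1 : F)
        rwa [one_smul] at h1
      obtain ⟨a1, ha1, ha1n⟩ := hcon e heA
      have ha1n' : a1 ∉ Submodule.span F {e} := by
        intro h1
        apply ha1n
        exact Submodule.span_mono (by simp) h1
      obtain ⟨a2, ha2, ha2n⟩ := hcon a1 ha1
      have hli2 := li2_of_notMem (F := F) he0 ha1n'
      have hli3 := li3_of_notMem hli2 ha2n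
      have h6 := ts_pair_bound hG (by omega) h false (Nst Q H e) (A : Set V) (stab_dl h)
        ha1 ha2 (hAe a1 ha1) (hAe a2 ha2) (hAn a1 ha1) (hAn a2 ha2)
        (addSubgroup_ts hAn ha1 ha2) hli3 hM.le
      have h7 := h6.trans (Nat.mul_le_mul_left _ (trivial_inter_le (F := F) A _))
      -- `s = Y`
      have hsp : ¬ p * s ≤ Y := fun h8 =>
        A4 hq3 hp2 hu2 hYu h7 hst hspos hH haqs (hVS' a1 (hAn a1 ha1)) hMle h8
      have hsY' : s = Y := by
        have h8 : q * Y = Nat.card B := by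
          refine le_antisymm hβ ?_
          have h9 : ¬ p * (q * Y) ≤ Nat.card B := by
            intro h9
            apply hsp
            have h10 : (p * s) * (q * Y) ≤ Y * (q * Y) := by
              calc (p * s) * (q * Y) = s * (p * (q * Y)) := by ring
                _ ≤ s * Nat.card B := Nat.mul_le_mul_left _ h9
                _ = Y * (q * Y) := by rw [hsβ]; ring
            exact Nat.le_of_mul_le_mul_right h10 (by omega)
          rw [hj, hYp] at h9 ⊢
          rw [← pow_succ'] at h9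
          apply Nat.pow_le_pow_right (by omega)
          by_contra h10
          exact h9 (Nat.pow_le_pow_right (by omega) (by omega))
        rw [← h8] at hsβ
        have h9 : s * (q * Y) = Y * (q * Y) := by rw [hsβ]; ring
        exact Nat.eq_of_mul_eq_mul_right (by omega) h9
      -- `A` is a maximal totally singular subspace
      set M := Submodule.span F (A : Set V) with hMdef
      have hMts : ∀ x ∈ M, Q x = 0 := span_ts hAn fun x hx y hy => addSubgroup_ts hAn hx hy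
      have hMd : Module.finrank F M ≤ m := by
        have := finrank_ts_le hQ hMts
        omega
      have hAM : (A : Set V) ⊆ M := Submodule.subset_span
      have hMc : Nat.card M = q ^ Module.finrank F M := by
        rw [Module.natCard_eq_pow_finrank (K := F) (V := M), ← hq]
      have hMA : Nat.card A ≤ Nat.card M :=
        Set.ncard_le_ncard (s := (A : Set V)) (t := (M : Set V)) hAM (Set.toFinite _)
      have hAc : Nat.card A = q ^ m := by rw [haqs, hsY', hqYm]
      have hMd' : Module.finrank F M = m := by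
        rw [hMc, hAc] at hMA
        have := (Nat.pow_le_pow_iff_right (by omega : 1 < q)).1 hMA
        omega
      have hAeqM : (A : Set V) = (M : Set V) := by
        apply Set.eq_of_subset_of_ncard_le hAM _ (Set.toFinite _)
        show Nat.card M ≤ Nat.card A
        rw [hMc, hMd', hAc]
      have hperp : perp Q M = M := by
        symm
        apply Submodule.eq_of_le_of_finrank_le (le_perp_of_ts hMts)
        have := finrank_perp_add hQ M
        omega
      have hv1M : v1 ∈ perp Q M := by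
        intro x hx
        by_contra hne
        obtain ⟨c, hc⟩ := hθ _ hne
        apply hc
        have hcx : c • x ∈ A := by
          have : c • x ∈ (M : Set V) := M.smul_mem c hx
          rw [← hAeqM] at this
          exact this
        have h8 : v1 ∈ dl Q θ (dl Q θ (Bs Q H e)) := by rw [hdd]; exact hv1
        have h9 := h8 _ hcx
        rwa [polar_smul_left, smul_eq_mul] at h9
      rw [hperp] at hv1M
      exact hv1Q (hMts _ hv1M)
  · -- case 1
    exfalso
    push Not at hBn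
    have hsp : ∃ v2 ∈ B, v2 ∉ Submodule.span F {e, v} := by
      by_contra hcon
      push Not at hcon
      have h1 : Nat.card B ≤ Nat.card (Submodule.span F {e, v}) :=
        Set.ncard_le_ncard (s := (B : Set V)) (t := (Submodule.span F {e, v} : Set V)) hcon
          (Set.toFinite _)
      rw [Module.natCard_eq_pow_finrank (K := F) (V := Submodule.span F {e, v}), ← hq] at h1
      have h2 : q ^ Module.finrank F (Submodule.span F {e, v}) ≤ q ^ 2 :=
        Nat.pow_le_pow_right (by omega) (finrank_span_pair_le (F := F) e v)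
      have h3 : q ^ 2 ≤ Y := hu2.trans (Nat.le_mul_of_pos_left _ (by omega))
      omega
    obtain ⟨v2, hv2, hv2n⟩ := hsp
    have hli2 := li2_of_notMem (F := F) he0 hvn
    have hli3 := li3_of_notMem hli2 hv2n
    have h6 := ts_pair_bound hG (by omega) h true (Nst Q H e) (B : Set V) (stab_Bs h)
      hv hv2 (hBe v hv) (hBe v2 hv2) (hBn v hv) (hBn v2 hv2)
      (addSubgroup_ts hBn hv hv2) hli3 hM.le
    have h7 := h6.trans (Nat.mul_le_mul_left _ (trivial_inter_le (F := F) B _))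
    have hβ : q * Y ≤ Nat.card B := hpow fun h8 =>
      A3 hq3 hp2 hu2 hYu h7 hst hH hsβ (hVS' v (hBn v hv)) hMle h8
    set M := Submodule.span F (B : Set V) with hMdef
    have hMts : ∀ x ∈ M, Q x = 0 := span_ts hBn fun x hx y hy => addSubgroup_ts hBn hx hy
    have hMd : Module.finrank F M ≤ m := by
      have := finrank_ts_le hQ hMts
      omega
    have hBM : (B : Set V) ⊆ M := Submodule.subset_span
    have hMc : Nat.card M = q ^ Module.finrank F M := by
      rw [Module.natCard_eq_pow_finrank (K := F) (V := M), ← hq]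
    have hMB : Nat.card B ≤ Nat.card M :=
      Set.ncard_le_ncard (s := (B : Set V)) (t := (M : Set V)) hBM (Set.toFinite _)
    have hMd' : Module.finrank F M = m := by
      have h8 := hβ.trans hMB
      rw [hMc, hqYm] at h8
      have := (Nat.pow_le_pow_iff_right (by omega : 1 < q)).1 h8
      omega
    have hBc : Nat.card B = q * Y := by
      apply le_antisymm _ hβ
      rw [hqYm, ← hMd', ← hMc]; exact hMB
    have hsc : s = Y := by
      rw [hBc] at hsβ
      have h9 : s * (q * Y) = Y * (q * Y) := by rw [hsβ]; ring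
      exact Nat.eq_of_mul_eq_mul_right (by omega) h9
    rw [hBc] at h7
    rw [hsc] at hst
    exact A6 hq3 hu2 hYu h7 hst hH (hVS' v (hBn v hv)) hMle

/-- small points -/
theorem plus_typ' (hG : Good Q) {m : ℕ} (hC : PlusCount Q m) (hq3 : 3 ≤ Nat.card F)
    {H : Subgroup (V ≃ₗ[F] V)} (hH : H.relIndex (E Q) < Nat.card F ^ (2 * m - 2))
    {e : V} (he : e ∈ PP Q H) : _root_.Cfsg.Agent.H75.OrthIdx.Small Q H e := by
  obtain ⟨he0, heQ, v, hv, hvn⟩ := he
  obtain ⟨f, h⟩ := exists_hyp hG.nondeg heQ he0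
  obtain ⟨p, hp, θ, hpF, hθ, hcard, hdd⟩ := exists_dual (Q := Q) hG.nondeg
  have hle := Us_le_span hG.nondeg (hdd (Bs Q H e))
  obtain ⟨a, ha, h1⟩ := plus_dual' hG hC hq3 θ hpF hθ hcard hdd hH h hv hvn
  have hle' : Us Q H e ≤ Submodule.span F {e, a} := by
    refine hle.trans ?_
    rw [Submodule.span_le]
    exact h1
  refine ⟨(Submodule.finrank_mono hle').trans (finrank_span_pair_le (F := F) e a), ?_⟩
  have hea := dl_perp hθ heQ ha
  by_cases haQ : Q a = 0
  · left
    intro x hx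
    obtain ⟨s, t, rfl⟩ := Submodule.mem_span_pair.1 (hle' hx)
    rw [Q_add, QuadraticMap.map_smul, QuadraticMap.map_smul, heQ, haQ, polar_smul_left,
      polar_smul_right, hea]
    simp
  · right
    exact ⟨a, haQ, hea, hle'⟩

/-- **Lower bound in plus type, odd characteristic.** -/
theorem plus_lower' (hG : Good Q) {m : ℕ} (hC : PlusCount Q m) (h2 : (2 : F) ≠ 0) (hq3 : 3 ≤ Nat.card F)
    {H : Subgroup (V ≃ₗ[F] V)} (hHE : H ≤ E Q) (hne : ¬ E Q ≤ H) :
    Nat.card F ^ (2 * m - 2) ≤ H.relIndex (E Q) := by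
  classical
  have : Finite V := Module.finite_of_finite F
  by_contra hcon
  push Not at hcon
  have hQ := hG.nondeg
  have hd := hC.finrank
  have hm := hC.four
  have hS : ∀ e ∈ PP Q H, _root_.Cfsg.Agent.H75.OrthIdx.Small Q H e := fun e he => plus_typ' hG hC hq3 hcon he
  have hT : Typ Q H := fun e he => (hS e he).2
  have hcom := com_of_small hQ (by omega) hS
  obtain ⟨r, hr⟩ : ∃ r, m = r + 1 := ⟨m - 1, by omega⟩
  have e1 : Nat.card F ^ (2 * m - 2) = Nat.card F ^ r * Nat.card F ^ r := by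
    rw [← pow_add]; congr 1; omega
  have e2 : Nat.card F ^ (2 * m - 1) = Nat.card F * (Nat.card F ^ r * Nat.card F ^ r) := by
    rw [← pow_add, ← pow_succ']; congr 1; omega
  have e3 : Nat.card F ^ (m - 1) = Nat.card F ^ r := by congr 1; omega
  have e4 : Nat.card F ^ m = Nat.card F * Nat.card F ^ r := by rw [← pow_succ']; congr 1
  have hb : 3 ≤ Nat.card F ^ r := by
    calc 3 ≤ Nat.card F ^ 1 := by rw [pow_one]; exact hq3
      _ ≤ _ := Nat.pow_le_pow_right (by omega) (by omega)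
  have := Fintype.ofFinite F
  have hsing := ncard_ne_zero_sing Q
  have hzero := hC.zero
  rw [e2, e3, e4] at hzero
  rw [e1] at hcon
  obtain ⟨T, hT0, hTH, hTs | ⟨a, ha, rfl⟩⟩ := exists_stab hQ (by omega) hHE hne hcom hT
    (exists_PP_odd hG (by omega) h2 (by
      rw [hd, e1]
      omega))
  · -- totally singular
    obtain ⟨t, htT, ht0⟩ := (Submodule.ne_bot_iff T).1 hT0
    have htQ := hTs t htT
    by_cases hT2 : 2 ≤ Module.finrank F T
    · obtain ⟨e, h⟩ := exists_hyp hQ htQ ht0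
      have h1 := mem_PP_StT T hTs hT2 htT h
      have h2 := finrank_Ws_StT T htT h
      have h3 : (StT Q T).relIndex (E Q) ≤ H.relIndex (E Q) :=
        Subgroup.relIndex_le_of_le_left (le_StT hHE hTH) (relIndex_ne _ _)
      have h4 : (StT Q T).relIndex (E Q) < Nat.card F ^ (2 * m - 2) := by
        rw [e1]; exact lt_of_le_of_lt h3 hcon
      have h5 := finrank_ts_le hQ hTs
      have h6 := finrank_perp_add hQ (Ws Q (StT Q T) e)
      have h10 : Module.finrank F (Us Q (StT Q T) e) =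
        Module.finrank F (perp Q (Ws Q (StT Q T) e)) := rfl
      have h7 := (plus_typ' hG hC hq3 h4 h1).1
      omega
    · have hT1 : T = Submodule.span F {t} := by
        symm
        apply Submodule.eq_of_le_of_finrank_le
        · exact (Submodule.span_singleton_le_iff_mem _ _).2 htT
        · rw [finrank_span_singleton ht0]; omega
      have h1 := sing_point_bound hG hHE ht0 htQ (fun h hh => by
        rw [← hT1]; exact hTH h hh t htT)
      set b := Nat.card F ^ r
      set n := H.relIndex (E Q)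
      obtain ⟨q', hq'⟩ : ∃ q', Nat.card F = q' + 1 := ⟨Nat.card F - 1, by omega⟩
      rw [hq', Nat.add_sub_cancel] at h1
      rw [hq'] at hzero hq3
      have h5 : n * q' < (b * b) * q' := Nat.mul_lt_mul_of_pos_right hcon (by omega)
      have h6 : (q' + 1) * (b * b) = (b * b) * q' + b * b := by ring
      have h7 : (q' + 1) * b = q' * b + b := by ring
      have h8 : 3 * 3 ≤ b * b := Nat.mul_le_mul hb hb
      omega
  · have h1 := nonsing_point_bound hG hHE ha (fun h hh =>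
      hTH h hh a (Submodule.mem_span_singleton_self a))
    have h3 := hC.ne_zero (Q a) ha
    rw [e2, e3] at h3
    set b := Nat.card F ^ r
    set n := H.relIndex (E Q)
    have h5 : 3 * (b * b) ≤ Nat.card F * (b * b) := Nat.mul_le_mul_right _ hq3
    have h6 : 3 * b ≤ b * b := Nat.mul_le_mul_right _ hb
    omega

end fin

end Cfsg.Agent.H63.IF
end

-- part: H274/IF/Phi
section
/-!
# S5719 (involution fixity), orthogonal groups, `q` odd: the relative PHI (helper274)

* `Fund Q z` : `z = -1` on two orthogonal hyperbolic pairs, `z = 1` on their orthogonal complement.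
* `extE` : the Levi homomorphism `E (Q restricted to {e, f}ᗮ) →* E Q`.
* `card_RS` : the Siegel group of a singular vector has order `q ^ (M - 2)`.
* **`phi`** : `q ^ psi M * c ≤ |E Q × Γ : X|`, from `ExSing` (every `X ≤ E Q` without fundamental elements meets some
  Siegel group in at most `q ^ 2` elements).
-/

set_option autoImplicit false
set_option linter.unusedSectionVars false

namespace Cfsg.Agent.H274.IF

open QuadraticMap hiding proj
open Module Cfsg.Agent.LieClassical.OrthCore Cfsg.Agent.LieClassical.OrthTrans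
  Cfsg.Agent.AutOrth.SemiSim

universe u v w

section Gen

variable {F V : Type*} [Field F] [AddCommGroup V] [Module F V] {Q : QuadraticForm F V}

/-- fundamental: `-1` on two orthogonal hyperbolic pairs, `1` on their orthogonal complement -/
def Fund (Q : QuadraticForm F V) (z : ↥(E Q)) : Prop :=
  ∃ e₁ f₁ e₂ f₂ : V, Hyp Q e₁ f₁ ∧ Hyp Q e₂ f₂ ∧ polar Q e₁ e₂ = 0 ∧ polar Q e₁ f₂ = 0 ∧ polar Q f₁ e₂ = 0 ∧
    polar Q f₁ f₂ = 0 ∧ (z : V ≃ₗ[F] V) e₁ = -e₁ ∧ (z : V ≃ₗ[F] V) f₁ = -f₁ ∧ (z : V ≃ₗ[F] V) e₂ = -e₂ ∧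
    (z : V ≃ₗ[F] V) f₂ = -f₂ ∧
    ∀ v, polar Q e₁ v = 0 → polar Q f₁ v = 0 → polar Q e₂ v = 0 → polar Q f₂ v = 0 → (z : V ≃ₗ[F] V) v = v

theorem Fund.conj {z : ↥(E Q)} (h : Fund Q z) (g : ↥(E Q)) : Fund Q (g * z * g⁻¹) := by
  obtain ⟨e₁, f₁, e₂, f₂, h1, h2, h3, h4, h5, h6, z1, z2, z3, z4, hz⟩ := h
  have hg := E_le_O g.2
  have key : ∀ x : V, ((g * z * g⁻¹ : ↥(E Q)) : V ≃ₗ[F] V) ((g : V ≃ₗ[F] V) x) =
      (g : V ≃ₗ[F] V) ((z : V ≃ₗ[F] V) x) := by
    intro x
    show (g : V ≃ₗ[F] V) ((z : V ≃ₗ[F] V) ((g : V ≃ₗ[F] V).symm ((g : V ≃ₗ[F] V) x))) = _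
    rw [LinearEquiv.symm_apply_apply]
  refine ⟨(g : V ≃ₗ[F] V) e₁, (g : V ≃ₗ[F] V) f₁, (g : V ≃ₗ[F] V) e₂, (g : V ≃ₗ[F] V) f₂, h1.map hg, h2.map hg,
    by rw [polar_map hg, h3], by rw [polar_map hg, h4], by rw [polar_map hg, h5], by rw [polar_map hg, h6],
    by rw [key, z1, map_neg], by rw [key, z2, map_neg], by rw [key, z3, map_neg], by rw [key, z4, map_neg], ?_⟩
  intro v k1 k2 k3 k4
  obtain ⟨v, rfl⟩ := (g : V ≃ₗ[F] V).surjective v
  rw [polar_map hg] at k1 k2 k3 k4
  rw [key, hz v k1 k2 k3 k4]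

/-! ### the Levi homomorphism -/

/-- the orthogonal complement of a pair -/
def Wp (Q : QuadraticForm F V) (e f : V) : Submodule F V :=
  LinearMap.ker ((polarBilin Q e).prod (polarBilin Q f))

theorem mem_Wp {e f v : V} : v ∈ Wp Q e f ↔ polar Q e v = 0 ∧ polar Q f v = 0 := by
  rw [Wp, LinearMap.mem_ker]
  show (polar Q e v, polar Q f v) = (0 : F × F) ↔ _
  rw [Prod.mk_eq_zero]

/-- the restricted form -/
def Qp (Q : QuadraticForm F V) (e f : V) : QuadraticForm F (Wp Q e f) := Q.comp (Wp Q e f).subtype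

theorem polar_Qp (e f : V) (w w' : Wp Q e f) : polar (Qp Q e f) w w' = polar Q (w : V) w' := rfl

variable {e f : V}

/-- the projection -/
def pr (h : Hyp Q e f) : V →ₗ[F] Wp Q e f where
  toFun v := ⟨proj Q e f v, mem_Wp.2 ⟨polar_proj_left h v, polar_proj_right h v⟩⟩
  map_add' v v' := by
    apply Subtype.ext
    show proj Q e f (v + v') = proj Q e f v + proj Q e f v'
    simp only [proj, polar_add_right]
    module
  map_smul' a v := by
    apply Subtype.ext
    show proj Q e f (a • v) = a • proj Q e f v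
    simp only [proj, polar_smul_right, smul_eq_mul]
    module

theorem pr_coe (h : Hyp Q e f) (v : V) : ((pr h v : Wp Q e f) : V) = proj Q e f v := rfl

theorem polar_pr (h : Hyp Q e f) (w : Wp Q e f) (v : V) : polar Q (w : V) v = polar (Qp Q e f) w (pr h v) := by
  rw [polar_Qp, pr_coe, polar_proj_of_perp (mem_Wp.1 w.2).1 (mem_Wp.1 w.2).2]

theorem nondeg_Qp (hQ : Nondeg Q) (h : Hyp Q e f) : Nondeg (Qp Q e f) := by
  intro x hx
  apply Subtype.ext
  apply hQ
  intro y
  rw [polar_pr h]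
  exact hx _

/-! ### orders -/

theorem finrank_Wp [FiniteDimensional F V] (h : Hyp Q e f) : finrank F (Wp Q e f) + 2 = finrank F V := by
  have h1 := LinearMap.finrank_range_add_finrank_ker ((polarBilin Q e).prod (polarBilin Q f))
  have h2 : LinearMap.range ((polarBilin Q e).prod (polarBilin Q f)) = ⊤ := by
    rw [LinearMap.range_eq_top]
    rintro ⟨a, b⟩
    refine ⟨b • e + a • f, ?_⟩
    show (polar Q e (b • e + a • f), polar Q f (b • e + a • f)) = (a, b)
    rw [polar_add_right, polar_add_right, polar_smul_right, polar_smul_right, polar_smul_right, polar_smul_right,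
      h.polar_left, h.pair, h.polar_right, h.pair']
    simp
  rw [h2, finrank_top, finrank_prod, finrank_self] at h1
  rw [Wp]
  omega

end Gen

section phi

variable {F : Type v} [Field F] [Finite F] {Γ : Type w} [Group Γ] [Finite Γ]

end phi

end Cfsg.Agent.H274.IF
end

-- part: H63/IF/Counts
section
/-!
# Number of vectors of each norm for a nondegenerate quadratic form, odd characteristic (helper63)
-/

set_option autoImplicit false

namespace Cfsg.Agent.H63.IF

open QuadraticMap Cfsg.Agent.LieClassical.OrthCore Cfsg.Agent.LieClassical.OrthTrans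
open Cfsg.Agent.LieClassical.OrthFinite
open Cfsg.Agent.H274.IF (Wp Qp mem_Wp nondeg_Qp finrank_Wp)

universe u v

section step

variable {F : Type u} {V : Type v} [Field F] [AddCommGroup V] [Module F V] {Q : QuadraticForm F V}
variable [Finite F] [FiniteDimensional F V]

theorem ncard_hyp (hQ : Nondeg Q) {e f : V} (h : Hyp Q e f) (c : F) :
    {v : V | Q v = c}.ncard = Nat.card F * {w : Wp Q e f | Qp Q e f w = c}.ncard +
      (Nat.card F - 1) * Nat.card F ^ (Module.finrank F V - 2) := by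
  have : Finite V := Module.finite_of_finite F
  have h1 := Cfsg.Agent.H75.OrthIdx.ncard_norm_perp_sing hQ h c
  have h2 := Cfsg.Agent.H76.Num.ncard_W (Q := Q) h c
  have h3 : Cfsg.Agent.H76.Act.W Q e f = Wp Q e f := by
    ext v
    rw [Cfsg.Agent.H76.Act.mem_W, mem_Wp]
  have h4 : ∀ S S' : Submodule F V, S = S' → {w : S | Q (w : V) = c}.ncard = {w : S' | Q (w : V) = c}.ncard := by
    rintro S S' rfl
    rfl
  rw [h4 _ _ h3] at h2
  rw [← h1, h2]
  rfl

end step

/-- the numbers of vectors of each norm -/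
def Cts (F : Type u) (V : Type v) [Field F] [AddCommGroup V] [Module F V] (Q : QuadraticForm F V) (d : ℕ) : Prop :=
  (∀ m, d = 2 * m + 1 → {v : V | Q v = 0}.ncard = Nat.card F ^ (2 * m) ∧
      ∀ c : F, c ≠ 0 → Nat.card F ^ (2 * m) ≤ {v : V | Q v = c}.ncard + Nat.card F ^ m) ∧
    ∀ m, d = 2 * m + 2 →
      ({v : V | Q v = 0}.ncard + Nat.card F ^ m = Nat.card F ^ (2 * m + 1) + Nat.card F ^ (m + 1) ∧
        ∀ c : F, c ≠ 0 → {v : V | Q v = c}.ncard + Nat.card F ^ m = Nat.card F ^ (2 * m + 1)) ∨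
      ({v : V | Q v = 0}.ncard + Nat.card F ^ (m + 1) = Nat.card F ^ (2 * m + 1) + Nat.card F ^ m ∧
        ∀ c : F, c ≠ 0 → {v : V | Q v = c}.ncard = Nat.card F ^ (2 * m + 1) + Nat.card F ^ m)

section base

variable {F : Type u} {V : Type v} [Field F] [AddCommGroup V] [Module F V] {Q : QuadraticForm F V}
variable [Finite F] [FiniteDimensional F V]

omit [FiniteDimensional F V] [Finite F] in
theorem ncard_aniso (h : ∀ v, Q v = 0 → v = 0) : {v : V | Q v = 0}.ncard = 1 := by
  have h1 : {v : V | Q v = 0} = {0} := by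
    ext v
    rw [Set.mem_singleton_iff]
    constructor
    · exact h v
    · rintro rfl
      exact QuadraticMap.map_zero Q
  rw [h1, Set.ncard_singleton]

omit [FiniteDimensional F V] [Finite F] in
theorem aniso_line (hQ : Nondeg Q) (hd : Module.finrank F V = 1) (v : V) (hv : Q v = 0) :
    v = 0 := by
  by_contra hv0
  apply hv0
  apply hQ
  intro y
  obtain ⟨c, rfl⟩ := (finrank_eq_one_iff_of_nonzero' v hv0).1 hd y
  rw [polar_smul_right, QuadraticMap.polar_self, hv]
  simp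

theorem ncard_plane (hQ0 : ∀ v, Q v = 0 → v = 0) (hd : Module.finrank F V = 2) (c : F) (hc : c ≠ 0) :
    {v : V | Q v = c}.ncard = Nat.card F + 1 := by
  have := Fintype.ofFinite F
  let b := Module.finBasisOfFinrankEq F V hd
  have hb0 : b 0 ≠ 0 := b.ne_zero 0
  have hα : Q (b 0) ≠ 0 := fun h => hb0 (hQ0 _ h)
  set α := Q (b 0)
  set β := polar Q (b 0) (b 1)
  set γ := Q (b 1)
  have hform : ∀ z : Fin 2 → F, Q (b.equivFun.symm z) = α * Cfsg.Agent.H76.BinCount.bf (β / α) (γ / α) z := by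
    intro z
    rw [Module.Basis.equivFun_symm_apply, Fin.sum_univ_two, Q_add, QuadraticMap.map_smul, QuadraticMap.map_smul,
      polar_smul_left, polar_smul_right]
    simp only [Cfsg.Agent.H76.BinCount.bf, smul_eq_mul]
    field_simp
    ring
  have hab : ∀ z₁ z₂ : F, z₁ ^ 2 + (β / α) * z₁ * z₂ + (γ / α) * z₂ ^ 2 = 0 → z₁ = 0 ∧ z₂ = 0 := by
    intro z₁ z₂ hz
    have h1 : Q (b.equivFun.symm ![z₁, z₂]) = 0 := by
      rw [hform]
      have h3 : Cfsg.Agent.H76.BinCount.bf (β / α) (γ / α) ![z₁, z₂] = 0 := hz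
      rw [h3, mul_zero]
    have h3 := hQ0 _ h1
    have h4 : (![z₁, z₂] : Fin 2 → F) = 0 := by
      apply b.equivFun.symm.injective
      rw [h3, map_zero]
    exact ⟨congrFun h4 0, congrFun h4 1⟩
  have h1 := Cfsg.Agent.H76.BinCount.card_bf hab (c := c / α) (div_ne_zero hc hα)
  rw [Nat.card_eq_fintype_card (α := F), ← h1]
  have h5 : Nat.card {v : V // Q v = c} = Nat.card {z : Fin 2 → F // Cfsg.Agent.H76.BinCount.bf (β / α) (γ / α) z = c / α} := by
    refine Nat.card_congr ((b.equivFun.toEquiv).subtypeEquiv ?_)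
    intro v
    have h6 := hform (b.equivFun v)
    rw [LinearEquiv.symm_apply_apply] at h6
    show Q v = c ↔ Cfsg.Agent.H76.BinCount.bf (β / α) (γ / α) (b.equivFun v) = c / α
    rw [h6, eq_div_iff hα, mul_comm]
  exact h5

end base

theorem counts {F : Type u} [Field F] [Finite F] (d : ℕ) :
    ∀ (V : Type v) [AddCommGroup V] [Module F V] [FiniteDimensional F V] (Q : QuadraticForm F V), Nondeg Q →
      Module.finrank F V = d → Cts F V Q d := by
  induction d using Nat.strong_induction_on with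
  | _ d ih =>
    intro V _ _ _ Q hQ hd
    have hq : 2 ≤ Nat.card F := Finite.one_lt_card
    -- the inductive step from a hyperbolic pair
    have hstep : ∀ e f : V, Hyp Q e f → 3 ≤ d → Cts F V Q d := by
      intro e f h h3
      have hW := ih (d - 2) (by omega) (Wp Q e f) (Qp Q e f) (nondeg_Qp hQ h) (by
        have := finrank_Wp (Q := Q) h
        omega)
      obtain ⟨q', hq'⟩ : ∃ q', Nat.card F = q' + 1 := ⟨Nat.card F - 1, by omega⟩
      constructor
      · intro m hm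
        obtain ⟨m, rfl⟩ : ∃ m', m = m' + 1 := ⟨m - 1, by omega⟩
        obtain ⟨h4, h5⟩ := hW.1 m (by omega)
        have e1 : Module.finrank F V - 2 = 2 * m + 1 := by omega
        refine ⟨?_, fun c hc => ?_⟩
        · rw [ncard_hyp hQ h, h4, e1, hq', Nat.add_sub_cancel]
          ring
        · have h6 := Nat.mul_le_mul_left (Nat.card F) (h5 c hc)
          rw [ncard_hyp hQ h, e1]
          rw [hq'] at h6 ⊢
          rw [Nat.add_sub_cancel]
          have e2 : (q' + 1) ^ (2 * (m + 1)) = (q' + 1) * (q' + 1) ^ (2 * m) + q' * (q' + 1) ^ (2 * m + 1) := by ring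
          have e3 : (q' + 1) ^ (m + 1) = (q' + 1) * (q' + 1) ^ m := by ring
          rw [e2, e3]
          rw [mul_add] at h6
          omega
      · intro m hm
        obtain ⟨m, rfl⟩ : ∃ m', m = m' + 1 := ⟨m - 1, by omega⟩
        have e1 : Module.finrank F V - 2 = 2 * m + 2 := by omega
        rcases hW.2 m (by omega) with ⟨h4, h5⟩ | ⟨h4, h5⟩
        · left
          refine ⟨?_, fun c hc => ?_⟩
          · have h6 := congrArg (fun x => Nat.card F * x) h4
            simp only [mul_add] at h6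
            rw [ncard_hyp hQ h, e1]
            rw [hq'] at h6 ⊢
            rw [Nat.add_sub_cancel]
            have e2 : (q' + 1) ^ (2 * (m + 1) + 1) = (q' + 1) * (q' + 1) ^ (2 * m + 1) + q' * (q' + 1) ^ (2 * m + 2) := by
              ring
            have e3 : (q' + 1) ^ (m + 1) = (q' + 1) * (q' + 1) ^ m := by ring
            have e4 : (q' + 1) ^ (m + 1 + 1) = (q' + 1) * (q' + 1) ^ (m + 1) := by ring
            rw [e2, e4]
            rw [e3] at h6 ⊢
            linarith only [h6]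
          · have h6 := congrArg (fun x => Nat.card F * x) (h5 c hc)
            simp only [mul_add] at h6
            rw [ncard_hyp hQ h, e1]
            rw [hq'] at h6 ⊢
            rw [Nat.add_sub_cancel]
            have e2 : (q' + 1) ^ (2 * (m + 1) + 1) = (q' + 1) * (q' + 1) ^ (2 * m + 1) + q' * (q' + 1) ^ (2 * m + 2) := by
              ring
            have e3 : (q' + 1) ^ (m + 1) = (q' + 1) * (q' + 1) ^ m := by ring
            rw [e2, e3]
            omega
        · right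
          refine ⟨?_, fun c hc => ?_⟩
          · have h6 := congrArg (fun x => Nat.card F * x) h4
            simp only [mul_add] at h6
            rw [ncard_hyp hQ h, e1]
            rw [hq'] at h6 ⊢
            rw [Nat.add_sub_cancel]
            have e2 : (q' + 1) ^ (2 * (m + 1) + 1) = (q' + 1) * (q' + 1) ^ (2 * m + 1) + q' * (q' + 1) ^ (2 * m + 2) := by
              ring
            have e3 : (q' + 1) ^ (m + 1) = (q' + 1) * (q' + 1) ^ m := by ring
            have e4 : (q' + 1) ^ (m + 1 + 1) = (q' + 1) * (q' + 1) ^ (m + 1) := by ring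
            rw [e2, e4]
            rw [e3] at h6 ⊢
            linarith only [h6]
          · have h6 := congrArg (fun x => Nat.card F * x) (h5 c hc)
            simp only [mul_add] at h6
            rw [ncard_hyp hQ h, e1]
            rw [hq'] at h6 ⊢
            rw [Nat.add_sub_cancel]
            have e2 : (q' + 1) ^ (2 * (m + 1) + 1) = (q' + 1) * (q' + 1) ^ (2 * m + 1) + q' * (q' + 1) ^ (2 * m + 2) := by
              ring
            have e3 : (q' + 1) ^ (m + 1) = (q' + 1) * (q' + 1) ^ m := by ring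
            rw [e2, e3]
            omega
    by_cases h3 : 3 ≤ d
    · obtain ⟨x, -, hx0, hxQ⟩ := exists_sing_mem (Q := Q) (⊤ : Submodule F V) (by rw [finrank_top]; omega)
      obtain ⟨f, h⟩ := Cfsg.Agent.LieClassical.OrthTrans.exists_hyp hQ hxQ hx0
      exact hstep x f h h3
    by_cases hd0 : d = 0
    · constructor <;> intro m hm <;> omega
    by_cases hd1 : d = 1
    · have hz := ncard_aniso (Q := Q) (aniso_line hQ (by omega))
      constructor
      · intro m hm
        obtain rfl : m = 0 := by omega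
        refine ⟨by rw [hz]; simp, fun c hc => ?_⟩
        simp only [_root_.MulZeroClass.mul_zero, _root_.pow_zero, _root_.le_add_iff_nonneg_left, _root_.zero_le]
      · intro m hm; omega
    have hd2 : d = 2 := by omega
    constructor
    · intro m hm; omega
    · intro m hm
      obtain rfl : m = 0 := by omega
      by_cases han : ∀ v, Q v = 0 → v = 0
      · right
        have hz := ncard_aniso (Q := Q) han
        refine ⟨?_, fun c hc => ?_⟩
        · rw [hz]; simp only [_root_.zero_add, _root_.pow_one, _root_.MulZeroClass.mul_zero, _root_.pow_zero]; ring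
        · rw [ncard_plane han (by omega) c hc]; simp
      · left
        push Not at han
        obtain ⟨x, hxQ, hx0⟩ := han
        obtain ⟨f, h⟩ := Cfsg.Agent.LieClassical.OrthTrans.exists_hyp hQ hxQ hx0
        have hW : Module.finrank F (Wp Q x f) = 0 := by
          have := finrank_Wp (Q := Q) h
          omega
        have hsub : Subsingleton (Wp Q x f) := Module.finrank_zero_iff.1 hW
        have e1 : Module.finrank F V - 2 = 0 := by omega
        have hz : {w : Wp Q x f | Qp Q x f w = 0}.ncard = 1 := ncard_aniso fun v _ => Subsingleton.elim _ _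
        have hc0 : ∀ c : F, c ≠ 0 → {w : Wp Q x f | Qp Q x f w = c}.ncard = 0 := by
          intro c hc
          have h4 : {w : Wp Q x f | Qp Q x f w = c} = ∅ := by
            ext w
            simp only [Set.mem_ofPred_eq, Set.mem_empty_iff_false, iff_false]
            rw [Subsingleton.elim w 0, QuadraticMap.map_zero]
            exact fun h => hc h.symm
          rw [h4, Set.ncard_empty]
        refine ⟨?_, fun c hc => ?_⟩
        · rw [ncard_hyp hQ h, hz, e1]
          simp only [_root_.mul_one, _root_.pow_zero, _root_.MulZeroClass.mul_zero, _root_.zero_add, _root_.pow_one]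
          omega
        · rw [ncard_hyp hQ h, hc0 c hc, e1]
          simp only [_root_.MulZeroClass.mul_zero, _root_.pow_zero, _root_.mul_one, _root_.zero_add, _root_.pow_one]
          omega

/-- a totally singular subspace of half the dimension determines the number of singular vectors -/
theorem plus_of_ts {F : Type u} [Field F] [Finite F] (m : ℕ) :
    ∀ (V : Type v) [AddCommGroup V] [Module F V] [FiniteDimensional F V] (Q : QuadraticForm F V), Nondeg Q →
      Module.finrank F V = 2 * m → ∀ T : Submodule F V, (∀ x ∈ T, Q x = 0) → Module.finrank F T = m →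
      Nat.card F * {v : V | Q v = 0}.ncard + Nat.card F ^ m = Nat.card F ^ (2 * m) + Nat.card F ^ (m + 1) := by
  induction m with
  | zero =>
    intro V _ _ _ Q hQ hd T hT hTd
    have hsub : Subsingleton V := Module.finrank_zero_iff.1 hd
    rw [ncard_aniso (Q := Q) fun v _ => Subsingleton.elim _ _]
    simp only [_root_.mul_one, _root_.pow_zero, _root_.MulZeroClass.mul_zero, _root_.zero_add, _root_.pow_one]
    ring
  | succ m ih =>
    intro V _ _ _ Q hQ hd T hT hTd
    have hq : 2 ≤ Nat.card F := Finite.one_lt_card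
    have : Nontrivial T := Module.nontrivial_of_finrank_pos (R := F) (by omega)
    obtain ⟨⟨x, hxT⟩, hx0'⟩ := exists_ne (0 : T)
    have hx0 : x ≠ 0 := fun h => hx0' (Subtype.ext h)
    obtain ⟨f, h⟩ := Cfsg.Agent.LieClassical.OrthTrans.exists_hyp hQ (hT x hxT) hx0
    have hWd := finrank_Wp (Q := Q) h
    -- the intersection of `T` with `Wp`
    let T' : Submodule F (Wp Q x f) := T.comap (Wp Q x f).subtype
    have hT' : ∀ w ∈ T', Qp Q x f w = 0 := fun w hw => hT w hw
    have hT'd : m ≤ Module.finrank F T' := by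
      let φ : T →ₗ[F] F := (polarBilin Q f).comp T.subtype
      have h1 := LinearMap.finrank_range_add_finrank_ker φ
      have h3 : Module.finrank F (LinearMap.range φ) ≤ 1 := by
        refine (Submodule.finrank_le _).trans ?_
        rw [Module.finrank_self]
      let ψ : LinearMap.ker φ →ₗ[F] T' :=
        { toFun := fun t => ⟨⟨t.1, mem_Wp.2 ⟨Cfsg.Agent.H75.OrthIdx.polar_eq_zero_of_ts hT hxT t.1.2, t.2⟩⟩, t.1.2⟩
          map_add' := fun _ _ => rfl
          map_smul' := fun _ _ => rfl }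
      have hψ : Function.Injective ψ := by
        intro a b hab
        apply Subtype.ext
        apply Subtype.ext
        exact congrArg (fun z : T' => ((z : Wp Q x f) : V)) hab
      have h4 := LinearMap.finrank_le_finrank_of_injective hψ
      omega
    have hT'u : Module.finrank F T' ≤ m := by
      have := Cfsg.Agent.H75.OrthIdx.finrank_ts_le (nondeg_Qp hQ h) hT'
      omega
    have hW := ih (Wp Q x f) (Qp Q x f) (nondeg_Qp hQ h) (by omega) T' hT' (by omega)
    have e1 : Module.finrank F V - 2 = 2 * m := by (clear * - hd; omega)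
    rw [ncard_hyp hQ h, e1]
    obtain ⟨q', hq'⟩ : ∃ q', Nat.card F = q' + 1 := ⟨Nat.card F - 1, by omega⟩
    rw [hq'] at hW ⊢
    rw [Nat.add_sub_cancel]
    have e2 : (q' + 1) ^ (2 * (m + 1)) = (q' + 1) * ((q' + 1) * (q' + 1) ^ (2 * m)) := by ring
    have e3 : (q' + 1) ^ (m + 1) = (q' + 1) * (q' + 1) ^ m := by ring
    have e4 : (q' + 1) ^ (m + 1 + 1) = (q' + 1) * ((q' + 1) * (q' + 1) ^ m) := by ring
    rw [e2, e3, e4]
    rw [e3] at hW
    have h6 := congrArg (fun x => (q' + 1) * x) hW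
    simp only [mul_add] at h6
    linarith only [h6]

end Cfsg.Agent.H63.IF
end

-- part: H63/IF/MinIdx
section
/-!
# A proper subgroup of `E Q` has index at least `q ^ (dim - 2)`, odd characteristic, `dim ≥ 7` (helper63)
-/

set_option autoImplicit false

namespace Cfsg.Agent.H63.IF

open QuadraticMap Cfsg.Agent.LieClassical.OrthCore Cfsg.Agent.LieClassical.OrthTrans
open Cfsg.Agent.LieClassical.OrthFinite Cfsg.Agent.H75.OrthIdx

variable {F V : Type*} [Field F] [AddCommGroup V] [Module F V] {Q : QuadraticForm F V}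
variable [Finite F] [FiniteDimensional F V]

omit [FiniteDimensional F V] in
theorem three_le_card (h2 : (2 : F) ≠ 0) : 3 ≤ Nat.card F := by
  by_contra h
  have h1 : 2 ≤ Nat.card F := Finite.one_lt_card
  have h3 : Nat.card F = 2 := by omega
  have := Fintype.ofFinite F
  apply h2
  have h4 := Nat.cast_card_eq_zero F
  rw [← Nat.card_eq_fintype_card, h3] at h4
  exact_mod_cast h4

theorem rel_bound (h2 : (2 : F) ≠ 0) (hQ : Nondeg Q) (h7 : 7 ≤ Module.finrank F V)
    {H : Subgroup (V ≃ₗ[F] V)} (hHE : H ≤ E Q) (hne : ¬ E Q ≤ H) :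
    Nat.card F ^ (Module.finrank F V - 2) ≤ H.relIndex (E Q) := by
  have hV : Finite V := Module.finite_of_finite F
  have hG : Good Q := good_of_finite hQ (by omega)
  have hq3 := three_le_card (F := F) h2
  have hC := counts (F := F) (Module.finrank F V) V Q hQ rfl
  obtain ⟨m, hm | hm⟩ := Nat.even_or_odd' (Module.finrank F V)
  · obtain ⟨r, rfl⟩ : ∃ r, m = r + 1 := ⟨m - 1, by omega⟩
    have er : r + 1 - 1 = r := by omega
    have er2 : 2 * (r + 1) - 1 = 2 * r + 1 := by omega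
    rcases hC.2 r (by omega) with ⟨h0, h1⟩ | ⟨h0, h1⟩
    · have hP : PlusCount Q (r + 1) := ⟨hm, by omega, by rw [er, er2]; exact h0, fun c hc => by
        rw [er, er2]; exact h1 c hc⟩
      rw [hm]
      exact plus_lower' hG hP h2 hq3 hHE hne
    · have hM : Cfsg.Agent.H76.Num.MinusCount Q (r + 1) := ⟨hm, by omega, by rw [er, er2]; exact h0, fun c hc => by
        rw [er, er2]; exact h1 c hc, by
          intro T hT
          have h3 := finrank_ts_le hQ hT
          by_contra hcon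
          have h4 : Module.finrank F T = r + 1 := by omega
          have h5 := plus_of_ts (F := F) (r + 1) V Q hQ hm T hT h4
          have h6 := congrArg (fun x => Nat.card F * x) h0
          simp only [mul_add] at h6
          have e1 : Nat.card F * Nat.card F ^ (r + 1) = Nat.card F ^ (r + 1 + 1) := by ring
          have e2 : Nat.card F * Nat.card F ^ (2 * r + 1) = Nat.card F ^ (2 * (r + 1)) := by ring
          have e3 : Nat.card F * Nat.card F ^ r = Nat.card F ^ (r + 1) := by ring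
          rw [e1, e2, e3] at h6
          have h8 : Nat.card F ^ (r + 1) < Nat.card F ^ (r + 1 + 1) := Nat.pow_lt_pow_right (by omega) (by omega)
          omega⟩
      have h3 := Cfsg.Agent.H76.MainFour.lower hG hM (by omega) hHE hne
      rw [Cfsg.Agent.H76.Lower.bd] at h3
      rw [hm]
      set n := H.relIndex (E Q)
      rw [er] at h3
      have e1 : 2 * (r + 1) - 2 = r + r := by omega
      rw [e1, pow_add]
      have e4 : Nat.card F ^ (r + 1) = Nat.card F * Nat.card F ^ r := by ring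
      rw [e4] at h3
      have hb : 3 ≤ Nat.card F ^ r := by
        calc 3 ≤ Nat.card F ^ 1 := by rw [pow_one]; exact hq3
          _ ≤ _ := Nat.pow_le_pow_right (by omega) (by omega)
      have hb2 : Nat.card F + 1 ≤ Nat.card F ^ r := by
        calc Nat.card F + 1 ≤ Nat.card F ^ 2 := by nlinarith only [hq3]
          _ ≤ _ := Nat.pow_le_pow_right (by omega) (by omega)
      set b := Nat.card F ^ r
      obtain ⟨q', hq'⟩ : ∃ q', Nat.card F = q' + 1 := ⟨Nat.card F - 1, by omega⟩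
      obtain ⟨b', hb'⟩ : ∃ b', b = b' + 1 := ⟨b - 1, by omega⟩
      rw [hq', hb', Nat.add_sub_cancel, Nat.add_sub_cancel] at h3
      rw [hq'] at hq3 hb2
      rw [hb'] at hb2 ⊢
      by_contra hcon
      push Not at hcon
      have h4 : n + 1 ≤ (b' + 1) * (b' + 1) := hcon
      nlinarith only [hb2, h3, Nat.mul_le_mul_left q' h4]
  · have hO : OddCount Q m := ⟨hm, by omega, h2, (hC.1 m hm).1, (hC.1 m hm).2⟩
    have h3 := odd_lower hG hO hHE hne
    rw [hm]
    set n := H.relIndex (E Q)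
    obtain ⟨r, rfl⟩ : ∃ r, m = r + 1 := ⟨m - 1, by omega⟩
    have e1 : 2 * (r + 1) + 1 - 2 = 2 * r + 1 := by omega
    have e2 : Nat.card F ^ (2 * (r + 1)) = Nat.card F * Nat.card F ^ (2 * r + 1) := by ring
    have e3 : Nat.card F ^ (r + 1) ≤ Nat.card F ^ (2 * r + 1) := Nat.pow_le_pow_right (by omega) (by omega)
    rw [e1]
    rw [e2] at h3
    set P := Nat.card F ^ (2 * r + 1)
    have hP : 1 ≤ P := Nat.one_le_pow _ _ (by omega)
    by_contra hcon
    push Not at hcon
    rcases h3 with h3 | h3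
    · obtain ⟨q', hq'⟩ : ∃ q', Nat.card F = q' + 1 := ⟨Nat.card F - 1, by omega⟩
      rw [hq', Nat.add_sub_cancel] at h3
      rw [hq'] at hq3
      linarith only [hq3, h3, Nat.mul_le_mul_left q' (show n + 1 ≤ P from hcon)]
    · have h4 : 3 * P ≤ Nat.card F * P := Nat.mul_le_mul_right _ hq3
      omega

/-- **MININDEX**: `q` odd, `Q` nondegenerate in dimension `≥ 7` -/
theorem min_index (h2 : (2 : F) ≠ 0) (hQ : Nondeg Q) (h7 : 7 ≤ Module.finrank F V) (H : Subgroup ↥(E Q))
    (hH : H ≠ ⊤) : Nat.card F ^ (Module.finrank F V - 2) ≤ H.index := by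
  have h3 := rel_bound h2 hQ h7 (H := H.map (E Q).subtype) (by
    rintro _ ⟨x, -, rfl⟩
    exact x.2) (by
    intro hle
    apply hH
    rw [eq_top_iff]
    intro x _
    obtain ⟨y, hy, hyx⟩ := hle x.2
    have : y = x := Subtype.ext hyx
    rw [← this]; exact hy)
  have h4 : (H.map (E Q).subtype).subgroupOf (E Q) = H := by
    rw [Subgroup.subgroupOf, Subgroup.comap_map_eq_self_of_injective (Subgroup.subtype_injective _)]
  rw [Subgroup.relIndex, h4] at h3
  exact h3

end Cfsg.Agent.H63.IF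
end

-- part: H276/IF/RowFin
section
/-!
# S5719, orthogonal groups, q odd, dimension at least 11, |A| even: complete (helper276)

`killE_of` : no counterexample; `rowThm` : the same in the form of helper254; `odd_kill`, `plus_kill`, `minus_kill` : the
cells.
-/

set_option autoImplicit false
set_option linter.unusedSectionVars false

namespace Cfsg.Agent.H276.IF

open QuadraticMap Cfsg Cfsg.Agent.LieClassical.OrthCore Cfsg.Agent.AutOrth.Gen Cfsg.Agent.H209.Fxy
open Cfsg.Agent.H112.Row2.OrthExt (QU)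

theorem rowThm : Cfsg.Agent.H254.IF.RowThm :=
  rowThm_of fun _ _ _ _ _ _ _ _ h2 hQ h7 H hH => Cfsg.Agent.H63.IF.min_index h2 hQ h7 H hH

/-- the cells of odd dimension `2m + 1 ≥ 11` -/
theorem odd_kill (F : Type) [Field F] [Fintype F] (m : ℕ) (ho : Odd (Fintype.card F)) (hm : 5 ≤ m)
    (hs : IsSimpleGroup (POmega F (quadFormOdd m F))) : KillE (POmega F (quadFormOdd m F)) :=
  Cfsg.Agent.H254.IF.odd_of rowThm F m ho hm hs

/-- the cells of plus type, dimension `2m ≥ 12` -/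
theorem plus_kill (F : Type) [Field F] [Fintype F] (m : ℕ) (ho : Odd (Fintype.card F)) (hm : 6 ≤ m)
    (hs : IsSimpleGroup (POmega F (quadFormPlus m F))) : KillE (POmega F (quadFormPlus m F)) :=
  Cfsg.Agent.H254.IF.plus_of rowThm F m ho hm hs

/-- the cells of minus type, dimension `2m ≥ 12` -/
theorem minus_kill (F : Type) [Field F] [Fintype F] (m : ℕ) (a b : F) (ho : Odd (Fintype.card F))
    (hm : 6 ≤ m) (hz : ∀ z₁ z₂ : F, z₁ ^ 2 + a * z₁ * z₂ + b * z₂ ^ 2 = 0 → z₁ = 0 ∧ z₂ = 0)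
    (hs : IsSimpleGroup (POmega F (quadFormMinus (m - 1) F a b))) :
    KillE (POmega F (quadFormMinus (m - 1) F a b)) :=
  Cfsg.Agent.H254.IF.minus_of rowThm F m a b ho hm hz hs

end Cfsg.Agent.H276.IF
end

private theorem dce_935c0d90db5d : _root_.True := by
  try have : _root_.True := by simp only [_root_.Cfsg.Agent.H274.IF.Wp.eq_1]
  try have : _root_.True := by simp only [_root_.Cfsg.Agent.H886.IF8.cb.eq_1]
  try have : _root_.True := by simp only [_root_.Cfsg.Agent.H274.IF.pr.congr_simp]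
  try have : _root_.True := by simp only [_root_.Cfsg.Agent.H94.CZ.sE.eq_1]
  try have : _root_.True := by simp only [_root_.Cfsg.Agent.UGT.U2.FOne.Orth.Four.rho.congr_simp]
  exact _root_.True.intro
end

-- part: H254/IF/Eleven
section
set_option linter.all false

/-!
# S5719: the cells of the orthogonal groups in odd characteristic, dimension at least 11 (helper254)

`odd_ge` : dimension `2m + 1 ≥ 11`; `plus_ge`, `minus_ge` : dimension `2m ≥ 12`; `|A|` even.
(PHI, USE: helper786, helper989, helper237; step: helper276; end: helper198; minimal index: helper63.)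
-/

set_option autoImplicit false

namespace Cfsg.Agent.H254.IF

open QuadraticMap Cfsg Cfsg.Agent.LieClassical.OrthCore Cfsg.Agent.LieClassical.OrthTrans Cfsg.Agent.H209.Fxy
open Module (finrank)

theorem minThm : MinThm := fun _ _ _ _ _ _ _ _ h2 hQ h7 H hH => Cfsg.Agent.H63.IF.min_index h2 hQ h7 H hH

/-- **the row theorem** : dimension at least 11, `|A|` even -/
theorem rowThm : RowThm := row_of_min minThm

/-- dimensions 11, 13, 15, … -/
theorem odd_ge (F : Type) [Field F] [Fintype F] (m : ℕ) (ho : Odd (Fintype.card F)) (hm : 5 ≤ m)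
    (hs : IsSimpleGroup (POmega F (quadFormOdd m F))) : KillE (POmega F (quadFormOdd m F)) :=
  odd_of rowThm F m ho hm hs

/-- dimensions 12, 14, 16, … of plus type -/
theorem plus_ge (F : Type) [Field F] [Fintype F] (m : ℕ) (ho : Odd (Fintype.card F)) (hm : 6 ≤ m)
    (hs : IsSimpleGroup (POmega F (quadFormPlus m F))) : KillE (POmega F (quadFormPlus m F)) :=
  plus_of rowThm F m ho hm hs

/-- dimensions 12, 14, 16, … of minus type -/
theorem minus_ge (F : Type) [Field F] [Fintype F] (m : ℕ) (a b : F) (ho : Odd (Fintype.card F))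
    (hm : 6 ≤ m) (hz : ∀ z₁ z₂ : F, z₁ ^ 2 + a * z₁ * z₂ + b * z₂ ^ 2 = 0 → z₁ = 0 ∧ z₂ = 0)
    (hs : IsSimpleGroup (POmega F (quadFormMinus (m - 1) F a b))) :
    KillE (POmega F (quadFormMinus (m - 1) F a b)) :=
  minus_of rowThm F m a b ho hm hz hs

/-- `CellsO.odd_large` -/
theorem odd_large : ∀ (F : Type) [Field F] [Fintype F] (m : ℕ), Odd (Fintype.card F) → 7 ≤ m →
    IsSimpleGroup (POmega F (quadFormOdd m F)) → KillE (POmega F (quadFormOdd m F)) :=
  fun F _ _ m ho hm hs => odd_ge F m ho (by omega) hs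

/-- `CellsO.plus_large` -/
theorem plus_large : ∀ (F : Type) [Field F] [Fintype F] (m : ℕ), Odd (Fintype.card F) → 8 ≤ m →
    IsSimpleGroup (POmega F (quadFormPlus m F)) → KillE (POmega F (quadFormPlus m F)) :=
  fun F _ _ m ho hm hs => plus_ge F m ho (by omega) hs

/-- `CellsO.minus_large` -/
theorem minus_large : ∀ (F : Type) [Field F] [Fintype F] (m : ℕ) (a b : F), Odd (Fintype.card F) → 8 ≤ m →
    (∀ z₁ z₂ : F, z₁ ^ 2 + a * z₁ * z₂ + b * z₂ ^ 2 = 0 → z₁ = 0 ∧ z₂ = 0) →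
    IsSimpleGroup (POmega F (quadFormMinus (m - 1) F a b)) → KillE (POmega F (quadFormMinus (m - 1) F a b)) :=
  fun F _ _ m a b ho hm hz hs => minus_ge F m a b ho (by omega) hz hs

end Cfsg.Agent.H254.IF
end

-- part: H838/IF/RankOne_mg
section
prune_inst 0x425303025414000000004801400001ca3910000020048840004a504000008004a05020800080005115020000000040008130000300240000004200000000405010800100020000008800000000000000000000000000000000000000000000000200000000
set_option linter.all false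
open scoped Cfsg.Agent.FastGrp

-- part: H838/IF/LiftP
section
/-!
# Lifting `p`-subgroups through a central `p'`-kernel; fixed vectors of `p`-groups modulo a submodule (helper838, S5719)
-/

set_option autoImplicit false
set_option linter.unusedSectionVars false

namespace Cfsg.Agent.H838.IF

open Subgroup MulAction

/-- lifting a `p`-subgroup -/
theorem lift_p {G T : Type*} [Group G] [Finite G] [Group T] (f : G →* T) {p : ℕ} [Fact p.Prime]
    (hker : ∀ x, f x = 1 → ∀ g, g * x = x * g) (hcop : ∀ x, f x = 1 → ∀ n, x ^ (p ^ n) = 1 → x = 1)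
    {K : Subgroup T} (hK : IsPGroup p K) (hKr : K ≤ f.range) :
    ∃ L : Subgroup G, IsPGroup p L ∧ L.map f = K ∧
      (∀ g : G, (∀ k ∈ K, f g * k * (f g)⁻¹ ∈ K) → ∀ x ∈ L, g * x * g⁻¹ ∈ L) ∧
      ∀ x : G, f x ∈ K → (∃ n, x ^ (p ^ n) = 1) → x ∈ L := by
  classical
  let M : Subgroup G := K.comap f
  obtain ⟨P⟩ : Nonempty (Sylow p M) := inferInstance
  let f' : M →* K := (f.comp M.subtype).codRestrict K (fun x => x.2)
  have hf' : Function.Surjective f' := by
    rintro ⟨k, hk⟩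
    obtain ⟨g, hg⟩ := hKr hk
    exact ⟨⟨g, by rw [mem_comap, hg]; exact hk⟩, Subtype.ext hg⟩
  have hfin : Finite K := Finite.of_surjective _ hf'
  have hPK : (P : Subgroup M).map f' = ⊤ := by
    rw [← Subgroup.index_eq_one]
    have h1 : ((P : Subgroup M).map f').index ∣ (P : Subgroup M).index := Subgroup.index_map_dvd _ hf'
    have h2 : ((P : Subgroup M).map f').index ∣ Nat.card K := Subgroup.index_dvd_card _
    have h3 : ¬ p ∣ (P : Subgroup M).index := P.not_dvd_index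
    obtain ⟨n, hn⟩ := IsPGroup.iff_card.1 hK
    rw [hn] at h2
    obtain ⟨m, -, hm⟩ := (Nat.dvd_prime_pow Fact.out).1 h2
    rcases Nat.eq_zero_or_pos m with h4 | h4
    · rw [hm, h4, pow_zero]
    · exfalso
      apply h3
      refine dvd_trans ?_ h1
      rw [hm]
      exact dvd_pow_self p h4.ne'
  have hdec : ∀ x : M, ∃ y ∈ (P : Subgroup M), ∃ z : G, f z = 1 ∧ (x : G) = y * z := by
    intro x
    have h1 : f' x ∈ (P : Subgroup M).map f' := by rw [hPK]; exact mem_top _
    obtain ⟨y, hy, hxy⟩ := h1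
    have h2 : f (y : G) = f x := congrArg Subtype.val hxy
    refine ⟨y, hy, (y : G)⁻¹ * x, ?_, by group⟩
    rw [map_mul, map_inv, h2, inv_mul_cancel]
  have hmem : ∀ x : G, f x ∈ K → (∃ n, x ^ (p ^ n) = 1) → x ∈ (P : Subgroup M).map M.subtype := by
    rintro x hx ⟨n, hn⟩
    obtain ⟨y, hy, z, hz, hxy⟩ := hdec ⟨x, hx⟩
    have hxy' : x = y * z := hxy
    obtain ⟨m, hm⟩ := P.isPGroup' ⟨y, hy⟩
    have hm' : (y : G) ^ (p ^ m) = 1 := by
      have := congrArg (fun w : (P : Subgroup M) => ((w : M) : G)) hm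
      simpa only [_root_.SubmonoidClass.mk_pow, _root_.SubmonoidClass.coe_pow, _root_.OneMemClass.coe_one] using this
    have hc : Commute (y : G) z := hker z hz y
    have h1 : z ^ (p ^ (n + m)) = 1 := by
      have h2 : x ^ (p ^ (n + m)) = 1 := by rw [pow_add, pow_mul, hn, one_pow]
      rw [hxy', hc.mul_pow, pow_add, mul_comm (p ^ n), pow_mul, hm', one_pow, one_mul, mul_comm] at h2
      rw [pow_add]
      exact h2
    have h3 := hcop z hz _ h1
    rw [h3, mul_one] at hxy'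
    exact ⟨y, hy, hxy'.symm⟩
  refine ⟨(P : Subgroup M).map M.subtype, P.isPGroup'.map _, ?_, ?_, hmem⟩
  · apply le_antisymm
    · rintro _ ⟨_, ⟨y, -, rfl⟩, rfl⟩
      exact y.2
    · intro k hk
      have h1 : (⟨k, hk⟩ : K) ∈ (P : Subgroup M).map f' := by rw [hPK]; exact mem_top _
      obtain ⟨y, hy, hxy⟩ := h1
      exact ⟨y, ⟨y, hy, rfl⟩, congrArg Subtype.val hxy⟩
  · rintro g hg _ ⟨y, hy, rfl⟩
    apply hmem
    · rw [map_mul, map_mul, map_inv]
      exact hg _ y.2
    · obtain ⟨m, hm⟩ := P.isPGroup' ⟨y, hy⟩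
      have hm' : (y : G) ^ (p ^ m) = 1 := by
        have := congrArg (fun w : (P : Subgroup M) => ((w : M) : G)) hm
        simpa only [_root_.SubmonoidClass.mk_pow, _root_.SubmonoidClass.coe_pow, _root_.OneMemClass.coe_one] using this
      refine ⟨m, ?_⟩
      change (g * (y : G) * g⁻¹) ^ (p ^ m) = 1
      rw [conj_pow, hm', mul_one, mul_inv_cancel]

/-- fixed vectors of a `p`-group modulo a submodule -/
theorem exists_fixed_mod {F V : Type*} [Field F] [Finite F] [AddCommGroup V] [Module F V] [Finite V] {p : ℕ} [Fact p.Prime]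
    (hp : (p : F) = 0) {G : Subgroup (V ≃ₗ[F] V)} (hG : IsPGroup p G) {X Y : Submodule F V} (hYX : Y < X)
    (hX : ∀ g ∈ G, ∀ x ∈ X, g x ∈ X) (hY : ∀ g ∈ G, ∀ y ∈ Y, g y ∈ Y) :
    ∃ x ∈ X, x ∉ Y ∧ ∀ g ∈ G, g x - x ∈ Y := by
  classical
  let Y' : Submodule F X := Y.comap X.subtype
  let r : G → (X →ₗ[F] X) := fun g => (g : V ≃ₗ[F] V).toLinearMap.restrict (fun x hx => hX g g.2 x hx)
  have hr : ∀ (g : G) (x : X), ((r g x : X) : V) = (g : V ≃ₗ[F] V) x := fun g x => rfl
  have hrY : ∀ g : G, Y' ≤ Y'.comap (r g) := by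
    intro g x hx
    exact hY g g.2 x hx
  let act : MulAction G (X ⧸ Y') :=
    { smul := fun g x => Y'.mapQ Y' (r g) (hrY g) x
      one_smul := by
        intro x
        obtain ⟨x, rfl⟩ := Y'.mkQ_surjective x
        change Y'.mapQ Y' (r 1) (hrY 1) (Submodule.Quotient.mk x) = _
        rw [Submodule.mapQ_apply]
        congr 1
      mul_smul := by
        intro g h x
        obtain ⟨x, rfl⟩ := Y'.mkQ_surjective x
        change Y'.mapQ Y' (r (g * h)) (hrY _) (Submodule.Quotient.mk x) =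
          Y'.mapQ Y' (r g) (hrY g) (Y'.mapQ Y' (r h) (hrY h) (Submodule.Quotient.mk x))
        rw [Submodule.mapQ_apply, Submodule.mapQ_apply, Submodule.mapQ_apply]
        congr 1 }
  have hsm : ∀ (g : G) (x : X), g • (Submodule.Quotient.mk x : X ⧸ Y') = Submodule.Quotient.mk (r g x) := fun g x => rfl
  have hfin : Finite (X ⧸ Y') := Finite.of_surjective _ Y'.mkQ_surjective
  have hnt : Nontrivial (X ⧸ Y') := by
    rw [Submodule.Quotient.nontrivial_iff]
    intro h1
    apply hYX.not_ge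
    intro x hx
    have h2 : (⟨x, hx⟩ : X) ∈ Y' := by rw [h1]; trivial
    exact h2
  have hdvd : p ∣ Nat.card (X ⧸ Y') := by
    obtain ⟨x, hx⟩ := exists_ne (0 : X ⧸ Y')
    have h1 : addOrderOf x = p := by
      apply addOrderOf_eq_prime _ hx
      rw [← Nat.cast_smul_eq_nsmul F, hp, zero_smul]
    rw [← h1]
    exact addOrderOf_dvd_natCard x
  have h0 : (0 : X ⧸ Y') ∈ fixedPoints G (X ⧸ Y') := by
    intro g
    have h1 := hsm g 0
    rw [Submodule.Quotient.mk_zero] at h1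
    rw [h1, map_zero, Submodule.Quotient.mk_zero]
  obtain ⟨b, hb, hb0⟩ := hG.exists_fixed_point_of_prime_dvd_card_of_fixed_point (X ⧸ Y') hdvd h0
  obtain ⟨x, rfl⟩ := Y'.mkQ_surjective b
  refine ⟨x, x.2, ?_, ?_⟩
  · intro h1
    apply hb0
    symm
    rw [Submodule.mkQ_apply, Submodule.Quotient.mk_eq_zero]
    exact h1
  · intro g hg
    have h1 := hb ⟨g, hg⟩
    rw [Submodule.mkQ_apply, hsm, Submodule.Quotient.eq] at h1
    exact h1

end Cfsg.Agent.H838.IF
end

-- part: H838/IF/RkGeo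
section
/-!
# S5719, `PSU_4(q)`, rank one case: geometry (helper838)

`geo` : a `p`-group `L ≠ 1` normalised by a group containing the transvections of a nondegenerate plane `P` lies in the
unipotent radical `Qb` of the stabiliser of an isotropic point `⟨b⟩` orthogonal to `P`.
-/

set_option autoImplicit false
set_option linter.unusedSectionVars false

namespace Cfsg.Agent.H838.IF

open Module Subgroup Cfsg Cfsg.Agent.H91.U Cfsg.Agent.H450.UF Cfsg.Agent.H450.Bs

section

variable {F V : Type*} [Field F] [Finite F] [AddCommGroup V] [Module F V] [FiniteDimensional F V] {σ : F →+* F}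
  {B : V →ₛₗ[σ] V →ₗ[F] F} {H : Subgroup (V ≃ₗ[F] V)}

theorem np_scalar (hB : HForm B) {P : Submodule F V} (hP : NP B P) {x y : V} (hx : x ∈ P) (hx0 : x ≠ 0)
    (hxx : B x x = 0) (hy : y ∈ P) (hxy : B x y = 0) : ∃ a : F, y = a • x := by
  by_contra hcon
  have hcon' : y ∉ Submodule.span F {x} := by
    intro h1
    obtain ⟨a, ha⟩ := Submodule.mem_span_singleton.1 h1
    exact hcon ⟨a, ha.symm⟩
  have hli : LinearIndependent F ![x, y] := by
    rw [LinearIndependent.pair_iff' hx0]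
    intro a ha
    exact hcon' (Submodule.mem_span_singleton.2 ⟨a, ha⟩)
  have h1 : Submodule.span F (Set.range ![x, y]) ≤ P := by
    rw [Submodule.span_le]
    rintro _ ⟨i, rfl⟩
    fin_cases i
    · exact hx
    · exact hy
  have h2 : finrank F (Submodule.span F (Set.range ![x, y])) = 2 := by
    rw [finrank_span_eq_card hli, Fintype.card_fin]
  have h3 : Submodule.span F (Set.range ![x, y]) = P :=
    Submodule.eq_of_le_of_finrank_eq h1 (by rw [h2, hP.dim])
  apply hx0
  apply hP.nd x hx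
  intro z hz
  rw [← h3] at hz
  induction hz using Submodule.span_induction with
  | mem z hz =>
    obtain ⟨i, rfl⟩ := hz
    fin_cases i
    · exact hxx
    · exact hxy
  | zero => rw [map_zero]
  | add a b _ _ h4 h5 => rw [map_add, h4, h5, add_zero]
  | smul c a _ h4 => rw [map_smul, h4, smul_zero]

theorem np_pp (hB : HForm B) (hV : finrank F V = 4) {P : Submodule F V} (hP : NP B P) : NP B (pp B P) := by
  refine ⟨?_, ?_⟩
  · have h1 := finrank_pp hB P
    rw [hP.dim, hV] at h1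
    omega
  · intro x hx h1
    apply hB.eq_zero
    intro y
    obtain ⟨a, ha, b, hb, rfl⟩ := exists_decomp hB hP.nd y
    rw [map_add, mem_pp.1 hx a ha, zero_add]
    exact h1 b (mem_pp.2 fun z hz => hB.swap_zero (hb z hz))

/-- `P` is spanned by a hyperbolic pair -/
theorem np_basis (hB : HForm B) {P : Submodule F V} (hP : NP B P) {e f : V} (he : e ∈ P) (hf : f ∈ P)
    (hee : B e e = 0) (hff : B f f = 0) (hef : B e f = 1) {x : V} (hx : x ∈ P) : x = B f x • e + B e x • f := by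
  have he0 : e ≠ 0 := by
    rintro rfl
    rw [map_zero, LinearMap.zero_apply] at hef
    exact zero_ne_one hef
  have hfe : B f e = 1 := by rw [sw hB e f, hef, map_one]
  have hz : x - B f x • e - B e x • f ∈ P := sub_mem (sub_mem hx (P.smul_mem _ he)) (P.smul_mem _ hf)
  obtain ⟨a, ha⟩ := np_scalar hB hP he he0 hee hz (by
    rw [map_sub, map_sub, map_smul, map_smul, hee, hef]
    simp)
  have h1 : B f (x - B f x • e - B e x • f) = 0 := by
    rw [map_sub, map_sub, map_smul, map_smul, hfe, hff]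
    simp
  rw [ha, map_smul, hfe, smul_eq_mul, mul_one] at h1
  rw [h1, zero_smul, sub_sub, sub_eq_zero] at ha
  exact ha

theorem tv_mem (hB : HForm B) {X : Submodule F V} (hX : ∀ h ∈ H, ∀ x ∈ X, h x ∈ X) {c : V} (hc : B c c = 0)
    (hcc : PP B H c) {x : V} (hx : x ∈ X) (hcx : B c x ≠ 0) : c ∈ X := by
  obtain ⟨l, hl0, hl⟩ := exists_trz hB
  obtain ⟨g, hg⟩ := exists_tv hc l
  have h1 := sub_mem (hX g (hcc l hl g hg) x hx) hx
  rw [hg, add_sub_cancel_left] at h1
  have h2 := X.smul_mem (l * B c x)⁻¹ h1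
  rwa [smul_smul, inv_mul_cancel₀ (mul_ne_zero hl0 hcx), one_smul] at h2

theorem plane_le (hB : HForm B) {P : Submodule F V} (hP : NP B P) (hO : On B H P) {X : Submodule F V}
    (hX : ∀ h ∈ H, ∀ x ∈ X, h x ∈ X) {v v1 v2 : V} (hv : v ∈ X) (h1 : v1 ∈ P) (h2 : ∀ w ∈ P, B w v2 = 0)
    (hvv : v = v1 + v2) (h0 : v1 ≠ 0) : P ≤ X := by
  obtain ⟨e, he, f, hf, hee, hff, hef⟩ := _root_.Cfsg.Agent.H450.Bs.exists_hyp hB hP.nd hP.dim.ge
  have hfe : B f e = 1 := by rw [sw hB e f, hef, map_one]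
  have he0 : e ≠ 0 := by
    rintro rfl
    rw [map_zero, LinearMap.zero_apply] at hef
    exact zero_ne_one hef
  have hf0 : f ≠ 0 := by
    rintro rfl
    rw [map_zero] at hef
    exact zero_ne_one hef
  have hb := np_basis hB hP he hf hee hff hef h1
  have hevv : B e v = B e v1 := by rw [hvv, map_add, h2 e he, add_zero]
  have hfvv : B f v = B f v1 := by rw [hvv, map_add, h2 f hf, add_zero]
  have hef' : e ∈ X ∧ f ∈ X := by
    by_cases h3 : B e v1 = 0
    · have h4 : B f v1 ≠ 0 := by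
        intro h4
        apply h0
        rw [hb, h3, h4, zero_smul, zero_smul, add_zero]
      have h5 : f ∈ X := tv_mem hB hX hff (hO f hf hf0 hff) hv (by rw [hfvv]; exact h4)
      exact ⟨tv_mem hB hX hee (hO e he he0 hee) h5 (by rw [hef]; exact one_ne_zero), h5⟩
    · have h5 : e ∈ X := tv_mem hB hX hee (hO e he he0 hee) hv (by rw [hevv]; exact h3)
      exact ⟨h5, tv_mem hB hX hff (hO f hf hf0 hff) h5 (by rw [hfe]; exact one_ne_zero)⟩
  intro x hx
  rw [np_basis hB hP he hf hee hff hef hx]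
  exact add_mem (X.smul_mem _ hef'.1) (X.smul_mem _ hef'.2)

/-- **geometry of the rank one case** -/
theorem geo [Finite V] (hB : HForm B) (hV : finrank F V = 4) {p : ℕ} [Fact p.Prime] (hp : (p : F) = 0)
    (hH : H ≤ SIso B) {P : Submodule F V} (hP : NP B P) (hO : On B H P) {L : Subgroup (V ≃ₗ[F] V)}
    (hL : L ≤ SIso B) (hLp : IsPGroup p L) (hL1 : L ≠ ⊥) (hn : ∀ h ∈ H, ∀ k ∈ L, h * k * h⁻¹ ∈ L) :
    ∃ b ∈ pp B P, b ≠ 0 ∧ B b b = 0 ∧ (∀ h ∈ H, ∃ a : F, h b = a • b) ∧
      ∀ k ∈ L, k b = b ∧ ∀ x, B b x = 0 → ∃ a : F, k x = x + a • b := by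
  obtain ⟨e, he, f, hf, hee, hff, hef⟩ := _root_.Cfsg.Agent.H450.Bs.exists_hyp hB hP.nd hP.dim.ge
  have hfe : B f e = 1 := by rw [sw hB e f, hef, map_one]
  have hn' : ∀ h ∈ H, ∀ k ∈ L, h⁻¹ * k * h ∈ L := by
    intro h hh k hk
    have := hn h⁻¹ (H.inv_mem hh) k hk
    rwa [inv_inv] at this
  have hkh : ∀ (h k : V ≃ₗ[F] V) (v : V), k (h v) = h ((h⁻¹ * k * h) v) := by
    intro h k v
    change k (h v) = h (h.symm (k (h v)))
    rw [LinearEquiv.apply_symm_apply]
  -- the fixed space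
  let W : Submodule F V :=
    { carrier := {v | ∀ k ∈ L, k v = v}
      add_mem' := fun {a b} ha hb k hk => by rw [map_add, ha k hk, hb k hk]
      zero_mem' := fun k _ => map_zero k
      smul_mem' := fun c a ha k hk => by rw [map_smul, ha k hk] }
  have hWH : ∀ h ∈ H, ∀ w ∈ W, h w ∈ W := by
    intro h hh w hw k hk
    rw [hkh h k w, hw _ (hn' h hh k hk)]
  have hWtop : W ≠ ⊤ := by
    intro h1
    apply hL1
    rw [Subgroup.eq_bot_iff_forall]
    intro k hk
    apply LinearEquiv.ext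
    intro v
    have h2 : v ∈ W := by rw [h1]; trivial
    exact h2 k hk
  have hppH : ∀ (X : Submodule F V) (G : Subgroup (V ≃ₗ[F] V)), G ≤ SIso B → (∀ h ∈ G, ∀ x ∈ X, h x ∈ X) →
      ∀ h ∈ G, ∀ x ∈ pp B X, h x ∈ pp B X := by
    intro X G hG hX h hh x hx
    rw [mem_pp]
    intro z hz
    have h1 := hX h⁻¹ (G.inv_mem hh) z hz
    have h2 := mem_pp.1 hx _ h1
    rw [← (hG hh).2] at h2
    have h3 : h (h⁻¹ z) = z := by
      change h (h.symm z) = z
      rw [LinearEquiv.apply_symm_apply]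
    rwa [h3] at h2
  have hWL : ∀ k ∈ L, ∀ w ∈ W, k w ∈ W := by
    intro k hk w hw
    rw [hw k hk]
    exact hw
  have hppne : (⊥ : Submodule F V) < pp B W := by
    rw [bot_lt_iff_ne_bot]
    intro h1
    have h2 := finrank_pp hB W
    rw [h1, finrank_bot, zero_add] at h2
    exact hWtop (Submodule.eq_top_of_finrank_eq h2)
  obtain ⟨b, hb1, hb0, hb2⟩ := exists_fixed_mod hp hLp hppne (hppH W L hL hWL) (by
    intro g _ y hy
    rw [Submodule.mem_bot] at hy ⊢
    rw [hy, map_zero])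
  have hb0' : b ≠ 0 := fun h1 => hb0 (by rw [h1]; exact zero_mem _)
  have hbW : b ∈ W := by
    intro k hk
    have h1 := hb2 k hk
    rw [Submodule.mem_bot, sub_eq_zero] at h1
    exact h1
  let R : Submodule F V := W ⊓ pp B W
  have hRH : ∀ h ∈ H, ∀ x ∈ R, h x ∈ R := fun h hh x hx => ⟨hWH h hh x hx.1, hppH W H hH hWH h hh x hx.2⟩
  have hPR : ¬ P ≤ R := by
    intro h1
    have h2 := mem_pp.1 (h1 hf).2 e (h1 he).1
    rw [hfe] at h2
    exact one_ne_zero h2
  have hRpp : ∀ x ∈ R, x ∈ pp B P := by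
    intro x hx
    obtain ⟨x1, hx1, x2, hx2, hxx⟩ := exists_decomp hB hP.nd x
    by_cases h1 : x1 = 0
    · rw [hxx, h1, zero_add, mem_pp]
      intro z hz
      exact hB.swap_zero (hx2 z hz)
    · exact absurd (plane_le hB hP hO hRH hx hx1 hx2 hxx h1) hPR
  have hbR : b ∈ R := ⟨hbW, hb1⟩
  have hbP : b ∈ pp B P := hRpp b hbR
  have hbb : B b b = 0 := mem_pp.1 hb1 b hbW
  have hPp := np_pp hB hV hP
  have hHb : ∀ h ∈ H, ∃ a : F, h b = a • b := by
    intro h hh
    have h1 := hRH h hh b hbR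
    exact np_scalar hB hPp hbP hb0' hbb (hRpp _ h1) (mem_pp.1 hb1 _ h1.1)
  refine ⟨b, hbP, hb0', hbb, hHb, ?_⟩
  -- the quotient
  let X : Submodule F V := LinearMap.ker (B b)
  have hXm : ∀ x, x ∈ X ↔ B b x = 0 := fun x => LinearMap.mem_ker
  let Y : Submodule F V := Submodule.span F {b}
  have hYL : ∀ g ∈ L, ∀ y ∈ Y, g y ∈ Y := by
    intro g hg y hy
    obtain ⟨a, rfl⟩ := Submodule.mem_span_singleton.1 hy
    rw [map_smul, hbW g hg]
    exact hy
  have hXL : ∀ g ∈ L, ∀ x ∈ X, g x ∈ X := by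
    intro g hg x hx
    rw [hXm] at hx ⊢
    have h1 := (hL hg).2 b x
    rw [hbW g hg, hx] at h1
    exact h1
  have hPX : ∀ x ∈ P, x ∈ X := fun x hx => (hXm x).2 (mem_pp.1 hbP x hx)
  have hYX : Y < X := by
    refine lt_of_le_of_ne ?_ ?_
    · rw [Submodule.span_le, Set.singleton_subset_iff]
      exact (hXm b).2 hbb
    · intro h1
      have h2 : e ∈ Y := by rw [h1]; exact hPX e he
      obtain ⟨a, ha⟩ := Submodule.mem_span_singleton.1 h2
      have h3 : B f e = 0 := by
        rw [← ha, map_smul, hB.swap_zero (mem_pp.1 hbP f hf), smul_zero]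
      rw [hfe] at h3
      exact one_ne_zero h3
  obtain ⟨x, hx1, hx2, hx3⟩ := exists_fixed_mod hp hLp hYX hXL hYL
  let X1 : Submodule F V :=
    { carrier := {x | x ∈ X ∧ ∀ k ∈ L, k x - x ∈ Y}
      add_mem' := fun {a c} ha hc => ⟨add_mem ha.1 hc.1, fun k hk => by
        rw [map_add, add_sub_add_comm]
        exact add_mem (ha.2 k hk) (hc.2 k hk)⟩
      zero_mem' := ⟨zero_mem _, fun k _ => by rw [map_zero, sub_zero]; exact zero_mem _⟩
      smul_mem' := fun c a ha => ⟨X.smul_mem c ha.1, fun k hk => by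
        rw [map_smul, ← smul_sub]
        exact Y.smul_mem c (ha.2 k hk)⟩ }
  have hYH : ∀ h ∈ H, ∀ y ∈ Y, h y ∈ Y := by
    intro h hh y hy
    obtain ⟨a, rfl⟩ := Submodule.mem_span_singleton.1 hy
    obtain ⟨c, hc⟩ := hHb h hh
    rw [map_smul, hc]
    exact Y.smul_mem _ (Y.smul_mem _ (Submodule.mem_span_singleton_self b))
  have hX1H : ∀ h ∈ H, ∀ x ∈ X1, h x ∈ X1 := by
    intro h hh x hx
    refine ⟨?_, fun k hk => ?_⟩
    · rw [hXm]
      obtain ⟨c, hc⟩ := hHb h⁻¹ (H.inv_mem hh)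
      have h1 := (hH hh).2 (h⁻¹ b) x
      have h2 : h (h⁻¹ b) = b := by
        change h (h.symm b) = b
        rw [LinearEquiv.apply_symm_apply]
      rw [h2, hc, smul_left, (hXm x).1 hx.1, mul_zero] at h1
      exact h1
    · rw [hkh h k x, ← map_sub]
      exact hYH h hh _ (hx.2 _ (hn' h hh k hk))
  have hbX1 : b ∈ X1 := ⟨(hXm b).2 hbb, fun k hk => by rw [hbW k hk, sub_self]; exact zero_mem _⟩
  have hdec : ∀ x ∈ X, ∃ x1 ∈ P, ∃ a : F, x = x1 + a • b := by
    intro x hx
    obtain ⟨x1, hx1, x2, hx2, hxx⟩ := exists_decomp hB hP.nd x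
    have h1 : B b x2 = 0 := by
      have h2 := (hXm x).1 hx
      rwa [hxx, map_add, mem_pp.1 hbP x1 hx1, zero_add] at h2
    obtain ⟨a, ha⟩ := np_scalar hB hPp hbP hb0' hbb (mem_pp.2 fun z hz => hB.swap_zero (hx2 z hz)) h1
    exact ⟨x1, hx1, a, by rw [hxx, ha]⟩
  obtain ⟨x1, hx1', a, hxa⟩ := hdec x hx1
  have hPX1 : P ≤ X1 := by
    refine plane_le hB hP hO hX1H (v := x) (v1 := x1) (v2 := a • b) ⟨hx1, hx3⟩ hx1' ?_ hxa ?_
    · intro w hw
      rw [map_smul, hB.swap_zero (mem_pp.1 hbP w hw), smul_zero]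
    · intro h1
      apply hx2
      rw [hxa, h1, zero_add]
      exact Y.smul_mem _ (Submodule.mem_span_singleton_self b)
  intro k hk
  refine ⟨hbW k hk, fun y hy => ?_⟩
  obtain ⟨y1, hy1, c, hyc⟩ := hdec y ((hXm y).2 hy)
  have h1 : y ∈ X1 := by
    rw [hyc]
    exact add_mem (hPX1 hy1) (X1.smul_mem c hbX1)
  obtain ⟨d, hd⟩ := Submodule.mem_span_singleton.1 (h1.2 k hk)
  exact ⟨d, by rw [hd, add_sub_cancel]⟩

end

end Cfsg.Agent.H838.IF
end

-- part: H838/IF/RankOne
section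
/-!
# S5719, `PSU_4(q)`, `q` odd: the rank one case (helper838)
-/

set_option autoImplicit false
set_option linter.unusedSectionVars false

namespace Cfsg.Agent.H838.IF

open Module Subgroup Cfsg Cfsg.Agent.H91.U Cfsg.Agent.H450.UF Cfsg.Agent.H450.Bs Cfsg.Agent.H209.Fxy
open Cfsg.Agent.H77.Witt (formB)
open Cfsg.Agent.H847.IF (HA mem_HA pi_eq_one_iff)

section

variable {F V : Type*} [Field F] [Finite F] [AddCommGroup V] [Module F V] [FiniteDimensional F V] {σ : F →+* F}
  {B : V →ₛₗ[σ] V →ₗ[F] F} {H : Subgroup (V ≃ₗ[F] V)}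

theorem pp_pp (hB : HForm B) (hV : finrank F V = 4) {P : Submodule F V} (hP : NP B P) {u : V} (hu : u ∈ pp B (pp B P)) :
    u ∈ P := by
  obtain ⟨a, ha, b, hb, rfl⟩ := exists_decomp hB hP.nd u
  have hb' : b ∈ pp B P := mem_pp.2 fun z hz => hB.swap_zero (hb z hz)
  have h1 : b = 0 := by
    apply (np_pp hB hV hP).nd b hb'
    intro z hz
    have h2 := mem_pp.1 hu z hz
    rwa [map_add, LinearMap.add_apply, hB.swap_zero (mem_pp.1 hz a ha), zero_add] at h2
  rw [h1, add_zero]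
  exact ha

theorem tv_conj {c : V} {l : F} {g h : V ≃ₗ[F] V} (hh : ∀ x y, B (h x) (h y) = B x y) (hg : IsTv B c l g) :
    IsTv B (h c) l (h * g * h⁻¹) := by
  intro x
  have h1 : (h * g * h⁻¹) x = h (g (h.symm x)) := rfl
  have h2 : B (h c) x = B c (h.symm x) := by
    rw [← hh c (h.symm x), LinearEquiv.apply_symm_apply]
  rw [h1, hg, map_add, LinearEquiv.apply_symm_apply, map_smul, h2]

theorem tv_pow {c : V} (hc : B c c = 0) {l : F} {g : V ≃ₗ[F] V} (hg : IsTv B c l g) (n : ℕ) :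
    IsTv B c (n * l) (g ^ n) := by
  induction n with
  | zero =>
    intro x
    rw [pow_zero, Nat.cast_zero, zero_mul, zero_mul, zero_smul, add_zero]
    rfl
  | succ n ih =>
    intro x
    rw [pow_succ', LinearEquiv.mul_apply, ih, hg, map_add, map_smul, hc, smul_zero, add_zero, Nat.cast_succ, add_assoc,
      ← add_smul]
    congr 2
    ring

theorem tv_comm (hB : HForm B) {c c' : V} (h0 : B c c' = 0) {l l' : F} {g g' : V ≃ₗ[F] V} (hg : IsTv B c l g)
    (hg' : IsTv B c' l' g') : g * g' = g' * g := by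
  apply LinearEquiv.ext
  intro x
  rw [LinearEquiv.mul_apply, LinearEquiv.mul_apply, hg, hg', hg', hg, map_add, map_add, map_smul, map_smul, h0,
    hB.swap_zero h0, smul_zero, smul_zero, add_zero, add_zero]
  abel

/-- an element of square `-1` on the plane, trivial on the orthogonal space -/
theorem exists_w (hB : HForm B) {e f : V} (he : B e e = 0) (hf : B f f = 0) (hef : B e f = 1) :
    ∃ (l m : F) (g1 g2 : V ≃ₗ[F] V), l + σ l = 0 ∧ m + σ m = 0 ∧ IsTv B e l g1 ∧ IsTv B f m g2 ∧ m ≠ 0 ∧ l * m = -1 ∧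
      (g1 * g2 * g1) e = m • f ∧ (g1 * g2 * g1) f = l • e ∧
      ∀ u, B e u = 0 → B f u = 0 → (g1 * g2 * g1) u = u := by
  have hfe : B f e = 1 := by rw [sw hB e f, hef, map_one]
  obtain ⟨l, hl0, hl⟩ := exists_trz hB
  obtain ⟨g1, hg1⟩ := exists_tv he l
  obtain ⟨g2, hg2⟩ := exists_tv hf (-l⁻¹)
  have hlm : l * -l⁻¹ = -1 := by rw [mul_neg, mul_inv_cancel₀ hl0]
  have hs0 : σ l ≠ 0 := sig_ne_zero hl0
  refine ⟨l, -l⁻¹, g1, g2, hl, ?_, hg1, hg2, neg_ne_zero.2 (inv_ne_zero hl0), hlm, ?_, ?_, ?_⟩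
  · rw [map_neg, map_inv₀]
    field_simp
    linear_combination -hl
  · have h1 : g1 e = e := by rw [hg1, he, mul_zero, zero_smul, add_zero]
    have h2 : g2 e = e + (-l⁻¹) • f := by rw [hg2, hfe, mul_one]
    have h3 : g1 f = f + l • e := by rw [hg1, hef, mul_one]
    rw [LinearEquiv.mul_apply, LinearEquiv.mul_apply, h1, h2, map_add, h1, map_smul, h3, smul_add, smul_smul,
      mul_comm, hlm, neg_one_smul]
    abel
  · have h2 : g2 e = e + (-l⁻¹) • f := by rw [hg2, hfe, mul_one]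
    have h3 : g1 f = f + l • e := by rw [hg1, hef, mul_one]
    have h4 : g2 f = f := by rw [hg2, hf, mul_zero, zero_smul, add_zero]
    have h1 : g1 e = e := by rw [hg1, he, mul_zero, zero_smul, add_zero]
    rw [LinearEquiv.mul_apply, LinearEquiv.mul_apply, h3, map_add, h4, map_smul, h2, smul_add, smul_smul, hlm,
      neg_one_smul, show f + (l • e + -f) = l • e by abel, map_smul, h1]
  · intro u h5 h6
    have h7 : g1 u = u := by rw [hg1, h5, mul_zero, zero_smul, add_zero]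
    have h8 : g2 u = u := by rw [hg2, h6, mul_zero, zero_smul, add_zero]
    rw [LinearEquiv.mul_apply, LinearEquiv.mul_apply, h7, h8, h7]

/-- the unipotent radical of the stabiliser of the point `b` -/
def Qb (B : V →ₛₗ[σ] V →ₗ[F] F) (b : V) : Subgroup (SIso B) where
  carrier := {g | g.1 b = b ∧ ∀ x, B b x = 0 → ∃ a : F, g.1 x = x + a • b}
  mul_mem' := by
    rintro g h ⟨hg, hg'⟩ ⟨hh, hh'⟩
    refine ⟨?_, fun x hx => ?_⟩
    · rw [Subgroup.coe_mul, LinearEquiv.mul_apply, hh, hg]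
    · obtain ⟨a, ha⟩ := hh' x hx
      obtain ⟨c, hc⟩ := hg' x hx
      refine ⟨c + a, ?_⟩
      rw [Subgroup.coe_mul, LinearEquiv.mul_apply, ha, map_add, hc, map_smul, hg, add_smul, add_assoc]
  one_mem' := ⟨rfl, fun x _ => ⟨0, by rw [zero_smul, add_zero]; rfl⟩⟩
  inv_mem' := by
    rintro g ⟨hg, hg'⟩
    have h1 : ∀ x, (g⁻¹ : SIso B).1 (g.1 x) = x := fun x => by
      rw [← LinearEquiv.mul_apply, ← Subgroup.coe_mul, inv_mul_cancel]
      rfl
    have h2 : (g⁻¹ : SIso B).1 b = b := by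
      have := h1 b
      rwa [hg] at this
    refine ⟨h2, fun x hx => ?_⟩
    obtain ⟨a, ha⟩ := hg' x hx
    refine ⟨-a, ?_⟩
    have h3 := h1 x
    rw [ha, map_add, map_smul, h2] at h3
    rw [neg_smul, ← sub_eq_add_neg, eq_sub_iff_add_eq, h3]

/-- the elements of `Qb` have order `p` -/
theorem Qb_pow (hB : HForm B) {b : V} {g : SIso B} (hg : g ∈ Qb B b) (x : V) :
    ∃ a : F, ∀ n : ℕ, (g ^ n).1 x = x + (n : F) • (g.1 x - x) + ((n.choose 2 : ℕ) : F) • (a • b) := by
  have h1 : B b (g.1 x - x) = 0 := by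
    have h2 := g.2.2 b x
    rw [hg.1] at h2
    rw [map_sub, h2, sub_self]
  obtain ⟨a, ha⟩ := hg.2 _ h1
  refine ⟨a, fun n => ?_⟩
  induction n with
  | zero => simp only [_root_.pow_zero, _root_.OneMemClass.coe_one, _root_.LinearEquiv.coe_one, _root_.id_eq, _root_.Nat.cast_zero, _root_.zero_smul, _root_.add_zero, _root_.Nat.choose_zero_succ]
  | succ n ih =>
    have h3 : (g ^ (n + 1)).1 x = g.1 ((g ^ n).1 x) := by
      rw [pow_succ', Subgroup.coe_mul, LinearEquiv.mul_apply]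
    rw [h3, ih, map_add, map_add, map_smul, map_smul, map_smul, hg.1, ha, Nat.choose_succ_succ' n 1, Nat.choose_one_right]
    push_cast
    have h4 : g.1 x = x + (g.1 x - x) := by abel
    conv_lhs => rw [h4]
    module

theorem Qb_p (hB : HForm B) {p : ℕ} (hp : (p : F) = 0) (hp2 : Odd p) (hp1 : p.Prime) {b : V} {g : SIso B} (hg : g ∈ Qb B b) :
    g ^ p = 1 := by
  apply Subtype.ext
  apply LinearEquiv.ext
  intro x
  obtain ⟨a, ha⟩ := Qb_pow hB hg x
  have h1 : ((p.choose 2 : ℕ) : F) = 0 := by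
    have h2 : p ∣ p.choose 2 := hp1.dvd_choose_self (by norm_num) (by
      rcases hp2 with ⟨k, hk⟩
      have := hp1.two_le
      omega)
    obtain ⟨c, hc⟩ := h2
    rw [hc, Nat.cast_mul, hp, zero_mul]
  rw [ha p, hp, h1, zero_smul, zero_smul, add_zero, add_zero]
  rfl

/-- an element fixing the point `b` normalises `Qb` -/
theorem Qb_conj (hB : HForm B) {b : V} {h : SIso B} {c : F} (hb : b ≠ 0) (hh : h.1 b = c • b) {g : SIso B} (hg : g ∈ Qb B b) :
    h * g * h⁻¹ ∈ Qb B b := by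
  have h1 : ∀ x, (h⁻¹ : SIso B).1 (h.1 x) = x := fun x => by
    rw [← LinearEquiv.mul_apply, ← Subgroup.coe_mul, inv_mul_cancel]
    rfl
  have h2 : ∀ x, h.1 ((h⁻¹ : SIso B).1 x) = x := fun x => by
    rw [← LinearEquiv.mul_apply, ← Subgroup.coe_mul, mul_inv_cancel]
    rfl
  have hc : c ≠ 0 := by
    rintro rfl
    rw [zero_smul] at hh
    exact hb ((LinearEquiv.map_eq_zero_iff _).1 hh)
  have h3 : (h⁻¹ : SIso B).1 b = c⁻¹ • b := by
    have h4 := h1 b
    rw [hh, map_smul] at h4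
    rw [eq_inv_smul_iff₀ hc, h4]
  have h5 : ∀ x, (h * g * h⁻¹ : SIso B).1 x = h.1 (g.1 ((h⁻¹ : SIso B).1 x)) := fun x => rfl
  refine ⟨?_, fun x hx => ?_⟩
  · rw [h5, h3, map_smul, hg.1, ← h3, h2]
  · have h6 : B b ((h⁻¹ : SIso B).1 x) = 0 := by
      have h7 := h.2.2 b ((h⁻¹ : SIso B).1 x)
      rw [h2, hh, smul_left, hx, mul_zero] at h7
      exact h7.symm
    obtain ⟨a, ha⟩ := hg.2 _ h6
    refine ⟨a * c, ?_⟩
    rw [h5, ha, map_add, h2, map_smul, hh, smul_smul]

end

section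

variable {F : Type*} [Field F] [Fintype F] {q : ℕ}

/-- the elements of trace zero -/
theorem card_trz (hF : Fintype.card F = q ^ 2) {σ : F →+* F} (ne : σ ≠ RingHom.id F) (inv : ∀ a, σ (σ a) = a) :
    q ≤ Nat.card {k : F // k + σ k = 0} := by
  classical
  let φ : F →+ F := AddMonoidHom.id F + σ.toAddMonoidHom
  have hφ : ∀ k, φ k = k + σ k := fun k => rfl
  have hq1 : 1 < q := by
    by_contra hcon
    have h1 : 1 < Fintype.card F := Fintype.one_lt_card
    rw [hF] at h1
    interval_cases q <;> omega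
  have h1 : Nat.card φ.range ≤ q := by
    have h2 : ∀ x : φ.range, (x : F) ∈ (Polynomial.X ^ q - Polynomial.X : Polynomial F).roots.toFinset := by
      rintro ⟨x, hx⟩
      obtain ⟨k, hk⟩ := id hx
      have hx' : σ x = x := by rw [← hk, hφ, map_add, inv, add_comm]
      rw [Multiset.mem_toFinset, Polynomial.mem_roots (FiniteField.X_pow_card_sub_X_ne_zero F hq1)]
      rw [Polynomial.IsRoot.def, Polynomial.eval_sub, Polynomial.eval_pow, Polynomial.eval_X, sub_eq_zero,
        ← sig_eq hF ne inv]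
      exact hx'
    have h3 := Nat.card_le_card_of_injective
      (fun x : φ.range => (⟨(x : F), h2 x⟩ : {y // y ∈ (Polynomial.X ^ q - Polynomial.X : Polynomial F).roots.toFinset}))
      (fun a b hab => Subtype.ext (Subtype.mk.inj hab))
    refine h3.trans ?_
    rw [Nat.card_eq_fintype_card, Fintype.card_coe]
    refine (Multiset.toFinset_card_le _).trans ((Polynomial.card_roots' _).trans ?_)
    rw [FiniteField.X_pow_card_sub_X_natDegree_eq F hq1]
  have h2 : Nat.card φ.ker * Nat.card φ.range = q ^ 2 := by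
    have h3 := AddSubgroup.card_mul_index φ.ker
    rw [AddSubgroup.index_ker, Nat.card_eq_fintype_card (α := F), hF] at h3
    exact h3
  have h3 : Nat.card {k : F // k + σ k = 0} = Nat.card φ.ker :=
    Nat.card_congr (Equiv.subtypeEquivRight fun k => by rw [AddMonoidHom.mem_ker, hφ])
  rw [h3]
  by_contra hcon
  push Not at hcon
  have h4 : Nat.card φ.ker * Nat.card φ.range < q * q :=
    lt_of_le_of_lt (Nat.mul_le_mul_left _ h1) (Nat.mul_lt_mul_of_pos_right hcon (by omega))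
  rw [h2, pow_two] at h4
  exact lt_irrefl _ h4

/-- the group of transvections with centre `c` -/
def RTv {V : Type*} [AddCommGroup V] [Module F V] {σ : F →+* F} {B : V →ₛₗ[σ] V →ₗ[F] F} {c : V} (hc : B c c = 0) :
    Subgroup (SIso B) where
  carrier := {u | ∃ k : F, IsTv B c k u.1}
  mul_mem' := by
    rintro u v ⟨k, hk⟩ ⟨k', hk'⟩
    refine ⟨k + k', fun x => ?_⟩
    rw [Subgroup.coe_mul, LinearEquiv.mul_apply, hk', hk, map_add, map_smul, hc, smul_zero, add_zero, add_assoc,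
      ← add_smul]
    congr 2
    ring
  one_mem' := ⟨0, fun x => by rw [zero_mul, zero_smul, add_zero]; rfl⟩
  inv_mem' := by
    rintro u ⟨k, hk⟩
    refine ⟨-k, fun x => ?_⟩
    apply u.1.injective
    have h1 : u.1 ((u⁻¹ : SIso B).1 x) = x := by
      rw [← LinearEquiv.mul_apply, ← Subgroup.coe_mul, mul_inv_cancel]
      rfl
    rw [h1, hk, map_add, map_smul, hc, smul_zero, add_zero, add_assoc, ← add_smul]
    rw [show -k * B c x + k * B c x = 0 by ring, zero_smul, add_zero]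

theorem card_RTv (hF : Fintype.card F = q ^ 2) {V : Type*} [AddCommGroup V] [Module F V] [Finite V]
    [FiniteDimensional F V] {σ : F →+* F} {B : V →ₛₗ[σ] V →ₗ[F] F} (hB : HForm B) {c : V} (hc : B c c = 0)
    (hc0 : c ≠ 0) : q ≤ Nat.card (RTv hc) := by
  classical
  have := Finite.of_injective (fun e : V ≃ₗ[F] V => (e : V → V)) (fun _ _ h => LinearEquiv.ext fun v => congrFun h v)
  refine (card_trz hF hB.ne_id hB.invol).trans ?_
  have h1 : ∀ k : {k : F // k + σ k = 0}, ∃ u : RTv hc, IsTv B c k u.1.1 := by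
    rintro ⟨k, hk⟩
    obtain ⟨g, hg⟩ := exists_tv hc k
    exact ⟨⟨⟨g, hg.mem hB hc hk⟩, k, hg⟩, hg⟩
  choose φ hφ using h1
  apply Nat.card_le_card_of_injective φ
  intro k k' hkk
  obtain ⟨y, hy⟩ := hB.exists_ne hc0
  have h2 := hφ k y
  have h3 := hφ k' y
  rw [hkk, h3, add_right_inj] at h2
  have h4 : ((k' : F) - k) • (B c y • c) = 0 := by
    rw [sub_smul, smul_smul, smul_smul, h2, sub_self]
  rcases smul_eq_zero.1 h4 with h5 | h5
  · exact Subtype.ext (sub_eq_zero.1 h5).symm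
  · rcases smul_eq_zero.1 h5 with h6 | h6
    · exact absurd h6 hy
    · exact absurd h6 hc0

set_option maxHeartbeats 1600000 in
theorem rank_one_on (hF : Fintype.card F = q ^ 2) [hs : IsSimpleGroup (PSU 4 F q)] {A : Subgroup (PSU 4 F q)}
    {Γ : Subgroup (MulAut (PSU 4 F q))} (h : IF A Γ) (hq : Odd q)
    (hno : ∀ s ∈ A, ∀ t ∈ A, orderOf s = 2 → orderOf t = 2 → s * t = t * s → s = t)
    {P : Submodule F (Fin 4 → F)} (hP : NP (formB hF 4) P) (hO : On (formB hF 4) (HA hF A) P)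
    {t : (Fin 4 → F) ≃ₗ[F] (Fin 4 → F)} (ht : Neg (formB hF 4) t P) (htH : t ∈ HA hF A) : False := by
  classical
  have hB := hform hF 4
  have hV : finrank F (Fin 4 → F) = 4 := by rw [finrank_fin_fun]
  have hfin : Finite ((Fin 4 → F) ≃ₗ[F] (Fin 4 → F)) := Finite.of_injective
    (fun e : (Fin 4 → F) ≃ₗ[F] (Fin 4 → F) => (e : (Fin 4 → F) → (Fin 4 → F)))
    (fun _ _ h => LinearEquiv.ext fun v => congrFun h v)
  have hfin2 : Finite (PSU 4 F q) := Finite.of_surjective _ (pi_surjective hF 4)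
  have hPk := Cfsg.Agent.H847.IF.pk_of_IF hF h
  -- the characteristic
  obtain ⟨p, hpc⟩ := CharP.exists F
  have hpp : p.Prime := CharP.char_is_prime F p
  have hfact : Fact p.Prime := ⟨hpp⟩
  have hp0 : (p : F) = 0 := CharP.cast_eq_zero F p
  have hpodd : Odd p := by
    obtain ⟨n, -, hn⟩ := FiniteField.card F p
    rcases hpp.eq_two_or_odd' with h2 | h2
    · exfalso
      rw [hF, h2] at hn
      have h3 : Odd (q ^ 2) := hq.pow
      rw [hn] at h3
      have h4 : Even (2 ^ (n : ℕ)) := (Nat.even_pow' n.ne_zero).2 even_two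
      exact (Nat.not_even_iff_odd.2 h3) h4
    · exact h2
  have h2F : (2 : F) ≠ 0 := by
    intro h2
    have h3 : p ∣ 2 := (CharP.cast_eq_zero_iff F p 2).1 (by exact_mod_cast h2)
    have h4 := (Nat.prime_dvd_prime_iff_eq hpp Nat.prime_two).1 h3
    rw [h4] at hpodd
    exact absurd hpodd (by decide)
  obtain ⟨htS, htA⟩ : ∃ h : t ∈ SIso (formB hF 4), _root_.Cfsg.Agent.H450.UF.pi hF 4 ⟨t, h⟩ ∈ A := ⟨hPk.le htH, (mem_HA hF A ⟨t, hPk.le htH⟩).1 htH⟩
  set! tT : SIso (formB hF 4) := ⟨t, htS⟩ with htT; rewrite [← htT] at htA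
  obtain ⟨e, he, f, hf, hee, hff, hef⟩ := _root_.Cfsg.Agent.H450.Bs.exists_hyp hB hP.nd hP.dim.ge
  have hPp := np_pp hB hV hP
  obtain ⟨e', he', f', hf', hee', hff', hef'⟩ := _root_.Cfsg.Agent.H450.Bs.exists_hyp hB hPp.nd hPp.dim.ge
  have ne_of : ∀ x y : Fin 4 → F, formB hF 4 x y = 1 → x ≠ 0 ∧ y ≠ 0 := by
    intro x y hxy
    refine ⟨?_, ?_⟩
    · rintro rfl
      rw [map_zero, LinearMap.zero_apply] at hxy
      exact zero_ne_one hxy
    · rintro rfl
      rw [map_zero] at hxy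
      exact zero_ne_one hxy
  have hte : t e = -e := ht.1 e he
  have htv : ∀ a ∈ P, ∀ u ∈ pp (formB hF 4) P, t (a + u) = -a + u := fun a ha u hu => by
    rw [map_add, ht.1 a ha, ht.2 u hu]
  have hdec : ∀ v : Fin 4 → F, ∃ a ∈ P, ∃ u ∈ pp (formB hF 4) P, v = a + u := by
    intro v
    obtain ⟨a, ha, u, hu, hv⟩ := exists_decomp hB hP.nd v
    exact ⟨a, ha, u, mem_pp.2 fun z hz => hB.swap_zero (hu z hz), hv⟩
  -- the elements of square `-1`
  obtain ⟨l, m, g1, g2, hl, hm, hg1, hg2, hm0, hlm, hwe, hwf, hwu⟩ := exists_w hB hee hff hef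
  obtain ⟨l', m', g1', g2', hl', hm', hg1', hg2', hm0', hlm', hwe', hwf', hwu'⟩ := exists_w hB hee' hff' hef'
  set! w := g1 * g2 * g1 with hw; rewrite [← hw] at hwu hwf hwe
  set! w' := g1' * g2' * g1' with hw'; rewrite [← hw'] at hwu' hwf' hwe'
  have hg1S := hg1.mem hB hee hl
  have hg2S := hg2.mem hB hff hm
  have hg1S' := hg1'.mem hB hee' hl'
  have hg2S' := hg2'.mem hB hff' hm'
  have hwS : w ∈ SIso (formB hF 4) := mul_mem (mul_mem hg1S hg2S) hg1S
  have hwS' : w' ∈ SIso (formB hF 4) := mul_mem (mul_mem hg1S' hg2S') hg1S'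
  have hwP : ∀ u ∈ pp (formB hF 4) P, w u = u := fun u hu =>
    hwu u (hB.swap_zero (mem_pp.1 hu e he)) (hB.swap_zero (mem_pp.1 hu f hf))
  have hwP' : ∀ u ∈ P, w' u = u := fun u hu => hwu' u (mem_pp.1 he' u hu) (mem_pp.1 hf' u hu)
  have hwx : ∀ a ∈ P, w a ∈ P ∧ w (w a) = -a := by
    intro a ha
    rw [np_basis hB hP he hf hee hff hef ha]
    set! α := formB hF 4 f a with hset8; rewrite [← hset8]; clear hset8
    set! β := formB hF 4 e a with hset8; rewrite [← hset8]; clear hset8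
    have h1 : w (α • e + β • f) = (β * l) • e + (α * m) • f := by
      rw [map_add, map_smul, map_smul, hwe, hwf, smul_smul, smul_smul, add_comm]
    refine ⟨?_, ?_⟩
    · rw [h1]
      exact add_mem (P.smul_mem _ he) (P.smul_mem _ hf)
    · rw [h1, map_add, map_smul, map_smul, hwe, hwf, smul_smul, smul_smul, neg_add, ← neg_smul, ← neg_smul, add_comm]
      (with_reducible congr 2)
      · linear_combination α * hlm
      · linear_combination β * hlm
  have hwx' : ∀ a ∈ pp (formB hF 4) P, w' a ∈ pp (formB hF 4) P ∧ w' (w' a) = -a := by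
    intro a ha
    rw [np_basis hB hPp he' hf' hee' hff' hef' ha]
    set! α := formB hF 4 f' a with hset8; rewrite [← hset8]; clear hset8
    set! β := formB hF 4 e' a with hset8; rewrite [← hset8]; clear hset8
    have h1 : w' (α • e' + β • f') = (β * l') • e' + (α * m') • f' := by
      rw [map_add, map_smul, map_smul, hwe', hwf', smul_smul, smul_smul, add_comm]
    refine ⟨?_, ?_⟩
    · rw [h1]
      exact add_mem (Submodule.smul_mem _ _ he') (Submodule.smul_mem _ _ hf')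
    · rw [h1, map_add, map_smul, map_smul, hwe', hwf', smul_smul, smul_smul, neg_add, ← neg_smul, ← neg_smul, add_comm]
      (with_reducible congr 2)
      · linear_combination α * hlm'
      · linear_combination β * hlm'
  have hww : w * w = t := by
    apply LinearEquiv.ext
    intro v
    obtain ⟨a, ha, u, hu, rfl⟩ := hdec v
    rw [htv a ha u hu, LinearEquiv.mul_apply, map_add, map_add, (hwx a ha).2, hwP u hu, hwP u hu]
  -- orders
  have ht1 : _root_.Cfsg.Agent.H450.UF.pi hF 4 tT ≠ 1 := by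
    intro h1
    obtain ⟨a, ha⟩ := (pi_eq_one_iff hF (by norm_num) _).1 h1
    have h3 : t e' = e' := ht.2 e' he'
    have h4 : t e = a • e := ha e
    have h5 : t e' = a • e' := ha e'
    have h6 : a = 1 := by
      rw [h3] at h5
      have h7 : (1 - a) • e' = 0 := by rw [sub_smul, one_smul, ← h5, sub_self]
      rcases smul_eq_zero.1 h7 with h8 | h8
      · exact (sub_eq_zero.1 h8).symm
      · exact absurd h8 (ne_of e' f' hef').1
    rw [h6, one_smul, hte] at h4
    have h9 : (2 : F) • e = 0 := by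
      rw [two_smul]
      nth_rewrite 1 [← h4]
      exact neg_add_cancel e
    rcases smul_eq_zero.1 h9 with h8 | h8
    · exact h2F h8
    · exact (ne_of e f hef).1 h8
  have htt : tT * tT = 1 := by
    apply Subtype.ext
    apply LinearEquiv.ext
    intro v
    obtain ⟨a, ha, u, hu, rfl⟩ := hdec v
    have h1 : (tT * tT).1 (a + u) = t (t (a + u)) := rfl
    rw [h1, htv a ha u hu, htv (-a) (P.neg_mem ha) u hu, neg_neg]
    rfl
  have ht2 : orderOf (_root_.Cfsg.Agent.H450.UF.pi hF 4 tT) = 2 := by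
    apply orderOf_eq_prime _ ht1
    rw [pow_two, ← map_mul, htt, map_one]
  -- the second involution
  have hex : ∃ s : PSU 4 F q, s ≠ _root_.Cfsg.Agent.H450.UF.pi hF 4 tT ∧ orderOf s = 2 ∧ s * _root_.Cfsg.Agent.H450.UF.pi hF 4 tT = _root_.Cfsg.Agent.H450.UF.pi hF 4 tT * s := by
    let sT : SIso (formB hF 4) := ⟨w * w', mul_mem hwS hwS'⟩
    have hse : sT.1 e = m • f := by
      change w (w' e) = m • f
      rw [hwP' e he, hwe]
    have hnf : ∀ a : F, m • f ≠ a • e := by
      intro a h1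
      have h3 : formB hF 4 e (m • f) = 0 := by rw [h1, map_smul, hee, smul_zero]
      rw [map_smul, hef, smul_eq_mul, mul_one] at h3
      exact hm0 h3
    have hsv : ∀ a ∈ P, ∀ u ∈ pp (formB hF 4) P, sT.1 (a + u) = w a + w' u := by
      intro a ha u hu
      change w (w' (a + u)) = _
      rw [map_add, hwP' a ha, map_add, hwP _ (hwx' u hu).1]
    refine ⟨_root_.Cfsg.Agent.H450.UF.pi hF 4 sT, ?_, ?_, ?_⟩
    · intro h1
      have h3 : _root_.Cfsg.Agent.H450.UF.pi hF 4 (sT * tT⁻¹) = 1 := by rw [map_mul, map_inv, h1, mul_inv_cancel]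
      obtain ⟨a, ha⟩ := (pi_eq_one_iff hF (by norm_num) _).1 h3
      have h4 := ha (-e)
      have h5 : (sT * tT⁻¹).1 (-e) = sT.1 e := by
        have h6 : (tT⁻¹).1 (-e) = e := by
          have h7 : (tT⁻¹ * tT).1 e = e := by rw [inv_mul_cancel]; rfl
          have h8 : (tT⁻¹ * tT).1 e = (tT⁻¹).1 (t e) := rfl
          rw [h8, hte] at h7
          exact h7
        change sT.1 ((tT⁻¹).1 (-e)) = _
        rw [h6]
      rw [h5, hse] at h4
      exact hnf (-a) (by rw [h4, smul_neg, neg_smul])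
    · apply orderOf_eq_prime
      · rw [pow_two, ← map_mul]
        apply (pi_eq_one_iff hF (by norm_num) _).2
        refine ⟨-1, fun v => ?_⟩
        obtain ⟨a, ha, u, hu, rfl⟩ := hdec v
        change sT.1 (sT.1 (a + u)) = _
        rw [hsv a ha u hu, hsv _ (hwx a ha).1 _ (hwx' u hu).1, (hwx a ha).2, (hwx' u hu).2, neg_one_smul, neg_add]
      · intro h1
        obtain ⟨a, ha⟩ := (pi_eq_one_iff hF (by norm_num) _).1 h1
        exact hnf a (by rw [← hse]; exact ha e)
    · rw [← map_mul, ← map_mul]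
      congr 1
      apply Subtype.ext
      apply LinearEquiv.ext
      intro v
      obtain ⟨a, ha, u, hu, rfl⟩ := hdec v
      change sT.1 (t (a + u)) = t (sT.1 (a + u))
      rw [htv a ha u hu, hsv _ (P.neg_mem ha) u hu, hsv a ha u hu, htv _ (hwx a ha).1 _ (hwx' u hu).1, map_neg]
  -- the transvections
  have hSmem : ∀ (u : SIso (formB hF 4)) (c : Fin 4 → F) (k : F), IsTv (formB hF 4) c k u.1 →
      formB hF 4 c c = 0 → u ^ p = 1 := by
    intro u c k hu hcc
    apply Subtype.ext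
    apply LinearEquiv.ext
    intro x
    have h1 := tv_pow hcc hu p x
    rw [hp0, zero_mul, zero_mul, zero_smul, add_zero] at h1
    exact h1
  let S : Set (PSU 4 F q) := {x | ∃ (u : SIso (formB hF 4)) (c : Fin 4 → F) (k : F), c ∈ P ∧ formB hF 4 c c = 0 ∧
    u.1 ∈ HA hF A ∧ IsTv (formB hF 4) c k u.1 ∧ x = _root_.Cfsg.Agent.H450.UF.pi hF 4 u}
  have hgS : ∀ (g : (Fin 4 → F) ≃ₗ[F] (Fin 4 → F)) (hg : g ∈ SIso (formB hF 4)) (c : Fin 4 → F) (k : F), c ∈ P →
      c ≠ 0 → formB hF 4 c c = 0 → k + _ = 0 → IsTv (formB hF 4) c k g → _root_.Cfsg.Agent.H450.UF.pi hF 4 ⟨g, hg⟩ ∈ S :=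
    fun g hg c k hc hc0 hcc hk hgt => ⟨⟨g, hg⟩, c, k, hc, hcc, hO c hc hc0 hcc k hk g hgt, hgt, rfl⟩
  have htclo : _root_.Cfsg.Agent.H450.UF.pi hF 4 tT ∈ _root_.Subgroup.closure S := by
    have h1 : tT = ((⟨g1, hg1S⟩ : SIso (formB hF 4)) * ⟨g2, hg2S⟩ * ⟨g1, hg1S⟩) *
        ((⟨g1, hg1S⟩ : SIso (formB hF 4)) * ⟨g2, hg2S⟩ * ⟨g1, hg1S⟩) := Subtype.ext hww.symm
    have h3 : _root_.Cfsg.Agent.H450.UF.pi hF 4 ⟨g1, hg1S⟩ ∈ _root_.Subgroup.closure S := _root_.Subgroup.subset_closure (hgS g1 hg1S e l he (ne_of e f hef).1 hee hl hg1)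
    have h4 : _root_.Cfsg.Agent.H450.UF.pi hF 4 ⟨g2, hg2S⟩ ∈ closure S := _root_.Subgroup.subset_closure (hgS g2 hg2S f m hf (ne_of e f hef).2 hff hm hg2)
    rw [h1, map_mul, map_mul, map_mul]
    exact mul_mem (mul_mem (mul_mem h3 h4) h3) (mul_mem (mul_mem h3 h4) h3)
  have hpS : ∀ u ∈ S, ∀ a ∈ A, Odd ((Nat.card (closure ({u, a * u * a⁻¹} : Set (PSU 4 F q))) :)) →
      IsPGroup p (closure ({u, a * u * a⁻¹} : Set (PSU 4 F q))) := by
    rintro _ ⟨u, c, k, hc, hcc, huH, hu, rfl⟩ a ha hodd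
    obtain ⟨a1, rfl⟩ := pi_surjective hF 4 a
    set! u2 : SIso (formB hF 4) := a1 * u * a1⁻¹ with hu2
    have hu2' : IsTv (formB hF 4) (a1.1 c) k u2.1 := tv_conj a1.2.2 hu
    have hpu2 : _root_.Cfsg.Agent.H450.UF.pi hF 4 a1 * _root_.Cfsg.Agent.H450.UF.pi hF 4 u * (_root_.Cfsg.Agent.H450.UF.pi hF 4 a1)⁻¹ = _root_.Cfsg.Agent.H450.UF.pi hF 4 u2 := by rw [hu2, map_mul, map_mul, map_inv]
    rw [hpu2] at hodd ⊢
    have hcc2 : formB hF 4 (a1.1 c) (a1.1 c) = 0 := by rw [a1.2.2, hcc]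
    have hcomm : u * u2 = u2 * u := by
      by_cases hk0 : k = 0
      · have h1 : u = 1 := by
          apply Subtype.ext
          apply LinearEquiv.ext
          intro x
          have := hu x
          rw [hk0, zero_mul, zero_smul, add_zero] at this
          exact this
        rw [h1, one_mul, mul_one]
      have hB0 : formB hF 4 c (a1.1 c) = 0 := by
        have hmapcl : ∀ z ∈ _root_.Subgroup.closure ({u.1, u2.1} : Set ((Fin 4 → F) ≃ₗ[F] (Fin 4 → F))),
            ∃ y : SIso (formB hF 4), y.1 = z ∧ _root_.Cfsg.Agent.H450.UF.pi hF 4 y ∈ _root_.Subgroup.closure ({_root_.Cfsg.Agent.H450.UF.pi hF 4 u, _root_.Cfsg.Agent.H450.UF.pi hF 4 u2} : Set (PSU 4 F q)) := by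
          intro z hz
          have h1 : (_root_.Subgroup.closure ({u, u2} : Set (SIso (formB hF 4)))).map (SIso (formB hF 4)).subtype =
              _root_.Subgroup.closure ({u.1, u2.1} : Set ((Fin 4 → F) ≃ₗ[F] (Fin 4 → F))) := by
            rw [MonoidHom.map_closure, Set.image_pair]
            rfl
          have h3 : (_root_.Subgroup.closure ({u, u2} : Set (SIso (formB hF 4)))).map (_root_.Cfsg.Agent.H450.UF.pi hF 4) =
              _root_.Subgroup.closure ({_root_.Cfsg.Agent.H450.UF.pi hF 4 u, _root_.Cfsg.Agent.H450.UF.pi hF 4 u2} : Set (PSU 4 F q)) := by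
            rw [MonoidHom.map_closure, Set.image_pair]
          rw [← h1] at hz
          obtain ⟨y, hy, rfl⟩ := hz
          refine ⟨y, rfl, ?_⟩
          rw [← h3]
          exact ⟨y, hy, rfl⟩
        have hpair := Cfsg.Agent.H353.Phi.pair (F := F) (V := Fin 4 → F) h2F
          (fun D _ _ h => Cfsg.Agent.S0205.result h)
          (Y := _root_.Subgroup.closure ({u.1, u2.1} : Set ((Fin 4 → F) ≃ₗ[F] (Fin 4 → F)))) ?_ ?_
          (t := u.1) (t' := u2.1) (_root_.Subgroup.subset_closure (by simp only [_root_.Set.mem_insert_iff, _root_.Set.mem_singleton_iff, _root_.SetLike.coe_eq_coe, _root_.true_or])) (_root_.Subgroup.subset_closure (by simp only [_root_.Set.mem_insert_iff, _root_.SetLike.coe_eq_coe, _root_.Set.mem_singleton_iff, _root_.or_true]))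
          (φ := k • formB hF 4 c) (ψ := k • formB hF 4 (a1.1 c)) (v₀ := c) (v₁ := a1.1 c)
          (fun v => hu v) (fun v => hu2' v) ?_ ?_
        · rcases hpair with h1 | h1
          · rw [LinearMap.smul_apply, smul_eq_mul] at h1
            exact (mul_eq_zero.1 h1).resolve_left hk0
          · rw [LinearMap.smul_apply, smul_eq_mul] at h1
            exact hB.swap_zero ((mul_eq_zero.1 h1).resolve_left hk0)
        · rw [closure_le]
          rintro z (rfl | rfl)
          · exact (Cfsg.Agent.H353.Phi.mem_slV).2 (by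
              have h1 := congrArg Units.val u.2.1
              rwa [LinearEquiv.coe_det, Units.val_one] at h1)
          · exact (Cfsg.Agent.H353.Phi.mem_slV).2 (by
              have h1 := congrArg Units.val u2.2.1
              rwa [LinearEquiv.coe_det, Units.val_one] at h1)
        · intro z hz hfd
          obtain ⟨hzz, hdim⟩ := (Cfsg.Agent.H353.Phi.fund_iff h2F).1 hfd
          obtain ⟨y, rfl, hy⟩ := hmapcl z hz
          have h1 : _root_.Cfsg.Agent.H450.UF.pi hF 4 y ^ 2 = 1 := by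
            have h3 : y * y = 1 := Subtype.ext hzz
            rw [pow_two, ← map_mul, h3, map_one]
          have h3 : orderOf (_root_.Cfsg.Agent.H450.UF.pi hF 4 y) ∣ 2 := orderOf_dvd_of_pow_eq_one h1
          have h4 : orderOf (_root_.Cfsg.Agent.H450.UF.pi hF 4 y) ∣ (Nat.card (closure ({_root_.Cfsg.Agent.H450.UF.pi hF 4 u, _root_.Cfsg.Agent.H450.UF.pi hF 4 u2} : Set (PSU 4 F q))) :) := by
            have h5 := _root_.orderOf_dvd_natCard (⟨_root_.Cfsg.Agent.H450.UF.pi hF 4 y, hy⟩ : closure ({_root_.Cfsg.Agent.H450.UF.pi hF 4 u, _root_.Cfsg.Agent.H450.UF.pi hF 4 u2} : Set (PSU 4 F q)))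
            rwa [← Subgroup.orderOf_coe] at h5
          have h5 : _root_.Cfsg.Agent.H450.UF.pi hF 4 y = 1 := by
            rcases (Nat.dvd_prime Nat.prime_two).1 h3 with h6 | h6
            · exact orderOf_eq_one_iff.1 h6
            · exfalso
              rw [h6] at h4
              exact (Nat.not_even_iff_odd.2 hodd) (even_iff_two_dvd.2 h4)
          obtain ⟨b, hb⟩ := (pi_eq_one_iff hF (by norm_num) _).1 h5
          have h6 : ∀ v, v ∈ Cfsg.Agent.H353.Phi.negS y.1 ↔ (b + 1) • v = 0 := by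
            intro v
            rw [Cfsg.Agent.H353.Phi.mem_negS, hb, add_smul, one_smul, eq_neg_iff_add_eq_zero]
          by_cases h7 : b + 1 = 0
          · have h8 : Cfsg.Agent.H353.Phi.negS y.1 = ⊤ := by
              rw [eq_top_iff]
              intro v _
              rw [h6, h7, zero_smul]
            rw [h8, finrank_top, hV] at hdim
            omega
          · have h8 : Cfsg.Agent.H353.Phi.negS y.1 = ⊥ := by
              rw [eq_bot_iff]
              intro v hv
              rw [h6] at hv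
              rw [Submodule.mem_bot]
              exact (smul_eq_zero.1 hv).resolve_left h7
            rw [h8, finrank_bot] at hdim
            omega
        · rw [LinearMap.smul_apply, hcc, smul_zero]
        · rw [LinearMap.smul_apply, hcc2, smul_zero]
      exact Subtype.ext (tv_comm hB hB0 hu hu2')
    have hz : ∀ x : PSU 4 F q, x ^ p = 1 → IsPGroup p (zpowers x) := by
      intro x hx
      rw [IsPGroup.iff_card, Nat.card_zpowers]
      rcases (Nat.dvd_prime hpp).1 (orderOf_dvd_of_pow_eq_one hx) with hn | hn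
      · exact ⟨0, by rw [hn, pow_zero]⟩
      · exact ⟨1, by rw [hn, pow_one]⟩
    have h1 := hz (_root_.Cfsg.Agent.H450.UF.pi hF 4 u) (by rw [← map_pow, hSmem u c k hu hcc, map_one])
    have h3 := hz (_root_.Cfsg.Agent.H450.UF.pi hF 4 u2) (by rw [← map_pow, hSmem u2 _ k hu2' hcc2, map_one])
    have hcomm' : _root_.Cfsg.Agent.H450.UF.pi hF 4 u * _root_.Cfsg.Agent.H450.UF.pi hF 4 u2 = _root_.Cfsg.Agent.H450.UF.pi hF 4 u2 * _root_.Cfsg.Agent.H450.UF.pi hF 4 u := by rw [← map_mul, hcomm, map_mul]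
    have h4 : IsPGroup p (zpowers (_root_.Cfsg.Agent.H450.UF.pi hF 4 u) ⊔ zpowers (_root_.Cfsg.Agent.H450.UF.pi hF 4 u2) : Subgroup (PSU 4 F q)) := by
      apply IsPGroup.to_sup_of_normal_left' h1 h3
      rw [zpowers_le, mem_normalizer_iff]
      have key : ∀ z ∈ zpowers (_root_.Cfsg.Agent.H450.UF.pi hF 4 u), _root_.Cfsg.Agent.H450.UF.pi hF 4 u2 * z = z * _root_.Cfsg.Agent.H450.UF.pi hF 4 u2 := by
        intro z hz
        obtain ⟨i, rfl⟩ := mem_zpowers_iff.1 hz
        exact ((show Commute (_root_.Cfsg.Agent.H450.UF.pi hF 4 u2) (_root_.Cfsg.Agent.H450.UF.pi hF 4 u) from hcomm'.symm).zpow_right i).eq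
      intro z
      constructor
      · intro hz
        rw [key z hz, mul_inv_cancel_right]
        exact hz
      · intro hz
        have h5 : _root_.Cfsg.Agent.H450.UF.pi hF 4 u2 * (_root_.Cfsg.Agent.H450.UF.pi hF 4 u2 * z * (_root_.Cfsg.Agent.H450.UF.pi hF 4 u2)⁻¹) = _root_.Cfsg.Agent.H450.UF.pi hF 4 u2 * z := by
          rw [key _ hz, inv_mul_cancel_right]
        rwa [mul_left_cancel h5] at hz
    refine h4.to_le ?_
    rw [closure_le]
    rintro x (rfl | rfl)
    · exact (le_sup_left : zpowers _ ≤ _) (mem_zpowers _)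
    · exact (le_sup_right : zpowers _ ≤ _) (mem_zpowers _)
  -- the normal `p`-subgroup
  obtain ⟨K, hKA, hK1, hKp, hKn, hKnorm, hKmax⟩ := rk_one h (p := p) (by rintro rfl; exact absurd hpodd (by decide))
    htA ht2 hno hex (S := S)
    (by rintro _ ⟨u, c, k, -, -, huH, -, rfl⟩; exact (mem_HA hF A u).1 huH)
    (by
      rintro _ ⟨u, c, k, -, hcc, -, hu, rfl⟩
      exact ⟨1, by rw [pow_one, ← map_pow, hSmem u c k hu hcc, map_one]⟩) htclo hpS
  obtain ⟨L, hLp, hLK, hLn, hLmem⟩ := lift_p (_root_.Cfsg.Agent.H450.UF.pi hF 4) (p := p) (by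
      intro x hx g
      obtain ⟨a, ha⟩ := (pi_eq_one_iff hF (by norm_num) _).1 hx
      apply Subtype.ext
      apply LinearEquiv.ext
      intro v
      rw [Subgroup.coe_mul, Subgroup.coe_mul, LinearEquiv.mul_apply, LinearEquiv.mul_apply, ha, ha, map_smul])
    (by
      intro x hx n hn
      obtain ⟨a, ha⟩ := (pi_eq_one_iff hF (by norm_num) _).1 hx
      have h1 : ∀ (n : ℕ) (v : Fin 4 → F), (x ^ n).1 v = a ^ n • v := by
        intro n
        induction n with
        | zero => intro v; rw [pow_zero, pow_zero, one_smul]; rfl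
        | succ n ih => intro v; rw [pow_succ, Subgroup.coe_mul, LinearEquiv.mul_apply, ih, ha, smul_smul, pow_succ]
      have h3 := h1 (p ^ n) e
      rw [hn] at h3
      have h4 : (a ^ (p ^ n) - 1) • e = 0 := by
        rw [sub_smul, one_smul, ← h3]
        exact sub_self e
      have h5 : a ^ (p ^ n) - 1 = 0 := (smul_eq_zero.1 h4).resolve_right (ne_of e f hef).1
      have h6 : (a - 1) ^ (p ^ n) = 0 := by rw [sub_pow_char_pow, one_pow, h5]
      have h7 : a = 1 := sub_eq_zero.1 (pow_eq_zero_iff (pow_ne_zero n hpp.ne_zero) |>.1 h6)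
      apply Subtype.ext
      apply LinearEquiv.ext
      intro v
      rw [ha, h7, one_smul]
      rfl)
    hKp (by intro k _; exact pi_surjective hF 4 k)
  have hL'1 : L.map (SIso (formB hF 4)).subtype ≠ ⊥ := by
    intro h1
    apply hK1
    rw [← hLK, (Subgroup.map_eq_bot_iff_of_injective _ (SIso (formB hF 4)).subtype_injective).1 h1, Subgroup.map_bot]
  obtain ⟨b, hbP, hb0, hbb, hHb, hLb⟩ := geo hB hV hp0 hPk.le hP hO (L := L.map (SIso (formB hF 4)).subtype)
    (by rintro _ ⟨x, -, rfl⟩; exact x.2) (hLp.map _) hL'1 (by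
      rintro g hg _ ⟨x, hx, rfl⟩
      have hgS := hPk.le hg
      have hgA : _root_.Cfsg.Agent.H450.UF.pi hF 4 ⟨g, hgS⟩ ∈ A := (mem_HA hF A ⟨g, hgS⟩).1 hg
      exact ⟨⟨g, hgS⟩ * x * (⟨g, hgS⟩ : SIso (formB hF 4))⁻¹, (hLn _ (fun k hk => hKn _ hgA k hk) x hx :), rfl⟩)
  have hLQ : L ≤ Qb (formB hF 4) b := fun x hx => hLb x.1 ⟨x, hx, rfl⟩
  have hAb : ∀ g : SIso (formB hF 4), _root_.Cfsg.Agent.H450.UF.pi hF 4 g ∈ A → ∃ c : F, g.1 b = c • b := fun g hg =>
    hHb g.1 ((mem_HA hF A g).2 hg)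
  have hQA : ∀ x ∈ Qb (formB hF 4) b, _root_.Cfsg.Agent.H450.UF.pi hF 4 x ∈ A → x ∈ L := by
    intro x hx hxA
    have hN : (Qb (formB hF 4) b ⊓ A.comap (_root_.Cfsg.Agent.H450.UF.pi hF 4)).map (_root_.Cfsg.Agent.H450.UF.pi hF 4) ≤ K := by
      apply hKmax
      · rintro _ ⟨y, hy, rfl⟩
        exact hy.2
      · rintro ⟨_, y, hy, rfl⟩
        refine ⟨1, Subtype.ext ?_⟩
        rw [pow_one, Subgroup.coe_pow]
        change _root_.Cfsg.Agent.H450.UF.pi hF 4 y ^ p = 1
        rw [← map_pow, Qb_p hB hp0 hpodd hpp hy.1, map_one]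
      · rintro a ha _ ⟨y, hy, rfl⟩
        obtain ⟨a1, rfl⟩ := pi_surjective hF 4 a
        obtain ⟨c, hc⟩ := hAb a1 ha
        refine ⟨a1 * y * a1⁻¹, ⟨Qb_conj hB hb0 hc hy.1, ?_⟩, by rw [map_mul, map_mul, map_inv]⟩
        change _root_.Cfsg.Agent.H450.UF.pi hF 4 (a1 * y * a1⁻¹) ∈ A
        rw [map_mul, map_mul, map_inv]
        exact A.mul_mem (A.mul_mem ha hy.2) (A.inv_mem ha)
    exact hLmem x (hN ⟨x, ⟨hx, hxA⟩, rfl⟩) ⟨1, by rw [pow_one, Qb_p hB hp0 hpodd hpp hx]⟩
  have hKL : ∀ g : SIso (formB hF 4), (∀ y ∈ L, g * y * g⁻¹ ∈ L) → _root_.Cfsg.Agent.H450.UF.pi hF 4 g ∈ A := by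
    intro g hg
    apply hKnorm
    intro k hk
    rw [← hLK] at hk ⊢
    obtain ⟨y, hy, rfl⟩ := hk
    exact ⟨g * y * g⁻¹, hg y hy, by rw [map_mul, map_mul, map_inv]⟩
  have hQL : Qb (formB hF 4) b ≤ L := by
    by_contra hcon
    have hQp : IsPGroup p (Qb (formB hF 4) b) := by
      rintro ⟨g, hg⟩
      exact ⟨1, Subtype.ext (by rw [pow_one]; exact Qb_p hB hp0 hpodd hpp hg)⟩
    have hnil : Group.IsNilpotent (Qb (formB hF 4) b) := hQp.isNilpotent
    have hlt : L.subgroupOf (Qb (formB hF 4) b) < ⊤ := by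
      rw [lt_top_iff_ne_top]
      intro h1
      apply hcon
      rwa [Subgroup.subgroupOf_eq_top] at h1
    obtain ⟨x, hx1, hx2⟩ := SetLike.exists_of_lt (Group.normalizerCondition_of_isNilpotent _ hlt)
    apply hx2
    rw [mem_subgroupOf]
    apply hQA x x.2
    apply hKL
    intro y hy
    have h1 := (mem_normalizer_iff.1 hx1 ⟨y, hLQ hy⟩).1 hy
    exact h1
  have hstab : ∀ g : SIso (formB hF 4), (∃ c : F, g.1 b = c • b) → _root_.Cfsg.Agent.H450.UF.pi hF 4 g ∈ A := by
    rintro g ⟨c, hc⟩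
    apply hKL
    intro y hy
    exact hQL (Qb_conj hB hb0 hc (hLQ hy))
  -- the index
  have hidx : A.index ≤ Nat.card (IPt (formB hF 4)) := by
    rw [← Subgroup.index_comap_of_surjective _ (pi_surjective hF 4)]
    have h1 : MulAction.stabilizer (SIso (formB hF 4)) (ipt hb0 hbb) ≤ A.comap (_root_.Cfsg.Agent.H450.UF.pi hF 4) := by
      intro g hg
      rw [MulAction.mem_stabilizer_iff, smul_ipt_eq_iff] at hg
      exact hstab g hg
    have h3 := Nat.le_of_dvd (Nat.pos_of_ne_zero Subgroup.index_ne_zero_of_finite) (Subgroup.index_dvd_of_le h1)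
    refine h3.trans ?_
    rw [MulAction.index_stabilizer]
    refine (Set.ncard_le_ncard (Set.subset_univ _) (Set.toFinite _)).trans ?_
    rw [Set.ncard_univ]
  have hcard := card_IPt hF hB
  rw [hV, (isoNum_eq q 4).1 (by decide)] at hcard
  -- the transvections with centre `c0`
  obtain ⟨c0, hc0P, hc00, hbc⟩ : ∃ c0 ∈ pp (formB hF 4) P, formB hF 4 c0 c0 = 0 ∧ formB hF 4 c0 b ≠ 0 := by
    by_contra hcon
    push Not at hcon
    have h1 := hcon e' he' hee'
    have h3 := hcon f' hf' hff'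
    apply hb0
    rw [np_basis hB hPp he' hf' hee' hff' hef' hbP, h1, h3, zero_smul, zero_smul, add_zero]
  set! RT : Subgroup (SIso (formB hF 4)) := RTv hc00 with hRT
  have hRTt : RT.map (_root_.Cfsg.Agent.H450.UF.pi hF 4) ≤ centralizer ({_root_.Cfsg.Agent.H450.UF.pi hF 4 tT} : Set (PSU 4 F q)) := by
    rintro _ ⟨u, ⟨k, hk⟩, rfl⟩
    rw [mem_centralizer_iff]
    intro z hz
    rw [Set.mem_singleton_iff.1 hz, ← map_mul, ← map_mul]
    (with_reducible congr 1)
    apply Subtype.ext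
    apply LinearEquiv.ext
    intro x
    change t (u.1 x) = u.1 (t x)
    rw [hk, hk, map_add, map_smul, ht.2 c0 hc0P]
    have h1 := htS.2 c0 x
    rw [ht.2 c0 hc0P] at h1
    rw [h1]
  have hRTc : q ≤ Nat.card RT := card_RTv hF hB hc00 (by
    rintro rfl
    rw [map_zero, LinearMap.zero_apply] at hbc
    exact hbc rfl)
  have hRTr : A.relIndex (RT.map (_root_.Cfsg.Agent.H450.UF.pi hF 4)) = Nat.card RT := by
    rw [← Subgroup.relIndex_comap, ← Subgroup.inf_relIndex_right]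
    have h1 : A.comap (_root_.Cfsg.Agent.H450.UF.pi hF 4) ⊓ RT = ⊥ := by
      rw [Subgroup.eq_bot_iff_forall]
      rintro u ⟨huA, k, hk⟩
      obtain ⟨c, hc⟩ := hAb u huA
      have h3 : k = 0 := by
        have h4 := hk b
        rw [hc] at h4
        have h5 : formB hF 4 c0 (c • b) = formB hF 4 c0 b := by
          rw [h4, map_add, map_smul, hc00, smul_zero, add_zero]
        rw [map_smul, smul_eq_mul] at h5
        have h6 : c = 1 := mul_right_cancel₀ hbc (by rw [h5, one_mul])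
        rw [h6, one_smul, left_eq_add, smul_eq_zero] at h4
        rcases h4 with h4 | h4
        · exact (mul_eq_zero.1 h4).resolve_right hbc
        · rw [h4, map_zero, LinearMap.zero_apply] at hbc
          exact absurd rfl hbc
      apply Subtype.ext
      apply LinearEquiv.ext
      intro x
      rw [hk x, h3, zero_mul, zero_smul, add_zero]
      rfl
    rw [h1, Subgroup.relIndex_bot_left]
  have hna : ∃ a b : PSU 4 F q, a * b ≠ b * a := by
    by_contra hcon
    push Not at hcon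
    have hn : A.Normal := ⟨fun a ha g => by rw [hcon g a, mul_inv_cancel_right]; exact ha⟩
    rcases hn.eq_bot_or_eq_top with h1 | h1
    · exact h.ne_bot h1
    · exact h.ne_top h1
  have hfin6 := ((Cfsg.Agent.H999.IFB.IF.E2' h hna htA ht2).2.2.2.2 _ hRTt).2
  rw [hRTr] at hfin6
  have hq6 : q ^ 6 ≤ Nat.card RT ^ 6 := Nat.pow_le_pow_left hRTc 6
  have h7 : q ^ 6 < Nat.card (IPt (formB hF 4)) := lt_of_le_of_lt hq6 (lt_of_lt_of_le hfin6 hidx)
  have hq1 : 1 < q := by
    by_contra hcon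
    have h1 : 1 < Fintype.card F := Fintype.one_lt_card
    rw [hF] at h1
    interval_cases q <;> omega
  obtain ⟨r, rfl⟩ : ∃ r, q = r + 2 := ⟨q - 2, by omega⟩
  have h8 : (r + 2) ^ 4 - 1 = ((r + 2) ^ 2 - 1) * ((r + 2) ^ 2 + 1) := by
    have h9 : (r + 2) ^ 2 - 1 = r ^ 2 + 4 * r + 3 := by
      have : (r + 2) ^ 2 = r ^ 2 + 4 * r + 4 := by ring
      omega
    have h10 : (r + 2) ^ 4 = (r ^ 2 + 4 * r + 3) * ((r + 2) ^ 2 + 1) + 1 := by ring
    rw [h9, h10, Nat.add_sub_cancel]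
  rw [h8] at hcard
  have h9 : Nat.card (IPt (formB hF 4)) = ((r + 2) ^ 2 + 1) * ((r + 2) ^ 3 + 1) := by
    have h10 : 0 < (r + 2) ^ 2 - 1 := by
      have : (r + 2) ^ 2 = r ^ 2 + 4 * r + 4 := by ring
      omega
    apply Nat.eq_of_mul_eq_mul_right h10
    rw [hcard]
    ring
  rw [h9] at h7
  have h11 : ((r + 2) ^ 2 + 1) * ((r + 2) ^ 3 + 1) ≤ (r + 2) ^ 6 := by
    linarith only [Nat.zero_le (r ^ 3), Nat.zero_le (r ^ 4), Nat.zero_le (r ^ 5), Nat.zero_le (r ^ 6), _root_.sq_nonneg (↑r : ℤ), _root_.Nat.cast_nonneg (α := ℤ) (r)]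
  omega

/-- **W7**: the rank one case -/
theorem rank_one (hF : Fintype.card F = q ^ 2) [hs : IsSimpleGroup (PSU 4 F q)] {A : Subgroup (PSU 4 F q)}
    {Γ : Subgroup (MulAut (PSU 4 F q))} (h : IF A Γ) (hq : Odd q) (hC : StepC (formB hF 4) (HA hF A))
    (hno : ∀ s ∈ A, ∀ t ∈ A, orderOf s = 2 → orderOf t = 2 → s * t = t * s → s = t)
    {P : Submodule F (Fin 4 → F)} (hP : NP (formB hF 4) P)
    {t : (Fin 4 → F) ≃ₗ[F] (Fin 4 → F)} (ht : Neg (formB hF 4) t P) (htH : t ∈ HA hF A) : False := by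
  have hB := hform hF 4
  have hV : finrank F (Fin 4 → F) = 4 := by rw [finrank_fin_fun]
  have hPk := Cfsg.Agent.H847.IF.pk_of_IF hF h
  rcases hC P t hP ht htH with hO | hO
  · exact rank_one_on hF h hq hno hP hO ht htH
  · let ν : (Fin 4 → F) ≃ₗ[F] (Fin 4 → F) := LinearEquiv.neg F
    have hν : ∀ v, ν v = -v := fun v => rfl
    have hνS : ν ∈ SIso (formB hF 4) := by
      refine ⟨?_, fun x y => ?_⟩
      · apply Units.ext
        rw [LinearEquiv.coe_det, Units.val_one]
        have h1 : (ν : (Fin 4 → F) →ₗ[F] (Fin 4 → F)) = (-1 : F) • LinearMap.id := by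
          apply LinearMap.ext
          intro v
          change -v = (-1 : F) • v
          rw [neg_one_smul]
        rw [h1, LinearMap.det_smul, hV, LinearMap.det_id]
        ring
      · rw [hν, hν, map_neg, map_neg, LinearMap.neg_apply, neg_neg]
    have hνH : ν ∈ HA hF A := hPk.sc ν hνS ⟨-1, fun v => by rw [hν, neg_one_smul]⟩
    refine rank_one_on hF h hq hno (np_pp hB hV hP) hO (t := ν * t) ⟨?_, ?_⟩ (mul_mem hνH htH)
    · intro x hx
      rw [LinearEquiv.mul_apply, ht.2 x hx, hν]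
    · intro u hu
      rw [LinearEquiv.mul_apply, ht.1 u (pp_pp hB hV hP hu), hν, neg_neg]

end

end Cfsg.Agent.H838.IF
end

-- part: H411/IFU/Cls
section
/-!
# S5719, `PSU_4(q)`: W1b `cls_pt`, W1c `cls_ti` (helper411)

Numbers of conjugates of elements which are scalar on a nondegenerate point and its orthogonal space, or on two
complementary totally isotropic planes.
-/

set_option autoImplicit false
set_option linter.unusedSectionVars false

namespace Cfsg.Agent.H411.IFU

open Module Subgroup Cfsg Cfsg.Agent.H91.U Cfsg.Agent.H450.UF Cfsg.Agent.H450.Bs Cfsg.Agent.H209.Fxy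
open Cfsg.Agent.LieClassical.HermBasic
open Cfsg.Agent.H838.IF (cls)
open Cfsg.Agent.H950 (isoNum)
open scoped LinearAlgebra.Projectivization

section

variable {F V : Type*} [Field F] [Fintype F] [AddCommGroup V] [Module F V] [FiniteDimensional F V] {σ : F →+* F}
  {B : V →ₛₗ[σ] V →ₗ[F] F} {q : ℕ}

/-- **W1b** -/
theorem cls_pt (hB : HForm B) (hF : Fintype.card F = q ^ 2) (hV : finrank F V = 4) {v : V} (hv : B v v ≠ 0)
    {t : V ≃ₗ[F] V} {a b : F} (h1 : t v = a • v) (h2 : ∀ u, B v u = 0 → t u = b • u) :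
    cls B t ≤ (q ^ 4 + 1) * (q ^ 2 + 1) := by
  classical
  have hfV : Finite V := Module.finite_of_finite F
  have hv0 : v ≠ 0 := by
    rintro rfl
    rw [map_zero] at hv
    exact hv rfl
  have hcard : Nat.card (ℙ F V) = (q ^ 4 + 1) * (q ^ 2 + 1) := by
    rw [Projectivization.card_of_finrank F V hV, Nat.card_eq_fintype_card, hF]
    simp only [Finset.sum_range_succ, Finset.sum_range_zero]
    ring
  have key : ∀ g g' : V ≃ₗ[F] V, g ∈ SIso B → g' ∈ SIso B → ∀ c : F, c • g' v = g v →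
      g * t * g⁻¹ = g' * t * g'⁻¹ := by
    intro g g' hg hg' c hc
    have hc0 : c ≠ 0 := by
      rintro rfl
      rw [zero_smul] at hc
      exact hv0 ((g.map_eq_zero_iff).1 hc.symm)
    apply LinearEquiv.ext
    intro x
    show g (t (g⁻¹ x)) = g' (t (g'⁻¹ x))
    obtain ⟨y, rfl⟩ : ∃ y, g y = x := ⟨g⁻¹ x, g.apply_symm_apply x⟩
    have e1 : g⁻¹ (g y) = y := g.symm_apply_apply y
    rw [e1]
    obtain ⟨α, u, hu', rfl⟩ : ∃ (α : F) (u : V), B v u = 0 ∧ y = α • v + u := by
      refine ⟨B v y / B v v, y - (B v y / B v v) • v, ?_, by abel⟩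
      rw [map_sub, smul_right, div_mul_cancel₀ _ hv, sub_self]
    have e2 : g'⁻¹ (g v) = c • v := by
      rw [← hc, map_smul]
      congr 1
      exact g'.symm_apply_apply v
    have e3 : g' (g'⁻¹ (g u)) = g u := g'.apply_symm_apply _
    have e4 : B v (g'⁻¹ (g u)) = 0 := by
      have h3 : B (g v) (g u) = 0 := by rw [hg.2, hu']
      rw [← hc, smul_left, ← e3, hg'.2] at h3
      exact (mul_eq_zero.1 h3).resolve_left (sig_ne_zero hc0)
    rw [map_add g, map_add g'⁻¹, map_smul g, map_smul g'⁻¹, e2, map_add t, map_smul t, h1, h2 u hu', map_add t,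
      map_smul t, map_smul t, h1, h2 _ e4, map_add g, map_add g', map_smul, map_smul, map_smul, map_smul, map_smul,
      map_smul, map_smul, e3, ← hc, smul_comm c a, smul_smul]
  have hfc : Finite (ℙ F V) := inferInstance
  unfold cls
  rw [← hcard, ← Nat.card_coe_set_eq]
  choose g hg hgs using fun s : {s : V ≃ₗ[F] V | ∃ g ∈ SIso B, s = g * t * g⁻¹} => s.2
  refine Nat.card_le_card_of_injective (fun s => Projectivization.mk F (g s v) (by
    rw [Ne, LinearEquiv.map_eq_zero_iff]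
    exact hv0)) ?_
  intro s s' hss
  have h3 := (Projectivization.mk_eq_mk_iff' F _ _ _ _).1 hss
  obtain ⟨c, hc⟩ := h3
  apply Subtype.ext
  rw [hgs s, hgs s']
  exact key _ _ (hg s) (hg s') c hc

/-- the number of totally isotropic planes -/
theorem card_ti (hB : HForm B) (hF : Fintype.card F = q ^ 2) (hV : finrank F V = 4) :
    Nat.card {U : Submodule F V // TI B U ∧ finrank F U = 2} = (q + 1) * (q ^ 3 + 1) := by
  classical
  obtain ⟨φ, hφ⟩ := exists_model hF hB
  have h1 : Nat.card {U : Submodule F V // TI B U ∧ finrank F U = 2} =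
      Nat.card {W : Submodule F (Fin (finrank F V) → F) // finrank F W = 2 ∧
        (∀ u ∈ W, ∀ v ∈ W, hermForm (finrank F V) F q u v = 0)} := by
    refine Nat.card_congr (Equiv.subtypeEquiv (Submodule.orderIsoMapComap φ).toEquiv fun U => ?_)
    have h3 : (Submodule.orderIsoMapComap φ).toEquiv U = U.map (φ : V →ₗ[F] _) := rfl
    rw [h3, LinearEquiv.finrank_map_eq φ U, and_comm]
    refine and_congr Iff.rfl ?_
    constructor
    · rintro h _ ⟨x, hx, rfl⟩ _ ⟨y, hy, rfl⟩
      exact (hφ y x).symm.trans (h y hy x hx)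
    · intro h x hx y hy
      rw [hφ]
      exact h _ ⟨y, hy, rfl⟩ _ ⟨x, hx, rfl⟩
  have h2 := Cfsg.Agent.H950.card_ti_eq (n := finrank F V) hF (k := 2) (by omega)
  rw [← h1, hV] at h2
  simp only [Finset.prod_range_succ, Finset.prod_range_zero, one_mul] at h2
  have hq := two_le hF
  have e1 : isoNum q 4 = (q ^ 4 - 1) * (q ^ 3 + 1) := by
    unfold isoNum
    rw [if_pos (by decide)]
  have e2 : isoNum q 2 = (q ^ 2 - 1) * (q + 1) := by
    unfold isoNum
    rw [if_pos (by decide)]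
    norm_num
  rw [Nat.sub_zero, show 2 - 1 = 1 from rfl, pow_one, ← pow_mul, mul_zero, Nat.sub_zero, e1,
    e2] at h2
  have h4 : 0 < (q ^ 4 - 1) * (q ^ 2 - 1) := by
    have h5 : 1 < q ^ 2 := Nat.one_lt_pow (by norm_num) (by omega)
    have h6 : 1 < q ^ 4 := Nat.one_lt_pow (by norm_num) (by omega)
    exact Nat.mul_pos (by omega) (by omega)
  refine Nat.eq_of_mul_eq_mul_right h4 ?_
  rw [show 2 * 2 = 4 from rfl] at h2
  rw [h2]
  ring

/-- **W1c** -/
theorem cls_ti (hB : HForm B) (hF : Fintype.card F = q ^ 2) (hV : finrank F V = 4) {U U' : Submodule F V}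
    (hU : TI B U) (hU' : TI B U') (h2 : finrank F U = 2) (h2' : finrank F U' = 2) (hc : IsCompl U U')
    {t : V ≃ₗ[F] V} {a b : F} (h1 : ∀ u ∈ U, t u = a • u) (h1' : ∀ u ∈ U', t u = b • u) :
    cls B t ≤ ((q + 1) * (q ^ 3 + 1)) ^ 2 := by
  classical
  have hfV : Finite V := Module.finite_of_finite F
  have key : ∀ g g' : V ≃ₗ[F] V, U.map (g : V →ₗ[F] V) = U.map (g' : V →ₗ[F] V) →
      U'.map (g : V →ₗ[F] V) = U'.map (g' : V →ₗ[F] V) → g * t * g⁻¹ = g' * t * g'⁻¹ := by
    intro g g' hg hg'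
    apply LinearEquiv.ext
    intro x
    show g (t (g⁻¹ x)) = g' (t (g'⁻¹ x))
    obtain ⟨y, rfl⟩ : ∃ y, g y = x := ⟨g⁻¹ x, g.apply_symm_apply x⟩
    have e1 : g⁻¹ (g y) = y := g.symm_apply_apply y
    rw [e1]
    obtain ⟨u, hu, u', hu', rfl⟩ : ∃ u ∈ U, ∃ u' ∈ U', u + u' = y := by
      have h3 : y ∈ U ⊔ U' := by rw [hc.sup_eq_top]; exact Submodule.mem_top
      exact Submodule.mem_sup.1 h3
    obtain ⟨w, hw, hwu⟩ : g u ∈ U.map (g' : V →ₗ[F] V) := by rw [← hg]; exact ⟨u, hu, rfl⟩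
    obtain ⟨w', hw', hwu'⟩ : g u' ∈ U'.map (g' : V →ₗ[F] V) := by rw [← hg']; exact ⟨u', hu', rfl⟩
    have hwu1 : g' w = g u := hwu
    have hwu1' : g' w' = g u' := hwu'
    have e2 : g'⁻¹ (g u) = w := by rw [← hwu1]; exact g'.symm_apply_apply w
    have e2' : g'⁻¹ (g u') = w' := by rw [← hwu1']; exact g'.symm_apply_apply w'
    rw [map_add g, map_add g'⁻¹, e2, e2', map_add t, map_add t, h1 u hu, h1' u' hu', h1 w hw, h1' w' hw', map_add g,
      map_add g', map_smul, map_smul, map_smul, map_smul, hwu1, hwu1']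
  have hTI : ∀ (W : Submodule F V), TI B W → ∀ g ∈ SIso B, TI B (W.map (g : V →ₗ[F] V)) := by
    rintro W hW g hg _ ⟨x, hx, rfl⟩ _ ⟨y, hy, rfl⟩
    show B (g x) (g y) = 0
    rw [hg.2]
    exact hW x hx y hy
  have hfr : ∀ (W : Submodule F V) (g : V ≃ₗ[F] V), finrank F (W.map (g : V →ₗ[F] V)) = finrank F W :=
    fun W g => LinearEquiv.finrank_map_eq g W
  have hfS : Finite (Submodule F V) := inferInstance
  unfold cls
  rw [← card_ti hB hF hV, ← Nat.card_coe_set_eq, pow_two, ← Nat.card_prod]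
  choose g hg hgs using fun s : {s : V ≃ₗ[F] V | ∃ g ∈ SIso B, s = g * t * g⁻¹} => s.2
  refine Nat.card_le_card_of_injective (fun s => ((⟨U.map (g s : V →ₗ[F] V), hTI U hU _ (hg s), by
    rw [hfr, h2]⟩, ⟨U'.map (g s : V →ₗ[F] V), hTI U' hU' _ (hg s), by rw [hfr, h2']⟩) :
      {U : Submodule F V // TI B U ∧ finrank F U = 2} × {U : Submodule F V // TI B U ∧ finrank F U = 2})) ?_
  intro s s' hss
  apply Subtype.ext
  rw [hgs s, hgs s']
  exact key _ _ (congrArg (fun p => p.1.1) hss) (congrArg (fun p => p.2.1) hss)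

end

end Cfsg.Agent.H411.IFU
end
end

-- part: H132/IFG/Final1
section
prune_inst 0x4044010610000000000040586010000855d0005900020880000040a400200e12a05022140048000000828200000000028100000a00040000004000400000004010888000021000008800000000000000000000000000000000000000000000004200000000
set_option linter.all false
open scoped Cfsg.Agent.FastGrp

-- part: H132/IFG/StepA
section
/-!
# S5719, cell `g2`, `q` odd, step 1: `K 1 ≤ A` or `K 4 ≤ A`
-/

set_option autoImplicit false
set_option linter.unusedSectionVars false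

namespace Cfsg.Agent.H132.IFG

open Subgroup Cfsg Cfsg.Agent.H16.BR Cfsg.Agent.H215.IFM
open Cfsg.Agent.Cit.HexBase Cfsg.Agent.Lib.SL2Mat

theorem idx_of_dvd {G : Type*} [Group G] [Finite G] (hG : IsQuasisimple G) {B : ℕ}
    (hB : ¬ Nat.card (G ⧸ center G) ∣ B.factorial) {M : Subgroup G} (hM : M ≠ ⊤) : B < M.index := by
  refine idx_of_quot hG (fun H hH => ?_) hM
  have hs : IsSimpleGroup (G ⧸ center G) := hG.2
  by_contra hlt
  push Not at hlt
  have h1 : Function.Injective (MulAction.toPermHom (G ⧸ center G) ((G ⧸ center G) ⧸ H)) := by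
    rw [← MonoidHom.ker_eq_bot_iff, ← Subgroup.normalCore_eq_ker]
    rcases hs.eq_bot_or_eq_top_of_normal H.normalCore inferInstance with h | h
    · exact h
    · exact absurd (top_le_iff.1 (h ▸ Subgroup.normalCore_le H)) hH
  have h2 := Subgroup.card_dvd_of_injective _ h1
  have : Fintype ((G ⧸ center G) ⧸ H) := Fintype.ofFinite _
  rw [Nat.card_perm] at h2
  exact hB (h2.trans (Nat.factorial_dvd_factorial hlt))

/-- a lower bound for the indices of proper subgroups of `SL₂(q)` -/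
def mq (q : ℕ) : ℕ := if 12 ≤ q then q + 1 else if q = 9 then 6 else q

theorem min_mq {F : Type*} [Field F] [Fintype F] (h5 : 5 ≤ Fintype.card F) (hodd : Odd (Fintype.card F))
    (R : Subgroup (Matrix.SpecialLinearGroup (Fin 2) F)) (hR : R ≠ ⊤) : mq (Fintype.card F) ≤ R.index := by
  by_cases h12 : 12 ≤ Fintype.card F
  · rw [mq, if_pos h12]
    exact idx_sl_two h12 hR
  have hc := card_psl2 (H215.IFM.two_ne hodd)
  have key : ∀ B : ℕ, ¬ Nat.card (Matrix.ProjectiveSpecialLinearGroup (Fin 2) F) ∣ B.factorial → B + 1 ≤ R.index :=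
    fun B hB => idx_of_dvd (quasi_sl_two (by omega)) hB hR
  have h6 : Fintype.card F = 5 ∨ Fintype.card F = 7 ∨ Fintype.card F = 9 ∨ Fintype.card F = 11 := by
    obtain ⟨k, hk⟩ := hodd
    omega
  rcases h6 with h6 | h6 | h6 | h6
  · rw [h6] at hc ⊢
    refine key 4 ?_
    have : Nat.card (Matrix.ProjectiveSpecialLinearGroup (Fin 2) F) = 60 := by omega
    rw [this]
    norm_num [Nat.factorial]
  · rw [h6] at hc ⊢
    refine key 6 ?_
    have : Nat.card (Matrix.ProjectiveSpecialLinearGroup (Fin 2) F) = 168 := by omega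
    rw [this]
    norm_num [Nat.factorial]
  · rw [h6] at hc ⊢
    refine key 5 ?_
    have : Nat.card (Matrix.ProjectiveSpecialLinearGroup (Fin 2) F) = 360 := by omega
    rw [this]
    norm_num [Nat.factorial]
  · rw [h6] at hc ⊢
    refine key 10 ?_
    have : Nat.card (Matrix.ProjectiveSpecialLinearGroup (Fin 2) F) = 660 := by omega
    rw [this]
    norm_num [Nat.factorial]

theorem mq_num {q : ℕ} (h5 : 5 ≤ q) (hodd : Odd q) :
    q ^ 4 * (q ^ 4 + q ^ 2 + 1) ≤ (mq q * mq q) ^ 5 ∧ 2 * (mq q * mq q) ≤ q * (q ^ 2 - 1) := by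
  by_cases h12 : 12 ≤ q
  · rw [mq, if_pos h12]
    constructor
    · have e : ((q + 1) * (q + 1)) ^ 5 = q ^ 4 * (q ^ 4 + q ^ 2 + 1) + (q ^ 10 + 10 * q ^ 9 + 44 * q ^ 8 +
          120 * q ^ 7 + 209 * q ^ 6 + 252 * q ^ 5 + 209 * q ^ 4 + 120 * q ^ 3 + 45 * q ^ 2 + 10 * q + 1) := by ring
      omega
    · obtain ⟨k, rfl⟩ : ∃ k, q = k + 12 := ⟨q - 12, by omega⟩
      have e : (k + 12) ^ 2 - 1 = k ^ 2 + 24 * k + 143 := by
        have : (k + 12) ^ 2 = k ^ 2 + 24 * k + 143 + 1 := by ring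
        omega
      rw [e]
      nlinarith only []
  have h6 : q = 5 ∨ q = 7 ∨ q = 9 ∨ q = 11 := by
    obtain ⟨k, hk⟩ := hodd
    omega
  rcases h6 with rfl | rfl | rfl | rfl <;> norm_num only [mq, _root_.ite_false, _root_.and_self, _root_.ite_true]

section hex

variable {E : Type*} [Field E] {L : Type*} [Group L] (c : HexGrp (RingEquiv.refl E) L)

/-- the fixed field of the identity -/
def fxE : ↥(fx (RingEquiv.refl E)) ≃+* E where
  toFun x := x
  invFun x := ⟨x, rfl⟩
  left_inv _ := rfl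
  right_inv _ := rfl
  map_mul' _ _ := rfl
  map_add' _ _ := rfl

theorem card_fx [Fintype E] [Fintype ↥(fx (RingEquiv.refl E))] :
    Fintype.card ↥(fx (RingEquiv.refl E)) = Fintype.card E := Fintype.card_congr fxE.toEquiv

/-- `SL₂ × SL₂ → K 1 K 4` -/
def ph : SL2 E × SL2 ↥(fx (RingEquiv.refl E)) →* L :=
  MonoidHom.noncommCoprod c.pb c.p4 fun x y => c.comm_pb_p4 x y

theorem ph_apply (x : SL2 E) (y : SL2 ↥(fx (RingEquiv.refl E))) : ph c (x, y) = c.pb x * c.p4 y := rfl

theorem ph_range_le : (ph c).range ≤ centralizer {c.z} := by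
  rintro _ ⟨⟨x, y⟩, rfl⟩
  rw [mem_centralizer_singleton_iff, ph_apply]
  rw [mul_assoc, ← c.z_p4 y, ← mul_assoc, ← c.z_pb x, mul_assoc]

/-- **Step 1** -/
theorem step1 [Fintype E] [Finite L] (h5 : 5 ≤ Fintype.card E) (hodd : Odd (Fintype.card E)) {A : Subgroup L}
    (hb : A.relIndex (centralizer {c.z}) ^ 5 < Fintype.card E ^ 4 * (Fintype.card E ^ 4 + Fintype.card E ^ 2 + 1)) :
    (∀ x, c.pb x ∈ A) ∨ (∀ y, c.p4 y ∈ A) := by
  classical
  have : Fintype ↥(fx (RingEquiv.refl E)) := Fintype.ofFinite _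
  have hcf : Fintype.card ↥(fx (RingEquiv.refl E)) = Fintype.card E := card_fx
  obtain ⟨hn1, hn2⟩ := mq_num h5 hodd
  by_contra hcon
  push Not at hcon
  obtain ⟨⟨x, hx⟩, ⟨y, hy⟩⟩ := hcon
  have h1 := two_factors (m := mq (Fintype.card E)) (c := mq (Fintype.card E) * mq (Fintype.card E))
    (b := mq (Fintype.card E) * mq (Fintype.card E)) (min_mq h5 hodd)
    (fun R hR => by
      have := min_mq (F := ↥(fx (RingEquiv.refl E))) (by rwa [hcf]) (by rwa [hcf]) R hR
      rwa [hcf] at this)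
    (fun N hN hne => by
      have := norm_sl2 (F := ↥(fx (RingEquiv.refl E))) (by rwa [hcf]) (by rwa [hcf]) N hN hne
      rw [hcf] at this
      omega) (A.comap (ph c)) le_rfl le_rfl
    (fun h => hx (by
      have h1 : x ∈ (A.comap (ph c)).comap (MonoidHom.inl _ _) := by rw [h]; exact mem_top _
      have h2 : ph c (x, 1) ∈ A := h1
      rwa [ph_apply, map_one, mul_one] at h2))
    (fun h => hy (by
      have h1 : y ∈ (A.comap (ph c)).comap (MonoidHom.inr _ _) := by rw [h]; exact mem_top _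
      have h2 : ph c (1, y) ∈ A := h1
      rwa [ph_apply, map_one, one_mul] at h2))
  rw [Subgroup.index_comap] at h1
  have h2 : A.relIndex (ph c).range ≤ A.relIndex (centralizer {c.z}) :=
    Subgroup.relIndex_le_of_le_right (ph_range_le c) Subgroup.index_ne_zero_of_finite
  have h3 := Nat.pow_le_pow_left (h1.trans h2) 5
  omega

end hex

end Cfsg.Agent.H132.IFG
end

-- part: H132/IF/Parab
section
/-!
# S5719: a local subgroup `A` of a Chevalley group is parabolic (Borel–Tits)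

* `op p A` : `O_p(A)` as a subgroup of `T`; `op_inv`, `op_norm`, `le_op`;
* `parab` : `IF A Γ`, `T` a Chevalley group in characteristic `p`, `O_p(A) ≠ 1` ⟹ `A` is parabolic.
-/

set_option autoImplicit false
set_option linter.unusedSectionVars false

namespace Cfsg.Agent.H132.IF

open MulAction Subgroup Cfsg Cfsg.Agent.H209.Fxy

section

variable {T : Type*} [Group T] [Finite T] {A : Subgroup T} {Γ : Subgroup (MulAut T)}

/-- `O_p(A)` as a subgroup of `T` -/
def op (p : ℕ) (A : Subgroup T) : Subgroup T := (pCore p ↥A).map A.subtype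

theorem op_le (p : ℕ) : op p A ≤ A := Subgroup.map_subtype_le _

theorem op_isPGroup (p : ℕ) : IsPGroup p ↥(op p A) := (Lib.Cores.pCore_isPGroup p).map _

theorem op_conj (p : ℕ) {a k : T} (ha : a ∈ A) (hk : k ∈ op p A) : a * k * a⁻¹ ∈ op p A := by
  obtain ⟨x, hx, rfl⟩ := hk
  have h1 : (pCore p ↥A).Normal := Lib.Cores.pCore_normal p
  exact ⟨(⟨a, ha⟩ * x * ⟨a, ha⟩⁻¹ :), h1.conj_mem x hx ⟨a, ha⟩, rfl⟩

theorem le_op {p : ℕ} {R : Subgroup T} (hR : IsPGroup p ↥R) (hRA : R ≤ A)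
    (hn : ∀ a ∈ A, ∀ r ∈ R, a * r * a⁻¹ ∈ R) : R ≤ op p A := by
  have h1 : (R.subgroupOf A).Normal := ⟨fun x hx g => hn g g.2 x hx⟩
  have h2 : IsPGroup p ↥(R.subgroupOf A) := hR.comap_of_injective A.subtype A.subtype_injective
  intro x hx
  exact ⟨⟨x, hRA hx⟩, Lib.Cores.le_pCore h1 h2 hx, rfl⟩

/-- the automorphism of `A` induced by `σ ∈ Γ` -/
theorem exists_res (h : IF A Γ) {σ : MulAut T} (hσ : σ ∈ Γ) : ∃ e : ↥A ≃* ↥A, ∀ a : ↥A, ((e a : ↥A) : T) = σ a := by
  refine ⟨⟨⟨fun a => ⟨σ a, (h.inv σ hσ a).2 a.2⟩, fun a => ⟨σ⁻¹ a, ?_⟩, ?_, ?_⟩, ?_⟩, fun a => rfl⟩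
  · exact (h.inv σ⁻¹ (Γ.inv_mem hσ) a).2 a.2
  · intro a
    apply Subtype.ext
    exact MulAut.inv_apply_self T σ a
  · intro a
    apply Subtype.ext
    exact MulAut.apply_inv_self T σ a
  · intro a b
    apply Subtype.ext
    exact map_mul σ (a : T) b

/-- characteristic subgroups of `A` are `Γ`-invariant -/
theorem char_inv (h : IF A Γ) (C : Subgroup ↥A) [hC : C.Characteristic] :
    ∀ σ ∈ Γ, ∀ k ∈ C.map A.subtype, σ k ∈ C.map A.subtype := by
  rintro σ hσ _ ⟨x, hx, rfl⟩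
  obtain ⟨e, he⟩ := exists_res h hσ
  refine ⟨e x, ?_, he x⟩
  have h1 := hC.fixed e
  rw [← h1] at hx
  exact hx

theorem op_inv (h : IF A Γ) (p : ℕ) : ∀ σ ∈ Γ, ∀ k ∈ op p A, σ k ∈ op p A := by
  have : (pCore p ↥A).Characteristic := Lib.Cores.pCore_characteristic p
  exact char_inv h (pCore p ↥A)

end

section

open Cfsg.Lie

variable {F : Type*} [Field F] [Fintype F] (p : ℕ) [Fact p.Prime] [CharP F p] (D : ChevalleyDatum)

/-- **Borel–Tits for counterexamples**: if `O_p(A) ≠ 1`, then `A` is a parabolic subgroup. -/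
theorem parab (hD : D ∈ [chevG2, chevB2, chevD4, chevF4, chevE6, chevE7, chevE8])
    [IsSimpleGroup ↥(D.group F)] {A : Subgroup ↥(D.group F)} {Γ : Subgroup (MulAut ↥(D.group F))} (h : IF A Γ)
    (hne : op p A ≠ ⊥) : ∃ g ∈ D.group F, ∃ J : Set ℕ, (∃ i, i < D.rank ∧ i ∉ J) ∧
      A = ((D.parabolicSubgroup F J).map (MulAut.conj g).toMonoidHom).subgroupOf (D.group F) := by
  classical
  have hfin : Finite ↥(D.group F) := inferInstance
  set R := op p A with hR
  set U : Subgroup (GL D.Idx F) := R.map (D.group F).subtype with hU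
  have hUG : U ≤ D.group F := by
    rintro _ ⟨x, -, rfl⟩
    exact x.2
  have hUp : IsPGroup p ↥U := (op_isPGroup p).map _
  have hUne : U ≠ ⊥ := by
    intro h1
    exact hne ((Subgroup.map_eq_bot_iff_of_injective R (D.group F).subtype_injective).1 h1)
  obtain ⟨g, hg, J, hJ, hN, hUV⟩ := S2154.result p D hD U hUG hUp hUne
  refine ⟨g, hg, J, hJ, ?_⟩
  set P := (D.parabolicSubgroup F J).map (MulAut.conj g).toMonoidHom with hP
  set V := (D.unipotentRadical F J).map (MulAut.conj g).toMonoidHom with hV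
  obtain ⟨hPV, hsup, -⟩ := S1048.result (F := F) D hD J
  have hVP0 : D.unipotentRadical F J ≤ D.parabolicSubgroup F J := by rw [← hsup]; exact le_sup_left
  have hVP : V ≤ P := Subgroup.map_mono hVP0
  have hVp : IsPGroup p ↥V := (S2155.isPGroup p D hD J).map _
  have hPnV : ∀ x ∈ P, ∀ v ∈ V, x * v * x⁻¹ ∈ V := by
    rintro _ ⟨x, hx, rfl⟩ _ ⟨v, hv, rfl⟩
    refine ⟨x * v * x⁻¹, (mem_normalizer_iff.1 (hPV hx) v).1 hv, ?_⟩
    simp only [MulEquiv.coe_toMonoidHom, map_mul, map_inv]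
  -- `A ≤ P`
  have hAP : ∀ a ∈ A, (a : GL D.Idx F) ∈ P := by
    intro a ha
    apply hN
    refine ⟨?_, a.2⟩
    refine mem_normalizer_iff.2 ?_
    intro x
    constructor
    · rintro ⟨r, hr, rfl⟩
      exact ⟨a * r * a⁻¹, op_conj p ha hr, rfl⟩
    · rintro ⟨r, hr, he⟩
      refine ⟨a⁻¹ * r * a⁻¹⁻¹, op_conj p (A.inv_mem ha) hr, ?_⟩
      have h2 : (r : GL D.Idx F) = a * x * (a : GL D.Idx F)⁻¹ := he
      change ((a : GL D.Idx F))⁻¹ * (r : GL D.Idx F) * ((a : GL D.Idx F))⁻¹⁻¹ = x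
      rw [h2]
      group
  -- `V ∩ A = R`
  set W : Subgroup ↥(D.group F) := V.subgroupOf (D.group F) with hW
  have hRW : R ≤ W := fun r hr => hUV ⟨r, hr, rfl⟩
  have hWA : W ⊓ A ≤ R := by
    apply le_op
    · have h1 : IsPGroup p ↥W := hVp.comap_of_injective (D.group F).subtype (D.group F).subtype_injective
      exact h1.to_le inf_le_left
    · exact inf_le_right
    · rintro a ha r ⟨hr, hrA⟩
      exact ⟨hPnV a (hAP a ha) r hr, A.mul_mem (A.mul_mem ha hrA) (A.inv_mem ha)⟩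
  have hRA : R ≤ A := op_le p
  have hinv := op_inv h p
  -- `R = W`
  have hRW' : R = W := by
    by_contra hcon
    have hWp : IsPGroup p ↥W := hVp.comap_of_injective (D.group F).subtype (D.group F).subtype_injective
    have hnil : Group.IsNilpotent ↥W := hWp.isNilpotent
    have hlt : R.subgroupOf W < ⊤ := by
      rw [lt_top_iff_ne_top]
      intro h1
      exact hcon (le_antisymm hRW (Subgroup.subgroupOf_eq_top.1 h1))
    have hnc := Group.normalizerCondition_of_isNilpotent (G := ↥W) (R.subgroupOf W) hlt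
    obtain ⟨x, hx, hxR⟩ := SetLike.exists_of_lt hnc
    apply hxR
    rw [Subgroup.mem_subgroupOf]
    apply hWA
    refine ⟨x.2, ?_⟩
    apply H680.Fxy.IF.norm h hRA hinv hne
    intro k hk
    have h2 := (mem_normalizer_iff.1 hx ⟨k, hRW hk⟩).1 (Subgroup.mem_subgroupOf.2 hk)
    exact Subgroup.mem_subgroupOf.1 h2
  apply le_antisymm
  · intro a ha
    exact hAP a ha
  · intro x hx
    apply H680.Fxy.IF.norm h hRA hinv hne
    intro k hk
    rw [hRW'] at hk ⊢
    exact hPnV x hx k hk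

end

end Cfsg.Agent.H132.IF
end

-- part: H917/IFG/OpP
section
/-!
# S5719, cells `g2`, `td4` (`q` odd), 2-rank one: `O_p(A) ≠ 1` or `z` is central

`A ≤ T` with an involution `z` which is the only involution of `C_A(z)`, `SL₂(q) ≤ A` with central involution `z`,
normal in `C(z)`, less than `3^((q-1)/2)` involutions in `A`.  Then `z` is central in `A` or `A` has a normal
`p`-subgroup `≠ 1`.  (Z*-theorem, odd order theorem, cross characteristic bound for `SL₂(q)`.)
-/

set_option autoImplicit false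

namespace Cfsg.Agent.H917.IFG

open Cfsg Cfsg.Agent.Cit.HexBase Cfsg.Agent.H912.Bd
open scoped MatrixGroups commutatorElement

universe u v w

/-! ### Automorphisms of elementary abelian groups are matrices -/

theorem exists_gl {A : Type u} [CommGroup A] [Finite A] {r : ℕ} [hr : Fact r.Prime] (hA : ∀ a : A, a ^ r = 1) :
    ∃ (n : ℕ) (f : MulAut A →* GL (Fin n) (ZMod r)), Nat.card A = r ^ n ∧ Function.Injective f := by
  let _ : Module (ZMod r) (Additive A) := AddCommGroup.zmodModule (n := r) (fun a => hA a.toMul)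
  have hfA : Finite (Additive A) := inferInstanceAs (Finite A)
  let ρ : MulAut A →* Module.End (ZMod r) (Additive A) :=
    { toFun := fun s => AddMonoidHom.toZModLinearMap r (MonoidHom.toAdditive s.toMonoidHom)
      map_one' := by
        ext a
        rfl
      map_mul' := fun s s' => by
        ext a
        rfl }
  have hρ : Function.Injective ρ := by
    intro s t h
    ext a
    exact congrArg Additive.toMul (LinearMap.congr_fun h (Additive.ofMul a))
  have h1 := Module.natCard_eq_pow_finrank (K := ZMod r) (V := Additive A)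
  rw [Nat.card_zmod] at h1
  let b : Module.Basis (Fin (Module.finrank (ZMod r) (Additive A))) (ZMod r) (Additive A) :=
    Module.finBasis (ZMod r) (Additive A)
  let e : Module.End (ZMod r) (Additive A) ≃* Matrix (Fin _) (Fin _) (ZMod r) := (LinearMap.toMatrixAlgEquiv b).toMulEquiv
  let e' : (Module.End (ZMod r) (Additive A))ˣ ≃* GL (Fin _) (ZMod r) := Units.mapEquiv e
  refine ⟨_, e'.toMonoidHom.comp (MonoidHom.toHomUnits ρ), h1, e'.injective.comp ?_⟩
  intro s t h
  have h1 := congrArg Units.val h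
  rw [MonoidHom.coe_toHomUnits, MonoidHom.coe_toHomUnits] at h1
  exact hρ h1

/-- **Cross characteristic bound**: `SL₂(q)` acting faithfully on an elementary abelian `r`-group, `r ≠ p`. -/
theorem card_ge {E : Type w} [Field E] [Fintype E] {p : ℕ} [hp : Fact p.Prime] [CharP E p] {r : ℕ} [hr : Fact r.Prime]
    (hrp : r ≠ p) (hodd : Odd (Fintype.card E)) {A : Type u} [CommGroup A] [Finite A] (hA : ∀ a : A, a ^ r = 1)
    (f : SL2 E →* MulAut A) (hf : Function.Injective f) : r ^ ((Fintype.card E - 1) / 2) ≤ Nat.card A := by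
  obtain ⟨n, g, hc, hg⟩ := exists_gl hA
  have hinj : Function.Injective (g.comp f) := hg.comp hf
  have hpr : ((p : ℕ) : ZMod r) ≠ 0 := by
    rw [Ne, ZMod.natCast_eq_zero_iff]
    intro h
    exact hrp ((Nat.prime_dvd_prime_iff_eq hr.out hp.out).1 h)
  have hB := Cfsg.Agent.H203.BdSL2.bd_of_sl2 (F := ZMod r) (K := E) hp.out rfl hpr (MonoidHom.id (SL2 E)) (by
    intro x hx
    rw [MonoidHom.mem_ker, MonoidHom.id_apply] at hx
    rw [hx]
    exact one_mem _)
  have hgcd : Nat.gcd 2 (Fintype.card E - 1) = 2 := by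
    apply Nat.gcd_eq_left
    obtain ⟨k, hk⟩ := hodd
    exact ⟨k, by omega⟩
  rw [hgcd] at hB
  let e := MonoidHom.ofInjective hinj
  have hn := hB n ⟨↥(g.comp f).range, inferInstance, e.symm.toMonoidHom, (g.comp f).range.subtype,
    e.symm.surjective, fun x hx y => by
      have : x = 1 := by
        apply e.symm.injective
        rw [map_one]
        exact hx
      rw [this, one_mul, mul_one], by
      have : (e.symm.toMonoidHom).ker = ⊥ := (MonoidHom.ker_eq_bot_iff _).2 e.symm.injective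
      rw [this, Subgroup.card_bot]
      exact Nat.coprime_one_left p, by
      rw [Subgroup.ker_subtype]
      exact bot_le⟩
  rw [hc]
  exact Nat.pow_le_pow_right hr.out.pos hn

/-- a Sylow 2-subgroup containing `z`; the only conjugate of `z` in it is `z` -/
theorem isolated {G : Type u} [Group G] [Finite G] {z : G} (hz : orderOf z = 2)
    (h1 : ∀ s : G, s * z = z * s → orderOf s = 2 → s = z) :
    ∃ N : Subgroup G, N.Normal ∧ Odd (Nat.card N) ∧ ∀ g : G, z * g * z⁻¹ * g⁻¹ ∈ N := by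
  have h2 : Fact (Nat.Prime 2) := ⟨Nat.prime_two⟩
  have hzp : IsPGroup 2 (Subgroup.zpowers z) := by
    rw [IsPGroup.iff_card]
    exact ⟨1, by rw [Nat.card_zpowers, hz, pow_one]⟩
  obtain ⟨P, hP⟩ := hzp.exists_le_sylow
  have hzP : z ∈ (P : Subgroup G) := hP (Subgroup.mem_zpowers z)
  have hnt : Nontrivial ↥(P : Subgroup G) := by
    refine ⟨⟨⟨z, hzP⟩, 1, fun h => ?_⟩⟩
    have h3 : z = 1 := congrArg Subtype.val h
    rw [h3, orderOf_one] at hz
    exact absurd hz (by norm_num)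
  have hc : Nontrivial (Subgroup.center ↥(P : Subgroup G)) := P.isPGroup'.center_nontrivial
  -- an involution of the centre
  have hcp : IsPGroup 2 ↥(Subgroup.center ↥(P : Subgroup G)) := P.isPGroup'.to_subgroup _
  have hdvd : 2 ∣ Nat.card ↥(Subgroup.center ↥(P : Subgroup G)) := by
    obtain ⟨n, hn⟩ := IsPGroup.iff_card.1 hcp
    have h4 : 1 < Nat.card ↥(Subgroup.center ↥(P : Subgroup G)) := Finite.one_lt_card
    rcases n with _ | n
    · rw [hn, pow_zero] at h4
      exact absurd h4 (lt_irrefl _)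
    · rw [hn, pow_succ]
      exact Dvd.intro_left _ rfl
  obtain ⟨x, hx⟩ := exists_prime_orderOf_dvd_card' 2 hdvd
  have hxo : orderOf (x : ↥(P : Subgroup G)).1 = 2 := by
    rw [Subgroup.orderOf_coe, Subgroup.orderOf_coe, hx]
  have hcomm : ∀ y ∈ (P : Subgroup G), y * (x : ↥(P : Subgroup G)).1 = (x : ↥(P : Subgroup G)).1 * y := by
    intro y hy
    exact congrArg Subtype.val (Subgroup.mem_center_iff.1 x.2 ⟨y, hy⟩)
  have hxz : (x : ↥(P : Subgroup G)).1 = z := h1 _ (hcomm z hzP).symm hxo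
  rw [hxz] at hcomm
  refine Cfsg.Agent.S0215.result P z hz hzP fun g hg => ?_
  refine h1 _ (hcomm _ hg) ?_
  have h5 : MulAut.conj g z = g * z * g⁻¹ := rfl
  rw [← h5, MulEquiv.orderOf_eq]
  exact hz

/-- a nontrivial normal subgroup of odd order contains a nontrivial normal elementary abelian subgroup -/
theorem exists_elemAb {G : Type u} [Group G] [Finite G] {N : Subgroup G} (hN : N.Normal) (ho : Odd (Nat.card N))
    (hne : N ≠ ⊥) : ∃ (r : ℕ) (R : Subgroup G), r.Prime ∧ r ≠ 2 ∧ R ≤ N ∧ R ≠ ⊥ ∧ R.Normal ∧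
      (∀ x ∈ R, x ^ r = 1) ∧ ∀ x ∈ R, ∀ y ∈ R, x * y = y * x := by
  have hsol : Group.IsSolvable N := Cfsg.Agent.S0205.result ho
  obtain ⟨n0, hn0⟩ := hsol.solvable
  have hex : ∃ n, derivedSeries N n = ⊥ := ⟨n0, hn0⟩
  classical
  have hfind := Nat.find_spec hex
  have hmin : ∀ k < Nat.find hex, derivedSeries N k ≠ ⊥ := fun k hk => Nat.find_min hex hk
  generalize Nat.find hex = n at hfind hmin
  rcases n with _ | k
  · exfalso
    apply hne
    rw [derivedSeries_zero] at hfind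
    rw [← Subgroup.card_eq_one, ← Subgroup.card_top (G := N), hfind, Subgroup.card_bot]
  have hk := hmin k (Nat.lt_succ_self k)
  have hcomm : ∀ x ∈ derivedSeries N k, ∀ y ∈ derivedSeries N k, x * y = y * x := by
    intro x hx y hy
    have h1 : ⁅x, y⁆ ∈ derivedSeries N (k + 1) := Subgroup.commutator_mem_commutator hx hy
    rw [hfind, Subgroup.mem_bot] at h1
    exact commutatorElement_eq_one_iff_mul_comm.1 h1
  have hcard : Nat.card (derivedSeries N k) ≠ 1 := fun h1 => hk (Subgroup.card_eq_one.1 h1)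
  obtain ⟨r, hr, hrd⟩ := Nat.exists_prime_and_dvd hcard
  have hr2 : r ≠ 2 := by
    rintro rfl
    have h1 : 2 ∣ Nat.card N := hrd.trans (Subgroup.card_subgroup_dvd_card _)
    exact (Nat.not_even_iff_odd.2 ho) (even_iff_two_dvd.2 h1)
  let R0 : Subgroup N :=
    { carrier := {x | x ∈ derivedSeries N k ∧ x ^ r = 1}
      one_mem' := ⟨one_mem _, one_pow _⟩
      mul_mem' := by
        rintro x y ⟨hx, hx1⟩ ⟨hy, hy1⟩
        refine ⟨mul_mem hx hy, ?_⟩
        have hc : Commute x y := hcomm x hx y hy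
        rw [hc.mul_pow, hx1, hy1, one_mul]
      inv_mem' := by
        rintro x ⟨hx, hx1⟩
        exact ⟨inv_mem hx, by rw [inv_pow, hx1, inv_one]⟩ }
  have hch : R0.Characteristic := by
    rw [Subgroup.characteristic_iff_map_le]
    rintro e _ ⟨x, ⟨hx, hx1⟩, rfl⟩
    have hD : (derivedSeries N k).Characteristic := inferInstance
    refine ⟨?_, ?_⟩
    · exact (Subgroup.characteristic_iff_map_le.1 hD e) ⟨x, hx, rfl⟩
    · rw [← map_pow, hx1, map_one]
  refine ⟨r, R0.map N.subtype, hr, hr2, Subgroup.map_subtype_le _, ?_, ?_, ?_, ?_⟩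
  · intro h1
    have : Fact r.Prime := ⟨hr⟩
    obtain ⟨x, hx⟩ := exists_prime_orderOf_dvd_card' r hrd
    have h2 : (x : N) ∈ R0 := ⟨x.2, by rw [← hx, ← Subgroup.orderOf_coe, pow_orderOf_eq_one]⟩
    have h3 : ((x : N) : G) ∈ R0.map N.subtype := ⟨_, h2, rfl⟩
    rw [h1, Subgroup.mem_bot] at h3
    have h4 : x = 1 := Subtype.ext (Subtype.ext h3)
    rw [h4, orderOf_one] at hx
    exact hr.one_lt.ne hx
  · exact inferInstance
  · rintro _ ⟨x, ⟨hx, hx1⟩, rfl⟩
    rw [← map_pow, hx1, map_one]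
  · rintro _ ⟨x, ⟨hx, -⟩, rfl⟩ _ ⟨y, ⟨hy, -⟩, rfl⟩
    rw [← map_mul, ← map_mul, hcomm x hx y hy]

/-- the case of the whole group -/
theorem exists_pGroup_aux {G : Type u} [Group G] [Finite G] {z : G} (hz : orderOf z = 2)
    (h1 : ∀ s : G, s * z = z * s → orderOf s = 2 → s = z)
    {E : Type w} [Field E] [Fintype E] {p : ℕ} [hp : Fact p.Prime] [CharP E p] (h2 : (2 : E) ≠ 0)
    (ρ : SL2 E →* G) (hinj : Function.Injective ρ)
    (hn : ∀ g, g * z = z * g → ∀ v, ∃ v', g * ρ v * g⁻¹ = ρ v') (hρz : ∃ w, ρ w = z)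
    (hD : ∀ r : ℕ, r.Prime → r ≠ 2 → r ≠ p → ∀ D : Subgroup G, (∀ d ∈ D, d * z = z * d) → IsPGroup r D →
      (∀ d ∈ D, ∀ v, d * ρ v = ρ v * d) → (∀ a, a * z = z * a → ∀ d ∈ D, a * d * a⁻¹ ∈ D) → D = ⊥)
    (hi : {t : G | orderOf t = 2}.ncard < 3 ^ ((Fintype.card E - 1) / 2)) :
    (∃ R : Subgroup G, R.Normal ∧ R ≠ ⊥ ∧ IsPGroup p R) ∨ ∀ a, a * z = z * a := by
  classical
  have hzz : z * z = 1 := by rw [← pow_two, ← hz, pow_orderOf_eq_one]
  have hz1 : z ≠ 1 := by
    rintro rfl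
    rw [orderOf_one] at hz
    exact absurd hz (by norm_num)
  have hzi : z⁻¹ = z := inv_eq_of_mul_eq_one_right hzz
  -- `z` is the image of `-1`
  obtain ⟨w, hw⟩ := hρz
  have hww : w * w = 1 := hinj (by rw [map_mul, hw, hzz, map_one])
  have hw1 : w ≠ 1 := by
    rintro rfl
    rw [map_one] at hw
    exact hz1 hw.symm
  have hwd : w = Cfsg.Agent.Lib.SL2Mat.dg (-1) (neg_ne_zero.2 one_ne_zero) :=
    (Cfsg.Agent.Cit.HexBase.sl_sq_one h2 hww).resolve_left hw1
  have hwc : ∀ v : SL2 E, w * v = v * w := by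
    intro v
    rw [hwd]
    refine Cfsg.Agent.Lib.SL2Mat.ext_ent ?_ ?_ ?_ ?_ <;> simp [Cfsg.Agent.Lib.SL2Mat.ent_mul]
  have hzρ : ∀ v, z * ρ v = ρ v * z := fun v => by rw [← hw, ← map_mul, ← map_mul, hwc]
  obtain ⟨N, hN, hNo, hNc⟩ := isolated hz h1
  by_cases hNb : N = ⊥
  · right
    intro a
    have h3 := hNc a
    rw [hNb, Subgroup.mem_bot] at h3
    have h4 : z * a * z⁻¹ = a := mul_inv_eq_one.1 h3
    rw [mul_inv_eq_iff_eq_mul] at h4
    exact h4.symm
  obtain ⟨r, R, hr, hr2, hRN, hR1, hRn, hRr, hRc⟩ := exists_elemAb hN hNo hNb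
  by_cases hrp : r = p
  · left
    subst hrp
    exact ⟨R, hRn, hR1, fun x => ⟨1, by
      rw [pow_one]
      exact Subtype.ext (hRr x x.2)⟩⟩
  exfalso
  have hrf : Fact r.Prime := ⟨hr⟩
  have hrodd : Odd r := hr.odd_of_ne_two hr2
  -- `C_R(z) = 1`
  let D : Subgroup G := R ⊓ Subgroup.centralizer {z}
  have hDz : ∀ d ∈ D, d * z = z * d := fun d hd => Subgroup.mem_centralizer_singleton_iff.1 hd.2
  have hDp : IsPGroup r D := fun x => ⟨1, by
    rw [pow_one]
    exact Subtype.ext (hRr x x.2.1)⟩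
  have hDm : ∀ y ∈ R, z * y * z⁻¹ = y → y ∈ D := fun y hy h =>
    ⟨hy, Subgroup.mem_centralizer_singleton_iff.2 (by rw [mul_inv_eq_iff_eq_mul] at h; exact h.symm)⟩
  have hDz' : ∀ d ∈ D, z * d * z⁻¹ = d := fun d hd => by rw [← hDz d hd, mul_inv_cancel_right]
  have hDn : ∀ a, a * z = z * a → ∀ d ∈ D, a * d * a⁻¹ ∈ D := by
    intro a ha d hd
    refine hDm _ (hRn.conj_mem d hd.1 a) ?_
    have h3 := hDz' d hd
    calc z * (a * d * a⁻¹) * z⁻¹ = (z * a) * d * (z * a)⁻¹ := by group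
      _ = a * (z * d * z⁻¹) * a⁻¹ := by rw [← ha]; group
      _ = a * d * a⁻¹ := by rw [h3]
  have hDc : (Nat.card D).Coprime 2 := by
    obtain ⟨k, hk⟩ := IsPGroup.iff_card.1 hDp
    rw [hk]
    exact Nat.Coprime.pow_left k (Nat.coprime_two_right.2 hrodd)
  have hDb : D = ⊥ := by
    refine hD r hr hr2 hrp D hDz hDp (fun d hd v => ?_) hDn
    exact comm_of_odd h2 ρ hinj hDc (fun v n hn' => hDn _ (hzρ v).symm n hn') (fun n hn' => hn n (hDz n hn')) hd v
  -- `z` inverts `R`
  have hinv : ∀ x ∈ R, z * x * z⁻¹ = x⁻¹ := by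
    intro x hx
    have hzx : z * x * z⁻¹ ∈ R := hRn.conj_mem x hx z
    have hy : x * (z * x * z⁻¹) ∈ D := by
      refine hDm _ (mul_mem hx hzx) ?_
      have h3 := hRc x hx _ hzx
      calc z * (x * (z * x * z⁻¹)) * z⁻¹ = (z * x * z⁻¹) * ((z * z) * x * (z * z)⁻¹) := by group
        _ = (z * x * z⁻¹) * x := by rw [hzz, one_mul, inv_one, mul_one]
        _ = _ := h3.symm
    rw [hDb, Subgroup.mem_bot] at hy
    exact (inv_eq_of_mul_eq_one_right hy).symm
  -- `|R| ≤ i(A)`
  have hcard : Nat.card R ≤ {t : G | orderOf t = 2}.ncard := by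
    have h3 : (fun x : G => x * z) '' (R : Set G) ⊆ {t : G | orderOf t = 2} := by
      rintro _ ⟨x, hx, rfl⟩
      change orderOf (x * z) = 2
      refine orderOf_eq_prime ?_ ?_
      · have h4 := hinv x hx
        rw [mul_inv_eq_iff_eq_mul] at h4
        calc (x * z) ^ 2 = x * (z * x) * z := by rw [pow_two]; group
          _ = z * z := by rw [h4]; group
          _ = 1 := hzz
      · intro h4
        have h5 : z ∈ R := by
          have : z = x⁻¹ := eq_inv_of_mul_eq_one_right h4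
          rw [this]
          exact inv_mem hx
        have h6 := hRr z h5
        have h7 : orderOf z ∣ r := orderOf_dvd_of_pow_eq_one h6
        rw [hz] at h7
        exact hr2 ((Nat.prime_dvd_prime_iff_eq Nat.prime_two hr).1 h7).symm
    have h4 := Set.ncard_le_ncard h3 (Set.toFinite _)
    rw [Set.ncard_image_of_injective _ (mul_left_injective z)] at h4
    rwa [← Nat.card_coe_set_eq] at h4
  -- the action on `R`
  let _ : CommGroup R := { (inferInstance : Group R) with mul_comm := fun a b => Subtype.ext (hRc a a.2 b b.2) }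
  let f : SL2 E →* MulAut R := (MulAut.conjNormal (H := R)).comp ρ
  have hfa : ∀ v (x : R), ((f v x : R) : G) = ρ v * x * (ρ v)⁻¹ := fun v x => rfl
  have hf : Function.Injective f := by
    rw [← MonoidHom.ker_eq_bot_iff]
    refine sl_odd h2 _ inferInstance ?_
    rw [Nat.coprime_two_right, ← Nat.not_even_iff_odd]
    intro he
    have h2f : Fact (Nat.Prime 2) := ⟨Nat.prime_two⟩
    obtain ⟨x, hx⟩ := exists_prime_orderOf_dvd_card' 2 (even_iff_two_dvd.1 he)
    have hx2 : (x : SL2 E) * x = 1 := by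
      have h3 : x ^ 2 = 1 := orderOf_dvd_iff_pow_eq_one.1 (by rw [hx])
      rw [pow_two] at h3
      exact congrArg Subtype.val h3
    have hxw : (x : SL2 E) = w := by
      rw [hwd]
      refine (Cfsg.Agent.Cit.HexBase.sl_sq_one h2 hx2).resolve_left fun h => ?_
      have h3 : x = 1 := Subtype.ext h
      rw [h3, orderOf_one] at hx
      exact absurd hx (by norm_num)
    apply hR1
    rw [eq_bot_iff]
    intro y hy
    have h3 : f (x : SL2 E) = 1 := x.2
    have h4 := hfa (x : SL2 E) ⟨y, hy⟩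
    rw [h3, MulAut.one_apply, hxw, hw] at h4
    have h5 : y = y⁻¹ := h4.trans (hinv y hy)
    have h6 : y * y = 1 := by nth_rewrite 1 [h5]; exact inv_mul_cancel y
    rw [Subgroup.mem_bot]
    have h7 : orderOf y ∣ 2 := orderOf_dvd_of_pow_eq_one (by rw [pow_two, h6])
    have h8 : orderOf y ∣ r := orderOf_dvd_of_pow_eq_one (hRr y hy)
    have h9 : Nat.Coprime 2 r := (Nat.coprime_primes Nat.prime_two hr).2 (Ne.symm hr2)
    have h10 := Nat.dvd_gcd h7 h8
    rw [h9.gcd_eq_one, Nat.dvd_one, orderOf_eq_one_iff] at h10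
    exact h10
  have hge := card_ge (p := p) (r := r) hrp (odd_of_two h2) (A := R) (fun a => Subtype.ext (hRr a a.2)) f hf
  have h3r : 3 ≤ r := by
    have := hr.two_le
    omega
  have hle : 3 ^ ((Fintype.card E - 1) / 2) ≤ r ^ ((Fintype.card E - 1) / 2) := Nat.pow_le_pow_left h3r _
  omega

/-- **2-rank one: `z` is central in `A` or `A` has a normal `p`-subgroup `≠ 1`.** -/
theorem exists_pGroup {T : Type u} [Group T] [Finite T] {A : Subgroup T} {z : T} (hzA : z ∈ A) (hz : orderOf z = 2)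
    (h1 : ∀ s ∈ A, s * z = z * s → orderOf s = 2 → s = z)
    {E : Type w} [Field E] [Fintype E] {p : ℕ} [hp : Fact p.Prime] [CharP E p] (h2 : (2 : E) ≠ 0)
    (ρ : SL2 E →* T) (hinj : Function.Injective ρ) (hρA : ∀ v, ρ v ∈ A)
    (hn : ∀ g, g * z = z * g → ∀ v, ∃ v', g * ρ v * g⁻¹ = ρ v') (hρz : ∃ w, ρ w = z)
    (hD : ∀ r : ℕ, r.Prime → r ≠ 2 → r ≠ p → ∀ D : Subgroup T, D ≤ A → (∀ d ∈ D, d * z = z * d) → IsPGroup r D →
      (∀ d ∈ D, ∀ v, d * ρ v = ρ v * d) → (∀ a ∈ A, a * z = z * a → ∀ d ∈ D, a * d * a⁻¹ ∈ D) → D = ⊥)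
    (hi : {t : T | t ∈ A ∧ orderOf t = 2}.ncard < 3 ^ ((Fintype.card E - 1) / 2)) :
    (∃ R : Subgroup T, R ≤ A ∧ R ≠ ⊥ ∧ IsPGroup p R ∧ ∀ a ∈ A, ∀ x ∈ R, a * x * a⁻¹ ∈ R) ∨
      ∀ a ∈ A, a * z = z * a := by
  have key := exists_pGroup_aux (G := ↥A) (z := ⟨z, hzA⟩) (by rw [Subgroup.orderOf_mk]; exact hz)
    (fun s hs ho => Subtype.ext (h1 s s.2 (congrArg Subtype.val hs) (by rw [Subgroup.orderOf_coe]; exact ho)))
    (p := p) h2 (ρ.codRestrict A hρA) (fun x y h => hinj (congrArg Subtype.val h)) ?_ ?_ ?_ ?_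
  · rcases key with ⟨R, hRn, hR1, hRp⟩ | h
    · left
      refine ⟨R.map A.subtype, Subgroup.map_subtype_le _, ?_, hRp.map _, ?_⟩
      · intro h
        exact hR1 ((Subgroup.map_eq_bot_iff_of_injective _ A.subtype_injective).1 h)
      · rintro a ha _ ⟨x, hx, rfl⟩
        exact ⟨(⟨a, ha⟩ * x * ⟨a, ha⟩⁻¹ :), hRn.conj_mem x hx _, rfl⟩
    · right
      intro a ha
      exact congrArg Subtype.val (h ⟨a, ha⟩)
  · intro g hg v
    obtain ⟨v', hv'⟩ := hn g (congrArg Subtype.val hg) v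
    exact ⟨v', Subtype.ext hv'⟩
  · obtain ⟨w, hw⟩ := hρz
    exact ⟨w, Subtype.ext hw⟩
  · intro r hr hr2 hrp D hDz hDp hDρ hDn
    have h3 := hD r hr hr2 hrp (D.map A.subtype) (Subgroup.map_subtype_le _)
      (by
        rintro _ ⟨d, hd, rfl⟩
        exact congrArg Subtype.val (hDz d hd)) (hDp.map _)
      (by
        rintro _ ⟨d, hd, rfl⟩ v
        exact congrArg Subtype.val (hDρ d hd v))
      (by
        rintro a ha haz _ ⟨d, hd, rfl⟩
        exact ⟨(⟨a, ha⟩ * d * ⟨a, ha⟩⁻¹ :), hDn ⟨a, ha⟩ (Subtype.ext haz) d hd, rfl⟩)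
    exact (Subgroup.map_eq_bot_iff_of_injective _ A.subtype_injective).1 h3
  · refine lt_of_le_of_lt ?_ hi
    rw [← Set.ncard_image_of_injective _ A.subtype_injective]
    refine Set.ncard_le_ncard ?_ (Set.toFinite _)
    rintro _ ⟨t, ht, rfl⟩
    exact ⟨t.2, by rw [Subgroup.coe_subtype, Subgroup.orderOf_coe]; exact ht⟩

end Cfsg.Agent.H917.IFG
end

-- part: H917/IFG/NoOuter
section
/-!
# S5719, cells `g2`, `td4` (`q` odd), 2-rank one: no outer elements

`no_outer` : `z` the only involution of `C_A(z)`, `K 1 ≤ A` or `K 4 ≤ A`; then `C_A(z) ≤ K 1 K 4`.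
-/

set_option autoImplicit false

namespace Cfsg.Agent.Cit.HexBase

open Cfsg.Agent.SplitTwo Cfsg.Agent.TitsThree.RankTwoZ Cfsg.Agent.Lib.SL2Mat
  Cfsg.Agent.TitsThree.RankTwoIdx Cfsg.Agent.TitsThree.RankTwoRGD
open scoped commutatorElement Pointwise

section sl

variable {K : Type*} [Field K]

/-- the square of an element of the coset of a non-square -/
theorem no_one (h2 : (2 : K) ≠ 0) {s : K} (hs : s ≠ 0) (hsq : ¬ IsSquare s) (w : SL2 K)
    (h : w * conjGL (dgl s hs) w * dg s hs = 1) : False := by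
  have h0 : w * conjGL (dgl s hs) w = dg s⁻¹ (inv_ne_zero hs) := by
    have e : dg s⁻¹ (inv_ne_zero hs) * dg s hs = 1 := by
      rw [dg_mul_dg]
      refine ext_ent ?_ ?_ ?_ ?_ <;> simp [hs]
    exact mul_right_cancel (h.trans e.symm)
  have h00 : ent (w * conjGL (dgl s hs) w) 0 0 = 1 * s⁻¹ := by rw [h0, dg_00, one_mul]
  have h01 : ent (w * conjGL (dgl s hs) w) 0 1 = 0 := by rw [h0, dg_01]
  have h10 : ent (w * conjGL (dgl s hs) w) 1 0 = 0 := by rw [h0, dg_10]
  rcases sq_cases hs w 1 (one_mul 1) h00 h01 h10 with h3 | ⟨a, ha, -, h3⟩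
  · rw [conjGL_dgl_ent] at h00
    simp only [ent_mul, mk_00, mk_10] at h00
    have hd := det_eq w
    have h4 : (2 : K) = 0 := by
      field_simp at h00
      linear_combination -h00 + ent w 0 0 * h3 - hd
    exact h2 h4
  · exact hsq ⟨a⁻¹, by rw [h3, ← mul_inv, pow_two]⟩

theorem wm_conj {s : K} (hs : s ≠ 0) :
    wm (1 : K) one_ne_zero * conjGL (dgl s hs) (wm 1 one_ne_zero) * dg s hs = dg (-1) (neg_ne_zero.2 one_ne_zero) := by
  rw [conjGL_dgl_ent]
  refine ext_ent ?_ ?_ ?_ ?_ <;> simp [ent_mul, hs]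

end sl

namespace HexGrp

universe u

variable {E : Type*} [Field E] {σ : E ≃+* E} {L : Type u} [Group L] (c : HexGrp σ L)

theorem mem_L0 {g : L} (hg : g ∈ c.L0) : ∃ x y, g = c.pb x * c.p4 y := by
  have h1 : c.L0 = (MonoidHom.noncommCoprod c.pb c.p4 fun x y => c.comm_pb_p4 x y).range := by
    exact (MonoidHom.noncommCoprod_range (f := c.pb) (g := c.p4) (comm := fun x y => c.comm_pb_p4 x y)).symm
  rw [h1] at hg
  obtain ⟨⟨x, y⟩, rfl⟩ := hg
  exact ⟨x, y, rfl⟩

/-- the square of `pb x * p4 w * pa (dg t)` -/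
theorem sq_form [Finite E] (h2 : (2 : E) ≠ 0) (x : SL2 E) (w : SL2 ↥(fx σ)) (t : ↥(fx σ)) (ht : t ≠ 0)
    (ht' : (t : E)⁻¹ ≠ 0) :
    c.pb x * c.p4 w * c.pa (dg t ht) * (c.pb x * c.p4 w * c.pa (dg t ht)) =
      c.pb (x * conjGL (dgl (t : E)⁻¹ ht') x * dg (t : E)⁻¹ ht') * c.p4 (w * conjGL (dgl t ht) w * dg t ht) := by
  have hs' : (t : E) ≠ 0 := fun h => ht (Subtype.ext h)
  obtain ⟨h0, hh0⟩ : ∃ h0 : L, h0 = c.pa (dg t ht) := ⟨_, rfl⟩
  have hA : c.Act h0 (t : E)⁻¹ ((t : E) ^ 2) := by rw [hh0]; exact c.act_a t ht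
  obtain ⟨x', hx'⟩ : ∃ x', x' = conjGL (dgl (t : E)⁻¹ hA.ne1) x := ⟨_, rfl⟩
  obtain ⟨w', hw'⟩ : ∃ w', w' = conjGL (dgl t ht) w := ⟨_, rfl⟩
  have e1 : h0 * c.pb x * h0⁻¹ = c.pb x' := by rw [hx']; exact hA.pb x
  have e4 : h0 * c.p4 w * h0⁻¹ = c.p4 w' := by rw [hw', hh0]; exact c.pa_dg_p4 h2 t ht w
  have e0 : h0 * h0 = c.pb (dg (t : E)⁻¹ ht') * c.p4 (dg t ht) := by
    have e : dg (t : E)⁻¹ ht' = (dg (t : E) hs')⁻¹ := by
      rw [eq_inv_iff_mul_eq_one, dg_mul_dg]
      refine ext_ent ?_ ?_ ?_ ?_ <;> simp [hs']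
    rw [hh0, ← map_mul, dg_mul_dg, e, map_inv, ← c.pa_dg_sq t ht]
    congr 1
    refine ext_ent ?_ ?_ ?_ ?_ <;> simp only [_root_.Fin.isValue, _root_.Cfsg.Agent.Lib.SL2Mat.dg_00, _root_.Cfsg.Agent.Lib.SL2Mat.dg_01, _root_.Cfsg.Agent.Lib.SL2Mat.dg_10, _root_.Cfsg.Agent.Lib.SL2Mat.dg_11, _root_.mul_inv_rev] <;> ring
  rw [← hh0, ← hx', ← hw']
  have k1 := c.comm_pb_p4 x' w
  have k2 := c.comm_pb_p4 (dg (t : E)⁻¹ ht') (w * w')
  simp only [map_mul] at k2 ⊢
  symm
  calc c.pb x * c.pb x' * c.pb (dg (t : E)⁻¹ ht') * (c.p4 w * c.p4 w' * c.p4 (dg t ht))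
      = c.pb x * c.pb x' * (c.pb (dg (t : E)⁻¹ ht') * (c.p4 w * c.p4 w')) * c.p4 (dg t ht) := by group
    _ = c.pb x * (c.pb x' * c.p4 w) * c.p4 w' * (c.pb (dg (t : E)⁻¹ ht') * c.p4 (dg t ht)) := by
      rw [k2]; group
    _ = c.pb x * (c.p4 w * c.pb x') * c.p4 w' * (h0 * h0) := by rw [k1, e0]
    _ = c.pb x * c.p4 w * h0 * (c.pb x * c.p4 w * h0) := by rw [← e1, ← e4]; group

theorem z_mem_L0 : c.z ∈ c.L0 := c.K1_le_L0 c.z_mem_K1

/-- `z` commutes with `K 1 K 4 T 0` -/
theorem comm_z_form [Finite E] (x : SL2 E) (w : SL2 ↥(fx σ)) (t : ↥(fx σ)) (ht : t ≠ 0) :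
    c.pb x * c.p4 w * c.pa (dg t ht) * c.z = c.z * (c.pb x * c.p4 w * c.pa (dg t ht)) := by
  have h1 := c.z_pb x
  have h3 := c.z_p4 w
  have h4 := c.T0_comm ⟨_, _, c.act_a t ht⟩ c.z_mem_T0
  calc c.pb x * c.p4 w * c.pa (dg t ht) * c.z = c.pb x * c.p4 w * (c.pa (dg t ht) * c.z) := by group
    _ = c.pb x * (c.p4 w * c.z) * c.pa (dg t ht) := by rw [h4]; group
    _ = (c.pb x * c.z) * c.p4 w * c.pa (dg t ht) := by rw [← h3]; group
    _ = _ := by rw [← h1]; group

section

variable {A : Subgroup L}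

/-- inner elements of order two modulo `K 1` -/
theorem inner1 [Finite E] (h2 : (2 : E) ≠ 0) (h1 : ∀ s ∈ A, s * c.z = c.z * s → orderOf s = 2 → s = c.z)
    (hK : c.K1 ≤ A) {y : L} (hy : y ∈ A) (hy0 : y ∈ c.L0) (hyy : y * y ∈ c.K1) : y ∈ c.K1 := by
  obtain ⟨x, w, rfl⟩ := c.mem_L0 hy0
  have hw : c.p4 w ∈ A := by
    have := mul_mem (inv_mem (hK ⟨x, rfl⟩)) hy
    rwa [inv_mul_cancel_left] at this
  have k1 := c.comm_pb_p4 x w
  have e1 : c.pb x * c.p4 w * (c.pb x * c.p4 w) = c.pb (x * x) * c.p4 (w * w) := by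
    rw [map_mul, map_mul]
    calc _ = c.pb x * (c.p4 w * c.pb x) * c.p4 w := by group
      _ = _ := by rw [← k1]; group
  rw [e1] at hyy
  have h3 : c.p4 (w * w) ∈ c.K1 := by
    have := mul_mem (inv_mem (show c.pb (x * x) ∈ c.K1 from ⟨_, rfl⟩)) hyy
    rwa [inv_mul_cancel_left] at this
  have hwK : c.p4 w ∈ c.K1 := by
    obtain ⟨x', hx'⟩ := h3
    have h5 := c.eq_of_pb_eq_p4 hx'
    rw [hx', map_mul] at h5
    rcases h5 with h5 | h5
    · rcases c.p4_sq h2 h5 with h | h
      · rw [h]; exact one_mem _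
      · rw [h]; exact c.z_mem_K1
    · obtain ⟨s, hs⟩ : ∃ s, s = c.n1 * c.p4 w := ⟨_, rfl⟩
      have hn1w : c.n1 * c.p4 w = c.p4 w * c.n1 := c.comm_pb_p4 _ w
      have hsA : s ∈ A := by rw [hs]; exact mul_mem (hK c.n1_mem_K1) hw
      have hss : s * s = 1 := by
        rw [hs]
        calc c.n1 * c.p4 w * (c.n1 * c.p4 w) = c.n1 * (c.p4 w * c.n1) * c.p4 w := by group
          _ = (c.n1 * c.n1) * (c.p4 w * c.p4 w) := by rw [← hn1w]; group
          _ = 1 := by rw [n1_mul_n1, h5, c.z_sq]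
      have hsz : s * c.z = c.z * s := by
        rw [hs]
        calc c.n1 * c.p4 w * c.z = c.n1 * (c.p4 w * c.z) := by group
          _ = (c.n1 * c.z) * c.p4 w := by rw [← c.z_p4]; group
          _ = _ := by rw [n1z]; group
      have hcase : s = 1 ∨ s = c.z := by
        by_cases hs1 : s = 1
        · exact Or.inl hs1
        · exact Or.inr (h1 s hsA hsz (orderOf_eq_prime (by rw [pow_two, hss]) hs1))
      have hsK : s ∈ c.K1 := by
        rcases hcase with h | h
        · rw [h]; exact one_mem _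
        · rw [h]; exact c.z_mem_K1
      have : c.p4 w = c.n1⁻¹ * s := by rw [hs]; group
      rw [this]
      exact mul_mem (inv_mem c.n1_mem_K1) hsK
  exact mul_mem ⟨x, rfl⟩ hwK

/-- inner elements of order two modulo `K 4` -/
theorem inner4 [Finite E] (h2 : (2 : E) ≠ 0) (h1 : ∀ s ∈ A, s * c.z = c.z * s → orderOf s = 2 → s = c.z)
    (hK : c.K4 ≤ A) {y : L} (hy : y ∈ A) (hy0 : y ∈ c.L0) (hyy : y * y ∈ c.K4) : y ∈ c.K4 := by
  obtain ⟨x, w, rfl⟩ := c.mem_L0 hy0
  have k1 := c.comm_pb_p4 x w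
  have hx : c.pb x ∈ A := by
    have := mul_mem hy (inv_mem (hK ⟨w, rfl⟩))
    rwa [mul_inv_cancel_right] at this
  have e1 : c.pb x * c.p4 w * (c.pb x * c.p4 w) = c.pb (x * x) * c.p4 (w * w) := by
    rw [map_mul, map_mul]
    calc _ = c.pb x * (c.p4 w * c.pb x) * c.p4 w := by group
      _ = _ := by rw [← k1]; group
  rw [e1] at hyy
  have h3 : c.pb (x * x) ∈ c.K4 := by
    have := mul_mem hyy (inv_mem (show c.p4 (w * w) ∈ c.K4 from ⟨_, rfl⟩))
    rwa [mul_inv_cancel_right] at this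
  have hxK : c.pb x ∈ c.K4 := by
    obtain ⟨x', hx'⟩ := h3
    have h5 := c.eq_of_pb_eq_p4 hx'.symm
    rw [map_mul] at h5
    rcases h5 with h5 | h5
    · rcases c.pb_sq h2 h5 with h | h
      · rw [h]; exact one_mem _
      · rw [h]; exact c.z_mem_K4
    · obtain ⟨s, hs⟩ : ∃ s, s = c.pb x * c.n4 := ⟨_, rfl⟩
      have hn4x : c.pb x * c.n4 = c.n4 * c.pb x := c.comm_pb_p4 x _
      have hsA : s ∈ A := by rw [hs]; exact mul_mem hx (hK c.n4_mem_K4)
      have hss : s * s = 1 := by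
        rw [hs]
        calc c.pb x * c.n4 * (c.pb x * c.n4) = c.pb x * (c.n4 * c.pb x) * c.n4 := by group
          _ = (c.pb x * c.pb x) * (c.n4 * c.n4) := by rw [← hn4x]; group
          _ = 1 := by rw [n4_mul_n4, h5, c.z_sq]
      have hsz : s * c.z = c.z * s := by
        rw [hs]
        calc c.pb x * c.n4 * c.z = c.pb x * (c.n4 * c.z) := by group
          _ = (c.pb x * c.z) * c.n4 := by rw [n4z]; group
          _ = _ := by rw [← c.z_pb]; group
      have hcase : s = 1 ∨ s = c.z := by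
        by_cases hs1 : s = 1
        · exact Or.inl hs1
        · exact Or.inr (h1 s hsA hsz (orderOf_eq_prime (by rw [pow_two, hss]) hs1))
      have hsK : s ∈ c.K4 := by
        rcases hcase with h | h
        · rw [h]; exact one_mem _
        · rw [h]; exact c.z_mem_K4
      have : c.pb x = s * c.n4⁻¹ := by rw [hs]; group
      rw [this]
      exact mul_mem hsK (inv_mem c.n4_mem_K4)
  exact mul_mem hxK ⟨w, rfl⟩

theorem not_sq_of_not_mem {x : SL2 E} {w : SL2 ↥(fx σ)} {t : ↥(fx σ)} {ht : t ≠ 0}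
    (hy : c.pb x * c.p4 w * c.pa (dg t ht) ∉ c.L0) : ¬ IsSquare t := fun hs =>
  hy (mul_mem (mul_mem (c.K1_le_L0 ⟨_, rfl⟩) (c.K4_le_L0 ⟨_, rfl⟩)) (c.pa_dg_mem_L0 ht hs))

include c in
theorem not_sq_E (h2 : (2 : E) ≠ 0) {t : ↥(fx σ)} (h : ¬ IsSquare t) : ¬ IsSquare (t : E)⁻¹ := by
  rintro ⟨r, hr⟩
  apply h
  have h3 : (t : E) = (r⁻¹) ^ 2 := by
    rw [inv_pow, pow_two, ← hr, inv_inv]
  have h4 : σ r⁻¹ = r⁻¹ := c.fix_of_sq h2 (by rw [← h3]; exact t.2)
  exact ⟨⟨r⁻¹, h4⟩, Subtype.ext (by rw [h3, pow_two]; rfl)⟩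

/-- outer elements of order two modulo `K 1` -/
theorem outer1 [Finite E] (h2 : (2 : E) ≠ 0) (h1 : ∀ s ∈ A, s * c.z = c.z * s → orderOf s = 2 → s = c.z)
    (hK : c.K1 ≤ A) {y : L} (hy : y ∈ A) (hz : y * c.z = c.z * y) (hy0 : y ∉ c.L0) (hyy : y * y ∈ c.K1) : False := by
  obtain ⟨x, w, t, ht, rfl⟩ := c.mem_CZ_form h2 hz
  have hs' : (t : E) ≠ 0 := fun h => ht (Subtype.ext h)
  have hns := c.not_sq_of_not_mem hy0
  rw [c.sq_form h2 x w t ht (inv_ne_zero hs')] at hyy
  have h3 : c.p4 (w * conjGL (dgl t ht) w * dg t ht) ∈ c.K1 := by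
    have := mul_mem (inv_mem (show c.pb (x * conjGL (dgl (t : E)⁻¹ (inv_ne_zero hs')) x * dg (t : E)⁻¹
      (inv_ne_zero hs')) ∈ c.K1 from ⟨_, rfl⟩)) hyy
    rwa [inv_mul_cancel_left] at this
  obtain ⟨x', hx'⟩ := h3
  have h5 := c.eq_of_pb_eq_p4 hx'
  rw [hx'] at h5
  have h6 : c.p4 (w * conjGL (dgl t ht) w * dg t ht) = c.z := by
    refine h5.resolve_left fun h => ?_
    exact no_one ((two_ne h2 :)) ht hns w (c.p4_inj (h.trans (map_one c.p4).symm))
  obtain ⟨s, hs⟩ : ∃ s, s = c.pb (wm 1 one_ne_zero) * c.p4 w * c.pa (dg t ht) := ⟨_, rfl⟩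
  have hsA : s ∈ A := by
    have e : s = c.pb (wm 1 one_ne_zero) * (c.pb x)⁻¹ * (c.pb x * c.p4 w * c.pa (dg t ht)) := by rw [hs]; group
    rw [e]
    exact mul_mem (mul_mem (hK ⟨_, rfl⟩) (inv_mem (hK ⟨_, rfl⟩))) hy
  have hs0 : s ∉ c.L0 := by
    intro h
    apply hy0
    have e : c.pb x * c.p4 w * c.pa (dg t ht) = c.pb x * (c.pb (wm 1 one_ne_zero))⁻¹ * s := by rw [hs]; group
    rw [e]
    exact mul_mem (mul_mem (c.K1_le_L0 ⟨_, rfl⟩) (inv_mem (c.K1_le_L0 ⟨_, rfl⟩))) h
  have hss : s * s = 1 := by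
    rw [hs, c.sq_form h2 _ w t ht (inv_ne_zero hs'), wm_conj, h6]
    exact c.z_sq
  have hsz : s * c.z = c.z * s := by rw [hs]; exact c.comm_z_form _ _ _ _
  have hs1 : s ≠ 1 := by
    rintro rfl
    exact hs0 (one_mem _)
  have := h1 s hsA hsz (orderOf_eq_prime (by rw [pow_two, hss]) hs1)
  rw [this] at hs0
  exact hs0 c.z_mem_L0

/-- outer elements of order two modulo `K 4` -/
theorem outer4 [Finite E] (h2 : (2 : E) ≠ 0) (h1 : ∀ s ∈ A, s * c.z = c.z * s → orderOf s = 2 → s = c.z)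
    (hK : c.K4 ≤ A) {y : L} (hy : y ∈ A) (hz : y * c.z = c.z * y) (hy0 : y ∉ c.L0) (hyy : y * y ∈ c.K4) : False := by
  obtain ⟨x, w, t, ht, rfl⟩ := c.mem_CZ_form h2 hz
  have hs' : (t : E) ≠ 0 := fun h => ht (Subtype.ext h)
  have hns := c.not_sq_of_not_mem hy0
  rw [c.sq_form h2 x w t ht (inv_ne_zero hs')] at hyy
  have h3 : c.pb (x * conjGL (dgl (t : E)⁻¹ (inv_ne_zero hs')) x * dg (t : E)⁻¹ (inv_ne_zero hs')) ∈ c.K4 := by
    have := mul_mem hyy (inv_mem (show c.p4 (w * conjGL (dgl t ht) w * dg t ht) ∈ c.K4 from ⟨_, rfl⟩))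
    rwa [mul_inv_cancel_right] at this
  obtain ⟨x', hx'⟩ := h3
  have h5 := c.eq_of_pb_eq_p4 hx'.symm
  have h6 : c.pb (x * conjGL (dgl (t : E)⁻¹ (inv_ne_zero hs')) x * dg (t : E)⁻¹ (inv_ne_zero hs')) = c.z := by
    refine h5.resolve_left fun h => ?_
    exact no_one h2 (inv_ne_zero hs') (c.not_sq_E h2 hns) x (c.pb_inj h2 (h.trans (map_one c.pb).symm))
  obtain ⟨s, hs⟩ : ∃ s, s = c.pb x * c.p4 (wm 1 one_ne_zero) * c.pa (dg t ht) := ⟨_, rfl⟩
  have hsy : s = c.p4 (wm 1 one_ne_zero) * (c.p4 w)⁻¹ * (c.pb x * c.p4 w * c.pa (dg t ht)) := by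
    have k1 := c.comm_pb_p4 x (wm 1 one_ne_zero)
    have k2 := c.comm_pb_p4 x w
    rw [hs, k1, k2]
    group
  have hsA : s ∈ A := by
    rw [hsy]
    exact mul_mem (mul_mem (hK ⟨_, rfl⟩) (inv_mem (hK ⟨_, rfl⟩))) hy
  have hs0 : s ∉ c.L0 := by
    intro h
    apply hy0
    have e : c.pb x * c.p4 w * c.pa (dg t ht) = (c.p4 (wm 1 one_ne_zero) * (c.p4 w)⁻¹)⁻¹ * s := by rw [hsy]; group
    rw [e]
    exact mul_mem (inv_mem (mul_mem (c.K4_le_L0 ⟨_, rfl⟩) (inv_mem (c.K4_le_L0 ⟨_, rfl⟩)))) h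
  have hss : s * s = 1 := by
    rw [hs, c.sq_form h2 _ _ t ht (inv_ne_zero hs'), wm_conj, h6, ← z_eq_p4]
    exact c.z_sq
  have hsz : s * c.z = c.z * s := by rw [hs]; exact c.comm_z_form _ _ _ _
  have hs1 : s ≠ 1 := by
    rintro rfl
    exact hs0 (one_mem _)
  have := h1 s hsA hsz (orderOf_eq_prime (by rw [pow_two, hss]) hs1)
  rw [this] at hs0
  exact hs0 c.z_mem_L0

/-- **No outer elements.** -/
theorem no_outer [Finite E] [Finite L] (h2 : (2 : E) ≠ 0)
    (h1 : ∀ s ∈ A, s * c.z = c.z * s → orderOf s = 2 → s = c.z) (hK : c.K1 ≤ A ∨ c.K4 ≤ A) {g : L} (hg : g ∈ A)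
    (hz : g * c.z = c.z * g) : g ∈ c.L0 := by
  have key : ∀ K : Subgroup L, K ≤ c.L0 → (∀ y ∈ A, y * c.z = c.z * y → y * y ∈ K → y ∈ K) → g ∈ c.L0 := by
    intro K hKL hstep
    have hpow : ∀ n : ℕ, ∀ y ∈ A, y * c.z = c.z * y → y ^ (2 ^ n) ∈ K → y ∈ K := by
      intro n
      induction n with
      | zero =>
        intro y _ _ h
        rwa [pow_zero, pow_one] at h
      | succ n ih =>
        intro y hy hyz h
        refine hstep y hy hyz (ih (y * y) (mul_mem hy hy) ?_ ?_)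
        · rw [mul_assoc, hyz, ← mul_assoc, hyz, mul_assoc]
        · rw [← pow_two, ← pow_mul, ← pow_succ']
          exact h
    obtain ⟨n, m, hm, hnm⟩ := Nat.exists_eq_two_pow_mul_odd (orderOf_pos g).ne'
    have hgm : g ^ m ∈ K := by
      refine hpow n _ (pow_mem hg m) ((show Commute g c.z from hz).pow_left m) ?_
      rw [← pow_mul, mul_comm, ← hnm, pow_orderOf_eq_one]
      exact one_mem _
    by_contra hg0
    have hgg : g * g ∈ c.L0 := c.mul_mem_L0 h2 hz hz hg0 hg0
    obtain ⟨k, rfl⟩ := hm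
    apply hg0
    have h3 : g ^ (2 * k + 1) = (g * g) ^ k * g := by rw [pow_succ, pow_mul, pow_two]
    have h4 := hKL hgm
    rw [h3] at h4
    have h5 := mul_mem (inv_mem (pow_mem hgg k)) h4
    rwa [inv_mul_cancel_left] at h5
  rcases hK with hK | hK
  · refine key c.K1 c.K1_le_L0 fun y hy hyz hyy => ?_
    by_cases hy0 : y ∈ c.L0
    · exact c.inner1 h2 h1 hK hy hy0 hyy
    · exact (c.outer1 h2 h1 hK hy hyz hy0 hyy).elim
  · refine key c.K4 c.K4_le_L0 fun y hy hyz hyy => ?_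
    by_cases hy0 : y ∈ c.L0
    · exact c.inner4 h2 h1 hK hy hy0 hyy
    · exact (c.outer4 h2 h1 hK hy hyz hy0 hyy).elim

end

end HexGrp

end Cfsg.Agent.Cit.HexBase
end

-- part: H132/IFG/RankOne
section
/-!
# S5719, cell `g2`, `q` odd: 2-rank one
-/

set_option autoImplicit false
set_option linter.unusedSectionVars false

namespace Cfsg.Agent.H132.IFG

open Subgroup Cfsg Cfsg.Agent.H215.IFM
open Cfsg.Agent.Cit.HexBase Cfsg.Agent.Lib.SL2Mat

/-! ### numerics -/

theorem num1 {q m : ℕ} (hq : 5 ≤ q) (h : 2 * (q * (q ^ 2 - 1)) ≤ m * (q + 1)) :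
    q ^ 4 * (q ^ 4 + q ^ 2 + 1) ≤ m ^ 5 := by
  obtain ⟨k, rfl⟩ : ∃ k, q = k + 5 := ⟨q - 5, by omega⟩
  have e : (k + 5) ^ 2 - 1 = (k + 4) * (k + 6) := by
    have : (k + 5) ^ 2 = (k + 4) * (k + 6) + 1 := by ring
    omega
  rw [e] at h
  have h1 : 2 * ((k + 5) * (k + 4)) ≤ m := by
    refine Nat.le_of_mul_le_mul_right (c := k + 5 + 1) ?_ (by omega)
    calc 2 * ((k + 5) * (k + 4)) * (k + 5 + 1) = 2 * ((k + 5) * ((k + 4) * (k + 6))) := by ring
      _ ≤ _ := h
  have h3 : (k + 5) ^ 2 ≤ m := by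
    refine le_trans ?_ h1
    nlinarith only []
  have h4 : ((k + 5) ^ 2) ^ 5 ≤ m ^ 5 := Nat.pow_le_pow_left h3 5
  refine le_trans ?_ h4
  have h5 : (k + 5) ^ 4 + (k + 5) ^ 2 + 1 ≤ (k + 5) ^ 6 := by
    have h6 : 25 ≤ (k + 5) ^ 2 := by nlinarith only [_root_.Nat.cast_nonneg (α := ℤ) (k)]
    have h7 : (k + 5) ^ 4 = (k + 5) ^ 2 * (k + 5) ^ 2 := by ring
    have h8 : (k + 5) ^ 6 = (k + 5) ^ 2 * ((k + 5) ^ 2 * (k + 5) ^ 2) := by ring
    rw [h7, h8]
    generalize (k + 5) ^ 2 = a at h6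
    nlinarith only [h6]
  calc (k + 5) ^ 4 * ((k + 5) ^ 4 + (k + 5) ^ 2 + 1) ≤ (k + 5) ^ 4 * (k + 5) ^ 6 := Nat.mul_le_mul_left _ h5
    _ = _ := by ring

theorem cube_le (k : ℕ) : (2 * (k + 2) + 1) ^ 3 ≤ 32 * 3 ^ (k + 2) := by
  induction k with
  | zero => norm_num
  | succ k ih =>
    have h1 : 3 ^ (k + 1 + 2) = 3 * 3 ^ (k + 2) := by ring
    have h2 : (2 * (k + 1 + 2) + 1) ^ 3 ≤ 3 * (2 * (k + 2) + 1) ^ 3 := by
      have e : 3 * (2 * (k + 2) + 1) ^ 3 = (2 * (k + 1 + 2) + 1) ^ 3 + (16 * k ^ 3 + 96 * k ^ 2 + 156 * k + 32) := by ring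
      omega
    omega

theorem num2 {q : ℕ} (hq : 5 ≤ q) (hodd : Odd q) :
    q ^ 4 * (q ^ 4 + q ^ 2 + 1) ≤ 32 * (q + 1) ^ 5 * 3 ^ ((q - 1) / 2) := by
  obtain ⟨k, rfl⟩ := hodd
  obtain ⟨j, rfl⟩ : ∃ j, k = j + 2 := ⟨k - 2, by omega⟩
  have h1 : (2 * (j + 2) + 1 - 1) / 2 = j + 2 := by omega
  rw [h1]
  have h2 := cube_le j
  obtain ⟨q, hq'⟩ : ∃ q, q = 2 * (j + 2) + 1 := ⟨_, rfl⟩
  rw [← hq'] at h2 ⊢
  have h3 : q ^ 4 * (q ^ 4 + q ^ 2 + 1) ≤ (q + 1) ^ 5 * q ^ 3 := by
    have e : (q + 1) ^ 5 * q ^ 3 = q ^ 4 * (q ^ 4 + q ^ 2 + 1) + (5 * q ^ 7 + 9 * q ^ 6 + 10 * q ^ 5 + 4 * q ^ 4 + q ^ 3) := by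
      ring
    omega
  calc q ^ 4 * (q ^ 4 + q ^ 2 + 1) ≤ (q + 1) ^ 5 * q ^ 3 := h3
    _ ≤ (q + 1) ^ 5 * (32 * 3 ^ (j + 2)) := Nat.mul_le_mul_left _ h2
    _ = _ := by ring

theorem num3 {q m i : ℕ} (hq : 5 ≤ q) (hodd : Odd q) (h : 2 * (q * (q ^ 2 - 1)) ≤ m * (q * (q - 1)))
    (hb : m ^ 5 * i < q ^ 4 * (q ^ 4 + q ^ 2 + 1)) : i < 3 ^ ((q - 1) / 2) := by
  have h1 : 2 * (q + 1) ≤ m := by
    obtain ⟨k, rfl⟩ : ∃ k, q = k + 5 := ⟨q - 5, by omega⟩
    have e : (k + 5) ^ 2 - 1 = (k + 4) * (k + 6) := by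
      have : (k + 5) ^ 2 = (k + 4) * (k + 6) + 1 := by ring
      omega
    have e2 : k + 5 - 1 = k + 4 := by omega
    rw [e, e2] at h
    refine Nat.le_of_mul_le_mul_right (c := (k + 5) * (k + 4)) ?_ (by positivity)
    calc 2 * (k + 5 + 1) * ((k + 5) * (k + 4)) = 2 * ((k + 5) * ((k + 4) * (k + 6))) := by ring
      _ ≤ _ := h
  by_contra hcon
  push Not at hcon
  have h2 := num2 hq hodd
  have h3 : (2 * (q + 1)) ^ 5 ≤ m ^ 5 := Nat.pow_le_pow_left h1 5
  have h4 : 32 * (q + 1) ^ 5 * 3 ^ ((q - 1) / 2) ≤ m ^ 5 * i := by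
    refine Nat.mul_le_mul ?_ hcon
    calc 32 * (q + 1) ^ 5 = (2 * (q + 1)) ^ 5 := by ring
      _ ≤ _ := h3
  omega

/-! ### the rank one lemma -/

/-- what is needed on subgroups of `SL₂(q)` -/
def OddSL (K : Type*) [Field K] [Fintype K] (p : ℕ) : Prop :=
  ∀ Y : Subgroup (SL2 K), -1 ∈ Y → (∀ w ∈ Y, w * w ≠ -1) → Fintype.card K + 1 < Nat.card Y →
    Nat.card Y ≤ Fintype.card K * (Fintype.card K - 1) ∧
    ∀ r : ℕ, r.Prime → r ≠ 2 → r ≠ p → ∀ D : Subgroup (SL2 K), D ≤ Y → IsPGroup r D →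
      (∀ y ∈ Y, ∀ x ∈ D, y * x * y⁻¹ ∈ D) → D = ⊥

theorem neg_one_eq {K : Type*} [Field K] : (-1 : SL2 K) = dg (-1) (neg_ne_zero.2 one_ne_zero) := by
  refine ext_ent ?_ ?_ ?_ ?_
  · show (-(1 : Matrix (Fin 2) (Fin 2) K)) 0 0 = -1
    simp
  · show (-(1 : Matrix (Fin 2) (Fin 2) K)) 0 1 = 0
    simp
  · show (-(1 : Matrix (Fin 2) (Fin 2) K)) 1 0 = 0
    simp
  · show (-(1 : Matrix (Fin 2) (Fin 2) K)) 1 1 = (-1)⁻¹
    simp [inv_neg]

theorem wm_sq {K : Type*} [Field K] : (wm (1 : K) one_ne_zero) * wm 1 one_ne_zero = -1 := by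
  rw [neg_one_eq]
  refine ext_ent ?_ ?_ ?_ ?_ <;> simp [ent_mul, inv_neg]

theorem wm_not_central {K : Type*} [Field K] (h : ∀ x : SL2 K, wm (1 : K) one_ne_zero * x = x * wm 1 one_ne_zero) :
    False := by
  have h1 := congrArg (fun m : SL2 K => ent m 0 0) (h (up 1))
  simp [ent_mul] at h1

section aux

variable {E₁ E₂ : Type*} [Field E₁] [Fintype E₁] [Field E₂] [Fintype E₂] {L : Type*} [Group L] [Finite L]

theorem rank_one_aux {q p : ℕ} [Fact p.Prime] [CharP E₁ p] (hq1 : Fintype.card E₁ = q) (hq2 : Fintype.card E₂ = q)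
    (h5 : 5 ≤ q) (hodd : Odd q) (ρ : SL2 E₁ →* L) (τ : SL2 E₂ →* L) (hρ : Function.Injective ρ)
    (hτ : Function.Injective τ) (hcomm : ∀ x y, ρ x * τ y = τ y * ρ x) {z : L} (hz1 : ρ (-1) = z) (hz2 : τ (-1) = z)
    (hz : z ≠ 1) (hcent : ∀ g, (∀ x, g * ρ x = ρ x * g) → ∃ y, g = τ y)
    (hn : ∀ g, g * z = z * g → ∀ v, ∃ v', g * ρ v * g⁻¹ = ρ v')
    {A : Subgroup L} (hform : ∀ g ∈ A, g * z = z * g → ∃ x y, g = ρ x * τ y) (hρA : ∀ x, ρ x ∈ A)
    (h1 : ∀ s ∈ A, s * z = z * s → orderOf s = 2 → s = z)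
    (hcz : (q * (q ^ 2 - 1)) * (q * (q ^ 2 - 1)) ≤ Nat.card (centralizer ({z} : Set L)))
    (hb : A.relIndex (centralizer ({z} : Set L)) ^ 5 * {t : L | t ∈ A ∧ orderOf t = 2}.ncard <
      q ^ 4 * (q ^ 4 + q ^ 2 + 1)) (hO : OddSL E₂ p) :
    IF.op p A ≠ ⊥ ∨ ∀ a ∈ A, a * z = z * a := by
  classical
  have h2 : (2 : E₁) ≠ 0 := H215.IFM.two_ne (by rw [hq1]; exact hodd)
  have hzA : z ∈ A := hz1 ▸ hρA _
  have hzz : z * z = 1 := by rw [← hz1, ← map_mul, neg_mul_neg, one_mul, map_one]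
  have hzo : orderOf z = 2 := by
    have : Fact (Nat.Prime 2) := ⟨Nat.prime_two⟩
    exact orderOf_eq_prime (by rw [pow_two, hzz]) hz
  have hτz : ∀ y, τ y * z = z * τ y := fun y => by
    rw [← hz1, hcomm]
  obtain ⟨Y, hY⟩ : ∃ Y, Y = A.comap τ := ⟨_, rfl⟩
  have hYmem : ∀ y, y ∈ Y ↔ τ y ∈ A := fun y => by rw [hY]; rfl
  have hY1 : (-1 : SL2 E₂) ∈ Y := by rw [hYmem, hz2]; exact hzA
  have hYw : ∀ w ∈ Y, w * w ≠ -1 := by
    intro w hw hww
    have hwA := (hYmem w).1 hw
    obtain ⟨s, hs⟩ : ∃ s, s = ρ (wm 1 one_ne_zero) * τ w := ⟨_, rfl⟩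
    have hsA : s ∈ A := hs ▸ mul_mem (hρA _) hwA
    have hsz : s * z = z * s := by
      rw [hs, mul_assoc, hτz, ← mul_assoc, ← mul_assoc, ← hz2, hcomm]
    have hss : s * s = 1 := by
      rw [hs]
      calc ρ (wm 1 one_ne_zero) * τ w * (ρ (wm 1 one_ne_zero) * τ w)
          = ρ (wm 1 one_ne_zero) * (τ w * ρ (wm 1 one_ne_zero)) * τ w := by group
        _ = ρ (wm 1 one_ne_zero) * (ρ (wm 1 one_ne_zero) * τ w) * τ w := by rw [← hcomm]
        _ = ρ (wm 1 one_ne_zero * wm 1 one_ne_zero) * τ (w * w) := by rw [map_mul, map_mul]; group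
        _ = 1 := by rw [wm_sq, hww, hz1, hz2, hzz]
    have hcen : ∀ u : L, (∀ x, u * ρ x = ρ x * u) → s ≠ u := by
      intro u hu hsu
      refine wm_not_central (K := E₁) fun x => hρ ?_
      have e : ρ (wm 1 one_ne_zero) = u * (τ w)⁻¹ := by rw [← hsu, hs]; group
      have e2 : (τ w)⁻¹ * ρ x = ρ x * (τ w)⁻¹ := by
        rw [inv_mul_eq_iff_eq_mul, ← mul_assoc, ← hcomm, mul_assoc, mul_inv_cancel, mul_one]
      rw [map_mul, map_mul, e, mul_assoc, e2, ← mul_assoc, hu, mul_assoc]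
    have hs1 : s ≠ 1 := hcen 1 fun x => by rw [one_mul, mul_one]
    have hso : orderOf s = 2 := by
      have : Fact (Nat.Prime 2) := ⟨Nat.prime_two⟩
      exact orderOf_eq_prime (by rw [pow_two, hss]) hs1
    exact hcen z (fun x => by rw [← hz2, hcomm]) (h1 s hsA hsz hso)
  -- the order of `C_A(z)`
  have hcard : 2 * (q * (q ^ 2 - 1)) ≤ A.relIndex (centralizer ({z} : Set L)) * Nat.card Y := by
    obtain ⟨m, hm⟩ : ∃ m, m = A.relIndex (centralizer ({z} : Set L)) := ⟨_, rfl⟩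
    let ψ : SL2 E₁ × Y →* L := MonoidHom.noncommCoprod ρ (τ.comp Y.subtype) fun x y => hcomm x y
    have hψ : ∀ x y, ψ (x, y) = ρ x * τ y := fun x y => rfl
    have hle : A ⊓ centralizer ({z} : Set L) ≤ ψ.range := by
      rintro g ⟨hg, hgz⟩
      obtain ⟨x, y, rfl⟩ := hform g hg (mem_centralizer_singleton_iff.1 hgz)
      have hy : y ∈ Y := by
        rw [hYmem]
        have := mul_mem (inv_mem (hρA x)) hg
        rwa [inv_mul_cancel_left] at this
      exact ⟨(x, ⟨y, hy⟩), rfl⟩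
    have hker : 2 ≤ Nat.card ψ.ker := by
      have h3 : ((-1 : SL2 E₁), (⟨-1, hY1⟩ : Y)) ∈ ψ.ker := by
        rw [MonoidHom.mem_ker, hψ, hz1]
        change z * τ (-1) = 1
        rw [hz2, hzz]
      have h4 : Nontrivial ψ.ker := ⟨⟨_, h3⟩, 1, fun h => by
        have h5 := congrArg (fun x : ψ.ker => (x : SL2 E₁ × Y).1) h
        exact H215.IFM.neg_one_ne h2 h5⟩
      exact Finite.one_lt_card
    have hc1 : Nat.card ψ.ker * Nat.card ψ.range = Nat.card (SL2 E₁) * Nat.card Y := by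
      rw [← Subgroup.index_ker, Subgroup.card_mul_index, Nat.card_prod]
    have hc2 : Nat.card (A ⊓ centralizer ({z} : Set L) : Subgroup L) ≤ Nat.card ψ.range :=
      Nat.card_le_card_of_injective _ (Subgroup.inclusion_injective hle)
    have hc3 : Nat.card (A ⊓ centralizer ({z} : Set L) : Subgroup L) * m = Nat.card (centralizer ({z} : Set L)) := by
      have h3 := (A.subgroupOf (centralizer ({z} : Set L))).card_mul_index
      have h4 : Nat.card (A.subgroupOf (centralizer ({z} : Set L))) =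
          Nat.card (A ⊓ centralizer ({z} : Set L) : Subgroup L) := by
        rw [← Subgroup.inf_subgroupOf_right]
        exact Nat.card_congr (Subgroup.subgroupOfEquivOfLe inf_le_right).toEquiv
      rw [h4] at h3
      rw [hm]
      exact h3
    have hs : Nat.card (SL2 E₁) = q * (q ^ 2 - 1) := by rw [← hq1]; exact H215.IFM.card_sl2
    rw [← hm]
    obtain ⟨S, hS⟩ : ∃ S, S = q * (q ^ 2 - 1) := ⟨_, rfl⟩
    rw [hs, ← hS] at hc1
    rw [← hS] at hcz ⊢
    have hS0 : 0 < S := by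
      rw [hS]
      have : 25 ≤ q ^ 2 := by nlinarith only [h5]
      have : 0 < q ^ 2 - 1 := by omega
      (clear * - h5 this; positivity)
    -- 2 S² ≤ 2 |C| = 2 |A∩C| m ≤ S |Y| m
    have h6 : 2 * Nat.card (A ⊓ centralizer ({z} : Set L) : Subgroup L) ≤ S * Nat.card Y := by
      rw [← hc1]
      exact Nat.mul_le_mul hker hc2
    refine Nat.le_of_mul_le_mul_left (c := S) ?_ hS0
    calc S * (2 * S) = 2 * (S * S) := by ring
      _ ≤ 2 * Nat.card (centralizer ({z} : Set L)) := Nat.mul_le_mul_left _ hcz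
      _ = 2 * Nat.card (A ⊓ centralizer ({z} : Set L) : Subgroup L) * m := by rw [← hc3]; ring
      _ ≤ S * Nat.card Y * m := Nat.mul_le_mul_right _ h6
      _ = S * (m * Nat.card Y) := by ring
  have hi0 : 0 < {t : L | t ∈ A ∧ orderOf t = 2}.ncard := by
    rw [Set.ncard_pos]
    exact ⟨z, hzA, hzo⟩
  have hYbig : Fintype.card E₂ + 1 < Nat.card Y := by
    rw [hq2]
    by_contra hcon
    push Not at hcon
    have h3 := num1 h5 (hcard.trans (Nat.mul_le_mul_left _ hcon))
    have h4 : A.relIndex (centralizer ({z} : Set L)) ^ 5 ≤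
        A.relIndex (centralizer ({z} : Set L)) ^ 5 * {t : L | t ∈ A ∧ orderOf t = 2}.ncard :=
      Nat.le_mul_of_pos_right _ hi0
    omega
  obtain ⟨hY2, hY3⟩ := hO Y hY1 hYw hYbig
  rw [hq2] at hY2
  have hi := num3 h5 hodd (hcard.trans (Nat.mul_le_mul_left _ hY2)) hb
  rcases H917.IFG.exists_pGroup hzA hzo h1 (p := p) h2 ρ hρ hρA hn ⟨_, hz1⟩ (fun r hr hr2 hrp D hDA hDz hDr hDρ hDn => by
    have h3 : D.comap τ = ⊥ := by
      refine hY3 r hr hr2 hrp _ (fun x hx => (hYmem x).2 (hDA hx)) (hDr.comap_of_injective τ hτ) ?_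
      intro y hy x hx
      change τ (y * x * y⁻¹) ∈ D
      rw [map_mul, map_mul, map_inv]
      exact hDn _ ((hYmem y).1 hy) (hτz y) _ hx
    rw [Subgroup.eq_bot_iff_forall] at h3 ⊢
    intro d hd
    obtain ⟨y, rfl⟩ := hcent d (hDρ d hd)
    rw [h3 y hd, map_one]) (by rw [hq1]; exact hi) with ⟨R, hRA, hR1, hRp, hRn⟩ | h
  · left
    intro h3
    have h4 := IF.le_op hRp hRA hRn
    rw [h3, le_bot_iff] at h4
    exact hR1 h4
  · exact Or.inr h

end aux

end Cfsg.Agent.H132.IFG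
end

-- part: H132/IF/ParabG2
section
/-!
# S5719, `G₂(q)`, `q` odd: if `O_p(A) ≠ 1`, then `A` has two commuting involutions
-/

set_option autoImplicit false
set_option linter.unusedSectionVars false

namespace Cfsg.Agent.H132.IF

open MulAction Subgroup Cfsg Cfsg.Lie Cfsg.Agent.H209.Fxy

section

variable {F : Type*} [Field F]

/-- the diagonal entries of `h_{p_i}(-1)` -/
def dgv (F : Type*) [Field F] (i : ℕ) : chevG2.Idx → F :=
  Sum.elim (fun _ => (1 : F)) (fun s : Fin chevG2.nroots => (-1 : F) ^ (chevG2.cartan i s))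

theorem dgv_sq (i : ℕ) (x : chevG2.Idx) : dgv F i x * dgv F i x = 1 := by
  rcases x with x | x
  · exact one_mul 1
  · change (-1 : F) ^ (chevG2.cartan i x) * (-1 : F) ^ (chevG2.cartan i x) = 1
    rw [← mul_zpow, neg_one_mul, neg_neg, one_zpow]

/-- `h_{p_i}(-1)` in `GL` -/
def tor (F : Type*) [Field F] (i : ℕ) : GL chevG2.Idx F :=
  ⟨Matrix.diagonal (dgv F i), Matrix.diagonal (dgv F i),
    by rw [Matrix.diagonal_mul_diagonal, ← Matrix.diagonal_one]; congr 1; funext x; exact dgv_sq i x,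
    by rw [Matrix.diagonal_mul_diagonal, ← Matrix.diagonal_one]; congr 1; funext x; exact dgv_sq i x⟩

theorem tor_coe (i : ℕ) : ((tor F i : GL chevG2.Idx F) : Matrix chevG2.Idx chevG2.Idx F) =
    Matrix.diagonal (dgv F i) := rfl

theorem tor_sq (i : ℕ) : tor F i * tor F i = 1 := by
  apply Units.ext
  change Matrix.diagonal (dgv F i) * Matrix.diagonal (dgv F i) = 1
  rw [Matrix.diagonal_mul_diagonal, ← Matrix.diagonal_one]
  congr 1
  funext x
  exact dgv_sq i x

theorem tor_comm (i j : ℕ) : tor F i * tor F j = tor F j * tor F i := by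
  apply Units.ext
  change Matrix.diagonal (dgv F i) * Matrix.diagonal (dgv F j) =
    Matrix.diagonal (dgv F j) * Matrix.diagonal (dgv F i)
  rw [Matrix.diagonal_mul_diagonal, Matrix.diagonal_mul_diagonal]
  congr 1
  funext x
  exact mul_comm _ _

theorem tor_mem {i : ℕ} (hi : i < 2) (J : Set ℕ) : tor F i ∈ chevG2.parabolicSubgroup F J := by
  have h1 : tor F i ∈ chevG2.diagonalSubgroup F := by
    apply Subgroup.subset_closure
    refine ⟨chevG2.simple i, -1, ?_, neg_ne_zero.2 one_ne_zero, ?_⟩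
    · interval_cases i <;> decide
    · rw [S1033.result chevG2 (by simp) i hi (-1) (neg_ne_zero.2 one_ne_zero)]
      rfl
  exact Subgroup.mem_sup_left (Subgroup.mem_sup_right h1)

theorem tor_ne (h2 : (2 : F) ≠ 0) : tor F 0 ≠ 1 ∧ tor F 1 ≠ 1 ∧ tor F 0 ≠ tor F 1 := by
  have hne : (-1 : F) ≠ 1 := by
    intro h
    apply h2
    have h3 : (1 : F) + 1 = 0 := by
      nth_rewrite 1 [← h]
      exact neg_add_cancel 1
    rw [← h3]
    norm_num
  have e01 : dgv F 0 (Sum.inr ⟨6, by decide⟩) = -1 := by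
    change (-1 : F) ^ (chevG2.cartan 0 6) = -1
    have : (chevG2.cartan 0 6 : ℤ) = -3 := by decide
    rw [this]
    norm_num
  have e00 : dgv F 0 (Sum.inr ⟨7, by decide⟩) = 1 := by
    change (-1 : F) ^ (chevG2.cartan 0 7) = 1
    have : (chevG2.cartan 0 7 : ℤ) = 2 := by decide
    rw [this]
    norm_num
  have e10 : dgv F 1 (Sum.inr ⟨7, by decide⟩) = -1 := by
    change (-1 : F) ^ (chevG2.cartan 1 7) = -1
    have : (chevG2.cartan 1 7 : ℤ) = -1 := by decide
    rw [this]
    norm_num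
  have key : ∀ (i : ℕ) (x : chevG2.Idx), ((tor F i : GL chevG2.Idx F) : Matrix chevG2.Idx chevG2.Idx F) x x = dgv F i x :=
    fun i x => by rw [tor_coe, Matrix.diagonal_apply_eq]
  have one : ∀ x : chevG2.Idx, ((1 : GL chevG2.Idx F) : Matrix chevG2.Idx chevG2.Idx F) x x = 1 := by
    intro x
    rw [Units.val_one, Matrix.one_apply_eq]
  refine ⟨?_, ?_, ?_⟩
  · intro h
    have h3 := key 0 (Sum.inr ⟨6, by decide⟩)
    rw [h, one, e01] at h3
    exact hne h3.symm
  · intro h
    have h3 := key 1 (Sum.inr ⟨7, by decide⟩)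
    rw [h, one, e10] at h3
    exact hne h3.symm
  · intro h
    have h3 := key 0 (Sum.inr ⟨7, by decide⟩)
    rw [h, key, e00, e10] at h3
    exact hne h3

variable [Fintype F]

/-- **`G₂(q)`, `q` odd: if `O_p(A) ≠ 1`, then `A` has two commuting involutions.** -/
theorem two_of_op (h2 : (2 : F) ≠ 0) (p : ℕ) [Fact p.Prime] [CharP F p] [IsSimpleGroup ↥(chevG2.group F)]
    {A : Subgroup ↥(chevG2.group F)} {Γ : Subgroup (MulAut ↥(chevG2.group F))} (h : IF A Γ) (hne : op p A ≠ ⊥) :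
    ∃ s ∈ A, ∃ t ∈ A, s ≠ t ∧ s * t = t * s ∧ orderOf s = 2 ∧ orderOf t = 2 := by
  obtain ⟨g, hg, J, -, hA⟩ := parab p chevG2 (by simp) h hne
  obtain ⟨h0, h1, h01⟩ := tor_ne h2
  have hmem : ∀ i, i < 2 → g * tor F i * g⁻¹ ∈ chevG2.group F ∧
      g * tor F i * g⁻¹ ∈ (chevG2.parabolicSubgroup F J).map (MulAut.conj g).toMonoidHom := by
    intro i hi
    have h3 : g * tor F i * g⁻¹ ∈ (chevG2.parabolicSubgroup F J).map (MulAut.conj g).toMonoidHom :=
      ⟨tor F i, tor_mem hi J, rfl⟩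
    refine ⟨?_, h3⟩
    have h4 : tor F i ∈ chevG2.group F := by
      have h5 := tor_mem (F := F) hi (∅ : Set ℕ)
      have h6 := S1049.result (F := F) chevG2 (by simp) (∅ : Set ℕ) (fun j hj => absurd hj (by simp))
      rw [← h6] at h5
      exact h5.2
    exact mul_mem (mul_mem hg h4) (inv_mem hg)
  have hsq : ∀ i, (g * tor F i * g⁻¹) * (g * tor F i * g⁻¹) = 1 := by
    intro i
    calc (g * tor F i * g⁻¹) * (g * tor F i * g⁻¹) = g * (tor F i * tor F i) * g⁻¹ := by group
      _ = 1 := by rw [tor_sq, mul_one, mul_inv_cancel]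
  have hcj : ∀ a : GL chevG2.Idx F, g * a * g⁻¹ = 1 → a = 1 := by
    intro a ha
    have := congrArg (fun x => g⁻¹ * x * g) ha
    simpa only [mul_assoc, _root_.inv_mul_cancel_left, _root_.inv_mul_cancel, _root_.mul_one] using this
  have hord : ∀ i, i < 2 → tor F i ≠ 1 → ∀ x : ↥(chevG2.group F), (x : GL chevG2.Idx F) = g * tor F i * g⁻¹ →
      orderOf x = 2 := by
    intro i hi hi1 x hx
    apply orderOf_eq_prime
    · apply Subtype.ext
      change ((x ^ 2 : ↥(chevG2.group F)) : GL chevG2.Idx F) = 1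
      rw [Subgroup.coe_pow, hx, pow_two, hsq]
    · intro h3
      apply hi1
      apply hcj
      rw [← hx, h3]
      rfl
  refine ⟨⟨_, (hmem 0 (by norm_num)).1⟩, ?_, ⟨_, (hmem 1 (by norm_num)).1⟩, ?_, ?_, ?_,
    hord 0 (by norm_num) h0 _ rfl, hord 1 (by norm_num) h1 _ rfl⟩
  · rw [hA, Subgroup.mem_subgroupOf]
    exact (hmem 0 (by norm_num)).2
  · rw [hA, Subgroup.mem_subgroupOf]
    exact (hmem 1 (by norm_num)).2
  · intro h3
    apply h01
    have h4 : g * tor F 0 * g⁻¹ = g * tor F 1 * g⁻¹ := congrArg Subtype.val h3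
    exact mul_left_cancel (mul_right_cancel h4)
  · apply Subtype.ext
    change g * tor F 0 * g⁻¹ * (g * tor F 1 * g⁻¹) = g * tor F 1 * g⁻¹ * (g * tor F 0 * g⁻¹)
    calc g * tor F 0 * g⁻¹ * (g * tor F 1 * g⁻¹) = g * (tor F 0 * tor F 1) * g⁻¹ := by group
      _ = g * (tor F 1 * tor F 0) * g⁻¹ := by rw [tor_comm]
      _ = _ := by group

end

end Cfsg.Agent.H132.IF
end

-- part: H132/IFG/Main
section
/-!
# S5719, cell `g2`, `q` odd: assembly over the frame `HexGrp`
-/

set_option autoImplicit false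
set_option linter.unusedSectionVars false

namespace Cfsg.Agent.H132.IFG

open Subgroup Cfsg Cfsg.Agent.H215.IFM Cfsg.Agent.H209.Fxy
open Cfsg.Agent.Cit.HexBase Cfsg.Agent.Lib.SL2Mat

/-! ### an involution isolated in `A` -/

theorem sylow_uniq_top {G : Type*} [Group G] [Finite G] {z : G} (hzo : orderOf z = 2)
    (h1 : ∀ s : G, s * z = z * s → orderOf s = 2 → s = z) {s t : G} (hs : orderOf s = 2) (ht : orderOf t = 2)
    (hst : s * t = t * s) : s = t := by
  classical
  have : Fact (Nat.Prime 2) := ⟨Nat.prime_two⟩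
  have hp : ∀ x : G, orderOf x = 2 → IsPGroup 2 (zpowers x) := fun x hx =>
    IsPGroup.of_card (n := 1) (by rw [Nat.card_zpowers, hx, pow_one])
  obtain ⟨P, hP⟩ := (hp z hzo).exists_le_sylow
  have hzP : z ∈ P := hP (mem_zpowers z)
  -- `z` is the only involution of `P`
  have hPu : ∀ x ∈ P, orderOf x = 2 → x = z := by
    have hnt : Nontrivial P := ⟨⟨z, hzP⟩, 1, fun h => by
      have h2 : z = 1 := congrArg Subtype.val h
      rw [h2, orderOf_one] at hzo
      omega⟩
    have hc : Nontrivial (center P) := P.isPGroup'.center_nontrivial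
    have hcp : IsPGroup 2 (center P) := P.isPGroup'.to_subgroup _
    obtain ⟨n, hn⟩ := hcp.exists_card_eq
    have hdvd : 2 ∣ Nat.card (center P) := by
      rw [hn]
      refine dvd_pow_self 2 ?_
      rintro rfl
      rw [pow_zero] at hn
      have := Finite.one_lt_card (α := center P)
      omega
    obtain ⟨w, hw⟩ := exists_prime_orderOf_dvd_card' 2 hdvd
    have hwc : ∀ x ∈ P, x * ((w : P) : G) = ((w : P) : G) * x := fun x hx =>
      congrArg Subtype.val (Subgroup.mem_center_iff.1 w.2 ⟨x, hx⟩)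
    have hwo : orderOf ((w : P) : G) = 2 := by
      rw [Subgroup.orderOf_coe, Subgroup.orderOf_coe]
      exact hw
    have hwz : ((w : P) : G) = z := h1 _ (hwc z hzP).symm hwo
    intro x hx hxo
    refine h1 x ?_ hxo
    rw [← hwz]
    exact hwc x hx
  have hn : zpowers s ≤ normalizer ((zpowers t : Subgroup G) : Set G) := by
    rw [zpowers_le]
    rw [Subgroup.mem_normalizer_iff]
    intro x
    constructor
    · intro hx
      obtain ⟨k, rfl⟩ := mem_zpowers_iff.1 hx
      have : s * t ^ k * s⁻¹ = t ^ k := by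
        rw [mul_inv_eq_iff_eq_mul]
        exact (Commute.zpow_right (show Commute s t from hst) k).eq
      rw [this]
      exact hx
    · intro hx
      obtain ⟨k, hk⟩ := mem_zpowers_iff.1 hx
      have : x = t ^ k := by
        have h3 : t ^ k * s = s * x := by rw [hk]; group
        have h4 : s * t ^ k = t ^ k * s := (Commute.zpow_right (show Commute s t from hst) k).eq
        exact (mul_left_cancel (h4.trans h3)).symm
      rw [this]
      exact mem_zpowers_iff.2 ⟨k, rfl⟩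
  have hsup : IsPGroup 2 (zpowers s ⊔ zpowers t : Subgroup G) := IsPGroup.to_sup_of_normal_right' (hp s hs) (hp t ht) hn
  obtain ⟨Q, hQ⟩ := hsup.exists_le_sylow
  obtain ⟨g, hg⟩ := MulAction.exists_smul_eq G Q P
  have hmem : ∀ x ∈ Q, g * x * g⁻¹ ∈ P := by
    intro x hx
    rw [← hg]
    exact Subgroup.smul_mem_pointwise_smul x (MulAut.conj g) (Q : Subgroup G) hx
  have ho : ∀ x, orderOf x = 2 → orderOf (g * x * g⁻¹) = 2 := fun x hx => by
    rw [← hx]
    exact MulEquiv.orderOf_eq (MulAut.conj g) x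
  have h3 := hPu _ (hmem s (hQ (le_sup_left (α := Subgroup G) (mem_zpowers s)))) (ho s hs)
  have h4 := hPu _ (hmem t (hQ (le_sup_right (α := Subgroup G) (mem_zpowers t)))) (ho t ht)
  have h5 : g * s * g⁻¹ = g * t * g⁻¹ := h3.trans h4.symm
  exact mul_left_cancel (mul_right_cancel h5)

theorem sylow_uniq {G : Type*} [Group G] [Finite G] {A : Subgroup G} {z : G} (hz : z ∈ A) (hzo : orderOf z = 2)
    (h1 : ∀ s ∈ A, s * z = z * s → orderOf s = 2 → s = z) {s t : G} (hsA : s ∈ A) (htA : t ∈ A) (hs : orderOf s = 2)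
    (ht : orderOf t = 2) (hst : s * t = t * s) : s = t := by
  have key := sylow_uniq_top (G := A) (z := ⟨z, hz⟩) (by rw [Subgroup.orderOf_mk]; exact hzo)
    (fun s hs ho => Subtype.ext (h1 s s.2 (congrArg Subtype.val hs) (by rw [Subgroup.orderOf_coe]; exact ho)))
    (s := ⟨s, hsA⟩) (t := ⟨t, htA⟩) (by rw [Subgroup.orderOf_mk]; exact hs) (by rw [Subgroup.orderOf_mk]; exact ht)
    (Subtype.ext hst)
  exact congrArg Subtype.val key

section hex

variable {E : Type*} [Field E] [Fintype E] {L : Type*} [Group L] [Finite L] (c : HexGrp (RingEquiv.refl E) L)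

/-- the bound -/
def Bd (A : Subgroup L) : Prop :=
  A.relIndex (centralizer ({c.z} : Set L)) ^ 5 * {t : L | t ∈ A ∧ orderOf t = 2}.ncard <
    Fintype.card E ^ 4 * (Fintype.card E ^ 4 + Fintype.card E ^ 2 + 1)

theorem orderOf_two {G : Type*} [Group G] {t : G} : orderOf t = 2 ↔ t * t = 1 ∧ t ≠ 1 := by
  constructor
  · intro h
    refine ⟨by rw [← pow_two, ← h, pow_orderOf_eq_one], ?_⟩
    rintro rfl
    rw [orderOf_one] at h
    omega
  · rintro ⟨h1, h2⟩
    have : Fact (Nat.Prime 2) := ⟨Nat.prime_two⟩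
    exact orderOf_eq_prime (by rw [pow_two, h1]) h2

theorem z_ord (h2 : (2 : E) ≠ 0) : orderOf c.z = 2 := orderOf_two.2 ⟨c.z_sq, c.z_ne h2⟩

/-- **2-rank one** -/
theorem rank_one (h5 : 5 ≤ Fintype.card E) (hodd : Odd (Fintype.card E)) {p : ℕ} [Fact p.Prime] [CharP E p]
    (hcz : Nat.card (centralizer ({c.z} : Set L)) = Nat.card (SL2 E) * Nat.card (SL2 ↥(_root_.Cfsg.Agent.Cit.HexBase.fx (RingEquiv.refl E))))
    (hO : OddSL E p) [Fintype ↥(_root_.Cfsg.Agent.Cit.HexBase.fx (RingEquiv.refl E))] (hO' : OddSL ↥(_root_.Cfsg.Agent.Cit.HexBase.fx (RingEquiv.refl E)) p)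
    {A : Subgroup L} (hb : Bd c A) (hK : (∀ x, c.pb x ∈ A) ∨ (∀ y, c.p4 y ∈ A))
    (h1 : ∀ s ∈ A, s * c.z = c.z * s → orderOf s = 2 → s = c.z) :
    IF.op p A ≠ ⊥ ∨ ∀ a ∈ A, a * c.z = c.z * a := by
  have h2 : (2 : E) ≠ 0 := H215.IFM.two_ne hodd
  have hcf : Fintype.card ↥(_root_.Cfsg.Agent.Cit.HexBase.fx (RingEquiv.refl E)) = Fintype.card E := card_fx
  have hK' : c.K1 ≤ A ∨ c.K4 ≤ A := by
    rcases hK with h | h
    · left
      rintro _ ⟨x, rfl⟩
      exact h x
    · right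
      rintro _ ⟨x, rfl⟩
      exact h x
  have hform : ∀ g ∈ A, g * c.z = c.z * g → ∃ x y, g = c.pb x * c.p4 y := fun g hg hgz =>
    c.mem_L0 (c.no_outer h2 h1 hK' hg hgz)
  have hz1 : c.pb (-1) = c.z := by rw [neg_one_eq]; rfl
  have hz2 : c.p4 (-1) = c.z := by rw [neg_one_eq, HexGrp.z_eq_p4]
  have hcz' : (Fintype.card E * (Fintype.card E ^ 2 - 1)) * (Fintype.card E * (Fintype.card E ^ 2 - 1)) ≤
      Nat.card (centralizer ({c.z} : Set L)) := by
    rw [hcz, card_sl2, card_sl2, hcf]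
  have : CharP ↥(_root_.Cfsg.Agent.Cit.HexBase.fx (RingEquiv.refl E)) p := charP_of_injective_ringHom (f := (fxE (E := E)).symm.toRingHom) (fxE (E := E)).symm.injective p
  rcases hK with h | h
  · exact rank_one_aux (q := Fintype.card E) rfl hcf h5 hodd c.pb c.p4 (c.pb_inj h2) c.p4_inj
      (fun x y => c.comm_pb_p4 x y) hz1 hz2 (c.z_ne h2)
      (fun g hg => by
        obtain ⟨y, hy⟩ := c.centralizer_K1 h2 hg
        exact ⟨y, hy.symm⟩)
      (fun g hg v => c.CZ_pb h2 hg v) hform h h1 hcz' hb hO'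
  · exact rank_one_aux (q := Fintype.card E) (E₁ := ↥(_root_.Cfsg.Agent.Cit.HexBase.fx (RingEquiv.refl E))) (E₂ := E) hcf rfl h5 hodd c.p4 c.pb
      c.p4_inj (c.pb_inj h2) (fun x y => (c.comm_pb_p4 y x).symm) hz2 hz1 (c.z_ne h2)
      (fun g hg => by
        obtain ⟨y, hy⟩ := c.centralizer_K4 h2 hg
        exact ⟨y, hy.symm⟩)
      (fun g hg v => c.CZ_p4 h2 hg v)
      (fun g hg hgz => by
        obtain ⟨x, y, rfl⟩ := hform g hg hgz
        exact ⟨y, x, c.comm_pb_p4 x y⟩) h h1 hcz' hb hO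

/-- what is needed from step C -/
def StepC : Prop :=
  ∀ A : Subgroup L, c.z ∈ A → (∃ s ∈ A, s * c.z = c.z * s ∧ orderOf s = 2 ∧ s ≠ c.z) → (c.K1 ≤ A ∨ c.K4 ≤ A) →
    Bd c A → c.K1 ≤ A ∧ c.K4 ≤ A

theorem mem_map_conj {A : Subgroup L} {g x : L} :
    x ∈ A.map (MulAut.conj g⁻¹).toMonoidHom ↔ g * x * g⁻¹ ∈ A := by
  constructor
  · rintro ⟨y, hy, rfl⟩
    have : g * ((MulAut.conj g⁻¹).toMonoidHom y) * g⁻¹ = y := by
      change g * (g⁻¹ * y * g⁻¹⁻¹) * g⁻¹ = y
      group
    rw [this]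
    exact hy
  · intro h
    refine ⟨_, h, ?_⟩
    change g⁻¹ * (g * x * g⁻¹) * g⁻¹⁻¹ = x
    group

theorem killE_hex [IsSimpleGroup L] (hna : ∃ a b : L, a * b ≠ b * a) (h5 : 5 ≤ Fintype.card E)
    (hodd : Odd (Fintype.card E)) {p : ℕ} [Fact p.Prime] [CharP E p]
    (hcz : Nat.card (centralizer ({c.z} : Set L)) = Nat.card (SL2 E) * Nat.card (SL2 ↥(_root_.Cfsg.Agent.Cit.HexBase.fx (RingEquiv.refl E))))
    (hidx : (centralizer ({c.z} : Set L)).index =
      Fintype.card E ^ 4 * (Fintype.card E ^ 4 + Fintype.card E ^ 2 + 1))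
    (hop : ∀ (A : Subgroup L) (Γ : Subgroup (MulAut L)), IF A Γ → IF.op p A ≠ ⊥ →
      ∃ s ∈ A, ∃ t ∈ A, s ≠ t ∧ s * t = t * s ∧ orderOf s = 2 ∧ orderOf t = 2)
    (hO : OddSL E p) [Fintype ↥(_root_.Cfsg.Agent.Cit.HexBase.fx (RingEquiv.refl E))] (hO' : OddSL ↥(_root_.Cfsg.Agent.Cit.HexBase.fx (RingEquiv.refl E)) p) (hC : StepC c) :
    KillE L := by
  rintro A Γ h ⟨t0, ht0A, ht0⟩
  have h2 : (2 : E) ≠ 0 := H215.IFM.two_ne hodd
  have hzo := z_ord c h2
  have hconj : ∀ t : L, orderOf t = 2 → ∃ g, g * c.z * g⁻¹ = t := fun t ht => by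
    obtain ⟨h3, h4⟩ := orderOf_two.1 ht
    exact isConj_iff.1 (c.isConj_invol h2 c.z_sq (c.z_ne h2) h3 h4)
  have hord : ∀ g x : L, orderOf (g * x * g⁻¹) = orderOf x := fun g x => MulEquiv.orderOf_eq (MulAut.conj g) x
  have bd : ∀ (A : Subgroup L) (Γ : Subgroup (MulAut L)), IF A Γ → c.z ∈ A → Bd c A := by
    intro A Γ h hz
    have h3 := card_invol h hna hz hzo (B := centralizer {c.z}) le_rfl
    rw [hidx] at h3
    have h4 : {t : L | t ∈ A ∧ ∃ x : L, x * c.z * x⁻¹ = t} = {t : L | t ∈ A ∧ orderOf t = 2} := by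
      ext t
      constructor
      · rintro ⟨ht, x, rfl⟩
        exact ⟨ht, by rw [hord, hzo]⟩
      · rintro ⟨ht, ho⟩
        exact ⟨ht, hconj t ho⟩
    rw [h4] at h3
    exact h3
  have st1 : ∀ A : Subgroup L, c.z ∈ A → Bd c A → (∀ x, c.pb x ∈ A) ∨ (∀ y, c.p4 y ∈ A) := by
    intro A hz hb
    refine step1 c h5 hodd (lt_of_le_of_lt ?_ hb)
    refine Nat.le_mul_of_pos_right _ ?_
    rw [Set.ncard_pos]
    exact ⟨c.z, hz, hzo⟩
  by_cases hR : ∀ t ∈ A, orderOf t = 2 → ∃ s ∈ A, s * t = t * s ∧ orderOf s = 2 ∧ s ≠ t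
  · obtain ⟨h3, h4⟩ := orderOf_two.1 ht0
    refine h.ne_top (c.gen_all h2 ⟨t0, ht0A, h3, h4⟩ fun g hg x hx => ?_)
    obtain ⟨s, hsA, hsc, hso, hsn⟩ := hR _ hg (by rw [hord, hzo])
    have h' := h.map (MulAut.conj g⁻¹)
    have hz' : c.z ∈ A.map (MulAut.conj g⁻¹).toMonoidHom := mem_map_conj.2 hg
    have hb := bd _ _ h' hz'
    have hK : c.K1 ≤ A.map (MulAut.conj g⁻¹).toMonoidHom ∨ c.K4 ≤ A.map (MulAut.conj g⁻¹).toMonoidHom := by
      rcases st1 _ hz' hb with h6 | h6
      · left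
        rintro _ ⟨x, rfl⟩
        exact h6 x
      · right
        rintro _ ⟨x, rfl⟩
        exact h6 x
    have hse : g * (g⁻¹ * s * g) * g⁻¹ = s := by group
    obtain ⟨h6, h7⟩ := hC _ hz' ⟨g⁻¹ * s * g, mem_map_conj.2 (by rw [hse]; exact hsA), by
      have h8 : s * (g * c.z * g⁻¹) = g * c.z * g⁻¹ * s := hsc
      calc g⁻¹ * s * g * c.z = g⁻¹ * (s * (g * c.z * g⁻¹)) * g := by group
        _ = g⁻¹ * (g * c.z * g⁻¹ * s) * g := by rw [h8]
        _ = c.z * (g⁻¹ * s * g) := by group, by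
      have h8 := hord g (g⁻¹ * s * g)
      rw [hse] at h8
      rw [← h8, hso], fun h8 => hsn (by rw [← h8]; exact hse.symm)⟩ hK hb
    exact mem_map_conj.1 ((sup_le h6 h7 : c.L0 ≤ _) hx)
  · push Not at hR
    obtain ⟨t, htA, hto, ht⟩ := hR
    obtain ⟨g, rfl⟩ := hconj t hto
    have h' := h.map (MulAut.conj g⁻¹)
    have hz' : c.z ∈ A.map (MulAut.conj g⁻¹).toMonoidHom := mem_map_conj.2 htA
    have hb := bd _ _ h' hz'
    have h1 : ∀ s ∈ A.map (MulAut.conj g⁻¹).toMonoidHom, s * c.z = c.z * s → orderOf s = 2 → s = c.z := by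
      intro s hs hsz hso
      have h3 := ht _ (mem_map_conj.1 hs) (by
        calc g * s * g⁻¹ * (g * c.z * g⁻¹) = g * (s * c.z) * g⁻¹ := by group
          _ = g * (c.z * s) * g⁻¹ := by rw [hsz]
          _ = _ := by group) (by rw [hord, hso])
      exact mul_left_cancel (mul_right_cancel h3)
    rcases rank_one c h5 hodd hcz hO hO' hb (st1 _ hz' hb) h1 with h3 | h3
    · obtain ⟨s, hs, t, ht, hst, hc', hso, hto'⟩ := hop _ _ h' h3
      exact hst (sylow_uniq hz' hzo h1 hs ht hso hto' hc')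
    · have h4 := cent_le h' hz' hzo fun t ht hto' => h1 t ht (h3 t ht) hto'
      have h6 : c.z0 ∈ A.map (MulAut.conj g⁻¹).toMonoidHom := h4 (mem_centralizer_singleton_iff.2 c.z0_z)
      exact c.z0_ne_z h2 (h1 _ h6 c.z0_z (orderOf_two.2 ⟨c.z0_sq, c.z0_ne_one h2⟩))

end hex

end Cfsg.Agent.H132.IFG
end

-- part: H132/IFG/Final0
section
/-!
# S5719, cell `g2`, `q` odd: instance `G₂(q)`
-/

set_option autoImplicit false
set_option linter.unusedSectionVars false

namespace Cfsg.Agent.H132.IFG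

open Subgroup Cfsg Cfsg.Lie Cfsg.Agent.H215.IFM Cfsg.Agent.H209.Fxy
open Cfsg.Agent.Cit.HexBase Cfsg.Agent.Lib.SL2Mat

section hex

variable {E : Type*} [Field E] [Fintype E] {L : Type*} [Group L] [Finite L] (c : HexGrp (RingEquiv.refl E) L)

include c in
theorem not_comm (h2 : (2 : E) ≠ 0) : ∃ a b : L, a * b ≠ b * a := by
  by_contra hcon
  push Not at hcon
  exact wm_not_central (K := E) fun x => c.pb_inj h2 (by rw [map_mul, map_mul, hcon])

theorem index_of_card (hcz : Nat.card (centralizer ({c.z} : Set L)) =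
      Nat.card (SL2 E) * Nat.card (SL2 ↥(_root_.Cfsg.Agent.Cit.HexBase.fx (RingEquiv.refl E))))
    (hL : Nat.card L = Fintype.card E ^ 6 * (Fintype.card E ^ 2 - 1) * (Fintype.card E ^ 6 - 1)) :
    (centralizer ({c.z} : Set L)).index =
      Fintype.card E ^ 4 * (Fintype.card E ^ 4 + Fintype.card E ^ 2 + 1) := by
  classical
  have : Fintype ↥(_root_.Cfsg.Agent.Cit.HexBase.fx (RingEquiv.refl E)) := Fintype.ofFinite _
  have h1 := (centralizer ({c.z} : Set L)).card_mul_index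
  rw [hcz, card_sl2, card_sl2, card_fx, hL] at h1
  have hq : 2 ≤ Fintype.card E := Fintype.one_lt_card
  generalize (centralizer ({c.z} : Set L)).index = n at h1
  generalize Fintype.card E = q at *
  have h2 : 4 ≤ q ^ 2 := by nlinarith only [hq]
  obtain ⟨a, ha⟩ : ∃ a, q ^ 2 = a + 1 := ⟨q ^ 2 - 1, by omega⟩
  have e6 : q ^ 6 - 1 = a * (q ^ 4 + q ^ 2 + 1) := by
    have h3 : q ^ 6 = (q ^ 2) ^ 3 := by ring
    have h4 : q ^ 4 = (q ^ 2) ^ 2 := by ring
    rw [h3, h4, ha]
    have : (a + 1) ^ 3 = a * ((a + 1) ^ 2 + (a + 1) + 1) + 1 := by ring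
    omega
  have e2 : q ^ 2 - 1 = a := by omega
  rw [e6, e2] at h1
  have ha0 : 0 < a := by omega
  have hq0 : 0 < q := by omega
  have h5 : 0 < q * a * (q * a) := by positivity
  refine Nat.eq_of_mul_eq_mul_left h5 ?_
  rw [h1]
  ring

end hex

/-- **`G₂(q)`, `q ≥ 5` odd**, modulo the order of `C(z)`, step C and subgroups of `SL₂(q)` -/
theorem killE_g2_of (F : Type) [Field F] [Fintype F] (h5 : 5 ≤ Fintype.card F) (hodd : Odd (Fintype.card F))
    {p : ℕ} [Fact p.Prime] [CharP F p] (hs : IsSimpleGroup (chevG2.group F))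
    (hcz : ∀ h2 : (2 : F) ≠ 0, Nat.card (centralizer ({(Cit.HexG2.g2 F h2).z} : Set ↥(chevG2.group F))) =
      Nat.card (SL2 F) * Nat.card (SL2 ↥(_root_.Cfsg.Agent.Cit.HexBase.fx (RingEquiv.refl F))))
    (hO : OddSL F p) [Fintype ↥(_root_.Cfsg.Agent.Cit.HexBase.fx (RingEquiv.refl F))] (hO' : OddSL ↥(_root_.Cfsg.Agent.Cit.HexBase.fx (RingEquiv.refl F)) p)
    (hC : ∀ h2 : (2 : F) ≠ 0, StepC (Cit.HexG2.g2 F h2)) : KillE (chevG2.group F) := by
  have h2 : (2 : F) ≠ 0 := H215.IFM.two_ne hodd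
  have hL : Nat.card ↥(chevG2.group F) =
      Fintype.card F ^ 6 * (Fintype.card F ^ 2 - 1) * (Fintype.card F ^ 6 - 1) := Cfsg.Agent.S1059.result rfl
  exact killE_hex (Cit.HexG2.g2 F h2) (not_comm (Cit.HexG2.g2 F h2) h2) h5 hodd (p := p) (hcz h2)
    (index_of_card _ (hcz h2) hL) (fun A Γ h hne => IF.two_of_op h2 p h hne) hO hO' (hC h2)

end Cfsg.Agent.H132.IFG
end

-- part: H917/IFG/OddSL
section
/-!
# S5719: subgroups `Y ∋ -1` of `SL₂(q)`, `q` odd, without elements of order four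

`odd_sl` : if moreover `|Y| > q + 1` then `|Y| ∣ q (q - 1)`, `Y` has no normal `r`-subgroup `≠ 1` for odd `r ≠ p`
and `¬ 4 ∣ |Y|`.
-/

set_option autoImplicit false

namespace Cfsg.Agent.H917.IFG

open Cfsg Cfsg.Agent.Cit.HexBase Cfsg.Agent.Lib.SL2Mat
open scoped commutatorElement

universe u

section mat

variable {F : Type u} [Field F]

/-- the trace -/
def tr (x : SL2 F) : F := ent x 0 0 + ent x 1 1

/-- `ent 0 0 - ent 1 1` -/
def df (x : SL2 F) : F := ent x 0 0 - ent x 1 1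

theorem disc (x : SL2 F) : df x ^ 2 + 4 * ent x 0 1 * ent x 1 0 = tr x ^ 2 - 4 := by
  have := det_eq x
  unfold df tr
  linear_combination -4 * this

theorem comm_rel {e y : SL2 F} (h : e * y = y * e) : ent e 0 1 * ent y 1 0 = ent e 1 0 * ent y 0 1 ∧
    df e * ent y 0 1 = ent e 0 1 * df y ∧ df e * ent y 1 0 = ent e 1 0 * df y := by
  have h00 := congrArg (fun x => ent x 0 0) h
  have h01 := congrArg (fun x => ent x 0 1) h
  have h10 := congrArg (fun x => ent x 1 0) h
  simp only [ent_mul] at h00 h01 h10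
  unfold df
  refine ⟨by linear_combination h00, by linear_combination h01, by linear_combination -h10⟩

/-- not all of the three coordinates vanish -/
theorem nz {e : SL2 F} (he : tr e ^ 2 ≠ 4) : ent e 0 1 ≠ 0 ∨ ent e 1 0 ≠ 0 ∨ df e ≠ 0 := by
  by_contra hcon
  push Not at hcon
  obtain ⟨h1, h2, h3⟩ := hcon
  have := disc e
  rw [h1, h3] at this
  apply he
  linear_combination -this

theorem exists_kappa {e y : SL2 F} (he : tr e ^ 2 ≠ 4) (h : e * y = y * e) :
    ∃ κ : F, ent y 0 1 = κ * ent e 0 1 ∧ ent y 1 0 = κ * ent e 1 0 ∧ df y = κ * df e := by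
  obtain ⟨r1, r2, r3⟩ := comm_rel h
  by_cases hb : ent e 0 1 = 0
  · by_cases hc : ent e 1 0 = 0
    · have hd : df e ≠ 0 := by
        rcases nz he with h | h | h
        · exact absurd hb h
        · exact absurd hc h
        · exact h
      rw [hb, zero_mul] at r2
      rw [hc, zero_mul] at r3
      refine ⟨df y / df e, ?_, ?_, ?_⟩
      · rw [hb, mul_zero]
        exact (mul_eq_zero.1 r2).resolve_left hd
      · rw [hc, mul_zero]
        exact (mul_eq_zero.1 r3).resolve_left hd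
      · field_simp
    · rw [hb, zero_mul] at r1
      refine ⟨ent y 1 0 / ent e 1 0, ?_, ?_, ?_⟩
      · rw [hb, mul_zero]
        exact (mul_eq_zero.1 r1.symm).resolve_left hc
      · field_simp
      · field_simp
        linear_combination -r3
  · refine ⟨ent y 0 1 / ent e 0 1, ?_, ?_, ?_⟩
    · field_simp
    · field_simp
      linear_combination r1
    · field_simp
      linear_combination -r2

/-- two elements are equal if trace, `df` and the off-diagonal entries agree -/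
theorem ext_tr (h2 : (2 : F) ≠ 0) {x y : SL2 F} (ht : tr x = tr y) (h01 : ent x 0 1 = ent y 0 1)
    (h10 : ent x 1 0 = ent y 1 0) (hd : df x = df y) : x = y := by
  unfold tr at ht
  unfold df at hd
  refine ext_ent ?_ h01 h10 ?_
  · have : (2 : F) * (ent x 0 0 - ent y 0 0) = 0 := by linear_combination ht + hd
    exact sub_eq_zero.1 ((mul_eq_zero.1 this).resolve_left h2)
  · have : (2 : F) * (ent x 1 1 - ent y 1 1) = 0 := by linear_combination ht - hd
    exact sub_eq_zero.1 ((mul_eq_zero.1 this).resolve_left h2)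

/-- a commuting element with the same trace is `e` or `e⁻¹` -/
theorem eq_or_inv (h2 : (2 : F) ≠ 0) {e y : SL2 F} (he : tr e ^ 2 ≠ 4) (h : e * y = y * e) (ht : tr y = tr e) :
    y = e ∨ y = e⁻¹ := by
  obtain ⟨κ, k1, k3, k4⟩ := exists_kappa he h
  have d1 := disc e
  have d2 := disc y
  have hk : (κ - 1) * (κ + 1) = 0 := by
    rw [k1, k3, k4, ht] at d2
    have hne : tr e ^ 2 - 4 ≠ 0 := sub_ne_zero.2 he
    have : (tr e ^ 2 - 4) * ((κ - 1) * (κ + 1)) = 0 := by linear_combination d2 - κ ^ 2 * d1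
    exact (mul_eq_zero.1 this).resolve_left hne
  rcases mul_eq_zero.1 hk with h3 | h3
  · left
    have h4 : κ = 1 := sub_eq_zero.1 h3
    rw [h4, one_mul] at k1 k3 k4
    exact ext_tr h2 ht k1 k3 k4
  · right
    have h4 : κ = -1 := eq_neg_of_add_eq_zero_left h3
    rw [h4, neg_one_mul] at k1 k3 k4
    refine ext_tr h2 ?_ ?_ ?_ ?_
    · rw [ht, ent_inv]
      unfold tr
      simp only [mk_00, mk_11]
      ring
    · rw [k1, ent_inv, mk_01]
    · rw [k3, ent_inv, mk_10]
    · rw [k4, ent_inv]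
      unfold df
      simp only [mk_00, mk_11]
      ring

theorem tr_conj (x y : SL2 F) : tr (y * x * y⁻¹) = tr x := by
  have hd := det_eq y
  rw [ent_inv y]
  unfold tr
  simp only [ent_mul, mk_00, mk_01, mk_10, mk_11]
  linear_combination (ent x 0 0 + ent x 1 1) * hd

/-- an element inverting `e` has square `-1` -/
theorem sq_of_inv {e y : SL2 F} (he : tr e ^ 2 ≠ 4) (h : y * e * y⁻¹ = e⁻¹) : y * y = -1 := by
  rw [mul_inv_eq_iff_eq_mul] at h
  have h00 := congrArg (fun x => ent x 0 0) h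
  have h01 := congrArg (fun x => ent x 0 1) h
  have h10 := congrArg (fun x => ent x 1 0) h
  have h11 := congrArg (fun x => ent x 1 1) h
  rw [ent_inv e] at h00 h01 h10 h11
  simp only [ent_mul, mk_00, mk_01, mk_10, mk_11] at h00 h01 h10 h11
  have ht : tr y = 0 := by
    rcases nz he with h | h | h
    · have : ent e 0 1 * tr y = 0 := by unfold tr; linear_combination h01
      exact (mul_eq_zero.1 this).resolve_left h
    · have : ent e 1 0 * tr y = 0 := by unfold tr; linear_combination h10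
      exact (mul_eq_zero.1 this).resolve_left h
    · have : df e * tr y = 0 := by unfold tr df; linear_combination h00 - h11
      exact (mul_eq_zero.1 this).resolve_left h
  unfold tr at ht
  have hd := det_eq y
  have n00 : ent (-1 : SL2 F) 0 0 = -1 := by simp [ent]
  have n01 : ent (-1 : SL2 F) 0 1 = 0 := by simp [ent]
  have n10 : ent (-1 : SL2 F) 1 0 = 0 := by simp [ent]
  have n11 : ent (-1 : SL2 F) 1 1 = -1 := by simp [ent]
  refine ext_ent ?_ ?_ ?_ ?_
  · rw [n00, ent_mul]; linear_combination ent y 0 0 * ht - hd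
  · rw [n01, ent_mul]; linear_combination ent y 0 1 * ht
  · rw [n10, ent_mul]; linear_combination ent y 1 0 * ht
  · rw [n11, ent_mul]; linear_combination ent y 1 1 * ht - hd

/-- the powers of an element of trace two -/
theorem pow_ent {x : SL2 F} (ht : tr x = 2) (n : ℕ) : ent (x ^ n) 0 0 = 1 + n * (ent x 0 0 - 1) ∧
    ent (x ^ n) 0 1 = n * ent x 0 1 ∧ ent (x ^ n) 1 0 = n * ent x 1 0 ∧
    ent (x ^ n) 1 1 = 1 + n * (ent x 1 1 - 1) := by
  have hd := det_eq x
  unfold tr at ht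
  induction n with
  | zero => simp only [_root_.pow_zero, _root_.Fin.isValue, _root_.Cfsg.Agent.Lib.SL2Mat.ent_one_00, _root_.Nat.cast_zero, _root_.MulZeroClass.zero_mul, _root_.add_zero, _root_.Cfsg.Agent.Lib.SL2Mat.ent_one_01, _root_.Cfsg.Agent.Lib.SL2Mat.ent_one_10, _root_.Cfsg.Agent.Lib.SL2Mat.ent_one_11, _root_.and_self]
  | succ n ih =>
    obtain ⟨i1, i2, i3, i4⟩ := ih
    rw [pow_succ]
    simp only [ent_mul, i1, i2, i3, i4]
    push_cast
    refine ⟨?_, ?_, ?_, ?_⟩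
    · linear_combination (n : F) * ent x 0 0 * ht - (n : F) * hd
    · linear_combination (n : F) * ent x 0 1 * ht
    · linear_combination (n : F) * ent x 1 0 * ht
    · linear_combination (n : F) * ent x 1 1 * ht - (n : F) * hd

theorem pow_char {p : ℕ} [CharP F p] {x : SL2 F} (ht : tr x = 2) : x ^ p = 1 := by
  obtain ⟨i1, i2, i3, i4⟩ := pow_ent ht p
  rw [CharP.cast_eq_zero, zero_mul] at i1 i2 i3 i4
  refine ext_ent ?_ ?_ ?_ ?_
  · rw [i1, add_zero, ent_one_00]
  · rw [i2, ent_one_01]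
  · rw [i3, ent_one_10]
  · rw [i4, add_zero, ent_one_11]

/-- elements of odd prime order `r ≠ p` have trace `≠ ± 2` -/
theorem tr_ne {p : ℕ} [hp : Fact p.Prime] [CharP F p] {r : ℕ} (hr : r.Prime) (hr2 : r ≠ 2) (hrp : r ≠ p)
    {e : SL2 F} (her : e ^ r = 1) (he : e ≠ 1) : tr e ^ 2 ≠ 4 := by
  intro h
  have h3 : (tr e - 2) * (tr e + 2) = 0 := by linear_combination h
  have hcop : Nat.Coprime r (2 * p) :=
    Nat.Coprime.mul_right ((Nat.coprime_primes hr Nat.prime_two).2 hr2) ((Nat.coprime_primes hr hp.out).2 hrp)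
  have key : e ^ (2 * p) = 1 := by
    rcases mul_eq_zero.1 h3 with h4 | h4
    · rw [mul_comm, pow_mul, pow_char (sub_eq_zero.1 h4), one_pow]
    · have h5 : tr (-e) = 2 := by
        have h6 : tr (-e) = -tr e := by
          unfold tr ent
          simp only [_root_.Fin.isValue, _root_.Matrix.SpecialLinearGroup.coe_neg, _root_.Matrix.neg_apply, _root_.neg_add_rev]
          ring
        rw [h6]
        linear_combination -h4
      have h6 : (-e) ^ p = 1 := pow_char h5
      have h7 : (-e) ^ 2 = e ^ 2 := by rw [pow_two, pow_two, neg_mul_neg]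
      rw [pow_mul, ← h7, ← pow_mul, mul_comm, pow_mul, h6, one_pow]
  have h8 : orderOf e ∣ 1 := by
    rw [← hcop.gcd_eq_one]
    exact Nat.dvd_gcd (orderOf_dvd_of_pow_eq_one her) (orderOf_dvd_of_pow_eq_one key)
  exact he (orderOf_eq_one_iff.1 (Nat.dvd_one.1 h8))

/-- a nontrivial element of trace two is conjugate to an upper unitriangular one -/
theorem conj_up {x : SL2 F} (ht : tr x = 2) : ∃ (g : SL2 F) (a : F), g⁻¹ * x * g = up a := by
  have hd := det_eq x
  unfold tr at ht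
  by_cases hc : ent x 1 0 = 0
  · refine ⟨1, ent x 0 1, ?_⟩
    rw [inv_one, one_mul, mul_one]
    rw [hc, mul_zero, sub_zero] at hd
    have h1 : ent x 0 0 = 1 := by
      have : (ent x 0 0 - 1) ^ 2 = 0 := by linear_combination ent x 0 0 * ht - hd
      exact sub_eq_zero.1 (pow_eq_zero_iff (by norm_num) |>.1 this)
    refine ext_ent ?_ ?_ ?_ ?_
    · rw [up_00, h1]
    · rw [up_01]
    · rw [up_10, hc]
    · rw [up_11]
      linear_combination ht - h1
  · refine ⟨mk (ent x 0 0 - 1) (-(ent x 1 0)⁻¹) (ent x 1 0) 0 (by field_simp; ring), -(ent x 1 0)⁻¹, ?_⟩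
    rw [mul_assoc, inv_mul_eq_iff_eq_mul]
    refine ext_ent ?_ ?_ ?_ ?_ <;> simp only [ent_mul, mk_00, mk_01, mk_10, mk_11, up_00, up_01, up_10, up_11]
    · linear_combination ent x 0 0 * ht - hd
    · field_simp
      ring
    · field_simp
      linear_combination ent x 1 0 * ht
    · field_simp
      ring

/-- the Borel subgroup -/
def Bo (F : Type u) [Field F] : Subgroup (SL2 F) where
  carrier := {x | ent x 1 0 = 0}
  one_mem' := ent_one_10
  mul_mem' := by
    intro x y hx hy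
    change ent (x * y) 1 0 = 0
    rw [ent_mul, show ent x 1 0 = 0 from hx, show ent y 1 0 = 0 from hy]
    ring
  inv_mem' := by
    intro x hx
    change ent x⁻¹ 1 0 = 0
    rw [ent_inv, mk_10, show ent x 1 0 = 0 from hx, neg_zero]

theorem mem_Bo {x : SL2 F} : x ∈ Bo F ↔ ent x 1 0 = 0 := Iff.rfl

theorem Bo_ne {x : SL2 F} (hx : x ∈ Bo F) : ent x 0 0 * ent x 1 1 = 1 := by
  have := det_eq x
  rw [mem_Bo.1 hx] at this
  linear_combination this

theorem card_Bo [Fintype F] : Nat.card (Bo F) = Fintype.card F * (Fintype.card F - 1) := by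
  classical
  have e : ↥(Bo F) ≃ Fˣ × F :=
    { toFun := fun x => (Units.mkOfMulEqOne _ _ (Bo_ne x.2), ent x 0 1)
      invFun := fun t => ⟨mk (t.1 : F) t.2 0 ((t.1⁻¹ : Fˣ) : F) (by simp), mk_10 _ _ _ _ _⟩
      left_inv := by
        intro x
        apply Subtype.ext
        have h := Bo_ne x.2
        refine ext_ent ?_ ?_ ?_ ?_
        · rw [mk_00]; rfl
        · rw [mk_01]
        · rw [mk_10]; exact (mem_Bo.1 x.2).symm
        · rw [mk_11]; rfl
      right_inv := by
        rintro ⟨t, b⟩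
        refine Prod.ext (Units.ext ?_) ?_
        · rfl
        · rfl }
  rw [Nat.card_congr e, Nat.card_prod, Nat.card_units, Nat.card_eq_fintype_card, mul_comm]

end mat

section grp

variable {F : Type u} [Field F] [Fintype F]

/-- a subgroup centralising a semisimple non-central element has order at most `q + 1` -/
theorem card_le_of_comm (h2 : (2 : F) ≠ 0) {e : SL2 F} (he : tr e ^ 2 ≠ 4) {Y : Subgroup (SL2 F)}
    (hY : ∀ y ∈ Y, e * y = y * e) : Nat.card Y ≤ Fintype.card F + 1 := by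
  classical
  have hΔ : tr e ^ 2 - 4 ≠ 0 := sub_ne_zero.2 he
  have h4 : (4 : F) ≠ 0 := by
    have : (4 : F) = 2 * 2 := by norm_num
    rw [this]
    exact mul_ne_zero h2 h2
  choose κ k1 k2 k3 using fun y : Y => exists_kappa he (hY y y.2)
  have hrel : ∀ y : Y, κ y ^ 2 * (tr e ^ 2 - 4) = (tr (y : SL2 F) - 2) * (tr (y : SL2 F) - 2 + 4) := by
    intro y
    have d1 := disc e
    have d2 := disc (y : SL2 F)
    rw [k1, k2, k3] at d2
    linear_combination d2 - κ y ^ 2 * d1
  have t1 : tr (1 : SL2 F) = 2 := by unfold tr; rw [ent_one_00, ent_one_11]; norm_num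
  have hτ : ∀ y : Y, y ≠ 1 → tr (y : SL2 F) - 2 ≠ 0 := by
    intro y hy h
    apply hy
    have h3 := hrel y
    rw [h, zero_mul] at h3
    have h5 : κ y = 0 := by
      have := (mul_eq_zero.1 h3).resolve_right hΔ
      exact pow_eq_zero_iff (by norm_num) |>.1 this
    apply Subtype.ext
    refine ext_tr h2 ?_ ?_ ?_ ?_
    · rw [Subgroup.coe_one, t1]; exact sub_eq_zero.1 h
    · rw [k1, h5, zero_mul]; rfl
    · rw [k2, h5, zero_mul]; rfl
    · rw [k3, h5, zero_mul]
      unfold df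
      rw [Subgroup.coe_one, ent_one_00, ent_one_11, sub_self]
  let f : Y → Option F := fun y => if y = 1 then none else some (κ y / (tr (y : SL2 F) - 2))
  have hf : Function.Injective f := by
    intro y y' h
    by_cases hy : y = 1
    · by_cases hy' : y' = 1
      · rw [hy, hy']
      · simp only [f, hy, hy', if_true, if_false] at h
        exact absurd h (by simp)
    · by_cases hy' : y' = 1
      · simp only [f, hy, hy', if_true, if_false] at h
        exact absurd h (by simp)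
      · simp only [f, hy, hy', if_false, Option.some.injEq] at h
        have n1 := hτ y hy
        have n2 := hτ y' hy'
        have r1 := hrel y
        have r2 := hrel y'
        rw [div_eq_div_iff n1 n2] at h
        have e1 : tr (y : SL2 F) = tr (y' : SL2 F) := by
          have h5 : (tr (y : SL2 F) - 2) * (tr (y' : SL2 F) - 2) * 4 * (tr (y : SL2 F) - tr (y' : SL2 F)) = 0 := by
            have h6 : κ y ^ 2 * (tr e ^ 2 - 4) * (tr (y' : SL2 F) - 2) ^ 2 =
                κ y' ^ 2 * (tr e ^ 2 - 4) * (tr (y : SL2 F) - 2) ^ 2 := by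
              have h7 : (κ y * (tr (y' : SL2 F) - 2)) ^ 2 = (κ y' * (tr (y : SL2 F) - 2)) ^ 2 := by rw [h]
              linear_combination (tr e ^ 2 - 4) * h7
            rw [r1, r2] at h6
            linear_combination -h6
          have h6 := (mul_eq_zero.1 h5).resolve_left (mul_ne_zero (mul_ne_zero n1 n2) h4)
          exact sub_eq_zero.1 h6
        have e2 : κ y = κ y' := by
          rw [e1] at h
          exact mul_right_cancel₀ n2 h
        apply Subtype.ext
        refine ext_tr h2 e1 ?_ ?_ ?_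
        · rw [k1, k1, e2]
        · rw [k2, k2, e2]
        · rw [k3, k3, e2]
  have h1 := Nat.card_le_card_of_injective f hf
  rw [Nat.card_eq_fintype_card (α := Option F), Fintype.card_option] at h1
  exact h1

theorem card_le_of_elt {p : ℕ} [hp : Fact p.Prime] [CharP F p] (h2 : (2 : F) ≠ 0) {Y : Subgroup (SL2 F)}
    (hw : ∀ w ∈ Y, w * w ≠ -1) {r : ℕ} (hr : r.Prime) (hr2 : r ≠ 2) (hrp : r ≠ p) {e : SL2 F} (her : e ^ r = 1)
    (he : e ≠ 1) (hc : ∀ y ∈ Y, e * (y * e * y⁻¹) = y * e * y⁻¹ * e) : Nat.card Y ≤ Fintype.card F + 1 := by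
  have ht := tr_ne hr hr2 hrp her he
  refine card_le_of_comm h2 ht fun y hy => ?_
  rcases eq_or_inv h2 ht (hc y hy) (tr_conj e y) with h | h
  · rw [mul_inv_eq_iff_eq_mul] at h
    exact h.symm
  · exact absurd (sq_of_inv ht h) (hw y hy)

/-- **Subgroups without elements of order four.** -/
theorem odd_sl {p : ℕ} [hp : Fact p.Prime] [CharP F p] (h2 : (2 : F) ≠ 0) (Y : Subgroup (SL2 F))
    (hY : (-1 : SL2 F) ∈ Y) (hw : ∀ w ∈ Y, w * w ≠ -1) (hbig : Fintype.card F + 1 < Nat.card Y) :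
    Nat.card Y ∣ Fintype.card F * (Fintype.card F - 1) ∧
      (∀ r : ℕ, r.Prime → r ≠ 2 → r ≠ p → ∀ D : Subgroup (SL2 F), D ≤ Y → IsPGroup r D →
        (∀ y ∈ Y, ∀ x ∈ D, y * x * y⁻¹ ∈ D) → D = ⊥) ∧ ¬ 4 ∣ Nat.card Y := by
  classical
  have hm1 : (-1 : SL2 F) ≠ 1 := by
    intro h
    have h1 := congrArg (fun x : SL2 F => ent x 0 0) h
    simp only [ent_one_00] at h1
    have h3 : ent (-1 : SL2 F) 0 0 = -1 := by simp [ent]
    rw [h3] at h1
    exact h2 (by linear_combination -h1)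
  have hdg : (dg (-1) (neg_ne_zero.2 one_ne_zero) : SL2 F) = -1 := by
    refine ext_ent ?_ ?_ ?_ ?_ <;> simp [ent, dg, mk]
  have hsq : ∀ x : SL2 F, x * x = 1 → x = 1 ∨ x = -1 := by
    intro x hx
    rcases Cfsg.Agent.Cit.HexBase.sl_sq_one h2 hx with h | h
    · exact Or.inl h
    · exact Or.inr (h.trans hdg)
  have h4 : ¬ 4 ∣ Nat.card Y := by
    intro h
    have hf : Fact (Nat.Prime 2) := ⟨Nat.prime_two⟩
    obtain ⟨K, hK⟩ := Sylow.exists_subgroup_card_pow_prime (G := Y) 2 (n := 2) ((dvd_of_eq (by norm_num : 2 ^ 2 = 4)).trans h)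
    have hK1 : ∀ k ∈ K, (k : SL2 F) = 1 ∨ (k : SL2 F) = -1 := by
      intro k hk
      have h5 : (⟨k, hk⟩ : K) ^ Nat.card K = 1 := pow_card_eq_one'
      rw [hK] at h5
      have h5' : (k : SL2 F) ^ 2 ^ 2 = 1 := congrArg (fun x : K => ((x : Y) : SL2 F)) h5
      have h6 : ((k : SL2 F) * k) * ((k : SL2 F) * k) = 1 := by
        rw [← pow_two, ← pow_two, ← pow_mul]
        exact h5'
      rcases hsq _ h6 with h7 | h7
      · exact hsq _ h7
      · exact absurd h7 (hw k k.2)
    have h5 : (K : Set Y) ⊆ {1, ⟨-1, hY⟩} := by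
      intro k hk
      rcases hK1 k hk with h6 | h6
      · left; exact Subtype.ext h6
      · right; exact Subtype.ext h6
    have h6 := Set.ncard_le_ncard h5 (Set.toFinite _)
    have h7 : (K : Set Y).ncard = 2 ^ 2 := by rw [← Nat.card_coe_set_eq]; exact hK
    have h8 : ({1, ⟨-1, hY⟩} : Set Y).ncard ≤ 2 := Set.ncard_insert_le _ _ |>.trans (by rw [Set.ncard_singleton])
    omega
  -- elements of normal elementary abelian subgroups
  have key : ∀ (N : Subgroup Y), N.Normal → Odd (Nat.card N) → N ≠ ⊥ → ∃ (r : ℕ) (e : Y), r.Prime ∧ r ≠ 2 ∧ e ∈ N ∧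
      (e : SL2 F) ≠ 1 ∧ (e : SL2 F) ^ r = 1 ∧ (∀ y ∈ Y, (e : SL2 F) * (y * e * y⁻¹) = y * e * y⁻¹ * e) ∧ r = p := by
    intro N hN hNo hN1
    obtain ⟨r, R, hr, hr2, hRN, hR1, hRn, hRr, hRc⟩ := exists_elemAb hN hNo hN1
    obtain ⟨e, heR, he1⟩ := (Subgroup.bot_or_exists_ne_one R).resolve_left hR1
    have he1' : (e : SL2 F) ≠ 1 := fun h => he1 (Subtype.ext h)
    have her : (e : SL2 F) ^ r = 1 := congrArg Subtype.val (hRr e heR)
    have hc : ∀ y ∈ Y, (e : SL2 F) * (y * e * y⁻¹) = y * e * y⁻¹ * e := fun y hy =>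
      congrArg Subtype.val (hRc e heR _ (hRn.conj_mem e heR ⟨y, hy⟩))
    refine ⟨r, e, hr, hr2, hRN heR, he1', her, hc, ?_⟩
    by_contra hrp
    have := card_le_of_elt h2 hw hr hr2 hrp her he1' hc
    omega
  refine ⟨?_, ?_, h4⟩
  · -- the odd complement
    obtain ⟨m, hm⟩ : ∃ m : Y, m = ⟨-1, hY⟩ := ⟨_, rfl⟩
    have hmc : ∀ y : Y, y * m = m * y := by
      intro y
      apply Subtype.ext
      rw [hm]
      change (y : SL2 F) * -1 = -1 * y
      rw [mul_neg, neg_mul, mul_one, one_mul]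
    have hmo : orderOf m = 2 := by
      have hf : Fact (Nat.Prime 2) := ⟨Nat.prime_two⟩
      refine orderOf_eq_prime ?_ ?_
      · apply Subtype.ext
        rw [hm]
        change (-1 : SL2 F) ^ 2 = 1
        rw [pow_two, neg_mul_neg, one_mul]
      · rw [hm]
        exact fun h => hm1 (congrArg Subtype.val h)
    let Z : Subgroup Y := Subgroup.zpowers m
    have hZ2 : Nat.card Z = 2 := by rw [Nat.card_zpowers, hmo]
    have hZc : Z ≤ Subgroup.center Y := by
      rw [Subgroup.zpowers_le]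
      exact Subgroup.mem_center_iff.2 hmc
    have hZn : Z.Normal := ⟨fun x hx g => by
      have h := Subgroup.mem_center_iff.1 (hZc hx) g
      rw [h, mul_inv_cancel_right]
      exact hx⟩
    have hZi := Z.card_mul_index
    rw [hZ2] at hZi
    have hodd : Odd Z.index := by
      rw [← Nat.not_even_iff_odd]
      rintro ⟨k, hk⟩
      apply h4
      exact ⟨k, by rw [← hZi, hk]; ring⟩
    obtain ⟨H, hH⟩ := Subgroup.exists_right_complement'_of_coprime (N := Z) (by
      rw [hZ2]; exact Nat.coprime_two_left.2 hodd)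
    have hHc := hH.card_mul_card
    rw [hZ2, ← hZi] at hHc
    have hHc' : Nat.card H = Z.index := Nat.eq_of_mul_eq_mul_left (by norm_num) hHc
    have hHi : H.index = 2 := by
      have h5 := H.card_mul_index
      rw [hHc', ← hZi, mul_comm] at h5
      exact Nat.eq_of_mul_eq_mul_right (Nat.pos_of_ne_zero Subgroup.index_ne_zero_of_finite) h5
    have hHn : H.Normal := Subgroup.normal_of_index_eq_two hHi
    have hH1 : H ≠ ⊥ := by
      intro h
      rw [h, Subgroup.card_bot] at hHc'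
      have : 1 < Fintype.card F := Fintype.one_lt_card
      omega
    obtain ⟨r, e, hr, hr2, -, he1, her, hc, hrp⟩ := key H hHn (by rw [hHc']; exact hodd) hH1
    subst hrp
    -- the trace is two
    have ht : tr (e : SL2 F) = 2 := by
      have h5 : ((e : SL2 F) : Matrix (Fin 2) (Fin 2) F) ^ r = 1 := by
        rw [← Matrix.SpecialLinearGroup.coe_pow, her, Matrix.SpecialLinearGroup.coe_one]
      have h6 : (((e : SL2 F) : Matrix (Fin 2) (Fin 2) F) - 1) ^ r = 0 := by
        rw [sub_pow_char_of_commute _ (Commute.one_right _), h5, one_pow, sub_self]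
      have h7 := Matrix.isNilpotent_trace_of_isNilpotent (⟨r, h6⟩ : IsNilpotent (((e : SL2 F) : Matrix (Fin 2) (Fin 2) F) - 1))
      have h8 := h7.eq_zero
      rw [Matrix.trace_fin_two] at h8
      unfold tr ent
      simp only [_root_.Fin.isValue, _root_.Matrix.sub_apply, _root_.Matrix.one_apply_eq] at h8
      linear_combination h8
    obtain ⟨g, a, hga⟩ := conj_up ht
    have ha : a ≠ 0 := by
      rintro rfl
      apply he1
      rw [up_zero] at hga
      calc (e : SL2 F) = g * (g⁻¹ * e * g) * g⁻¹ := by group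
        _ = 1 := by rw [hga]; group
    have hB : ∀ y ∈ Y, g⁻¹ * y * g ∈ Bo F := by
      intro y hy
      have h5 := hc y hy
      obtain ⟨y', hy'⟩ : ∃ y', y' = g⁻¹ * y * g := ⟨_, rfl⟩
      have h6 : up a * (y' * up a * y'⁻¹) = y' * up a * y'⁻¹ * up a := by
        rw [← hga, hy']
        calc g⁻¹ * e * g * (g⁻¹ * y * g * (g⁻¹ * e * g) * (g⁻¹ * y * g)⁻¹) = g⁻¹ * (e * (y * e * y⁻¹)) * g := by group
          _ = _ := by rw [h5]; group
      rw [← hy']
      have h7 := (comm_rel h6).1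
      have h8 := (comm_rel h6).2.2
      rw [up_01, up_10, zero_mul, ent_inv y'] at h7
      simp only [ent_mul, mk_00, mk_10, up_00, up_01, up_10, up_11] at h7
      have h9 : a * (a * ent y' 1 0 ^ 2) = 0 := by linear_combination -h7
      have h10 := (mul_eq_zero.1 ((mul_eq_zero.1 h9).resolve_left ha)).resolve_left ha
      exact pow_eq_zero_iff (by norm_num) |>.1 h10
    have h5 : Y.map (MulAut.conj g⁻¹).toMonoidHom ≤ Bo F := by
      rintro _ ⟨y, hy, rfl⟩
      have := hB y hy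
      change g⁻¹ * y * g⁻¹⁻¹ ∈ Bo F
      rwa [inv_inv]
    have h6 := Subgroup.card_dvd_of_le h5
    rw [Subgroup.card_map_of_injective (MulAut.conj g⁻¹).injective, card_Bo] at h6
    exact h6
  · intro r hr hr2 hrp D hDY hDp hDn
    by_contra hD
    have hDn' : (D.subgroupOf Y).Normal := ⟨fun x hx y => hDn y y.2 x hx⟩
    have hDp' : IsPGroup r (D.subgroupOf Y) := hDp.comap_of_injective Y.subtype Y.subtype_injective
    have hrf : Fact r.Prime := ⟨hr⟩
    have hDo : Odd (Nat.card (D.subgroupOf Y)) := by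
      obtain ⟨k, hk⟩ := IsPGroup.iff_card.1 hDp'
      rw [hk]
      exact (hr.odd_of_ne_two hr2).pow
    have hD1 : D.subgroupOf Y ≠ ⊥ := by
      rw [Ne, Subgroup.subgroupOf_eq_bot, disjoint_iff, inf_eq_left.2 hDY]
      exact hD
    obtain ⟨r', e, hr', -, heD, he1, her, -, hr'p⟩ := key _ hDn' hDo hD1
    subst hr'p
    obtain ⟨k, hk⟩ := hDp ⟨e, heD⟩
    have h5 : (e : SL2 F) ^ r ^ k = 1 := congrArg Subtype.val hk
    have hcop : Nat.Coprime (r ^ k) r' := Nat.Coprime.pow_left k ((Nat.coprime_primes hr hr').2 hrp)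
    have h6 := Nat.dvd_gcd (orderOf_dvd_of_pow_eq_one h5) (orderOf_dvd_of_pow_eq_one her)
    rw [hcop.gcd_eq_one, Nat.dvd_one, orderOf_eq_one_iff] at h6
    exact he1 h6

end grp

end Cfsg.Agent.H917.IFG
end

-- part: H132/IFG/Final1
section
/-!
# S5719, cell `g2`, `q` odd: instance `G₂(q)`, modulo step C
-/

set_option autoImplicit false
set_option linter.unusedSectionVars false

namespace Cfsg.Agent.H132.IFG

open Subgroup Cfsg Cfsg.Lie Cfsg.Agent.H209.Fxy
open Cfsg.Agent.Cit.HexBase Cfsg.Agent.Lib.SL2Mat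

theorem oddSL (K : Type*) [Field K] [Fintype K] (p : ℕ) [Fact p.Prime] [CharP K p] (h2 : (2 : K) ≠ 0) : OddSL K p := by
  intro Y hY hw hbig
  obtain ⟨h1, h3, -⟩ := H917.IFG.odd_sl (p := p) h2 Y hY hw hbig
  have hq : 1 < Fintype.card K := Fintype.one_lt_card
  have : 0 < Fintype.card K * (Fintype.card K - 1) := by
    have : 0 < Fintype.card K - 1 := by omega
    positivity
  exact ⟨Nat.le_of_dvd this h1, h3⟩

/-- **`G₂(q)`, `q ≥ 5` odd**, modulo step C -/
theorem killE_g2_of_stepC (F : Type) [Field F] [Fintype F] (h5 : 5 ≤ Fintype.card F) (hodd : Odd (Fintype.card F))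
    (hs : IsSimpleGroup (chevG2.group F))
    (hC : ∀ h2 : (2 : F) ≠ 0, StepC (Cit.HexG2.g2 F h2)) : KillE (chevG2.group F) := by
  classical
  have h2 : (2 : F) ≠ 0 := H215.IFM.two_ne hodd
  obtain ⟨p, hp⟩ := CharP.exists F
  have hpp : Fact p.Prime := ⟨CharP.char_is_prime F p⟩
  have : Fintype ↥(_root_.Cfsg.Agent.Cit.HexBase.fx (RingEquiv.refl F)) := Fintype.ofFinite _
  have hch : CharP ↥(_root_.Cfsg.Agent.Cit.HexBase.fx (RingEquiv.refl F)) p :=
    charP_of_injective_ringHom (f := (fxE (E := F)).symm.toRingHom) (fxE (E := F)).symm.injective p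
  exact killE_g2_of F h5 hodd (p := p) hs (fun h2 => H625.IFx.card_CZ _ h2) (oddSL F p h2)
    (oddSL _ p fun h => h2 (congrArg Subtype.val h)) hC

end Cfsg.Agent.H132.IFG
end

private theorem dce_6ee258c6eeae : _root_.True := by
  try have : _root_.True := by simp only [_root_.Cfsg.Agent.Lib.SL2Mat.dg.eq_1]
  try have : _root_.True := by simp only [_root_.Cfsg.Agent.H132.IFG.mq.eq_1]
  exact _root_.True.intro
end
end
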