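import Cfsg.Agent.H469.IF.J3_m3
import Cfsg.Agent.H269.CubeJ3_mg_m3
import Cfsg.Agent.H244.IFG.Inst
import Cfsg.Agent.H209.EPX.Defs_m3
import Cfsg.Agent.H956.IF.Central
import Cfsg.Agent.S1059
import Cfsg.Agent.ChevalleyStructure.FieldIso
import Cfsg.Agent.Cit.HexG2
import Cfsg.Agent.S0799
import Cfsg.Agent.H344.DP.PslBound
import Cfsg.Agent.Lib.SL2Mat
import Mathlib
import Cfsg.Agent.H625.IF.Unip
import Cfsg.Agent.H751.IF.HexKill_m3
import Cfsg.Agent.S2177
import Cfsg.Agent.H800.IFx.Gen_m3
import Cfsg.Agent.H450.Bs.Herm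
import Cfsg.Agent.H358.Bs.Amb
import Cfsg.Agent.H847.Bs.Stmts
import Cfsg.Agent.LieClassical.HermPerfect
import Cfsg.Agent.S2148
import Cfsg.Agent.S2149
import Cfsg.Agent.H510.CS.Irr_m3
import Cfsg.Agent.S0806
import Cfsg.Agent.LargeExtra.W2.U43.Main
import Cfsg.Agent.LargeExtra.W2.U43.CertAll_m3
import Cfsg.Agent.ClassicalGeometry.PSUAutSylow
import Cfsg.Agent.H30.IF.Frob_m3
import Cfsg.Agent.SporadicRecognition.HypFast
import Cfsg.Agent.Co2Type.FactsCo2
import Cfsg.Agent.Schreier.CoTwoStab
import Cfsg.Agent.H285.IF.CoTwoA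
import Cfsg.Agent.S2070
import Cfsg.Agent.H248.SK.ONOut
import Cfsg.Agent.SporadicB.ON45Sub
import Cfsg.Agent.H680.ONThirtyOne_m3
import Cfsg.Agent.CpAutON.Gen
import Cfsg.Agent.GTwoRows.ONFin
import Cfsg.Agent.S2140
import Cfsg.Agent.KFacts.HS.Base
import Cfsg.Agent.HN.InvH0
import Cfsg.Agent.HN.CentUp
import Cfsg.Agent.HN.LocalMain
import Cfsg.Agent.H384.LargeIdxB_m3
import Cfsg.Agent.H603.SporElim
import Cfsg.Agent.CpAut.TwoInnerB
import Cfsg.Agent.BM.KHAll
import Cfsg.Agent.H465.IF.BPair
import Cfsg.Agent.BabyU.ClosLane_m3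
import Cfsg.Agent.H502.IF.BKey
import Cfsg.Agent.KFacts.Baby.RowB_m3
import Cfsg.Agent.BabyComp.BaseTwo
import Cfsg.Agent.H547.PP.FarBaby
import Cfsg.Agent.MonsterN.LitFin
import Cfsg.Agent.H546.MElevenB_m3
import Cfsg.Agent.ConwayFacts.AutCo1
import Cfsg.Agent.BabyU.ModelInst
import Cfsg.Agent.H419.EP.Final
import Cfsg.Agent.Lib.MinNormal
import Cfsg.Agent.FastGrp
import Cfsg.Agent.Prune
set_option linter.all false

section
prune_inst 0x7fb0acf9abb829dedfff7e7fa6d8cffc39901fffe6dff94b3fe0a9ef0b9f030009c56b8d09e010fe0ee2421410b87813f9feeeffe26bdc7ffffd5ff41ffbee0fb5e7b508515488340fbc0fff03f0778e7f3fffffffffffffffffffffffffffbeffbdffffffff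

-- part: H469/IF/J3K
section
set_option linter.all false
open scoped Cfsg.Agent.FastGrp

/-!
# S5719, `J₃` (helper469)
-/

set_option autoImplicit false

namespace Cfsg.Agent.H469.IF

open Cfsg Cfsg.Agent

universe u

/-- **`J₃` has no `A` of odd order.** -/
theorem killO_J3 {T : Type u} [Group T] (h : Spor.IsoJ3 T) : Cfsg.Agent.H209.Fxy.KillO T := by
  obtain ⟨hs, hc, -⟩ := Cfsg.Agent.H898.J3Cent.base h
  have hfin : Finite T := Nat.finite_of_card_ne_zero (by rw [hc]; norm_num)
  refine Cfsg.Agent.H546.IFO.killO_cube ?_ (Cfsg.Agent.H269.CubeJ3.cube_J3 h) (out_J3 h) (by rw [hc]; norm_num)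
  by_contra hcomm
  push Not at hcomm
  let _ : CommGroup T := { (inferInstance : Group T) with mul_comm := hcomm }
  have h3 : (Nat.card T).Prime := IsSimpleGroup.prime_card (α := T)
  rw [hc] at h3
  norm_num at h3

end Cfsg.Agent.H469.IF
end

-- part: H625/IF/G2
section
prune_inst 0x4c50000400962120000000580510020044c0001900020080041000a440200610209020140048010000a08220000040020000000c000000000000004000001002080a8500822000000060009000080000000000000000000000000000000000004000000000
set_option linter.all false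
open scoped Cfsg.Agent.FastGrp

-- part: H244/IFG/Main
section
/-!
# S5719: `KillE` for `G₂(3)` (helper244; mathematics helper634)
-/

set_option autoImplicit false

namespace Cfsg.Agent.H244.IFG

open Subgroup Cfsg.Agent.Lib.SL2Mat Cfsg.Agent.Cit.HexBase Cfsg.Agent.H209.Fxy Cfsg.Agent.H999.IFB

/-- all point stabilisers of the same order -/
theorem dvd_of_const {G X : Type*} [Group G] [Finite G] [Finite X] [MulAction G X] {k : ℕ}
    (h : ∀ x : X, Nat.card (MulAction.stabilizer G x) = k) : Nat.card G ∣ k * Nat.card X := by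
  classical
  have e := MulAction.selfEquivSigmaOrbitsQuotientStabilizer G X
  have := Fintype.ofFinite (MulAction.orbitRel.Quotient G X)
  rw [Nat.card_congr e, Nat.card_sigma, Finset.mul_sum]
  have h1 : ∀ ω ∈ (Finset.univ : Finset (MulAction.orbitRel.Quotient G X)),
      k * Nat.card (G ⧸ MulAction.stabilizer G ω.out) = Nat.card G := fun ω _ => by
    rw [← h ω.out]
    exact Subgroup.card_mul_index _
  rw [Finset.sum_congr rfl h1, Finset.sum_const, smul_eq_mul]
  exact Dvd.intro_left _ rfl

/-- the involutions -/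
def Inv {L : Type*} [Group L] (s : L) : Prop := s * s = 1 ∧ s ≠ 1

theorem inv_iff {L : Type*} [Group L] {s : L} : Inv s ↔ orderOf s = 2 := by
  constructor
  · rintro ⟨h1, h2⟩
    have : Fact (Nat.Prime 2) := ⟨Nat.prime_two⟩
    exact orderOf_eq_prime (by rw [pow_two, h1]) h2
  · intro h
    refine ⟨by rw [← pow_two, ← h, pow_orderOf_eq_one], ?_⟩
    rintro rfl
    rw [orderOf_one] at h
    omega

/-- a subgroup acts on its involutions; all centralisers of order `k` -/
theorem dvd_inv {G : Type*} [Group G] [Finite G] {k : ℕ}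
    (h : ∀ s : G, Inv s → Nat.card (centralizer ({s} : Set G)) = k) : Nat.card G ∣ k * Nat.card {s : G // Inv s} := by
  let _ : MulAction G {s : G // Inv s} :=
    { smul := fun g s => ⟨g * s * g⁻¹, by
        obtain ⟨s, h1, h2⟩ := s
        refine ⟨?_, fun h3 => h2 ?_⟩
        · calc g * s * g⁻¹ * (g * s * g⁻¹) = g * (s * s) * g⁻¹ := by group
            _ = 1 := by rw [h1]; group
        · calc s = g⁻¹ * (g * s * g⁻¹) * g := by group
            _ = 1 := by rw [h3]; group⟩
      one_smul := fun s => Subtype.ext (by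
        change 1 * (s : G) * 1⁻¹ = s
        group)
      mul_smul := fun g g' s => Subtype.ext (by
        change g * g' * (s : G) * (g * g')⁻¹ = g * (g' * s * g'⁻¹) * g⁻¹
        group) }
  refine dvd_of_const fun s => ?_
  rw [← h s s.2]
  refine Nat.card_congr (Equiv.subtypeEquivRight fun g => ?_)
  rw [MulAction.mem_stabilizer_iff, mem_centralizer_singleton_iff]
  constructor
  · intro h1
    have h2 : g * (s : G) * g⁻¹ = s := congrArg Subtype.val h1
    exact mul_inv_eq_iff_eq_mul.1 h2
  · intro h1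
    exact Subtype.ext (mul_inv_eq_iff_eq_mul.2 h1)

section main

variable {L : Type*} [Group L] [Finite L] [IsSimpleGroup L] (c : HexGrp (RingEquiv.refl (ZMod 3)) L)

include c in
/-- the centralisers of the involutions -/
theorem exists_cen {t : L} (ht : Inv t) : Nonempty (Cen3 ↥(centralizer ({t} : Set L))) := by
  obtain ⟨g, hg⟩ := isConj_iff.1 (c.isConj_invol two_ne c.z_sq (c.z_ne two_ne) ht.1 ht.2)
  have h1 : centralizer ({t} : Set L) = (centralizer ({c.z} : Set L)).map (MulAut.conj g).toMonoidHom := by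
    ext x
    rw [mem_centralizer_singleton_iff, Subgroup.mem_map]
    constructor
    · intro hx
      refine ⟨g⁻¹ * x * g, mem_centralizer_singleton_iff.2 ?_, ?_⟩
      · have h2 : c.z = g⁻¹ * t * g := by rw [← hg]; group
        rw [h2]
        calc g⁻¹ * x * g * (g⁻¹ * t * g) = g⁻¹ * (x * t) * g := by group
          _ = g⁻¹ * (t * x) * g := by rw [hx]
          _ = _ := by group
      · change g * (g⁻¹ * x * g) * g⁻¹ = x
        group
    · rintro ⟨y, hy, rfl⟩
      have hy' := mem_centralizer_singleton_iff.1 hy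
      change g * y * g⁻¹ * t = t * (g * y * g⁻¹)
      rw [← hg]
      calc g * y * g⁻¹ * (g * c.z * g⁻¹) = g * (y * c.z) * g⁻¹ := by group
        _ = g * (c.z * y) * g⁻¹ := by rw [hy']
        _ = _ := by group
  let e : ↥(centralizer ({c.z} : Set L)) ≃* ↥(centralizer ({t} : Set L)) :=
    ((MulAut.conj g).subgroupMap _).trans (MulEquiv.subgroupCongr h1.symm)
  exact ⟨(cen3 c).map e⟩

include c in
theorem card_cen {t : L} (ht : Inv t) : Nat.card (centralizer ({t} : Set L)) = 576 := by
  obtain ⟨d⟩ := exists_cen c ht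
  exact d.card_eq

variable {A : Subgroup L} {Γ : Subgroup (MulAut L)}

include c in
/-- the number of involutions of `A` in terms of the index of the centraliser -/
theorem bound {t : L} (ht : Inv t) (A : Subgroup L) :
    (A.relIndex (centralizer ({t} : Set L)) = 1 → 91 ≤ Nat.card {s // s ∈ A ∧ Inv s}) ∧
    (A.relIndex (centralizer ({t} : Set L)) = 2 → 19 ≤ Nat.card {s // s ∈ A ∧ Inv s}) ∧
    (A.relIndex (centralizer ({t} : Set L)) = 3 → 31 ≤ Nat.card {s // s ∈ A ∧ Inv s}) ∧
    (A.relIndex (centralizer ({t} : Set L)) = 4 → 8 ≤ Nat.card {s // s ∈ A ∧ Inv s}) := by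
  obtain ⟨d⟩ := exists_cen c ht
  have key : Nat.card {s : ↥(centralizer ({t} : Set L)) // s ∈ A.subgroupOf (centralizer ({t} : Set L)) ∧
      (s * s = 1 ∧ s ≠ 1)} ≤ Nat.card {s // s ∈ A ∧ Inv s} := by
    refine Nat.card_le_card_of_injective (fun s => (⟨(s.1 : L), mem_subgroupOf.1 s.2.1, congrArg Subtype.val s.2.2.1,
      fun h => s.2.2.2 (Subtype.ext h)⟩ : {s // s ∈ A ∧ Inv s})) fun s s' h => ?_
    exact Subtype.ext (Subtype.ext (congrArg (fun u : {s // s ∈ A ∧ Inv s} => (u : L)) h))
  exact ⟨fun h => (d.inv_one h).trans key, fun h => (d.inv_two h).trans key, fun h => (d.inv_three h).trans key,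
    fun h => (d.inv_four h).trans key⟩

theorem not_comm (hL : Nat.card L = 4245696) : ∃ a b : L, a * b ≠ b * a := by
  by_contra hcon
  push Not at hcon
  let _ : CommGroup L := { (inferInstance : Group L) with mul_comm := hcon }
  have hp : (Nat.card L).Prime := IsSimpleGroup.prime_card
  rw [hL] at hp
  revert hp
  norm_num

include c in
/-- the fixed point formula -/
theorem formula (hL : Nat.card L = 4245696) (h : IF A Γ) {t : L} (ht : Inv t) (htA : t ∈ A) :
    _root_.Cfsg.Agent.H209.Fxy.fx A (MulAut.conj t) * 7371 = A.index * Nat.card {s // s ∈ A ∧ Inv s} := by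
  have hna := not_comm hL
  have hσ : MulAut.conj t ∈ Γ := (h.conj t).2 htA
  obtain ⟨h1, h2⟩ := Cfsg.Agent.H999.IFB.IF.fix_formula hna h hσ
  have h3 : Nat.card {x : L // MulAut.conj t x = x} = 576 := by
    rw [← card_cen c ht]
    refine Nat.card_congr (Equiv.subtypeEquivRight fun x => ?_)
    rw [mem_centralizer_singleton_iff, MulAut.conj_apply, mul_inv_eq_iff_eq_mul, eq_comm]
  rw [h3, hL] at h2
  have h4 : (icl (MulAut.conj t)).ncard = 7371 := by omega
  rw [h4] at h1
  rw [h1]
  congr 1
  have hinj : Function.Injective (MulAut.conj : L →* MulAut L) := by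
    rw [injective_iff_map_eq_one]
    intro z hz
    apply center_of hna
    intro x
    have h5 := congrArg (fun τ : MulAut L => τ x) hz
    simp only [MulAut.conj_apply, MulAut.one_apply] at h5
    rwa [mul_inv_eq_iff_eq_mul] at h5
  have h5 : icl (MulAut.conj t) ∩ (Γ : Set (MulAut L)) = (MulAut.conj : L →* MulAut L) '' {s | s ∈ A ∧ Inv s} := by
    ext τ
    constructor
    · rintro ⟨⟨x, rfl⟩, hτ⟩
      have h6 : MulAut.conj x * MulAut.conj t * (MulAut.conj x)⁻¹ = MulAut.conj (x * t * x⁻¹) := by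
        rw [map_mul, map_mul, map_inv]
      rw [h6] at hτ ⊢
      refine ⟨x * t * x⁻¹, ⟨(h.conj _).1 hτ, ?_, fun h7 => ht.2 ?_⟩, rfl⟩
      · calc x * t * x⁻¹ * (x * t * x⁻¹) = x * (t * t) * x⁻¹ := by group
          _ = 1 := by rw [ht.1]; group
      · calc t = x⁻¹ * (x * t * x⁻¹) * x := by group
          _ = 1 := by rw [h7]; group
    · rintro ⟨s, ⟨hsA, hs⟩, rfl⟩
      obtain ⟨g, hg⟩ := isConj_iff.1 (c.isConj_invol two_ne ht.1 ht.2 hs.1 hs.2)
      refine ⟨⟨g, ?_⟩, (h.conj s).2 hsA⟩
      rw [← hg, map_mul, map_mul, map_inv]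
  rw [h5, Set.ncard_image_of_injective _ hinj]
  rfl

include c in
/-- **`G₂(3)`** -/
theorem killE_hex (hL : Nat.card L = 4245696) : KillE L := by
  rintro A Γ h ⟨t, htA, ht2⟩
  have hna := not_comm hL
  have ht : Inv t := inv_iff.2 ht2
  have hbig := h.big
  have hF : ∀ {s : L}, s ∈ A → Inv s → _root_.Cfsg.Agent.H209.Fxy.fx A (MulAut.conj s) = _root_.Cfsg.Agent.H209.Fxy.fx A (MulAut.conj t) := fun hsA hs => by
    have h1 := formula c hL h hs hsA
    have h2 := formula c hL h ht htA
    rw [← h2] at h1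
    omega
  obtain ⟨f, hf⟩ : ∃ f, f = _root_.Cfsg.Agent.H209.Fxy.fx A (MulAut.conj t) := ⟨_, rfl⟩
  have hform : f * 7371 = A.index * Nat.card {s // s ∈ A ∧ Inv s} := by
    rw [hf]
    exact formula c hL h ht htA
  have hE1 : ∀ {s : L}, s ∈ A → Inv s → A.relIndex (centralizer ({s} : Set L)) ≤ f ∧ f ^ 6 < A.index := fun {s} hsA hs => by
    have hσ : MulAut.conj s ∈ Γ := (h.conj s).2 hsA
    have ho : orderOf (MulAut.conj s) = 2 := by rw [orderOf_conj hna, inv_iff.1 hs]
    have h1 := (Cfsg.Agent.H999.IFB.IF.E1 h hσ ho (B := centralizer {s}) (fun b hb => by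
      have := mem_centralizer_singleton_iff.1 hb
      rw [MulAut.conj_apply, mul_inv_eq_iff_eq_mul]
      exact this.symm)).1
    have h2 := h.small _ hσ ho
    rw [hF hsA hs, ← hf] at h1 h2
    exact ⟨h1, h2⟩
  have hm0 : ∀ s : L, A.relIndex (centralizer ({s} : Set L)) ≠ 0 := fun s => Subgroup.index_ne_zero_of_finite
  have hdvd : A.index ∣ 4245696 := hL ▸ A.index_dvd_card
  have hcard := A.card_mul_index
  rw [hL] at hcard
  obtain ⟨h1, h6⟩ := hE1 htA ht
  have hb := bound c ht A
  have hm := hm0 t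
  obtain ⟨i, hi⟩ : ∃ i, i = Nat.card {s // s ∈ A ∧ Inv s} := ⟨_, rfl⟩
  rw [← hi] at hform hb
  generalize A.relIndex (centralizer ({t} : Set L)) = m at h1 hb hm
  have hf5 : f ≤ 5 := by
    by_contra hcon
    have h2 : 6 ≤ f := by omega
    have hi0 : i ≠ 0 := by
      rintro rfl
      omega
    have h3 : A.index ≤ f * 7371 := by
      rw [hform]
      exact Nat.le_mul_of_pos_right _ (Nat.pos_of_ne_zero hi0)
    have h4 : 6 ^ 5 ≤ f ^ 5 := Nat.pow_le_pow_left h2 5
    have h5 : f ^ 6 = f * f ^ 5 := by ring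
    have h7 : f * 7371 < f * f ^ 5 := Nat.mul_lt_mul_of_pos_left (by omega) (by omega)
    omega
  generalize hn : A.index = n at *
  have hi0 : i ≠ 0 := by
    rintro rfl
    have : f = 0 := by omega
    omega
  interval_cases f
  · omega
  · -- f = 1
    have : m = 1 := by omega
    have h2 := hb.1 this
    nlinarith only [hbig, hform, h2]
  · -- f = 2
    have h2 : 19 ≤ i := by
      have : m = 1 ∨ m = 2 := by omega
      rcases this with h | h
      · have := hb.1 h; omega
      · exact hb.2.1 h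
    have h3 : i ≤ 20 := by
      by_contra hcon
      nlinarith only [hbig, hform, hcon]
    interval_cases i <;> omega
  · -- f = 3
    have hi30 : i ≤ 30 := by
      by_contra hcon
      nlinarith only [hbig, hform, hcon]
    have hall : ∀ s : A, Inv s → Nat.card (centralizer ({s} : Set A)) = 288 := by
      intro s hs
      have hs' : Inv (s : L) := ⟨congrArg Subtype.val hs.1, fun h => hs.2 (Subtype.ext h)⟩
      obtain ⟨h2, -⟩ := hE1 s.2 hs'
      have h3 := bound c hs' A
      rw [← hi] at h3
      have h4 := hm0 (s : L)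
      have h5 : A.relIndex (centralizer ({(s : L)} : Set L)) = 2 := by
        generalize A.relIndex (centralizer ({(s : L)} : Set L)) = m' at h2 h3 h4
        have : m' = 1 ∨ m' = 2 ∨ m' = 3 := by omega
        rcases this with h | h | h
        · have := h3.1 h; omega
        · exact h
        · have := h3.2.2.1 h; omega
      have h7 := (A.subgroupOf (centralizer ({(s : L)} : Set L))).card_mul_index
      rw [show (A.subgroupOf (centralizer ({(s : L)} : Set L))).index = 2 from h5, card_cen c hs'] at h7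
      have h8 : Nat.card (centralizer ({s} : Set A)) = Nat.card (A.subgroupOf (centralizer ({(s : L)} : Set L))) := by
        refine Nat.card_congr ⟨fun x => ⟨⟨((x : A) : L), mem_centralizer_singleton_iff.2 ?_⟩, mem_subgroupOf.2 x.1.2⟩,
          fun x => ⟨⟨((x : centralizer ({(s : L)} : Set L)) : L), mem_subgroupOf.1 x.2⟩,
            mem_centralizer_singleton_iff.2 ?_⟩, fun x => rfl, fun x => rfl⟩
        · exact congrArg Subtype.val (mem_centralizer_singleton_iff.1 x.2)
        · exact Subtype.ext (mem_centralizer_singleton_iff.1 x.1.2)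
      omega
    have h2 := dvd_inv hall
    have h3 : Nat.card {s : A // Inv s} = i := by
      rw [hi]
      refine Nat.card_congr ⟨fun s => ⟨(s : A), s.1.2, congrArg Subtype.val s.2.1, fun h => s.2.2 (Subtype.ext h)⟩,
        fun s => ⟨⟨s.1, s.2.1⟩, Subtype.ext s.2.2.1, fun h => s.2.2.2 (congrArg Subtype.val h)⟩, fun s => rfl,
        fun s => rfl⟩
    rw [h3] at h2
    have h4 : Nat.card A = 192 * i := by
      have h5 : Nat.card A * (n * i) = 4245696 * i := by rw [← mul_assoc, hcard]
      rw [← hform] at h5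
      omega
    rw [h4] at h2
    have h5 : 192 ∣ 288 := Nat.dvd_of_mul_dvd_mul_right (Nat.pos_of_ne_zero hi0) h2
    revert h5
    norm_num
  · -- f = 4
    have h2 : 8 ≤ i := by
      have : m = 1 ∨ m = 2 ∨ m = 3 ∨ m = 4 := by omega
      rcases this with h | h | h | h
      · have := hb.1 h; omega
      · have := hb.2.1 h; omega
      · have := hb.2.2.1 h; omega
      · exact hb.2.2.2 h
    nlinarith only [h6, hform, h2]
  · -- f = 5
    have h3 : i ≤ 2 := by
      by_contra hcon
      nlinarith only [h6, hform, hcon]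
    have h4 : i = 1 ∨ i = 2 := by omega
    rcases h4 with rfl | rfl
    · have h5 : n = 36855 := by omega
      subst h5
      revert hdvd
      norm_num
    · omega

end main

private theorem kill_sub {G G' : Type} [Group G] [Group G'] {H : Subgroup G} {H' : Subgroup G'} (e : H ≃* H')
    (hs : IsSimpleGroup H') (hk : IsSimpleGroup H → KillE H) : KillE H' := by
  rintro A Γ h ⟨t, htA, ht2⟩
  refine hk e.isSimpleGroup _ _ (h.map e.symm) ⟨e.symm t, ⟨t, htA, rfl⟩, ?_⟩
  rw [MulEquiv.orderOf_eq, ht2]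

/-- **`KillE` for `G₂(3)`.** -/
theorem killE_g2_three (F : Type) [Field F] [Fintype F] (hF : Fintype.card F = 3)
    (hs : IsSimpleGroup (Cfsg.Lie.chevG2.group F)) : KillE (Cfsg.Lie.chevG2.group F) := by
  have h3 : Fintype.card (ZMod 3) = Fintype.card F := by rw [hF]; rfl
  let φ : ZMod 3 ≃+* F := FiniteField.ringEquivOfCardEq h3
  refine kill_sub (Cfsg.Agent.ChevalleyStructure.FieldIso.groupEquiv Cfsg.Lie.chevG2 φ) hs fun hs' => ?_
  have hc : Nat.card ↥(Cfsg.Lie.chevG2.group (ZMod 3)) = 4245696 := by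
    have h1 : Nat.card ↥(Cfsg.Lie.chevG2.group (ZMod 3)) = 3 ^ 6 * (3 ^ 2 - 1) * (3 ^ 6 - 1) :=
      Cfsg.Agent.S1059.result (by rfl)
    rw [h1]
    norm_num
  have hfin : Finite ↥(Cfsg.Lie.chevG2.group (ZMod 3)) := Nat.finite_of_card_ne_zero (by rw [hc]; norm_num)
  exact killE_hex (Cfsg.Agent.Cit.HexG2.g2 (ZMod 3) two_ne) hc

end Cfsg.Agent.H244.IFG
end

-- part: H747/IFG/Dick
section
/-!
# Large subgroups of `PSL₂(q)` and `SL₂(q)`, `q` odd (Dickson), for S5719, cell G2 (helper747)
-/

set_option autoImplicit false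
set_option linter.unusedSectionVars false

namespace Cfsg.Agent.H747.IFG

open Matrix MulAction OnePoint
open Cfsg.Agent.ClassicalGeometry.PoleCount Cfsg.Agent.ClassicalGeometry.PoleCount.Pole
open Cfsg.Agent.ClassicalGeometry.PoleBridge
open Cfsg.Agent.ClassicalGeometry.PoleCases Cfsg.Agent.ClassicalGeometry.DicksonWild
open Cfsg.Agent.ClassicalGeometry.PSL2Basic Cfsg.Agent.ClassicalGeometry.PSL2ElemOrder
open Cfsg.Agent.Lib.Mobius

open Classical in
/-- Dickson's list for `p ∣ |H|`, `p` odd; in the Borel case the group has a fixed point. -/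
theorem wild {F : Type*} [Field F] [Fintype F] (p : ℕ) [Fact p.Prime] [CharP F p] (hp2 : p ≠ 2)
    (H : Subgroup (Matrix.ProjectiveSpecialLinearGroup (Fin 2) F)) (hp : p ∣ Nat.card H) :
    (∃ x : OnePoint F, ∀ g ∈ H, pslPerm F g x = x) ∨
    Nonempty (H ≃* alternatingGroup (Fin 5)) ∨ (∃ (K : Type) (_ : Field K) (_ : Fintype K) (m : ℕ),
      Fintype.card K ^ m = Fintype.card F ∧ (Nonempty (H ≃* Matrix.ProjectiveSpecialLinearGroup (Fin 2) K) ∨
        Nonempty (H ≃* Matrix.ProjGenLinGroup (Fin 2) K))) := by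
  let K := AlgebraicClosure F
  have : CharP K p := charP_of_injective_algebraMap (algebraMap F K).injective p
  let ι : F →+* K := algebraMap F K
  let φ : H →* Matrix.ProjectiveSpecialLinearGroup (Fin 2) K := (pslMap ι).comp H.subtype
  have hφ : Function.Injective φ := (pslMap_injective ι).comp H.subtype_injective
  let _ := act φ
  have pole : Pole p K H (OnePoint K) := pole_of_injective p φ hφ
  have hact : ∀ (g : H) (x : OnePoint K), g • x = pslPerm K (pslMap ι (g : _)) x := fun _ _ => rfl
  obtain ⟨u, hu⟩ := exists_prime_orderOf_dvd_card' p hp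
  have hup : u ^ p = 1 := by rw [← hu]; exact pow_orderOf_eq_one u
  have hu1 : u ≠ 1 := by
    rintro rfl
    rw [orderOf_one] at hu
    exact (Fact.out : p.Prime).one_lt.ne hu
  obtain ⟨x₀, hx₀⟩ := pole.one u hu1 hup
  have hx₀' : x₀ ∈ Op p H (OnePoint K) := ⟨u, hu1, hup, (hx₀ x₀).mpr rfl⟩
  have hrat : ∀ x ∈ Op p H (OnePoint K), ∃ x' ∈ OpF p H, OnePoint.map ι x' = x := by
    rintro x ⟨v, hv1, hvp, hvx⟩
    have hvp' : (v : Matrix.ProjectiveSpecialLinearGroup (Fin 2) F) ^ p = 1 :=
      congrArg Subtype.val hvp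
    obtain ⟨x', hx'⟩ := Cfsg.Agent.S0799.exists_fix_rational p _ hvp'
    refine ⟨x', ⟨v, v.2, fun h => hv1 (Subtype.ext h), hvp', hx'⟩, ?_⟩
    obtain ⟨y, hy⟩ := pole.one v hv1 hvp
    rw [(hy x).mp hvx]
    apply (hy _).mp
    rw [hact, Cfsg.Agent.S0799.pslPerm_map, hx']
  by_cases hone : ∀ x ∈ Op p H (OnePoint K), x = x₀
  · left
    obtain ⟨x', -, hx'⟩ := hrat x₀ hx₀'
    refine ⟨x', fun g hg => ?_⟩
    have h1 := hone _ (smul_mem_Op (⟨g, hg⟩ : H) hx₀')
    apply Cfsg.Agent.S0799.map_injective ι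
    rw [← Cfsg.Agent.S0799.pslPerm_map, hx']
    exact h1
  · right
    push Not at hone
    obtain ⟨x₁, hx₁, hne⟩ := hone
    rcases wild_cases pole hx₀' hx₁ (Ne.symm hne) with htr | ⟨k, hk0, hk, ⟨e⟩⟩ | hA5
    · right
      have hOp : ∀ x ∈ OpF p H, OnePoint.map ι x ∈ Op p H (OnePoint K) := by
        rintro x ⟨v, hvH, hv1, hvp, hvx⟩
        refine ⟨⟨v, hvH⟩, fun h => hv1 (congrArg Subtype.val h), Subtype.ext hvp, ?_⟩
        rw [hact, Cfsg.Agent.S0799.pslPerm_map, hvx]
      have hTr : _root_.Cfsg.Agent.ClassicalGeometry.DicksonWild.Trans p H := by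
        intro x hx y hy z hz hyx hzx
        obtain ⟨g, hgp, hgx, hgy⟩ := htr _ (hOp x hx) _ (hOp y hy) _ (hOp z hz)
          (fun h => hyx (Cfsg.Agent.S0799.map_injective ι h)) (fun h => hzx (Cfsg.Agent.S0799.map_injective ι h))
        refine ⟨g, g.2, congrArg Subtype.val hgp, ?_, ?_⟩
        · apply Cfsg.Agent.S0799.map_injective ι
          rw [← Cfsg.Agent.S0799.pslPerm_map, ← hact, hgx]
        · apply Cfsg.Agent.S0799.map_injective ι
          rw [← Cfsg.Agent.S0799.pslPerm_map, ← hact, hgy]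
      obtain ⟨a, ha, hax⟩ := hrat x₀ hx₀'
      obtain ⟨b, hb, hbx⟩ := hrat x₁ hx₁
      have hab : a ≠ b := by
        rintro rfl
        exact hne (hbx.symm.trans hax)
      obtain ⟨L, i1, i2, m, hm, h3⟩ := main_trans p H ha hb hab hTr
      exact ⟨L, i1, i2, m, hm, h3⟩
    · exfalso
      rw [Nat.card_congr e.toEquiv, DihedralGroup.nat_card] at hp
      rcases (Fact.out : p.Prime).dvd_mul.1 hp with h | h
      · exact hp2 ((Nat.prime_dvd_prime_iff_eq Fact.out Nat.prime_two).1 h)
      · exact hk h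
    · exact Or.inl hA5


open Classical in
/-- proper subgroups of `PSL₂(q)`, `q` odd -/
theorem sub_psl {F : Type*} [Field F] [Fintype F] (p : ℕ) [Fact p.Prime] [CharP F p] (hp2 : p ≠ 2)
    (hodd : Odd (Fintype.card F)) (H : Subgroup (Matrix.ProjectiveSpecialLinearGroup (Fin 2) F)) (hH : H ≠ ⊤) :
    (∃ x : OnePoint F, ∀ g ∈ H, pslPerm F g x = x) ∨ Nat.card H ≤ Fintype.card F + 1 ∨ Nat.card H = 12 ∨
    Nat.card H = 24 ∨ (Nat.card H = 60 ∧ (p ∣ 60 → Nonempty (H ≃* alternatingGroup (Fin 5)))) ∨
    ∃ k : ℕ, k ^ 2 ≤ Fintype.card F ∧ Nat.card H ≤ k * (k ^ 2 - 1) := by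
  have hfin : Finite (Matrix.ProjectiveSpecialLinearGroup (Fin 2) F) := Quotient.finite _
  have hq : 1 < Fintype.card F := Fintype.one_lt_card
  by_cases hp : p ∣ Nat.card H
  · rcases wild p hp2 H hp with h | ⟨⟨e⟩⟩ | ⟨K, _, _, m, hm, h⟩
    · exact Or.inl h
    · right; right; right; right; left
      refine ⟨?_, fun _ => ⟨e⟩⟩
      rw [Nat.card_congr e.toEquiv, nat_card_alternatingGroup, Nat.card_eq_fintype_card, Fintype.card_fin]
      rfl
    · right; right; right; right; right
      have hk : 1 < Fintype.card K := Fintype.one_lt_card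
      have hle : Nat.card H ≤ Fintype.card K * (Fintype.card K ^ 2 - 1) := by
        rcases h with ⟨⟨e⟩⟩ | ⟨⟨e⟩⟩
        · rw [Nat.card_congr e.toEquiv, ← card_SL2 K]
          exact Nat.card_le_card_of_surjective _ (QuotientGroup.mk'_surjective _)
        · rw [Nat.card_congr e.toEquiv, card_PGL2 K]
      have hcard := card_PSL2_odd F hodd
      have hlt : Nat.card H * 2 ≤ Nat.card (Matrix.ProjectiveSpecialLinearGroup (Fin 2) F) := by
        have h1 := H.card_mul_index
        have h2 : H.index ≠ 1 := fun h0 => hH (Subgroup.index_eq_one.1 h0)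
        have h3 : H.index ≠ 0 := Subgroup.index_ne_zero_of_finite
        rw [← h1]
        exact Nat.mul_le_mul_left _ (by omega)
      refine ⟨Fintype.card K, ?_, hle⟩
      rcases Nat.lt_or_ge m 2 with h2 | h2
      · exfalso
        have h3 : m = 0 ∨ m = 1 := by omega
        rcases h3 with rfl | rfl
        · rw [pow_zero] at hm; omega
        · rw [pow_one] at hm
          have hK : Odd (Fintype.card K) := by rw [hm]; exact hodd
          have hpos : 0 < Nat.card (Matrix.ProjectiveSpecialLinearGroup (Fin 2) F) := Nat.card_pos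
          rcases h with ⟨⟨e⟩⟩ | ⟨⟨e⟩⟩
          · have h4 := card_PSL2_odd K hK
            rw [hm, ← hcard, ← Nat.card_congr e.toEquiv] at h4
            omega
          · have h4 := card_PGL2 K
            rw [hm, ← hcard, ← Nat.card_congr e.toEquiv] at h4
            omega
      · rw [← hm]
        exact Nat.pow_le_pow_right (by omega) h2
  · rcases Cfsg.Agent.H344.DP.tame p H (by obtain ⟨r, hr⟩ := hodd; rw [hr]; omega) hp with h | h | h | h
    · exact Or.inr (Or.inl h)
    · exact Or.inr (Or.inr (Or.inl h))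
    · exact Or.inr (Or.inr (Or.inr (Or.inl h)))
    · refine Or.inr (Or.inr (Or.inr (Or.inr (Or.inl ⟨h, fun h60 => ?_⟩))))
      rw [h] at hp
      exact absurd h60 hp

section borel

open Cfsg.Agent.Lib.SL2Mat

variable {F : Type*} [Field F] [Fintype F]

theorem tri_mul {a b : _root_.Matrix.SpecialLinearGroup (Fin 2) F} (_ha : ent a 1 0 = 0) (hb : ent b 1 0 = 0) :
    ent (a * b) 0 0 = ent a 0 0 * ent b 0 0 := by
  rw [ent_mul, hb, mul_zero, add_zero]

theorem tri_pow {a : _root_.Matrix.SpecialLinearGroup (Fin 2) F} (ha : ent a 1 0 = 0) (n : ℕ) :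
    ent (a ^ n) 1 0 = 0 ∧ ent (a ^ n) 0 0 = ent a 0 0 ^ n := by
  induction n with
  | zero => rw [pow_zero, pow_zero]; exact ⟨rfl, rfl⟩
  | succ n ih =>
    rw [pow_succ, pow_succ]
    refine ⟨?_, ?_⟩
    · rw [ent_mul, ih.1, ha, zero_mul, mul_zero, add_zero]
    · rw [tri_mul ih.1 ha, ih.2]

theorem ent_det (a : _root_.Matrix.SpecialLinearGroup (Fin 2) F) : ent a 0 0 * ent a 1 1 - ent a 0 1 * ent a 1 0 = 1 := by
  have h := a.2
  rw [Matrix.det_fin_two] at h
  exact h

theorem tri_pow_card {a : _root_.Matrix.SpecialLinearGroup (Fin 2) F} (ha : ent a 1 0 = 0) :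
    a ^ Fintype.card F = 1 ↔ ent a 0 0 = 1 := by
  have hdet : ent a 0 0 * ent a 1 1 = 1 := by
    have h := ent_det a
    rwa [ha, mul_zero, sub_zero] at h
  constructor
  · intro h
    have h1 := (tri_pow ha (Fintype.card F)).2
    rw [h, FiniteField.pow_card] at h1
    rw [← h1]
    rfl
  · intro h
    have h11 : ent a 1 1 = 1 := by rwa [h, one_mul] at hdet
    have key : ∀ n : ℕ, ent (a ^ n) 0 1 = n * ent a 0 1 := by
      intro n
      induction n with
      | zero => rw [pow_zero, Nat.cast_zero, zero_mul]; rfl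
      | succ n ih =>
        rw [pow_succ, ent_mul, ih, (tri_pow ha n).2, h, h11]
        push_cast
        ring
    have k11 : ∀ n : ℕ, ent (a ^ n) 1 1 = 1 := by
      intro n
      have h2 := ent_det (a ^ n)
      rwa [(tri_pow ha n).1, (tri_pow ha n).2, h, one_pow, mul_zero, sub_zero, one_mul] at h2
    apply ext_ent
    · rw [(tri_pow ha _).2, h, one_pow]; rfl
    · rw [key, FiniteField.cast_card_eq_zero, zero_mul]; rfl
    · rw [(tri_pow ha _).1]; rfl
    · rw [k11]; rfl

/-- a subgroup of a Borel subgroup of `SL₂(q)` -/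
theorem borel_sub (Y : Subgroup (_root_.Matrix.SpecialLinearGroup (Fin 2) F)) (B : _root_.Matrix.SpecialLinearGroup (Fin 2) F)
    (hY : ∀ y ∈ Y, ent (B⁻¹ * y * B) 1 0 = 0) :
    ∃ P : Subgroup (_root_.Matrix.SpecialLinearGroup (Fin 2) F), (∀ y, y ∈ P ↔ y ∈ Y ∧ y ^ Fintype.card F = 1) ∧
      Nat.card Y ≤ Nat.card P * (Fintype.card F - 1) ∧ Nat.card P ≤ Fintype.card F := by
  classical
  have hunit : ∀ y ∈ Y, ent (B⁻¹ * y * B) 0 0 * ent (B⁻¹ * y * B) 1 1 = 1 := by
    intro y hy
    have h := ent_det (B⁻¹ * y * B)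
    rwa [hY y hy, mul_zero, sub_zero] at h
  let χ : Y →* Fˣ :=
    { toFun := fun y => ⟨ent (B⁻¹ * y.1 * B) 0 0, ent (B⁻¹ * y.1 * B) 1 1, hunit y y.2, by rw [mul_comm]; exact hunit y y.2⟩
      map_one' := by
        apply Units.ext
        change ent (B⁻¹ * ((1 : Y) : _root_.Matrix.SpecialLinearGroup (Fin 2) F) * B) 0 0 = 1
        have : B⁻¹ * ((1 : Y) : _root_.Matrix.SpecialLinearGroup (Fin 2) F) * B = 1 := by
          rw [Subgroup.coe_one]; group
        rw [this]
        rfl
      map_mul' := by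
        intro a b
        apply Units.ext
        change ent (B⁻¹ * ((a * b : Y) : _root_.Matrix.SpecialLinearGroup (Fin 2) F) * B) 0 0 =
          ent (B⁻¹ * a.1 * B) 0 0 * ent (B⁻¹ * b.1 * B) 0 0
        have : B⁻¹ * ((a * b : Y) : _root_.Matrix.SpecialLinearGroup (Fin 2) F) * B = (B⁻¹ * a.1 * B) * (B⁻¹ * b.1 * B) := by
          rw [Subgroup.coe_mul]; group
        rw [this, tri_mul (hY a a.2) (hY b b.2)] }
  have hχ : ∀ y : Y, χ y = 1 ↔ (y : _root_.Matrix.SpecialLinearGroup (Fin 2) F) ^ Fintype.card F = 1 := by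
    intro y
    have h1 : χ y = 1 ↔ ent (B⁻¹ * y.1 * B) 0 0 = 1 := by
      rw [Units.ext_iff]
      rfl
    rw [h1, ← tri_pow_card (hY y y.2)]
    have h2 : (B⁻¹ * y.1 * B) ^ Fintype.card F = B⁻¹ * y.1 ^ Fintype.card F * B := by
      have := conj_pow (a := B⁻¹) (b := y.1) (i := Fintype.card F)
      rwa [inv_inv] at this
    rw [h2]
    constructor
    · intro h
      have : y.1 ^ Fintype.card F = B * (B⁻¹ * y.1 ^ Fintype.card F * B) * B⁻¹ := by group
      rw [this, h]; group
    · intro h
      rw [h]; group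
  have hmem : ∀ y, y ∈ χ.ker.map Y.subtype ↔ y ∈ Y ∧ y ^ Fintype.card F = 1 := by
    intro y
    constructor
    · rintro ⟨y, hy, rfl⟩
      exact ⟨y.2, (hχ y).1 hy⟩
    · rintro ⟨hy, h⟩
      exact ⟨⟨y, hy⟩, (hχ ⟨y, hy⟩).2 h, rfl⟩
  have hc : Nat.card (χ.ker.map Y.subtype) = Nat.card χ.ker :=
    Subgroup.card_map_of_injective (Subgroup.subtype_injective _)
  refine ⟨χ.ker.map Y.subtype, hmem, ?_, ?_⟩
  · rw [hc, Subgroup.card_eq_card_quotient_mul_card_subgroup χ.ker, mul_comm]
    refine Nat.mul_le_mul_left _ ?_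
    rw [Nat.card_congr (QuotientGroup.quotientKerEquivRange χ).toEquiv, ← Fintype.card_units, ← Nat.card_eq_fintype_card]
    exact Subgroup.card_le_card_group _
  · rw [← Nat.card_eq_fintype_card (α := F)]
    refine Nat.card_le_card_of_injective (fun y : χ.ker.map Y.subtype => ent (B⁻¹ * y.1 * B) 0 1) ?_
    rintro ⟨a, ha⟩ ⟨b, hb⟩ hab
    have h1 := (hmem a).1 ha
    have h2 := (hmem b).1 hb
    have e00 : ∀ y, y ∈ Y → y ^ Fintype.card F = 1 → ent (B⁻¹ * y * B) 0 0 = 1 := by
      intro y hy hyq
      have := (hχ ⟨y, hy⟩).2 hyq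
      rw [Units.ext_iff] at this
      exact this
    have e11 : ∀ y, y ∈ Y → y ^ Fintype.card F = 1 → ent (B⁻¹ * y * B) 1 1 = 1 := by
      intro y hy hyq
      have := hunit y hy
      rwa [e00 y hy hyq, one_mul] at this
    have h3 : B⁻¹ * a * B = B⁻¹ * b * B := by
      apply ext_ent
      · exact (e00 a h1.1 h1.2).trans (e00 b h2.1 h2.2).symm
      · exact hab
      · exact (hY a h1.1).trans (hY b h2.1).symm
      · exact (e11 a h1.1 h1.2).trans (e11 b h2.1 h2.2).symm
    apply Subtype.ext
    calc a = B * (B⁻¹ * a * B) * B⁻¹ := by group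
      _ = b := by rw [h3]; group

end borel

/-- **Large subgroups of `SL₂(q)`, `q` odd** -/
theorem sub_sl {F : Type*} [Field F] [Fintype F] (p : ℕ) [Fact p.Prime] [CharP F p] (hp2 : p ≠ 2)
    (hodd : Odd (Fintype.card F)) (Y : Subgroup (_root_.Matrix.SpecialLinearGroup (Fin 2) F)) (hY : Y ≠ ⊤)
    (hm : Subgroup.center (_root_.Matrix.SpecialLinearGroup (Fin 2) F) ≤ Y) :
    (∃ P : Subgroup (_root_.Matrix.SpecialLinearGroup (Fin 2) F), (∀ y, y ∈ P ↔ y ∈ Y ∧ y ^ Fintype.card F = 1) ∧
      Nat.card Y ≤ Nat.card P * (Fintype.card F - 1) ∧ Nat.card P ≤ Fintype.card F) ∨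
    Nat.card Y ≤ 2 * (Fintype.card F + 1) ∨ Nat.card Y = 24 ∨
    Nat.card Y = 48 ∨ (Nat.card Y = 120 ∧ (p ∣ 60 → Nonempty (Y.map (QuotientGroup.mk'
      (Subgroup.center (_root_.Matrix.SpecialLinearGroup (Fin 2) F))) ≃* alternatingGroup (Fin 5)))) ∨
    ∃ k : ℕ, k ^ 2 ≤ Fintype.card F ∧ Nat.card Y ≤ 2 * (k * (k ^ 2 - 1)) := by
  classical
  have hfin : Finite (Matrix.ProjectiveSpecialLinearGroup (Fin 2) F) := Quotient.finite _
  obtain ⟨f, hf⟩ : ∃ f, f = QuotientGroup.mk' (Subgroup.center (_root_.Matrix.SpecialLinearGroup (Fin 2) F)) := ⟨_, rfl⟩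
  have hker : f.ker = Subgroup.center (_root_.Matrix.SpecialLinearGroup (Fin 2) F) := by rw [hf]; exact QuotientGroup.ker_mk' _
  have hsur : Function.Surjective f := by rw [hf]; exact QuotientGroup.mk'_surjective _
  have hcard : Nat.card (Y.map f) * 2 = Nat.card Y := by
    have h1 := Cfsg.Agent.H344.DP.card_map_mul f hsur Y (by rw [hker]; exact hm)
    rw [hker, card_center_SL2_odd ((two_ne_zero_iff_odd F).2 hodd)] at h1
    exact h1
  have hH : Y.map f ≠ ⊤ := by
    intro h
    apply hY
    have h1 := Subgroup.comap_map_eq_self (f := f) (H := Y) (by rw [hker]; exact hm)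
    rw [h, Subgroup.comap_top] at h1
    exact h1.symm
  rw [← hf]
  obtain ⟨H, hHd⟩ : ∃ H : Subgroup (Matrix.ProjectiveSpecialLinearGroup (Fin 2) F), H = Y.map f := ⟨_, rfl⟩
  have hmf : ∀ y ∈ Y, f y ∈ H := fun y hy => by rw [hHd]; exact ⟨y, hy, rfl⟩
  have hcard' : Nat.card H * 2 = Nat.card Y := by rw [hHd]; exact hcard
  have hH' : H ≠ ⊤ := by rw [hHd]; exact hH
  rcases sub_psl p hp2 hodd H hH' with ⟨x, hx⟩ | h | h | h | ⟨h, h'⟩ | ⟨k, hk, h⟩
  · left
    obtain ⟨B, hB⟩ := exists_slHom_infty (K := F) x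
    refine borel_sub Y B fun y hy => ?_
    have h1 : slHom F (B⁻¹ * y * B) ∞ = ∞ := by
      have h2 : slHom F y x = x := by
        have h3 := hx (f y) (hmf y hy)
        rw [hf] at h3
        exact h3
      rw [map_mul, map_mul, map_inv, Equiv.Perm.mul_apply, Equiv.Perm.mul_apply, hB, h2, ← hB]
      exact (slHom F B).symm_apply_apply _
    exact (slHom_infty_iff _).1 h1
  · right; left; omega
  · right; right; left; omega
  · right; right; right; left; omega
  · right; right; right; right; left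
    exact ⟨by omega, fun h60 => by rw [← hHd]; exact h' h60⟩
  · right; right; right; right; right
    refine ⟨k, hk, ?_⟩
    rw [← hcard', mul_comm]
    exact Nat.mul_le_mul_left _ h

end Cfsg.Agent.H747.IFG
end

-- part: H747/IFG/Num
section
/-!
# Numbers for S5719, cell G2, `q` odd (helper747)
-/

set_option autoImplicit false

namespace Cfsg.Agent.H747.IFG

theorem p_small (n : ℕ) : 32 * ((n + 5) ^ 2 + (n + 5) + 1) ≤ (n + 5) * (n + 4) ^ 5 := by
  have h : (n + 5) * (n + 4) ^ 5 = 32 * ((n + 5) ^ 2 + (n + 5) + 1) +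
      (4128 + 7072*n + 4448*n^2 + 1440*n^3 + 260*n^4 + 25*n^5 + 1*n^6) := by ring
  rw [h]; exact Nat.le_add_right _ _

theorem p_k (n : ℕ) : 1024 * ((n + 9) ^ 3 * ((n + 9) ^ 2 + (n + 9) + 1) ^ 2) ≤ (n + 10) ^ 10 := by
  have h : (n + 10) ^ 10 = 1024 * ((n + 9) ^ 3 * ((n + 9) ^ 2 + (n + 9) + 1) ^ 2) +
      (3818266624 + 5358039040*n + 3005238528*n^2 + 932430848*n^3 + 181244032*n^4 + 23344512*n^5 +
        2033440*n^6 + 118976*n^7 + 4500*n^8 + 100*n^9 + 1*n^10) := by ring
  rw [h]; exact Nat.le_add_right _ _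

theorem p_24 (n : ℕ) : 24 ^ 5 * ((n + 7) ^ 2 + (n + 7) + 1) ≤ (n + 7) * ((n + 6) * (n + 8)) ^ 5 := by
  have h : (n + 7) * ((n + 6) * (n + 8)) ^ 5 = 24 ^ 5 * ((n + 7) ^ 2 + (n + 7) + 1) +
      (1329758208 + 2736488448*n + 2066743296*n^2 + 902615040*n^3 + 261300480*n^4 + 52851488*n^5 +
        7621264*n^6 + 783520*n^7 + 56280*n^8 + 2690*n^9 + 77*n^10 + 1*n^11) := by ring
  rw [h]; exact Nat.le_add_right _ _

theorem p_48 (n : ℕ) : 48 ^ 5 * ((n + 9) ^ 2 + (n + 9) + 1) ≤ (n + 9) * ((n + 8) * (n + 10)) ^ 5 := by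
  have h : (n + 9) * ((n + 8) * (n + 10)) ^ 5 = 48 ^ 5 * ((n + 9) ^ 2 + (n + 9) + 1) +
      (6304038912 + 31613124608*n + 20204716032*n^2 + 6881792000*n^3 + 1541433600*n^4 + 241409312*n^5 +
        26975088*n^6 + 2150560*n^7 + 119880*n^8 + 4450*n^9 + 99*n^10 + 1*n^11) := by ring
  rw [h]; exact Nat.le_add_right _ _

theorem p_120 (n : ℕ) : 120 ^ 5 * ((n + 15) ^ 2 + (n + 15) + 1) ≤ (n + 15) * ((n + 14) * (n + 16)) ^ 5 := by
  have h : (n + 15) * ((n + 14) * (n + 16)) ^ 5 = 120 ^ 5 * ((n + 15) ^ 2 + (n + 15) + 1) +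
      (2462388879360 + 5457239834624*n + 2058906009600*n^2 + 418110586880*n^3 + 55906368000*n^4 +
        5230622240*n^5 + 349414800*n^6 + 16665760*n^7 + 556200*n^8 + 12370*n^9 + 165*n^10 + 1*n^11) := by ring
  rw [h]; exact Nat.le_add_right _ _

theorem p_B (n : ℕ) : (n + 5) ^ 2 * ((n + 5) ^ 4 + (n + 5) ^ 2 + 1) ≤ (n + 4) * (n + 6) ^ 5 := by
  have h : (n + 4) * (n + 6) ^ 5 = (n + 5) ^ 2 * ((n + 5) ^ 4 + (n + 5) ^ 2 + 1) +
      (14829 + 14436*n + 5594*n^2 + 1080*n^3 + 104*n^4 + 4*n^5) := by ring
  rw [h]; exact Nat.le_add_right _ _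

theorem qq (m : ℕ) : (m + 1) ^ 2 - 1 = m * (m + 2) := by
  have : (m + 1) ^ 2 = m * (m + 2) + 1 := by ring
  rw [this]; rfl

/-- `j^5 < q^4 (q^2 + q + 1)` -/
theorem j5 {m j i : ℕ} (hH : j ^ 5 * i < (m + 1) ^ 4 * ((m + 1) ^ 4 + (m + 1) ^ 2 + 1)) (hi : 1 + (m + 1) * m ≤ i) :
    j ^ 5 < (m + 1) ^ 4 * ((m + 1) ^ 2 + (m + 1) + 1) := by
  have h1 : j ^ 5 * (1 + (m + 1) * m) < (m + 1) ^ 4 * ((m + 1) ^ 2 + (m + 1) + 1) * (1 + (m + 1) * m) := by
    calc j ^ 5 * (1 + (m + 1) * m) ≤ j ^ 5 * i := Nat.mul_le_mul_left _ hi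
      _ < _ := hH
      _ = _ := by ring
  exact lt_of_mul_lt_mul_right h1 (Nat.zero_le _)

/-- the Borel case -/
theorem num_B {m j i x y : ℕ} (h5 : 4 ≤ m) (hH : j ^ 5 * i < (m + 1) ^ 4 * ((m + 1) ^ 4 + (m + 1) ^ 2 + 1))
    (hi : (m + 1) * m * x ≤ i) (hj : (m + 1) * (m * (m + 2)) ≤ j * y) (hy : y ≤ x * m) (hx : x ≤ m + 1) : False := by
  obtain ⟨n, rfl⟩ : ∃ n, m = n + 4 := ⟨m - 4, by omega⟩
  have h1 : (n + 5) * (n + 6) ≤ j * x := by
    have h2 : (n + 4) * ((n + 5) * (n + 6)) ≤ (n + 4) * (j * x) := by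
      calc (n + 4) * ((n + 5) * (n + 6)) = (n + 4 + 1) * ((n + 4) * (n + 4 + 2)) := by ring
        _ ≤ j * y := hj
        _ ≤ j * (x * (n + 4)) := Nat.mul_le_mul_left _ hy
        _ = _ := by ring
    exact Nat.le_of_mul_le_mul_left h2 (by omega)
  have h3 : (n + 5) * (n + 6) ^ 5 ≤ j ^ 5 * x := by
    have h4 : (n + 5) ^ 4 * ((n + 5) * (n + 6) ^ 5) ≤ (n + 5) ^ 4 * (j ^ 5 * x) := by
      calc (n + 5) ^ 4 * ((n + 5) * (n + 6) ^ 5) = ((n + 5) * (n + 6)) ^ 5 := by ring
        _ ≤ (j * x) ^ 5 := Nat.pow_le_pow_left h1 5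
        _ = x ^ 4 * (j ^ 5 * x) := by ring
        _ ≤ (n + 5) ^ 4 * (j ^ 5 * x) := Nat.mul_le_mul_right _ (Nat.pow_le_pow_left hx 4)
    exact Nat.le_of_mul_le_mul_left h4 (by positivity)
  have h5 : (n + 5) ^ 4 * ((n + 5) ^ 4 + (n + 5) ^ 2 + 1) ≤ j ^ 5 * i := by
    calc (n + 5) ^ 4 * ((n + 5) ^ 4 + (n + 5) ^ 2 + 1)
        = (n + 5) ^ 2 * ((n + 5) ^ 2 * ((n + 5) ^ 4 + (n + 5) ^ 2 + 1)) := by ring
      _ ≤ (n + 5) ^ 2 * ((n + 4) * (n + 6) ^ 5) := Nat.mul_le_mul_left _ (p_B n)
      _ = (n + 5) * (n + 4) * ((n + 5) * (n + 6) ^ 5) := by ring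
      _ ≤ (n + 5) * (n + 4) * (j ^ 5 * x) := Nat.mul_le_mul_left _ h3
      _ = j ^ 5 * ((n + 4 + 1) * (n + 4) * x) := by ring
      _ ≤ j ^ 5 * i := Nat.mul_le_mul_left _ hi
  exact absurd hH (not_lt.2 h5)

theorem num_y {m j y Y : ℕ} (hj5 : j ^ 5 < (m + 1) ^ 4 * ((m + 1) ^ 2 + (m + 1) + 1))
    (hj : (m + 1) * (m * (m + 2)) ≤ j * y) (hy : y ≤ Y) (hY : 0 < Y)
    (hp : Y ^ 5 * ((m + 1) ^ 2 + (m + 1) + 1) ≤ (m + 1) * (m * (m + 2)) ^ 5) : False := by
  have h1 : ((m + 1) * (m * (m + 2))) ^ 5 ≤ j ^ 5 * Y ^ 5 := by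
    rw [← mul_pow]
    exact Nat.pow_le_pow_left (hj.trans (Nat.mul_le_mul_left _ hy)) 5
  have h2 : ((m + 1) * (m * (m + 2))) ^ 5 < (m + 1) ^ 4 * ((m + 1) ^ 2 + (m + 1) + 1) * Y ^ 5 :=
    lt_of_le_of_lt h1 (Nat.mul_lt_mul_of_pos_right hj5 (pow_pos hY 5))
  have h3 : (m + 1) ^ 4 * (Y ^ 5 * ((m + 1) ^ 2 + (m + 1) + 1)) ≤ (m + 1) ^ 4 * ((m + 1) * (m * (m + 2)) ^ 5) :=
    Nat.mul_le_mul_left _ hp
  have h4 : (m + 1) ^ 4 * ((m + 1) * (m * (m + 2)) ^ 5) = ((m + 1) * (m * (m + 2))) ^ 5 := by ring
  have h5 : (m + 1) ^ 4 * (Y ^ 5 * ((m + 1) ^ 2 + (m + 1) + 1)) =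
    (m + 1) ^ 4 * ((m + 1) ^ 2 + (m + 1) + 1) * Y ^ 5 := by ring
  rw [h4, h5] at h3
  exact absurd h2 (not_lt.2 h3)

theorem num_small {m j y : ℕ} (h4 : 4 ≤ m) (hj5 : j ^ 5 < (m + 1) ^ 4 * ((m + 1) ^ 2 + (m + 1) + 1))
    (hj : (m + 1) * (m * (m + 2)) ≤ j * y) (hy : y ≤ 2 * (m + 2)) : False := by
  obtain ⟨n, rfl⟩ : ∃ n, m = n + 4 := ⟨m - 4, by omega⟩
  have h1 : (n + 5) * (n + 4) ≤ 2 * j := by
    have h2 : (n + 6) * ((n + 5) * (n + 4)) ≤ (n + 6) * (2 * j) := by
      calc (n + 6) * ((n + 5) * (n + 4)) = (n + 4 + 1) * ((n + 4) * (n + 4 + 2)) := by ring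
        _ ≤ j * y := hj
        _ ≤ j * (2 * (n + 4 + 2)) := Nat.mul_le_mul_left _ hy
        _ = _ := by ring
    exact Nat.le_of_mul_le_mul_left h2 (by omega)
  have h3 : ((n + 5) * (n + 4)) ^ 5 ≤ 32 * j ^ 5 := by
    calc ((n + 5) * (n + 4)) ^ 5 ≤ (2 * j) ^ 5 := Nat.pow_le_pow_left h1 5
      _ = 32 * j ^ 5 := by ring
  have h5 : (n + 5) ^ 4 * (32 * ((n + 5) ^ 2 + (n + 5) + 1)) ≤ (n + 5) ^ 4 * ((n + 5) * (n + 4) ^ 5) :=
    Nat.mul_le_mul_left _ (p_small n)
  have h6 : (n + 5) ^ 4 * ((n + 5) * (n + 4) ^ 5) = ((n + 5) * (n + 4)) ^ 5 := by ring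
  have h7 : (n + 5) ^ 4 * (32 * ((n + 5) ^ 2 + (n + 5) + 1)) =
    32 * ((n + 4 + 1) ^ 4 * ((n + 4 + 1) ^ 2 + (n + 4 + 1) + 1)) := by ring
  rw [h6, h7] at h5
  omega

theorem num_k {m j y k : ℕ} (h8 : 8 ≤ m) (hj5 : j ^ 5 < (m + 1) ^ 4 * ((m + 1) ^ 2 + (m + 1) + 1))
    (hj : (m + 1) * (m * (m + 2)) ≤ j * y) (hk : k ^ 2 ≤ m + 1) (hy : y ≤ 2 * (k * (k ^ 2 - 1))) : False := by
  obtain ⟨n, rfl⟩ : ∃ n, m = n + 8 := ⟨m - 8, by omega⟩
  have hy' : y ≤ 2 * (k * (n + 8)) := hy.trans (Nat.mul_le_mul_left _ (Nat.mul_le_mul_left _ (by omega)))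
  have h1 : (n + 9) * (n + 10) ≤ 2 * (j * k) := by
    have h2 : (n + 8) * ((n + 9) * (n + 10)) ≤ (n + 8) * (2 * (j * k)) := by
      calc (n + 8) * ((n + 9) * (n + 10)) = (n + 8 + 1) * ((n + 8) * (n + 8 + 2)) := by ring
        _ ≤ j * y := hj
        _ ≤ j * (2 * (k * (n + 8))) := Nat.mul_le_mul_left _ hy'
        _ = _ := by ring
    exact Nat.le_of_mul_le_mul_left h2 (by omega)
  have h3 : (n + 9) * (n + 10) ^ 2 ≤ 4 * j ^ 2 := by
    have h4 : (n + 9) * ((n + 9) * (n + 10) ^ 2) ≤ (n + 9) * (4 * j ^ 2) := by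
      calc (n + 9) * ((n + 9) * (n + 10) ^ 2) = ((n + 9) * (n + 10)) ^ 2 := by ring
        _ ≤ (2 * (j * k)) ^ 2 := Nat.pow_le_pow_left h1 2
        _ = k ^ 2 * (4 * j ^ 2) := by ring
        _ ≤ (n + 9) * (4 * j ^ 2) := Nat.mul_le_mul_right _ hk
    exact Nat.le_of_mul_le_mul_left h4 (by omega)
  have h5 : ((n + 9) * (n + 10) ^ 2) ^ 5 ≤ 1024 * (j ^ 5) ^ 2 := by
    calc ((n + 9) * (n + 10) ^ 2) ^ 5 ≤ (4 * j ^ 2) ^ 5 := Nat.pow_le_pow_left h3 5
      _ = _ := by ring
  have h6 : (j ^ 5) ^ 2 < ((n + 9) ^ 4 * ((n + 9) ^ 2 + (n + 9) + 1)) ^ 2 := Nat.pow_lt_pow_left hj5 (by norm_num)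
  have h7 : (n + 9) ^ 5 * (1024 * ((n + 9) ^ 3 * ((n + 9) ^ 2 + (n + 9) + 1) ^ 2)) ≤ (n + 9) ^ 5 * (n + 10) ^ 10 :=
    Nat.mul_le_mul_left _ (p_k n)
  have h8 : (n + 9) ^ 5 * (n + 10) ^ 10 = ((n + 9) * (n + 10) ^ 2) ^ 5 := by ring
  have h9 : (n + 9) ^ 5 * (1024 * ((n + 9) ^ 3 * ((n + 9) ^ 2 + (n + 9) + 1) ^ 2)) =
    1024 * ((n + 9) ^ 4 * ((n + 9) ^ 2 + (n + 9) + 1)) ^ 2 := by ring
  rw [h8, h9] at h7
  omega

theorem j_lt {j b N : ℕ} (h : j ^ 5 < N) (hN : N ≤ b ^ 5) : j < b := by
  by_contra hcon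
  have := Nat.pow_le_pow_left (not_lt.1 hcon) 5
  omega

/-- **The numbers.** -/
theorem num_main {m j i y : ℕ} (hev : m % 2 = 0) (h4 : 4 ≤ m) (hdvd : y ∣ (m + 1) * (m * (m + 2)))
    (hH : j ^ 5 * i < (m + 1) ^ 4 * ((m + 1) ^ 4 + (m + 1) ^ 2 + 1)) (hi : 1 + (m + 1) * m ≤ i)
    (hj : (m + 1) * (m * (m + 2)) ≤ j * y)
    (hcase : y ≤ 2 * (m + 2) ∨ y = 24 ∨ y = 48 ∨ y = 120 ∨ ∃ k, k ^ 2 ≤ m + 1 ∧ y ≤ 2 * (k * (k ^ 2 - 1))) :
    (m = 4 ∧ y = 24 ∧ j < 10) ∨ (m = 4 ∧ y = 120) ∨ (m = 6 ∧ y = 48 ∧ j < 14) ∨ (m = 10 ∧ y = 120 ∧ j < 22) ∨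
    (m = 8 ∧ y = 120 ∧ j < 15) := by
  have hj5 := j5 hH hi
  rcases hcase with h | rfl | rfl | rfl | ⟨k, hk, hy⟩
  · exact absurd (num_small h4 hj5 hj h) id
  · rcases Nat.lt_or_ge m 6 with h6 | h6
    · left
      obtain rfl : m = 4 := by omega
      exact ⟨rfl, rfl, j_lt hj5 (by norm_num)⟩
    · exfalso
      obtain ⟨n, rfl⟩ : ∃ n, m = n + 6 := ⟨m - 6, by omega⟩
      exact num_y hj5 hj le_rfl (by norm_num) (p_24 n)
  · rcases Nat.lt_or_ge m 8 with h6 | h6
    · obtain rfl | rfl : m = 4 ∨ m = 6 := by omega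
      · exfalso; revert hdvd; norm_num
      · right; right; left
        exact ⟨rfl, rfl, j_lt hj5 (by norm_num)⟩
    · exfalso
      obtain ⟨n, rfl⟩ : ∃ n, m = n + 8 := ⟨m - 8, by omega⟩
      exact num_y hj5 hj le_rfl (by norm_num) (p_48 n)
  · rcases Nat.lt_or_ge m 14 with h6 | h6
    · obtain rfl | rfl | rfl | rfl | rfl : m = 4 ∨ m = 6 ∨ m = 8 ∨ m = 10 ∨ m = 12 := by omega
      · exact Or.inr (Or.inl ⟨rfl, rfl⟩)
      · exfalso; revert hdvd; norm_num
      · right; right; right; right
        exact ⟨rfl, rfl, j_lt hj5 (by norm_num)⟩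
      · right; right; right; left
        exact ⟨rfl, rfl, j_lt hj5 (by norm_num)⟩
      · exfalso; revert hdvd; norm_num
    · exfalso
      obtain ⟨n, rfl⟩ : ∃ n, m = n + 14 := ⟨m - 14, by omega⟩
      exact num_y hj5 hj le_rfl (by norm_num) (p_120 n)
  · exfalso
    rcases Nat.lt_or_ge m 8 with h8 | h8
    · have hk2 : k ≤ 2 := by
        by_contra hcon
        have : 3 ^ 2 ≤ k ^ 2 := Nat.pow_le_pow_left (by omega) 2
        omega
      refine num_small h4 hj5 hj (hy.trans ?_)
      interval_cases k <;> omega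
    · exact num_k h8 hj5 hj hk hy

end Cfsg.Agent.H747.IFG
end

-- part: H747/IFG/Orb
section
/-!
# Counting involutions by conjugation, and an index (helper747)
-/

set_option autoImplicit false

namespace Cfsg.Agent.H747.IFG

open Subgroup

theorem orderOf_cj {C : Type*} [Group C] (g x : C) : orderOf (g * x * g⁻¹) = orderOf x :=
  orderOf_injective (MulAut.conj g).toMonoidHom (MulAut.conj g).injective x

/-- the conjugates of an involution `s ≠ z` under `φ(G₁) ≤ A`, and `z` -/
theorem orb {C : Type*} [Group C] [Finite C] {G₁ : Type*} [Group G₁] [Finite G₁] (φ : G₁ →* C) {A : Subgroup C}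
    {z s : C} (hz : ∀ g, g * z = z * g) (oz : orderOf z = 2) (hzA : z ∈ A) (os : orderOf s = 2) (hs : s ∈ A)
    (hne : s ≠ z) (hφ : ∀ x, φ x ∈ A) {c : ℕ} (hc : Nat.card {x : G₁ // φ x * s = s * φ x} ≤ c) :
    Nat.card G₁ + c ≤ c * {t : C | t ∈ A ∧ orderOf t = 2}.ncard := by
  classical
  have := Fintype.ofFinite C
  have := Fintype.ofFinite G₁
  obtain ⟨f, hf⟩ : ∃ f : G₁ → C, ∀ x, f x = φ x * s * (φ x)⁻¹ := ⟨fun x => φ x * s * (φ x)⁻¹, fun _ => rfl⟩
  have h1 : (Finset.univ : Finset G₁).card ≤ c * (Finset.univ.image f).card := by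
    refine Finset.card_le_mul_card_image _ c fun a ha => ?_
    obtain ⟨x₀, -, rfl⟩ := Finset.mem_image.1 ha
    refine le_trans ?_ hc
    rw [Nat.card_eq_fintype_card, Fintype.card_subtype]
    refine Finset.card_le_card_of_injOn (fun x => x₀⁻¹ * x) ?_ ?_
    · intro x hx
      rw [Finset.mem_coe, Finset.mem_filter] at hx ⊢
      refine ⟨Finset.mem_univ _, ?_⟩
      have h2 := hx.2
      rw [hf, hf] at h2
      rw [map_mul, map_inv]
      calc (φ x₀)⁻¹ * φ x * s = (φ x₀)⁻¹ * (φ x * s * (φ x)⁻¹) * φ x := by group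
        _ = (φ x₀)⁻¹ * (φ x₀ * s * (φ x₀)⁻¹) * φ x := by rw [h2]
        _ = _ := by group
    · intro x _ y _ h
      exact mul_left_cancel h
  have h2 : (Finset.univ.image f).card + 1 ≤ {t : C | t ∈ A ∧ orderOf t = 2}.ncard := by
    have h3 : z ∉ Finset.univ.image f := by
      intro h
      obtain ⟨x, -, hx⟩ := Finset.mem_image.1 h
      rw [hf] at hx
      apply hne
      calc s = (φ x)⁻¹ * (φ x * s * (φ x)⁻¹) * φ x := by group
        _ = (φ x)⁻¹ * (z * φ x) := by rw [hx]; group
        _ = z := by rw [← hz]; group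
    rw [← Finset.card_insert_of_notMem h3, ← Set.ncard_coe_finset]
    refine Set.ncard_le_ncard ?_ (Set.toFinite _)
    intro t ht
    rw [Finset.mem_coe, Finset.mem_insert] at ht
    rcases ht with rfl | ht
    · exact ⟨hzA, oz⟩
    · obtain ⟨x, -, rfl⟩ := Finset.mem_image.1 ht
      rw [hf]
      exact ⟨A.mul_mem (A.mul_mem (hφ x) hs) (A.inv_mem (hφ x)), by rw [orderOf_cj, os]⟩
  rw [Finset.card_univ, ← Nat.card_eq_fintype_card] at h1
  calc Nat.card G₁ + c ≤ c * (Finset.univ.image f).card + c := by omega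
    _ = c * ((Finset.univ.image f).card + 1) := by ring
    _ ≤ _ := Nat.mul_le_mul_left _ h2

theorem card_mul_relIndex {C : Type*} [Group C] {H K : Subgroup C} (h : H ≤ K) :
    Nat.card H * H.relIndex K = Nat.card K := by
  have h1 := relIndex_mul_relIndex (⊥ : Subgroup C) H K bot_le h
  rwa [relIndex_bot_left, relIndex_bot_left] at h1

/-- `|N : A ∩ N|` divides `|C : A|` for `N` normal -/
theorem relIndex_dvd {C : Type*} [Group C] [Finite C] (A N : Subgroup C) [N.Normal] : A.relIndex N ∣ A.index := by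
  have h1 : A.relIndex (A ⊔ N) = A.relIndex N := by
    have e1 : N.relIndex (A ⊔ N) = N.relIndex A := Subgroup.relIndex_sup_right A N
    have e2 : Nat.card N * N.relIndex (A ⊔ N) = Nat.card (A ⊔ N : Subgroup C) := card_mul_relIndex le_sup_right
    have e3 : Nat.card A * A.relIndex (A ⊔ N) = Nat.card (A ⊔ N : Subgroup C) := card_mul_relIndex le_sup_left
    have e4 : Nat.card (A ⊓ N : Subgroup C) * (A ⊓ N).relIndex N = Nat.card N := card_mul_relIndex inf_le_right
    have e5 : Nat.card (A ⊓ N : Subgroup C) * (A ⊓ N).relIndex A = Nat.card A := card_mul_relIndex inf_le_left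
    rw [Subgroup.inf_relIndex_left] at e5
    rw [Subgroup.inf_relIndex_right] at e4
    have hpos : 0 < Nat.card A := Nat.card_pos
    apply Nat.eq_of_mul_eq_mul_left hpos
    rw [e3, ← e2, e1, ← e4]
    calc Nat.card (A ⊓ N : Subgroup C) * A.relIndex N * N.relIndex A =
        Nat.card (A ⊓ N : Subgroup C) * N.relIndex A * A.relIndex N := by ring
      _ = Nat.card A * A.relIndex N := by rw [e5]
  rw [← h1, ← relIndex_mul_index (le_sup_left : A ≤ A ⊔ N)]
  exact dvd_mul_right _ _

end Cfsg.Agent.H747.IFG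
end

-- part: H917/IFG/Nine
section
/-!
# S5719: `A5` inside `PSL(2, 9)` (P3 of StepC)
-/

set_option autoImplicit false

namespace Cfsg.Agent.H917.IFG

open Subgroup

theorem three_cycle (c : Equiv.Perm (Fin 5)) (hc : c ^ 3 = 1) (hc1 : c ≠ 1) : c.IsThreeCycle := by
  have ho : orderOf c = 3 := orderOf_eq_prime hc hc1
  obtain ⟨n, hn⟩ := Equiv.Perm.cycleType_prime_order (σ := c) (by rw [ho]; exact Nat.prime_three)
  rw [ho] at hn
  have h1 : c.cycleType.sum ≤ 5 := by
    rw [Equiv.Perm.sum_cycleType]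
    exact (Finset.card_le_univ _).trans (by simp)
  rw [hn, Multiset.sum_replicate, smul_eq_mul] at h1
  have h0 : n = 0 := by omega
  rw [h0] at hn
  exact hn

/-- the elements of order three of `A5` are conjugate -/
theorem alt5_conj (a b : alternatingGroup (Fin 5)) (ha : a ^ 3 = 1) (ha1 : a ≠ 1) (hb : b ^ 3 = 1) (hb1 : b ≠ 1) :
    ∃ w : alternatingGroup (Fin 5), w * a * w⁻¹ = b := by
  have h3 : ∀ c : alternatingGroup (Fin 5), c ^ 3 = 1 → c ≠ 1 → (c : Equiv.Perm (Fin 5)).IsThreeCycle := by
    intro c hc hc1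
    refine three_cycle _ ?_ ?_
    · rw [← Subgroup.coe_pow, hc, Subgroup.coe_one]
    · intro h
      exact hc1 (Subtype.ext h)
  have hab : IsConj a b := alternatingGroup.isThreeCycle_isConj (by simp) (h3 a ha ha1) (h3 b hb hb1)
  obtain ⟨w, hw⟩ := isConj_iff.1 hab
  exact ⟨w, hw⟩

theorem center_sq {F : Type*} [Field F] {z : Matrix.SpecialLinearGroup (Fin 2) F}
    (hz : z ∈ center (Matrix.SpecialLinearGroup (Fin 2) F)) : z ^ 2 = 1 := by
  rw [Matrix.SpecialLinearGroup.mem_center_iff] at hz
  obtain ⟨r, hr, h⟩ := hz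
  rw [Fintype.card_fin] at hr
  apply Subtype.ext
  rw [Matrix.SpecialLinearGroup.coe_pow, ← h, ← map_pow, hr, map_one, Matrix.SpecialLinearGroup.coe_one]

theorem nine {F : Type*} [Field F] [Fintype F] (hF : Fintype.card F = 9) {C : Type*} [Group C] [Finite C]
    (ρ : Matrix.SpecialLinearGroup (Fin 2) F →* C) (hρ : Function.Injective ρ) (A M : Subgroup C) (hM : ρ.range ≤ M)
    (hn : ∀ g x, ∃ x', g * ρ x * g⁻¹ = ρ x') (hc : ∀ u, u ≠ 1 → u ^ 3 = 1 → ∀ g, g * ρ u = ρ u * g → g ∈ M)
    (hZ : Subgroup.center (Matrix.SpecialLinearGroup (Fin 2) F) ≤ A.comap ρ)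
    (h5 : Nonempty ((A.comap ρ).map (QuotientGroup.mk' (Subgroup.center (Matrix.SpecialLinearGroup (Fin 2) F))) ≃*
      alternatingGroup (Fin 5))) : A ≤ M := by
  obtain ⟨e⟩ := h5
  set Z := Subgroup.center (Matrix.SpecialLinearGroup (Fin 2) F) with hZd
  set π := QuotientGroup.mk' Z with hπ
  have hker : ∀ x : Matrix.SpecialLinearGroup (Fin 2) F, π x = 1 ↔ x ∈ Z := fun x => by
    rw [hπ, QuotientGroup.mk'_apply, QuotientGroup.eq_one_iff]
  -- an element of order three of Y
  obtain ⟨t, ht3, ht1⟩ : ∃ t : alternatingGroup (Fin 5), t ^ 3 = 1 ∧ t ≠ 1 := by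
    have hm : Equiv.swap (0 : Fin 5) 1 * Equiv.swap 1 2 ∈ alternatingGroup (Fin 5) := by
      rw [Equiv.Perm.mem_alternatingGroup]
      decide
    refine ⟨⟨_, hm⟩, ?_, ?_⟩
    · apply Subtype.ext
      rw [Subgroup.coe_pow, Subgroup.coe_one]
      change (Equiv.swap (0 : Fin 5) 1 * Equiv.swap 1 2) ^ 3 = 1
      decide
    · intro h
      have h2 : Equiv.swap (0 : Fin 5) 1 * Equiv.swap 1 2 = 1 := congrArg Subtype.val h
      have h3 : Equiv.swap (0 : Fin 5) 1 * Equiv.swap 1 2 ≠ 1 := by decide
      exact h3 h2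
  obtain ⟨y, hyY, hy⟩ := Subgroup.mem_map.1 (e.symm t).2
  have hyt : e ⟨π y, Subgroup.mem_map_of_mem π hyY⟩ = t := by
    rw [← e.apply_symm_apply t]
    congr 1
    exact Subtype.ext hy
  have hy3 : y ^ 3 ∈ Z := by
    rw [← hker, map_pow, hy, ← Subgroup.coe_pow, ← map_pow, ht3, map_one, Subgroup.coe_one]
  have hyn : π y ≠ 1 := by
    intro h
    apply ht1
    rw [← hyt]
    have : (⟨π y, Subgroup.mem_map_of_mem π hyY⟩ : (A.comap ρ).map π) = 1 := Subtype.ext h
    rw [this, map_one]
  intro g hg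
  have hu3 : (y ^ 4) ^ 3 = 1 := by
    rw [← pow_mul, show 4 * 3 = 3 * 2 * 2 from rfl, pow_mul, pow_mul, center_sq hy3, one_pow]
  have hπu : π (y ^ 4) = π y := by
    have := (hker _).2 hy3
    rw [map_pow] at this ⊢
    rw [pow_succ, this, one_mul]
  have hu1 : y ^ 4 ≠ 1 := by
    intro h
    rw [h, map_one] at hπu
    exact hyn hπu.symm
  set u := y ^ 4 with hu
  have huY : u ∈ A.comap ρ := pow_mem hyY 4
  obtain ⟨u', hu'⟩ := hn g u
  have hu'Y : u' ∈ A.comap ρ := by
    rw [Subgroup.mem_comap, ← hu']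
    exact mul_mem (mul_mem hg huY) (inv_mem hg)
  have hu'3 : u' ^ 3 = 1 := by
    apply hρ
    rw [map_pow, ← hu', conj_pow, ← map_pow, hu3, map_one, mul_one, mul_inv_cancel]
  have hu'1 : u' ≠ 1 := by
    intro h
    rw [h, map_one, mul_inv_eq_one, mul_eq_left] at hu'
    exact hu1 (hρ (hu'.trans (map_one ρ).symm))
  have hπu' : π u' ≠ 1 := by
    intro h
    rw [hker] at h
    have h2 := center_sq h
    apply hu'1
    calc u' = u' ^ 3 * (u' ^ 2)⁻¹ := by group
      _ = 1 := by rw [hu'3, h2, inv_one, mul_one]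
  -- conjugate in A5
  obtain ⟨w0, hw0⟩ := alt5_conj (e ⟨π u, Subgroup.mem_map_of_mem π huY⟩) (e ⟨π u', Subgroup.mem_map_of_mem π hu'Y⟩)
    (by
      rw [← map_pow, ← map_one e]
      congr 1
      apply Subtype.ext
      rw [Subgroup.coe_pow, Subgroup.coe_one]
      change (π u) ^ 3 = 1
      rw [← map_pow, hu3, map_one])
    (by
      intro h
      rw [← map_one e] at h
      have h2 := congrArg Subtype.val (e.injective h)
      rw [Subgroup.coe_one] at h2
      change π u = 1 at h2
      rw [hπu] at h2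
      exact hyn h2)
    (by
      rw [← map_pow, ← map_one e]
      congr 1
      apply Subtype.ext
      rw [Subgroup.coe_pow, Subgroup.coe_one]
      change (π u') ^ 3 = 1
      rw [← map_pow, hu'3, map_one])
    (by
      intro h
      rw [← map_one e] at h
      have h2 := congrArg Subtype.val (e.injective h)
      rw [Subgroup.coe_one] at h2
      change π u' = 1 at h2
      exact hπu' h2)
  obtain ⟨w, hwY, hw⟩ := Subgroup.mem_map.1 (e.symm w0).2
  have hwe : e ⟨π w, Subgroup.mem_map_of_mem π hwY⟩ = w0 := by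
    rw [← e.apply_symm_apply w0]
    congr 1
    exact Subtype.ext hw
  have h6 : π (w * u * w⁻¹) = π u' := by
    rw [← hwe, ← map_inv, ← map_mul, ← map_mul] at hw0
    have h7 := congrArg Subtype.val (e.injective hw0)
    rw [map_mul, map_mul, map_inv]
    exact h7
  have h8 : u'⁻¹ * (w * u * w⁻¹) ∈ Z := by
    rw [← hker, map_mul, h6, map_inv, inv_mul_cancel]
  have h9 : w * u * w⁻¹ = u' := by
    have hzc := Subgroup.mem_center_iff.1 h8
    have hz2 := center_sq h8
    set z := u'⁻¹ * (w * u * w⁻¹) with hz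
    have h10 : w * u * w⁻¹ = u' * z := by rw [hz]; group
    have h11 : (w * u * w⁻¹) ^ 3 = 1 := by rw [conj_pow, hu3, mul_one, mul_inv_cancel]
    have h12 : (u' * z) ^ 3 = u' ^ 3 * z ^ 3 := (show Commute u' z from hzc u').mul_pow 3
    rw [h10, h12, hu'3, one_mul] at h11
    have h13 : z = 1 := by
      calc z = z ^ 3 * (z ^ 2)⁻¹ := by group
        _ = 1 := by rw [h11, hz2, inv_one, mul_one]
    rw [h10, h13, mul_one]
  have h14 : (ρ w)⁻¹ * g ∈ M := by
    apply hc u hu1 hu3
    have h15 : ρ w * ρ u * (ρ w)⁻¹ = g * ρ u * g⁻¹ := by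
      rw [hu', ← h9, map_mul, map_mul, map_inv]
    calc (ρ w)⁻¹ * g * ρ u = (ρ w)⁻¹ * (g * ρ u * g⁻¹) * g := by group
      _ = (ρ w)⁻¹ * (ρ w * ρ u * (ρ w)⁻¹) * g := by rw [h15]
      _ = ρ u * ((ρ w)⁻¹ * g) := by group
  have h16 : ρ w ∈ M := hM ⟨w, rfl⟩
  have := mul_mem h16 h14
  rwa [mul_inv_cancel_left] at this

end Cfsg.Agent.H917.IFG
end

-- part: H411/IFU/OddCount
section
/-!
# S5719 (StepC of helper747): numbers of involutions of subgroups (helper411)

* `class_bound` : `|A| ≤ c |s^A|` if `|C(s)| ≤ c`;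
* `one_count`, `odd_count`.
-/

set_option autoImplicit false

namespace Cfsg.Agent.H411.IFU

open Subgroup

variable {C : Type*} [Group C] [Finite C] {A : Subgroup C}

/-- the `A`-class of `s` -/
def cl (A : Subgroup C) (s : C) : Set C := {t | ∃ a ∈ A, t = a * s * a⁻¹}

theorem class_bound {s : C} {c : ℕ} (k : Nat.card (centralizer ({s} : Set C)) ≤ c) :
    Nat.card A ≤ c * (cl A s).ncard := by
  classical
  have hmem : ∀ a : A, a.1 * s * a.1⁻¹ ∈ cl A s := fun a => ⟨a.1, a.2, rfl⟩
  choose g hg hgs using fun t : cl A s => t.2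
  have h1 : Function.Injective (fun a : A => ((⟨(g ⟨_, hmem a⟩)⁻¹ * a.1, by
      rw [mem_centralizer_singleton_iff]
      have h2 := hgs ⟨_, hmem a⟩
      have h3 : a.1 * s * a.1⁻¹ = g ⟨_, hmem a⟩ * s * (g ⟨_, hmem a⟩)⁻¹ := h2
      calc (g ⟨_, hmem a⟩)⁻¹ * a.1 * s = (g ⟨_, hmem a⟩)⁻¹ * (a.1 * s * a.1⁻¹) * a.1 := by group
        _ = (g ⟨_, hmem a⟩)⁻¹ * (g ⟨_, hmem a⟩ * s * (g ⟨_, hmem a⟩)⁻¹) * a.1 := by rw [← h3]
        _ = s * ((g ⟨_, hmem a⟩)⁻¹ * a.1) := by group⟩, ⟨_, hmem a⟩) :
      (centralizer ({s} : Set C)) × (cl A s))) := by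
    intro a b hab
    have h2 : a.1 * s * a.1⁻¹ = b.1 * s * b.1⁻¹ := congrArg (fun p => (p.2 : C)) hab
    have h3 : (g ⟨_, hmem a⟩)⁻¹ * a.1 = (g ⟨_, hmem b⟩)⁻¹ * b.1 := congrArg (fun p => (p.1 : C)) hab
    have h4 : (⟨_, hmem a⟩ : cl A s) = ⟨_, hmem b⟩ := Subtype.ext h2
    rw [h4] at h3
    exact Subtype.ext (mul_left_cancel h3)
  have h2 := Nat.card_le_card_of_injective _ h1
  rw [Nat.card_prod, Nat.card_coe_set_eq] at h2
  exact h2.trans (Nat.mul_le_mul_right _ k)

theorem cl_order {s : C} (o : orderOf s = 2) (hs : s ∈ A) : cl A s ⊆ {t : C | t ∈ A ∧ orderOf t = 2} := by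
  rintro _ ⟨a, ha, rfl⟩
  refine ⟨mul_mem (mul_mem ha hs) (inv_mem ha), ?_⟩
  rw [← o]
  exact orderOf_injective (MulAut.conj a).toMonoidHom (MulAut.conj a).injective s

theorem not_mem_cl {s z : C} (hz : ∀ g, g * z = z * g) (n : s ≠ z) : z ∉ cl A s := by
  rintro ⟨a, -, h⟩
  apply n
  have h1 : s = a⁻¹ * z * a := by rw [h]; group
  rw [h1, hz a⁻¹, mul_assoc, inv_mul_cancel, mul_one]

theorem one_count {z s : C} (hz : ∀ g, g * z = z * g) (oz : orderOf z = 2) (hzA : z ∈ A) (o : orderOf s = 2)
    (hs : s ∈ A) (n : s ≠ z) {c : ℕ} (k : Nat.card (centralizer ({s} : Set C)) ≤ c) :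
    c + Nat.card A ≤ c * {t : C | t ∈ A ∧ orderOf t = 2}.ncard := by
  have h1 := class_bound (A := A) k
  have h2 : 1 + (cl A s).ncard ≤ {t : C | t ∈ A ∧ orderOf t = 2}.ncard := by
    have h3 : insert z (cl A s) ⊆ {t : C | t ∈ A ∧ orderOf t = 2} :=
      Set.insert_subset ⟨hzA, oz⟩ (cl_order o hs)
    have h4 := Set.ncard_le_ncard h3 (Set.toFinite _)
    rw [Set.ncard_insert_of_notMem (not_mem_cl hz n) (Set.toFinite _)] at h4
    omega
  calc c + Nat.card A ≤ c + c * (cl A s).ncard := Nat.add_le_add_left h1 _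
    _ = c * (1 + (cl A s).ncard) := by ring
    _ ≤ _ := Nat.mul_le_mul_left _ h2

/-- an involution fixes a coset of a subgroup of odd index -/
theorem exists_conj_mem (hj : Odd A.index) {s : C} (o : orderOf s = 2) : ∃ g : C, g⁻¹ * s * g ∈ A := by
  classical
  have : Fintype (C ⧸ A) := Fintype.ofFinite _
  have hc : ¬ 2 ∣ Fintype.card (C ⧸ A) := by
    rw [← Nat.card_eq_fintype_card]
    exact fun h => (Nat.not_even_iff_odd.2 hj) (even_iff_two_dvd.2 h)
  have : Fact (Nat.Prime 2) := ⟨Nat.prime_two⟩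
  have hs : (MulAction.toPerm s : Equiv.Perm (C ⧸ A)) ^ 2 ^ 1 = 1 := by
    have h1 : (MulAction.toPermHom C (C ⧸ A) s) ^ 2 = 1 := by
      rw [← map_pow, ← o, pow_orderOf_eq_one, map_one]
    rw [pow_one]
    exact h1
  obtain ⟨x, hx⟩ := Equiv.Perm.exists_fixed_point_of_prime hc hs
  obtain ⟨g, rfl⟩ := QuotientGroup.mk_surjective x
  have h1 : (QuotientGroup.mk (s * g) : C ⧸ A) = QuotientGroup.mk g := hx
  refine ⟨g, ?_⟩
  have h2 := QuotientGroup.eq.1 h1.symm
  rwa [← mul_assoc] at h2

theorem card_centralizer_conj (g s : C) :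
    Nat.card (centralizer ({g⁻¹ * s * g} : Set C)) = Nat.card (centralizer ({s} : Set C)) := by
  refine Nat.card_congr
    { toFun := fun x => ⟨g * x.1 * g⁻¹, ?_⟩
      invFun := fun x => ⟨g⁻¹ * x.1 * g, ?_⟩
      left_inv := fun x => Subtype.ext (by show g⁻¹ * (g * x.1 * g⁻¹) * g = x.1; group)
      right_inv := fun x => Subtype.ext (by show g * (g⁻¹ * x.1 * g) * g⁻¹ = x.1; group) }
  · have h := mem_centralizer_singleton_iff.1 x.2
    rw [mem_centralizer_singleton_iff]
    calc g * x.1 * g⁻¹ * s = g * (x.1 * (g⁻¹ * s * g)) * g⁻¹ := by group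
      _ = g * (g⁻¹ * s * g * x.1) * g⁻¹ := by rw [h]
      _ = s * (g * x.1 * g⁻¹) := by group
  · have h := mem_centralizer_singleton_iff.1 x.2
    rw [mem_centralizer_singleton_iff]
    calc g⁻¹ * x.1 * g * (g⁻¹ * s * g) = g⁻¹ * (x.1 * s) * g := by group
      _ = g⁻¹ * (s * x.1) * g := by rw [h]
      _ = g⁻¹ * s * g * (g⁻¹ * x.1 * g) := by group

/-- **`1 + |A| / c₁ + |A| / c₂ ≤ i(A)`** for a subgroup of odd index -/
theorem odd_count (hj : Odd A.index) {z s₁ s₂ : C} (hz : ∀ g, g * z = z * g) (oz : orderOf z = 2) (hzA : z ∈ A)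
    (o1 : orderOf s₁ = 2) (o2 : orderOf s₂ = 2) (n1 : s₁ ≠ z) (n2 : s₂ ≠ z) (hn : ¬ IsConj s₁ s₂) {c₁ c₂ : ℕ}
    (k1 : Nat.card (Subgroup.centralizer ({s₁} : Set C)) ≤ c₁)
    (k2 : Nat.card (Subgroup.centralizer ({s₂} : Set C)) ≤ c₂) :
    c₁ * c₂ + c₂ * Nat.card A + c₁ * Nat.card A ≤ c₁ * c₂ * {t : C | t ∈ A ∧ orderOf t = 2}.ncard := by
  obtain ⟨g, hg⟩ := exists_conj_mem hj o1
  obtain ⟨h, hh⟩ := exists_conj_mem hj o2
  have hord : ∀ (g s : C), orderOf s = 2 → orderOf (g⁻¹ * s * g) = 2 := by
    intro g s o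
    rw [← o]
    have := orderOf_injective (MulAut.conj g⁻¹).toMonoidHom (MulAut.conj g⁻¹).injective s
    rwa [MulEquiv.coe_toMonoidHom, MulAut.conj_apply, inv_inv] at this
  have hne : ∀ (g s : C), s ≠ z → g⁻¹ * s * g ≠ z := by
    intro g s n e
    apply n
    have h1 : s = g * z * g⁻¹ := by rw [← e]; group
    rw [h1, hz g, mul_assoc, mul_inv_cancel, mul_one]
  have h1 := class_bound (A := A) (s := g⁻¹ * s₁ * g) (c := c₁) (by rw [card_centralizer_conj]; exact k1)
  have h2 := class_bound (A := A) (s := h⁻¹ * s₂ * h) (c := c₂) (by rw [card_centralizer_conj]; exact k2)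
  have hdis : Disjoint (cl A (g⁻¹ * s₁ * g)) (cl A (h⁻¹ * s₂ * h)) := by
    rw [Set.disjoint_left]
    rintro _ ⟨a, -, rfl⟩ ⟨b, -, e⟩
    apply hn
    rw [isConj_iff]
    refine ⟨h * b⁻¹ * a * g⁻¹, ?_⟩
    calc h * b⁻¹ * a * g⁻¹ * s₁ * (h * b⁻¹ * a * g⁻¹)⁻¹ = h * b⁻¹ * (a * (g⁻¹ * s₁ * g) * a⁻¹) * b * h⁻¹ := by group
      _ = h * b⁻¹ * (b * (h⁻¹ * s₂ * h) * b⁻¹) * b * h⁻¹ := by rw [e]
      _ = s₂ := by group
  have h3 : 1 + (cl A (g⁻¹ * s₁ * g)).ncard + (cl A (h⁻¹ * s₂ * h)).ncard ≤
      {t : C | t ∈ A ∧ orderOf t = 2}.ncard := by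
    have h4 : insert z (cl A (g⁻¹ * s₁ * g) ∪ cl A (h⁻¹ * s₂ * h)) ⊆ {t : C | t ∈ A ∧ orderOf t = 2} :=
      Set.insert_subset ⟨hzA, oz⟩ (Set.union_subset (cl_order (hord g _ o1) hg) (cl_order (hord h _ o2) hh))
    have h5 := Set.ncard_le_ncard h4 (Set.toFinite _)
    rw [Set.ncard_insert_of_notMem (fun h6 => h6.elim (not_mem_cl hz (hne g _ n1)) (not_mem_cl hz (hne h _ n2)))
      (Set.toFinite _), Set.ncard_union_eq hdis (Set.toFinite _) (Set.toFinite _)] at h5
    omega
  calc c₁ * c₂ + c₂ * Nat.card A + c₁ * Nat.card A ≤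
      c₁ * c₂ + c₂ * (c₁ * (cl A (g⁻¹ * s₁ * g)).ncard) + c₁ * (c₂ * (cl A (h⁻¹ * s₂ * h)).ncard) := by
        have h6 := Nat.mul_le_mul_left c₂ h1
        have h7 := Nat.mul_le_mul_left c₁ h2
        omega
    _ = c₁ * c₂ * (1 + (cl A (g⁻¹ * s₁ * g)).ncard + (cl A (h⁻¹ * s₂ * h)).ncard) := by ring
    _ ≤ _ := Nat.mul_le_mul_left _ h3

end Cfsg.Agent.H411.IFU
end

-- part: H747/IFG/Abs
section
/-!
# The centraliser of an involution in `G₂(q)`, `q` odd: a subgroup containing one `SL₂(q)` and a second involution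
(S5719, helper747)
-/

set_option autoImplicit false
set_option linter.unusedSectionVars false

namespace Cfsg.Agent.H747.IFG

open Subgroup
open Cfsg.Agent.H411.IFU (odd_count one_count)
open Cfsg.Agent.H917.IFG (nine)
open Cfsg.Agent.ClassicalGeometry.PSL2Basic

/-- `C = (K ∘ K').2` -/
structure Frm {F F' : Type*} [Field F] [Fintype F] [Field F'] [Fintype F'] {C : Type*} [Group C]
    (m : ℕ) (ρ : Matrix.SpecialLinearGroup (Fin 2) F →* C) (ρ' : Matrix.SpecialLinearGroup (Fin 2) F' →* C)
    (z : C) : Prop where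
  cF : Fintype.card F = m + 1
  cF' : Fintype.card F' = m + 1
  ev : m % 2 = 0
  inj : Function.Injective ρ
  inj' : Function.Injective ρ'
  comm : ∀ x y, ρ x * ρ' y = ρ' y * ρ x
  hz : ∀ g, g * z = z * g
  oz : orderOf z = 2
  cap : ∀ x y, ρ x = ρ' y → ρ x = 1 ∨ ρ x = z
  zK : z ∈ ρ.range
  zK' : z ∈ ρ'.range
  cen : ∀ x ∈ Subgroup.center (Matrix.SpecialLinearGroup (Fin 2) F'), ρ' x = 1 ∨ ρ' x = z
  card : Nat.card C = ((m + 1) * (m * (m + 2))) ^ 2
  nrm : ∀ g x, ∃ x', g * ρ x * g⁻¹ = ρ x'
  nrm' : ∀ g x, ∃ x', g * ρ' x * g⁻¹ = ρ' x'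
  cK : ∀ s, orderOf s = 2 → s ≠ z → Nat.card {x : Matrix.SpecialLinearGroup (Fin 2) F // ρ x * s = s * ρ x} ≤ m + 2
  cU : ∀ s, orderOf s = 2 → s ≠ z → ∀ u : Matrix.SpecialLinearGroup (Fin 2) F', u ^ (m + 1) = 1 →
    ρ' u * s = s * ρ' u → u = 1
  cU2 : ∀ u : Matrix.SpecialLinearGroup (Fin 2) F', u ≠ 1 → u ^ (m + 1) = 1 → ∀ g, g * ρ' u = ρ' u * g →
    ∃ x y, g = ρ x * ρ' y
  cC : ∀ s, orderOf s = 2 → s ≠ z → Nat.card (centralizer ({s} : Set C)) ≤ 2 * (m + 2) ^ 2
  two : ∃ s₁ s₂, orderOf s₁ = 2 ∧ orderOf s₂ = 2 ∧ s₁ ≠ z ∧ s₂ ≠ z ∧ ¬ IsConj s₁ s₂ ∧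
    Nat.card (centralizer ({s₁} : Set C)) ≤ 2 * m ^ 2 ∧ Nat.card (centralizer ({s₂} : Set C)) ≤ 2 * (m + 2) ^ 2

variable {F F' : Type*} [Field F] [Fintype F] [Field F'] [Fintype F'] {C : Type*} [Group C] [Finite C] {m : ℕ}
  {ρ : Matrix.SpecialLinearGroup (Fin 2) F →* C} {ρ' : Matrix.SpecialLinearGroup (Fin 2) F' →* C} {z : C}

theorem Frm.cardSL (h : Frm m ρ ρ' z) :
    Nat.card (Matrix.SpecialLinearGroup (Fin 2) F) = (m + 1) * (m * (m + 2)) := by
  rw [card_SL2, h.cF, qq]

theorem Frm.cardSL' (h : Frm m ρ ρ' z) :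
    Nat.card (Matrix.SpecialLinearGroup (Fin 2) F') = (m + 1) * (m * (m + 2)) := by
  rw [card_SL2, h.cF', qq]

/-- the product homomorphism on `SL₂(F) × P` -/
def prd (hc : ∀ x y, ρ x * ρ' y = ρ' y * ρ x) (P : Subgroup (Matrix.SpecialLinearGroup (Fin 2) F')) :
    Matrix.SpecialLinearGroup (Fin 2) F × P →* C where
  toFun p := ρ p.1 * ρ' p.2
  map_one' := by simp only [_root_.Prod.fst_one, _root_.map_one, _root_.Prod.snd_one, _root_.OneMemClass.coe_one, _root_.mul_one]
  map_mul' p q := by
    change ρ (p.1 * q.1) * ρ' ((p.2 * q.2 : P) : _) = ρ p.1 * ρ' p.2 * (ρ q.1 * ρ' q.2)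
    rw [map_mul, Subgroup.coe_mul, map_mul]
    have h := hc q.1 p.2
    calc ρ p.1 * ρ q.1 * (ρ' p.2 * ρ' q.2) = ρ p.1 * (ρ q.1 * ρ' p.2) * ρ' q.2 := by group
      _ = _ := by rw [h]; group

theorem prd_apply (hc : ∀ x y, ρ x * ρ' y = ρ' y * ρ x) (P : Subgroup (Matrix.SpecialLinearGroup (Fin 2) F'))
    (x : Matrix.SpecialLinearGroup (Fin 2) F) (y : P) : prd hc P (x, y) = ρ x * ρ' y := rfl

/-- the conjugates of `s` under `K P` -/
theorem Frm.orbP (h : Frm m ρ ρ' z) {A : Subgroup C} (hKA : ρ.range ≤ A) {s : C} (hsA : s ∈ A) (os : orderOf s = 2)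
    (hsz : s ≠ z) (P : Subgroup (Matrix.SpecialLinearGroup (Fin 2) F')) (hP : ∀ u ∈ P, ρ' u ∈ A ∧ u ^ (m + 1) = 1)
    (hPs : ∀ u ∈ P, ∀ u', s * ρ' u * s⁻¹ = ρ' u' → u' ∈ P) :
    (m + 1) * m * Nat.card P + 1 ≤ {t : C | t ∈ A ∧ orderOf t = 2}.ncard := by
  have hss : s * s = 1 := by rw [← pow_two, ← os, pow_orderOf_eq_one]
  have hc : Nat.card {p : Matrix.SpecialLinearGroup (Fin 2) F × P // prd h.comm P p * s = s * prd h.comm P p} ≤ m + 2 := by
    refine le_trans ?_ (h.cK s os hsz)
    have key : ∀ (x : Matrix.SpecialLinearGroup (Fin 2) F) (u : P), ρ x * ρ' u * s = s * (ρ x * ρ' u) →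
        (ρ x * s = s * ρ x) ∧ (u : Matrix.SpecialLinearGroup (Fin 2) F') = 1 := by
      intro x u he
      obtain ⟨x', hx'⟩ := h.nrm s x
      obtain ⟨u', hu'⟩ := h.nrm' s u
      have hu'P := hPs u u.2 u' hu'
      have e1 : ρ (x⁻¹ * x') = ρ' (u * u'⁻¹) := by
        rw [map_mul, map_mul, map_inv, map_inv, ← hx', ← hu']
        have e2 : ρ x * ρ' (u : Matrix.SpecialLinearGroup (Fin 2) F') = s * ρ x * s⁻¹ * (s * ρ' u * s⁻¹) := by
          calc ρ x * ρ' (u : Matrix.SpecialLinearGroup (Fin 2) F') = ρ x * ρ' u * s * s⁻¹ := by group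
            _ = s * (ρ x * ρ' u) * s⁻¹ := by rw [he]
            _ = _ := by group
        calc (ρ x)⁻¹ * (s * ρ x * s⁻¹) = (ρ x)⁻¹ * (s * ρ x * s⁻¹ * (s * ρ' u * s⁻¹)) * (s * ρ' u * s⁻¹)⁻¹ := by group
          _ = _ := by rw [← e2]; group
      have e3 : ρ' (u * u'⁻¹) = 1 := by
        rcases h.cap _ _ e1 with h1 | h1
        · rw [← e1, h1]
        · exfalso
          have h4 : (ρ' (u * u'⁻¹)) ^ (m + 1) = 1 := by
            have := (hP _ (P.mul_mem u.2 (P.inv_mem hu'P))).2
            rw [← map_pow, this, map_one]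
          rw [← e1, h1] at h4
          have h5 := orderOf_dvd_of_pow_eq_one h4
          rw [h.oz] at h5
          have := h.ev
          omega
      have e4 : (u : Matrix.SpecialLinearGroup (Fin 2) F') = u' := by
        have := h.inj' (e3.trans (map_one ρ').symm)
        exact mul_inv_eq_one.1 this
      have e5 : (u : Matrix.SpecialLinearGroup (Fin 2) F') = 1 := by
        refine h.cU s os hsz _ (hP _ u.2).2 ?_
        rw [← e4, mul_inv_eq_iff_eq_mul] at hu'
        exact hu'.symm
      refine ⟨?_, e5⟩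
      rw [e5, map_one, mul_one] at he
      exact he
    refine Nat.card_le_card_of_injective (fun p => ⟨p.1.1, (key p.1.1 p.1.2 p.2).1⟩) ?_
    rintro ⟨⟨x, u⟩, hp⟩ ⟨⟨x', u'⟩, hp'⟩ he
    have e1 : x = x' := congrArg Subtype.val he
    have e2 : (u : Matrix.SpecialLinearGroup (Fin 2) F') = u' := (key x u hp).2.trans (key x' u' hp').2.symm
    exact Subtype.ext (Prod.ext e1 (Subtype.ext e2))
  have h1 := orb (prd h.comm P) h.hz h.oz (hKA h.zK) os hsA hsz
    (fun p => A.mul_mem (hKA ⟨p.1, rfl⟩) (hP _ p.2.2).1) hc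
  rw [Nat.card_prod, h.cardSL] at h1
  have h2 : (m + 2) * ((m + 1) * m * Nat.card P + 1) ≤ (m + 2) * {t : C | t ∈ A ∧ orderOf t = 2}.ncard := by
    refine le_trans (le_of_eq ?_) h1
    ring
  exact Nat.le_of_mul_le_mul_left h2 (by omega)


theorem Frm.odd_case (h : Frm m ρ ρ' z) {A : Subgroup C} (hzA : z ∈ A) (hidx : A.index = m + 1)
    (hm : m = 4 ∨ m = 6 ∨ m = 10)
    (hH : A.index ^ 5 * {t : C | t ∈ A ∧ orderOf t = 2}.ncard < (m + 1) ^ 4 * ((m + 1) ^ 4 + (m + 1) ^ 2 + 1)) :
    False := by
  obtain ⟨s₁, s₂, o1, o2, n1, n2, hn, k1, k2⟩ := h.two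
  have hodd : Odd A.index := by rw [hidx]; exact Nat.odd_iff.2 (by have := h.ev; omega)
  have h1 := odd_count hodd h.hz h.oz hzA o1 o2 n1 n2 hn k1 k2
  have h2 := A.card_mul_index
  rw [h.card, hidx] at h2
  rw [hidx] at hH
  generalize {t : C | t ∈ A ∧ orderOf t = 2}.ncard = i at h1 hH
  generalize Nat.card A = a at h1 h2
  rcases hm with rfl | rfl | rfl
  · have : a = 2880 := by omega
    subst this
    norm_num at h1 hH
    omega
  · have : a = 16128 := by omega
    subst this
    norm_num at h1 hH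
    omega
  · have : a = 158400 := by omega
    subst this
    norm_num at h1 hH
    omega

theorem Frm.nine_case (h : Frm 8 ρ ρ' z) {A : Subgroup C} (hKA : ρ.range ≤ A) {s : C} (hsA : s ∈ A)
    (os : orderOf s = 2) (hsz : s ≠ z) (hY : Nat.card (A.comap ρ') = 120)
    (h5 : Nonempty ((A.comap ρ').map (QuotientGroup.mk' (Subgroup.center (Matrix.SpecialLinearGroup (Fin 2) F'))) ≃*
      alternatingGroup (Fin 5)))
    (hj : A.index = 6 ∨ A.index = 12)
    (hH : A.index ^ 5 * {t : C | t ∈ A ∧ orderOf t = 2}.ncard < (8 + 1) ^ 4 * ((8 + 1) ^ 4 + (8 + 1) ^ 2 + 1)) :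
    False := by
  have hzA := hKA h.zK
  have h2 := A.card_mul_index
  rw [h.card] at h2
  rcases hj with hj | hj
  · have h3 : Nat.card A = 86400 := by rw [hj] at h2; omega
    have hM : ∀ g, g ∈ (prd h.comm (A.comap ρ')).range ↔ ∃ x, ∃ y ∈ A.comap ρ', g = ρ x * ρ' y :=
      fun g => ⟨fun ⟨p, hp⟩ => ⟨p.1, p.2, p.2.2, hp.symm⟩, fun ⟨x, y, hy, e⟩ => ⟨(x, ⟨y, hy⟩), e.symm⟩⟩
    -- the subgroup `K K'`
    obtain ⟨M, hMd⟩ : ∃ M, M = (prd h.comm (⊤ : Subgroup (Matrix.SpecialLinearGroup (Fin 2) F'))).range := ⟨_, rfl⟩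
    have hM' : ∀ g, g ∈ M ↔ ∃ x y, g = ρ x * ρ' y := by
      intro g
      rw [hMd]
      exact ⟨fun ⟨p, hp⟩ => ⟨p.1, p.2, hp.symm⟩, fun ⟨x, y, e⟩ => ⟨(x, ⟨y, mem_top _⟩), e.symm⟩⟩
    have hcen : Subgroup.center _ ≤ A.comap ρ' := by
      intro x hx
      change ρ' x ∈ A
      rcases h.cen x hx with e | e
      · rw [e]; exact one_mem _
      · rw [e]; exact hzA
    have hAM : A ≤ M := nine h.cF' ρ' h.inj' A M (by
      rintro _ ⟨y, rfl⟩
      exact (hM' _).2 ⟨1, y, by rw [map_one, one_mul]⟩) h.nrm' (fun u hu1 hu3 g hg => by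
      rw [hM']
      refine h.cU2 u hu1 ?_ g hg
      rw [show 8 + 1 = 3 * 3 by norm_num, pow_mul, hu3, one_pow]) hcen h5
    have hAr : A ≤ (prd h.comm (A.comap ρ')).range := by
      intro g hg
      obtain ⟨x, y, e⟩ := (hM' g).1 (hAM hg)
      refine (hM g).2 ⟨x, y, ?_, e⟩
      change ρ' y ∈ A
      have : ρ' y = (ρ x)⁻¹ * g := by rw [e]; group
      rw [this]
      exact A.mul_mem (A.inv_mem (hKA ⟨x, rfl⟩)) hg
    have h4 := Subgroup.card_eq_card_quotient_mul_card_subgroup (prd h.comm (A.comap ρ')).ker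
    rw [Nat.card_prod, Nat.card_congr (QuotientGroup.quotientKerEquivRange (prd h.comm (A.comap ρ'))).toEquiv,
      hY, h.cardSL] at h4
    have h6 : 1 < Nat.card (prd h.comm (A.comap ρ')).ker := by
      rw [Subgroup.one_lt_card_iff_ne_bot]
      intro hbot
      obtain ⟨x, hx⟩ := h.zK
      obtain ⟨y, hy⟩ := h.zK'
      have hyY : y ∈ A.comap ρ' := by change ρ' y ∈ A; rw [hy]; exact hzA
      have hzz : z * z = 1 := by rw [← pow_two, ← h.oz, pow_orderOf_eq_one]
      have h7 : ((x, ⟨y, hyY⟩) : Matrix.SpecialLinearGroup (Fin 2) F × (A.comap ρ')) ∈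
          (prd h.comm (A.comap ρ')).ker := by
        rw [MonoidHom.mem_ker, prd_apply, hx, hy, hzz]
      rw [hbot, mem_bot] at h7
      have h8 : x = 1 := congrArg Prod.fst h7
      rw [h8, map_one] at hx
      have := h.oz
      rw [← hx, orderOf_one] at this
      omega
    have h7 : Nat.card A ≤ Nat.card (prd h.comm (A.comap ρ')).range := Subgroup.card_le_of_le hAr
    rw [h3] at h7
    generalize Nat.card (prd h.comm (A.comap ρ')).range = r at h4 h7
    generalize Nat.card (prd h.comm (A.comap ρ')).ker = k at h4 h6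
    have : 86400 * 2 ≤ r * k := Nat.mul_le_mul h7 h6
    omega
  · have h3 : Nat.card A = 43200 := by rw [hj] at h2; omega
    have h1 := one_count h.hz h.oz hzA os hsA hsz (h.cC s os hsz)
    rw [hj] at hH
    rw [h3] at h1
    generalize {t : C | t ∈ A ∧ orderOf t = 2}.ncard = i at h1 hH
    norm_num at h1 hH
    omega

/-- **The second `SL₂(q)`.** -/
theorem Frm.main (h : Frm m ρ ρ' z) (h4 : 4 ≤ m) {A : Subgroup C} (hKA : ρ.range ≤ A) {s : C} (hsA : s ∈ A)
    (os : orderOf s = 2) (hsz : s ≠ z)
    (hH : A.index ^ 5 * {t : C | t ∈ A ∧ orderOf t = 2}.ncard < (m + 1) ^ 4 * ((m + 1) ^ 4 + (m + 1) ^ 2 + 1)) :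
    ρ'.range ≤ A := by
  classical
  by_contra hcon
  obtain ⟨Y, hYd⟩ : ∃ Y, Y = A.comap ρ' := ⟨_, rfl⟩
  have hmem : ∀ y, y ∈ Y ↔ ρ' y ∈ A := by intro y; rw [hYd]; rfl
  have hYtop : Y ≠ ⊤ := by
    intro h0
    apply hcon
    rintro _ ⟨y, rfl⟩
    rw [← hmem, h0]
    exact mem_top _
  have hzA := hKA h.zK
  have hcen : Subgroup.center (Matrix.SpecialLinearGroup (Fin 2) F') ≤ Y := by
    intro x hx
    rw [hmem]
    rcases h.cen x hx with e | e
    · rw [e]; exact one_mem _
    · rw [e]; exact hzA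
  have hYc : Nat.card Y * Y.index = (m + 1) * (m * (m + 2)) := by rw [Y.card_mul_index, h.cardSL']
  have hidx : Y.index = A.relIndex ρ'.range := by rw [hYd, index_comap]
  have hN : (ρ'.range).Normal := ⟨by
    rintro _ ⟨x, rfl⟩ g
    obtain ⟨x', hx'⟩ := h.nrm' g x
    exact ⟨x', hx'.symm⟩⟩
  have hdvd : Y.index ∣ A.index := by rw [hidx]; exact relIndex_dvd A ρ'.range
  have hApos : 0 < A.index := Nat.pos_of_ne_zero index_ne_zero_of_finite
  have hle : Y.index ≤ A.index := Nat.le_of_dvd hApos hdvd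
  have hj : (m + 1) * (m * (m + 2)) ≤ A.index * Nat.card Y := by
    rw [← hYc, mul_comm]; exact Nat.mul_le_mul_right _ hle
  have hi : 1 + (m + 1) * m ≤ {t : C | t ∈ A ∧ orderOf t = 2}.ncard := by
    have h1 := h.orbP hKA hsA os hsz ⊥ (by
      intro u hu
      rw [mem_bot] at hu
      rw [hu, map_one, one_pow]
      exact ⟨one_mem _, rfl⟩) (by
      intro u hu u' hu'
      rw [mem_bot] at hu ⊢
      rw [hu, map_one, mul_one, mul_inv_cancel] at hu'
      exact h.inj' (hu'.symm.trans (map_one ρ').symm))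
    rw [Subgroup.card_bot, mul_one] at h1
    omega
  obtain ⟨p, hp⟩ := CharP.exists F'
  have hpp : p.Prime := CharP.char_is_prime F' p
  have : Fact p.Prime := ⟨hpp⟩
  have hev := h.ev
  have hodd : Odd (Fintype.card F') := by rw [h.cF']; exact Nat.odd_iff.2 (by omega)
  obtain ⟨n, -, hn⟩ := FiniteField.card F' p
  have hp2 : p ≠ 2 := by
    rintro rfl
    rw [hn] at hodd
    have h2 : Even (2 ^ (n : ℕ)) := (Nat.even_pow' n.ne_zero).2 even_two
    exact (Nat.not_even_iff_odd.2 hodd) h2
  rcases sub_sl p hp2 hodd Y hYtop hcen with ⟨P, hPm, hPy, hPq⟩ | hcase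
  · rw [h.cF'] at hPm hPy hPq
    have hinv : ∀ u ∈ P, ∀ u', s * ρ' u * s⁻¹ = ρ' u' → u' ∈ P := by
      intro u hu u' hu'
      rw [hPm] at hu ⊢
      refine ⟨?_, ?_⟩
      · rw [hmem, ← hu']
        exact A.mul_mem (A.mul_mem hsA ((hmem u).1 hu.1)) (A.inv_mem hsA)
      · apply h.inj'
        rw [map_pow, ← hu', conj_pow, ← map_pow, hu.2, map_one, mul_one, mul_inv_cancel]
    have h1 := h.orbP hKA hsA os hsz P (fun u hu => ⟨(hmem u).1 ((hPm u).1 hu).1, ((hPm u).1 hu).2⟩) hinv
    rw [Nat.add_sub_cancel] at hPy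
    exact num_B h4 hH (by omega) hj hPy hPq
  · rw [h.cF'] at hcase
    have hcase' : Nat.card Y ≤ 2 * (m + 2) ∨ Nat.card Y = 24 ∨ Nat.card Y = 48 ∨ Nat.card Y = 120 ∨
        ∃ k, k ^ 2 ≤ m + 1 ∧ Nat.card Y ≤ 2 * (k * (k ^ 2 - 1)) := by
      rcases hcase with h0 | h0 | h0 | ⟨h0, -⟩ | h0
      · exact Or.inl h0
      · exact Or.inr (Or.inl h0)
      · exact Or.inr (Or.inr (Or.inl h0))
      · exact Or.inr (Or.inr (Or.inr (Or.inl h0)))
      · exact Or.inr (Or.inr (Or.inr (Or.inr h0)))
    rcases num_main hev h4 ⟨_, hYc.symm⟩ hH hi hj hcase' with ⟨rfl, hy, hj'⟩ | ⟨rfl, hy⟩ | ⟨rfl, hy, hj'⟩ |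
      ⟨rfl, hy, hj'⟩ | ⟨rfl, hy, hj'⟩
    · rw [hy] at hYc
      have h1 : Y.index = 5 := by omega
      obtain ⟨w, hw⟩ := hdvd
      rw [h1] at hw
      have hw1 : w = 1 := by
        have : 5 * w < 10 := by rw [← hw]; exact hj'
        have : w ≠ 0 := by rintro rfl; omega
        omega
      rw [hw1] at hw
      exact h.odd_case hzA hw (Or.inl rfl) hH
    · rw [hy] at hYc
      exact hYtop (index_eq_one.1 (by omega))
    · rw [hy] at hYc
      have h1 : Y.index = 7 := by omega
      obtain ⟨w, hw⟩ := hdvd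
      rw [h1] at hw
      have hw1 : w = 1 := by
        have : 7 * w < 14 := by rw [← hw]; exact hj'
        have : w ≠ 0 := by rintro rfl; omega
        omega
      rw [hw1] at hw
      exact h.odd_case hzA hw (Or.inr (Or.inl rfl)) hH
    · rw [hy] at hYc
      have h1 : Y.index = 11 := by omega
      obtain ⟨w, hw⟩ := hdvd
      rw [h1] at hw
      have hw1 : w = 1 := by
        have : 11 * w < 22 := by rw [← hw]; exact hj'
        have : w ≠ 0 := by rintro rfl; omega
        omega
      rw [hw1] at hw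
      exact h.odd_case hzA hw (Or.inr (Or.inr rfl)) hH
    · have hYc' := hYc
      rw [hy] at hYc'
      have h1 : Y.index = 6 := by omega
      obtain ⟨w, hw⟩ := hdvd
      rw [h1] at hw
      have hw1 : w = 1 ∨ w = 2 := by
        have : 6 * w < 15 := by rw [← hw]; exact hj'
        have : w ≠ 0 := by rintro rfl; omega
        omega
      have h9 : p ∣ 60 := by
        have h2 : p ∣ 3 * 3 := by
          rw [h.cF'] at hn
          have : 3 * 3 = p ^ (n : ℕ) := by omega
          rw [this]
          exact dvd_pow_self p n.ne_zero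
        have h3 : p ∣ 3 := (or_self_iff.1 (hpp.dvd_mul.1 h2))
        exact h3.trans (by norm_num)
      have h5 : Nonempty (Y.map (QuotientGroup.mk' (Subgroup.center (Matrix.SpecialLinearGroup (Fin 2) F'))) ≃*
          alternatingGroup (Fin 5)) := by
        rcases hcase with h0 | h0 | h0 | ⟨-, h0⟩ | ⟨k, hk, h0⟩
        · omega
        · omega
        · omega
        · exact h0 h9
        · exfalso
          have hk3 : k ≤ 3 := by
            by_contra hcon'
            have : 4 ^ 2 ≤ k ^ 2 := Nat.pow_le_pow_left (by omega) 2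
            omega
          interval_cases k <;> omega
      subst hYd
      exact h.nine_case hKA hsA os hsz hy h5 (by rcases hw1 with rfl | rfl <;> omega) hH

end Cfsg.Agent.H747.IFG
end

-- part: H747/IFG/StepC
section
/-!
# S5719, `G₂(q)`, `q ≥ 5` odd, step C: `K1 ≤ A` or `K4 ≤ A`, a second involution: `K1 K4 ≤ A` (helper747)
-/

set_option autoImplicit false
set_option linter.unusedSectionVars false

namespace Cfsg.Agent.H747.IFG

open Cfsg.Agent.Cit.HexBase Cfsg.Agent.Lib.SL2Mat Cfsg.Agent.Cit.HexBase.HexGrp Subgroup Cfsg.Agent.H625.IFx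
open Cfsg.Agent.ClassicalGeometry.PSL2Basic

variable {E : Type*} [Field E] [Fintype E] {L : Type*} [Group L] [Finite L] (c : HexGrp (RingEquiv.refl E) L)

theorem card_fx : Nat.card ↥(fx (RingEquiv.refl E)) = Nat.card E :=
  Nat.card_congr (Equiv.subtypeUnivEquiv fun _ => rfl)

theorem ord2 {G : Type*} [Group G] {t : G} : orderOf t = 2 ↔ t * t = 1 ∧ t ≠ 1 := by
  constructor
  · intro h
    refine ⟨by rw [← pow_two, ← h, pow_orderOf_eq_one], ?_⟩
    rintro rfl
    rw [orderOf_one] at h
    omega
  · rintro ⟨h, h1⟩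
    exact orderOf_eq_prime (by rw [pow_two, h]) h1

/-- `K1 → C(z)` -/
def r1 : SL2 E →* ↥(centralizer ({c.z} : Set L)) :=
  c.pb.codRestrict _ fun x => mem_centralizer_singleton_iff.2 (pb_comm_z c x)

/-- `K4 → C(z)` -/
def r4 : SL2 ↥(fx (RingEquiv.refl E)) →* ↥(centralizer ({c.z} : Set L)) :=
  c.p4.codRestrict _ fun x => mem_centralizer_singleton_iff.2 (p4_comm_z c x)

/-- `z` in `C(z)` -/
def zz : ↥(centralizer ({c.z} : Set L)) := ⟨c.z, mem_centralizer_singleton_iff.2 rfl⟩

theorem comm_z (g : ↥(centralizer ({c.z} : Set L))) : (g : L) * c.z = c.z * g := mem_centralizer_singleton_iff.1 g.2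

theorem inv_data {s : ↥(centralizer ({c.z} : Set L))} (o : orderOf s = 2) (n : s ≠ zz c) :
    (s : L) * s = 1 ∧ (s : L) ≠ 1 ∧ (s : L) ≠ c.z := by
  obtain ⟨h1, h3⟩ := ord2.1 o
  exact ⟨congrArg Subtype.val h1, fun h => h3 (Subtype.ext h), fun h => n (Subtype.ext h)⟩

theorem card_cent_p4 (s : L) :
    Nat.card (centralizer ({s} : Set L) ⊓ c.K4 : Subgroup L) =
      Nat.card {x : SL2 ↥(fx (RingEquiv.refl E)) // s * c.p4 x = c.p4 x * s} := by
  symm
  refine Nat.card_congr (Equiv.ofBijective (fun x => ⟨c.p4 x.1, mem_inf.2 ⟨?_, x.1, rfl⟩⟩) ⟨?_, ?_⟩)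
  · rw [mem_centralizer_singleton_iff]
    exact x.2.symm
  · intro x y h
    exact Subtype.ext (c.p4_inj (congrArg Subtype.val h))
  · rintro ⟨y, hy⟩
    obtain ⟨hy1, x, rfl⟩ := mem_inf.1 hy
    exact ⟨⟨x, (mem_centralizer_singleton_iff.1 hy1).symm⟩, rfl⟩

theorem card_cc (s : ↥(centralizer ({c.z} : Set L))) : Nat.card (centralizer ({s} : Set _)) ≤
    Nat.card (centralizer ({(s : L)} : Set L) ⊓ centralizer ({c.z} : Set L) : Subgroup L) := by
  refine Nat.card_le_card_of_injective (fun g => ⟨(g.1 : L), mem_inf.2 ⟨?_, g.1.2⟩⟩) ?_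
  · exact mem_centralizer_singleton_iff.2 (congrArg Subtype.val (mem_centralizer_singleton_iff.1 g.2))
  · intro g g' h
    exact Subtype.ext (Subtype.ext (Subtype.mk.inj h))

/-- all the numbers of an involution `s ≠ z` of `C(z)` -/
theorem numbers (h2 : (2 : E) ≠ 0) {s : ↥(centralizer ({c.z} : Set L))} (o : orderOf s = 2) (n : s ≠ zz c) :
    ∃ e : ℤ, (e = 1 ∨ e = -1) ∧
      (Nat.card {x : SL2 E // r1 c x * s = s * r1 c x} : ℤ) = Nat.card E - e ∧
      (Nat.card {x : SL2 ↥(fx (RingEquiv.refl E)) // r4 c x * s = s * r4 c x} : ℤ) = Nat.card E - e ∧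
      (Nat.card (centralizer ({s} : Set _)) : ℤ) ≤ 2 * ((Nat.card E : ℤ) - e) ^ 2 := by
  obtain ⟨a1, a2, a3⟩ := inv_data c o n
  obtain ⟨e, he, k1, k4, hi⟩ := cent_inv c h2 (comm_z c s) a1 a2 a3
  refine ⟨e, he, ?_, ?_, ?_⟩
  · rw [← k1, card_cent_pb c _ h2]
    congr 1
    exact Nat.card_congr (Equiv.subtypeEquivRight fun x =>
      ⟨fun h => (congrArg Subtype.val h).symm, fun h => Subtype.ext h.symm⟩)
  · rw [← card_fx (E := E), ← k4, card_cent_p4 c]
    congr 1
    exact Nat.card_congr (Equiv.subtypeEquivRight fun x =>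
      ⟨fun h => (congrArg Subtype.val h).symm, fun h => Subtype.ext h.symm⟩)
  · have h3 := cent_cent_le c h2 he hi
    have h4 : (Nat.card (centralizer ({s} : Set _)) : ℤ) ≤
      Nat.card (centralizer ({(s : L)} : Set L) ⊓ centralizer ({c.z} : Set L) : Subgroup L) := by
      exact_mod_cast card_cc c s
    rw [card_fx] at h3
    rw [pow_two]
    exact h4.trans h3

theorem nrm1 (h2 : (2 : E) ≠ 0) (g : ↥(centralizer ({c.z} : Set L))) (x : SL2 E) :
    ∃ x', g * r1 c x * g⁻¹ = r1 c x' := by
  obtain ⟨x', h⟩ := c.CZ_pb h2 (comm_z c g) x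
  exact ⟨x', Subtype.ext h⟩

theorem nrm4 (h2 : (2 : E) ≠ 0) (g : ↥(centralizer ({c.z} : Set L))) (x : SL2 ↥(fx (RingEquiv.refl E))) :
    ∃ x', g * r4 c x * g⁻¹ = r4 c x' := by
  obtain ⟨x', h⟩ := c.CZ_p4 h2 (comm_z c g) x
  exact ⟨x', Subtype.ext h⟩

theorem two (h2 : (2 : E) ≠ 0) {m : ℕ} (hm : Nat.card E = m + 1) :
    ∃ s₁ s₂ : ↥(centralizer ({c.z} : Set L)), orderOf s₁ = 2 ∧ orderOf s₂ = 2 ∧ s₁ ≠ zz c ∧ s₂ ≠ zz c ∧
    ¬ IsConj s₁ s₂ ∧ Nat.card (centralizer ({s₁} : Set _)) ≤ 2 * m ^ 2 ∧
    Nat.card (centralizer ({s₂} : Set _)) ≤ 2 * (m + 2) ^ 2 := by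
  obtain ⟨s1, s2, ⟨a1, a2, a3, a4⟩, ⟨b1, b2, b3, b4⟩, k1, k2⟩ := two_types c h2
  obtain ⟨t1, ht1⟩ : ∃ t1 : ↥(centralizer ({c.z} : Set L)), (t1 : L) = s1 :=
    ⟨⟨s1, mem_centralizer_singleton_iff.2 a4⟩, rfl⟩
  obtain ⟨t2, ht2⟩ : ∃ t2 : ↥(centralizer ({c.z} : Set L)), (t2 : L) = s2 :=
    ⟨⟨s2, mem_centralizer_singleton_iff.2 b4⟩, rfl⟩
  have o1 : orderOf t1 = 2 := ord2.2 ⟨Subtype.ext (by rw [coe_mul, ht1, a1]; rfl), fun h => a2 (by rw [← ht1, h]; rfl)⟩
  have o2 : orderOf t2 = 2 := ord2.2 ⟨Subtype.ext (by rw [coe_mul, ht2, b1]; rfl), fun h => b2 (by rw [← ht2, h]; rfl)⟩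
  have n1 : t1 ≠ zz c := fun h => a3 (by rw [← ht1, h]; rfl)
  have n2 : t2 ≠ zz c := fun h => b3 (by rw [← ht2, h]; rfl)
  have j1 : Nat.card {x : SL2 E // r1 c x * t1 = t1 * r1 c x} = Nat.card E - 1 := by
    rw [← k1]
    refine Nat.card_congr (Equiv.subtypeEquivRight fun x => ?_)
    rw [← ht1]
    exact ⟨fun h => (congrArg Subtype.val h).symm, fun h => Subtype.ext h.symm⟩
  have j2 : Nat.card {x : SL2 E // r1 c x * t2 = t2 * r1 c x} = Nat.card E + 1 := by
    rw [← k2]
    refine Nat.card_congr (Equiv.subtypeEquivRight fun x => ?_)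
    rw [← ht2]
    exact ⟨fun h => (congrArg Subtype.val h).symm, fun h => Subtype.ext h.symm⟩
  refine ⟨t1, t2, o1, o2, n1, n2, ?_, ?_, ?_⟩
  · intro h
    obtain ⟨g, hg⟩ := isConj_iff.1 h
    have hle : Nat.card {x : SL2 E // r1 c x * t2 = t2 * r1 c x} ≤ Nat.card {x : SL2 E // r1 c x * t1 = t1 * r1 c x} := by
      have hx : ∀ x : SL2 E, ∃ x', g⁻¹ * r1 c x * g⁻¹⁻¹ = r1 c x' := fun x => nrm1 c h2 g⁻¹ x
      choose f hf using hx
      refine Nat.card_le_card_of_injective (fun x => ⟨f x.1, ?_⟩) ?_
      · rw [← hf, inv_inv]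
        have h5 := x.2
        have h6 : t1 = g⁻¹ * t2 * g := by rw [← hg]; group
        calc g⁻¹ * r1 c x.1 * g * t1 = g⁻¹ * (r1 c x.1 * t2) * g := by rw [h6]; group
          _ = g⁻¹ * (t2 * r1 c x.1) * g := by rw [h5]
          _ = t1 * (g⁻¹ * r1 c x.1 * g) := by rw [h6]; group
      · intro x y hxy
        have h5 : f x.1 = f y.1 := congrArg Subtype.val hxy
        have h6 : g⁻¹ * r1 c x.1 * g⁻¹⁻¹ = g⁻¹ * r1 c y.1 * g⁻¹⁻¹ := by rw [hf, hf, h5]
        have h7 : r1 c x.1 = r1 c y.1 := mul_left_cancel (mul_right_cancel h6)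
        exact Subtype.ext (c.pb_inj h2 (congrArg Subtype.val h7))
    rw [j1, j2] at hle
    omega
  · obtain ⟨e, he, k, -, hc⟩ := numbers c h2 o1 n1
    rw [j1] at k
    have : e = 1 := by rw [hm] at k; push_cast at k; omega
    rw [this, hm] at hc
    push_cast at hc
    have h5 : ((m : ℤ) + 1 - 1) = m := by ring
    rw [h5] at hc
    exact_mod_cast hc
  · obtain ⟨e, he, k, -, hc⟩ := numbers c h2 o2 n2
    rw [j2] at k
    have : e = -1 := by rw [hm] at k; push_cast at k; omega
    rw [this, hm] at hc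
    push_cast at hc
    have h5 : ((m : ℤ) + 1 - -1) = m + 2 := by ring
    rw [h5] at hc
    exact_mod_cast hc

theorem center_cases {K : Type*} [Field K] {x : SL2 K} (hx : x ∈ Subgroup.center (SL2 K)) :
    x = 1 ∨ x = dg (-1) (neg_ne_zero.2 one_ne_zero) :=
  central_cases fun y => (Subgroup.mem_center_iff.1 hx y).symm

theorem le_num {n m : ℕ} {e : ℤ} (he : e = 1 ∨ e = -1) (h : (n : ℤ) = (m + 1 : ℕ) - e) : n ≤ m + 2 := by
  push_cast at h
  rcases he with rfl | rfl <;> omega

theorem le_num2 {n m : ℕ} {e : ℤ} (he : e = 1 ∨ e = -1) (h : (n : ℤ) ≤ 2 * (((m + 1 : ℕ) : ℤ) - e) ^ 2) :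
    n ≤ 2 * (m + 2) ^ 2 := by
  have h1 : (n : ℤ) ≤ 2 * ((m : ℤ) + 2) ^ 2 := by
    refine h.trans ?_
    push_cast
    have hm0 : (0 : ℤ) ≤ m := Int.natCast_nonneg m
    rcases he with rfl | rfl <;> linarith only [_root_.Nat.cast_nonneg (α := ℤ) (m)]
  exact_mod_cast h1

theorem frm14 [Fintype ↥(fx (RingEquiv.refl E))] (h2 : (2 : E) ≠ 0) {m : ℕ} (hm : Nat.card E = m + 1) :
    Frm m (r1 c) (r4 c) (zz c) := by
  have hodd : Odd (Fintype.card E) := odd_of_two h2
  have hE : Fintype.card E = m + 1 := by rw [← Nat.card_eq_fintype_card, hm]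
  have hfx : Nat.card ↥(fx (RingEquiv.refl E)) = m + 1 := by rw [card_fx, hm]
  exact
  { cF := hE
    cF' := by rw [← Nat.card_eq_fintype_card, hfx]
    ev := by rw [hE] at hodd; obtain ⟨k, hk⟩ := hodd; omega
    inj := fun x y h => c.pb_inj h2 (congrArg Subtype.val h)
    inj' := fun x y h => c.p4_inj (congrArg Subtype.val h)
    comm := fun x y => Subtype.ext (c.comm_pb_p4 x y)
    hz := fun g => Subtype.ext (comm_z c g)
    oz := ord2.2 ⟨Subtype.ext c.z_sq, fun h => c.z_ne h2 (congrArg Subtype.val h)⟩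
    cap := fun x y h => by
      rcases c.eq_of_pb_eq_p4 (congrArg Subtype.val h) with h1 | h1
      · exact Or.inl (Subtype.ext h1)
      · exact Or.inr (Subtype.ext h1)
    zK := ⟨_, Subtype.ext rfl⟩
    zK' := ⟨dg (-1) (neg_ne_zero.2 one_ne_zero), Subtype.ext c.z_eq_p4.symm⟩
    cen := fun x hx => by
      rcases center_cases hx with rfl | rfl
      · exact Or.inl (map_one _)
      · exact Or.inr (Subtype.ext c.z_eq_p4.symm)
    card := by
      have := Fintype.ofFinite ↥(fx (RingEquiv.refl E))
      rw [card_CZ c h2, card_SL2, card_SL2, ← Nat.card_eq_fintype_card, ← Nat.card_eq_fintype_card, hm, hfx, qq]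
      ring
    nrm := nrm1 c h2
    nrm' := nrm4 c h2
    cK := fun s o n => by
      obtain ⟨e, he, k, -, -⟩ := numbers c h2 o n
      rw [hm] at k
      exact le_num he k
    cU := fun s o n u hu h => by
      obtain ⟨a1, a2, a3⟩ := inv_data c o n
      exact cent_inv_unip_p4 c h2 (comm_z c s) a1 a2 a3 (by rw [hfx, hu]) (congrArg Subtype.val h).symm
    cU2 := fun u hu1 hu g hg => by
      have h1 := cent_unip_p4 c h2 (comm_z c g) hu1 (by rw [hfx, hu]) (congrArg Subtype.val hg)
      rw [← range_eq_sup, mem_range] at h1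
      obtain ⟨x, y, h⟩ := h1
      exact ⟨x, y, Subtype.ext h.symm⟩
    cC := fun s o n => by
      obtain ⟨e, he, -, -, hc⟩ := numbers c h2 o n
      rw [hm] at hc
      exact le_num2 he hc
    two := two c h2 hm }

theorem frm41 [Fintype ↥(fx (RingEquiv.refl E))] (h2 : (2 : E) ≠ 0) {m : ℕ} (hm : Nat.card E = m + 1) :
    Frm m (r4 c) (r1 c) (zz c) := by
  have h := frm14 c h2 hm
  have hfx : Nat.card ↥(fx (RingEquiv.refl E)) = m + 1 := by rw [card_fx, hm]
  exact
  { cF := h.cF'
    cF' := h.cF
    ev := h.ev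
    inj := h.inj'
    inj' := h.inj
    comm := fun x y => (h.comm y x).symm
    hz := h.hz
    oz := h.oz
    cap := fun x y he => by
      have h1 := h.cap y x he.symm
      rwa [he]
    zK := h.zK'
    zK' := h.zK
    cen := fun x hx => by
      rcases center_cases hx with rfl | rfl
      · exact Or.inl (map_one _)
      · exact Or.inr (Subtype.ext rfl)
    card := h.card
    nrm := h.nrm'
    nrm' := h.nrm
    cK := fun s o n => by
      obtain ⟨e, he, -, k, -⟩ := numbers c h2 o n
      rw [hm] at k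
      exact le_num he k
    cU := fun s o n u hu hg => by
      obtain ⟨a1, a2, a3⟩ := inv_data c o n
      exact cent_inv_unip_pb c h2 (comm_z c s) a1 a2 a3 (by rw [hm, hu]) (congrArg Subtype.val hg).symm
    cU2 := fun u hu1 hu g hg => by
      have h1 := cent_unip_pb c h2 (comm_z c g) hu1 (by rw [hm, hu]) (congrArg Subtype.val hg)
      rw [← range_eq_sup, mem_range] at h1
      obtain ⟨x, y, h3⟩ := h1
      exact ⟨y, x, Subtype.ext (h3.symm.trans (c.comm_pb_p4 x y))⟩
    cC := h.cC
    two := h.two }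

/-- **Step C.** -/
theorem stepC (h2 : (2 : E) ≠ 0) (h5 : 5 ≤ Fintype.card E) (A : Subgroup L) (_hz : c.z ∈ A)
    (hs : ∃ s ∈ A, s * c.z = c.z * s ∧ orderOf s = 2 ∧ s ≠ c.z) (hK : c.K1 ≤ A ∨ c.K4 ≤ A)
    (hB : A.relIndex (centralizer ({c.z} : Set L)) ^ 5 * {t : L | t ∈ A ∧ orderOf t = 2}.ncard <
      Fintype.card E ^ 4 * (Fintype.card E ^ 4 + Fintype.card E ^ 2 + 1)) : c.K1 ≤ A ∧ c.K4 ≤ A := by
  have := Fintype.ofFinite ↥(fx (RingEquiv.refl E))
  obtain ⟨m, hm⟩ : ∃ m, Nat.card E = m + 1 := ⟨Nat.card E - 1, by rw [Nat.card_eq_fintype_card]; omega⟩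
  have hE : Fintype.card E = m + 1 := by rw [← Nat.card_eq_fintype_card, hm]
  obtain ⟨s, hsA, hsz, os, ns⟩ := hs
  obtain ⟨t, ht⟩ : ∃ t : ↥(centralizer ({c.z} : Set L)), (t : L) = s :=
    ⟨⟨s, mem_centralizer_singleton_iff.2 hsz⟩, rfl⟩
  obtain ⟨A', hA'⟩ : ∃ A', A' = A.subgroupOf (centralizer ({c.z} : Set L)) := ⟨_, rfl⟩
  have hmem : ∀ g : ↥(centralizer ({c.z} : Set L)), g ∈ A' ↔ (g : L) ∈ A := fun g => by rw [hA']; rfl
  have htA : t ∈ A' := by rw [hmem, ht]; exact hsA
  have ot : orderOf t = 2 := by rw [← Subgroup.orderOf_coe, ht]; exact os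
  have nt : t ≠ zz c := fun h => ns (by rw [← ht, h]; rfl)
  have hcount : {g : ↥(centralizer ({c.z} : Set L)) | g ∈ A' ∧ orderOf g = 2}.ncard ≤
      {t : L | t ∈ A ∧ orderOf t = 2}.ncard := by
    rw [← Set.ncard_image_of_injective _ (Subtype.val_injective)]
    refine Set.ncard_le_ncard ?_ (Set.toFinite _)
    rintro _ ⟨g, ⟨hg, og⟩, rfl⟩
    exact ⟨(hmem g).1 hg, by rw [Subgroup.orderOf_coe]; exact og⟩
  have hH : A'.index ^ 5 * {g : ↥(centralizer ({c.z} : Set L)) | g ∈ A' ∧ orderOf g = 2}.ncard <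
      (m + 1) ^ 4 * ((m + 1) ^ 4 + (m + 1) ^ 2 + 1) := by
    rw [hE] at hB
    refine lt_of_le_of_lt ?_ hB
    rw [hA']
    exact Nat.mul_le_mul_left _ (by rw [← hA']; exact hcount)
  rcases hK with hK | hK
  · refine ⟨hK, ?_⟩
    have h1 := (frm14 c h2 hm).main (by omega) (A := A') (by
      rintro _ ⟨x, rfl⟩
      rw [hmem]
      exact hK ⟨x, rfl⟩) htA ot nt hH
    rintro _ ⟨y, rfl⟩
    exact (hmem (r4 c y)).1 (h1 ⟨y, rfl⟩)
  · refine ⟨?_, hK⟩
    have h1 := (frm41 c h2 hm).main (by omega) (A := A') (by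
      rintro _ ⟨x, rfl⟩
      rw [hmem]
      exact hK ⟨x, rfl⟩) htA ot nt hH
    rintro _ ⟨y, rfl⟩
    exact (hmem (r1 c y)).1 (h1 ⟨y, rfl⟩)

end Cfsg.Agent.H747.IFG
end

-- part: H751/IF/G2Even
section
/-!
# S5719: `G₂(q)`, `q` even (helper751)
-/

set_option autoImplicit false
set_option linter.unusedSectionVars false

namespace Cfsg.Agent.H751.G2Even

open Cfsg.Lie
open Cfsg.Agent.ChevalleyStructure.Elts Cfsg.Agent.ChevalleyStructure.NConj
open Cfsg.Agent.Hexagon.G2Pos Cfsg.Agent.Hexagon.G2Side Cfsg.Agent.Hexagon.G2Rel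
open Cfsg.Agent.SplitTwo Cfsg.Agent.Cit.HexBase Cfsg.Agent.Cit.HexG2
open Cfsg.Agent.TitsThree.RankTwoIdx Cfsg.Agent.TitsThree.RankTwoZ
open Cfsg.Agent.Lib.SL2Mat
open Cfsg.Agent.ClassificationK.GTwoChev (ph ph6 ph7)

universe u

variable {F : Type u} [Field F]

theorem center_eq' (ha : ∃ a : F, a ≠ 0 ∧ a ≠ 1) (g : ↥(chevG2.group F)) (hg : ∀ x, g * x = x * g) : g = 1 := by
  obtain ⟨hs, hc⟩ := S1055.result ha
  have hz : Subgroup.center ↥(chevG2.group F) = ⊥ := by
    rcases hs.eq_bot_or_eq_top_of_normal (Subgroup.center ↥(chevG2.group F)) inferInstance with h | h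
    · exact h
    · exact absurd ⟨⟨fun a b => (Subgroup.mem_center_iff.1 (h ▸ Subgroup.mem_top b) a)⟩⟩ hc
  have : g ∈ Subgroup.center ↥(chevG2.group F) := Subgroup.mem_center_iff.2 fun x => (hg x).symm
  rwa [hz, Subgroup.mem_bot] at this

/-- **`G₂(F)`**, `|F| > 2`, is a `HexGrp`. (copy of `Cit.HexG2.g2`) -/
noncomputable def g2' (F : Type u) [Field F] (h2 : ∃ a : F, a ≠ 0 ∧ a ≠ 1) :
    HexGrp (RingEquiv.refl F) ↥(chevG2.group F) where
  X := X F
  x1 := Cfsg.Agent.Hexagon.G2Par.y1
  x2 := Cfsg.Agent.Hexagon.G2Par.y2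
  x3 := Cfsg.Agent.Hexagon.G2Par.y3
  x4 := Cfsg.Agent.Hexagon.G2Par.y4
  x5 := Cfsg.Agent.Hexagon.G2Par.y5
  x6 := Cfsg.Agent.Hexagon.G2Par.y6
  par := Cfsg.Agent.Hexagon.G2End.hexPar
  pa := (ph6 F).comp (inc F)
  pb := ph7 F
  pa_up t := by
    rw [MonoidHom.comp_apply, inc_up]
    refine (ph_up' (by decide) _).trans (Subtype.ext ?_)
    exact (Cfsg.Agent.Hexagon.G2End.xG_eq 6 (t : F)).symm
  pb_up a := by
    refine (ph_up' (by decide) _).trans (Subtype.ext ?_)
    exact (Cfsg.Agent.Hexagon.G2End.xG_eq 7 a).symm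
  pa_lo g := by
    rw [mem_X' (show tab 0 = 5 by decide +kernel)]
    constructor
    · rintro ⟨t, rfl⟩
      refine ⟨⟨t, rfl⟩, ?_⟩
      rw [MonoidHom.comp_apply, inc_lo]
      exact ph_lo' (by decide) (by decide) t
    · rintro ⟨t, rfl⟩
      refine ⟨t, ?_⟩
      rw [MonoidHom.comp_apply, inc_lo]
      exact ph_lo' (by decide) (by decide) _
  pb_lo g := by
    rw [mem_X' (show tab 7 = 4 by decide +kernel)]
    constructor
    · rintro ⟨t, rfl⟩
      exact ⟨t, ph_lo' (by decide) (by decide) t⟩
    · rintro ⟨t, rfl⟩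
      exact ⟨t, ph_lo' (by decide) (by decide) t⟩
  mapsA t ht := by
    refine maps_n (i := 1) (t := (t : F)) (by norm_num) (fun k => ?_) (fun k => by ring) (coe_ne ht) ?_
    · exact tab_J k
    · rw [MonoidHom.comp_apply, inc_wm]
      exact ph_wm _ _ _
  mapsB s hs := by
    refine maps_n (i := 0) (t := s) (by norm_num) (fun k => ?_) (fun k => by ring) hs ?_
    · have h := tab_I k
      have e : (((6 : ℕ) : ZMod (2 * 6)) + 2 - k) = 8 - k := by
        congr 1
      rwa [e] at h
    · exact ph_wm _ _ _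
  gen := Cfsg.Agent.Hexagon.G2Side.gen F
  cen := center_eq' h2
  tri u hu v hv s hs t ht e := by
    refine tri_aux (h := ph7 F (dg s hs) * (ph6 F).comp (inc F) (dg t ht)) (Sg_pos u hu) (Sg_neg v hv) ?_ e
    rw [Subgroup.coe_mul, MonoidHom.comp_apply, inc_dg]
    exact mul_mem (ph_dg_mem _ _ _) (ph_dg_mem _ _ _)

theorem card_fx (F : Type*) [Field F] [Finite F] : Nat.card ↥(fx (RingEquiv.refl F)) = Nat.card F :=
  Nat.card_congr (Equiv.subtypeUnivEquiv fun _ => rfl)

/-- **`G₂(q)`, `q` even.** -/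
theorem g2_even (F : Type) [Field F] [Fintype F] (he : Even (Fintype.card F)) (h3 : 3 ≤ Fintype.card F)
    (hs : IsSimpleGroup (chevG2.group F)) : H209.Fxy.KillE (chevG2.group F) := by
  have hchar : CharP F 2 := by
    have h2 : ringChar F = 2 := by
      by_contra hne
      exact (Nat.not_odd_iff_even.2 he) (by
        have := FiniteField.odd_card_of_char_ne_two hne
        exact Nat.odd_iff.2 this)
    exact ringChar.eq_iff.1 h2
  have h4 : 4 ≤ Fintype.card F := by
    obtain ⟨k, hk⟩ := he
    omega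
  have ha : ∃ a : F, a ≠ 0 ∧ a ≠ 1 := by
    classical
    by_contra hcon
    push Not at hcon
    have h5 : Fintype.card F ≤ 2 := by
      have h6 : (Finset.univ : Finset F) ⊆ {0, 1} := by
        intro x _
        by_cases hx : x = 0
        · simp only [hx, _root_.Finset.mem_insert, _root_.Finset.mem_singleton, _root_.zero_ne_one, _root_.or_false]
        · simp only [hcon x hx, _root_.Finset.mem_insert, _root_.one_ne_zero, _root_.Finset.mem_singleton, _root_.or_true]
      calc Fintype.card F = (Finset.univ : Finset F).card := rfl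
        _ ≤ ({0, 1} : Finset F).card := Finset.card_le_card h6
        _ ≤ 2 := Finset.card_le_two
    omega
  set q := Fintype.card F with hq
  have hcF : Nat.card F = q := Nat.card_eq_fintype_card
  have hcf : Nat.card ↥(fx (RingEquiv.refl F)) = q := by rw [card_fx, hcF]
  have hcL := Cfsg.Agent.S1059.result (F := F) (q := q) rfl
  refine HexQ.killE (g2' F ha) (Λ := q ^ 6 - 1) ?_ ?_ ?_ ?_ ?_
  · rw [hcL, hcf, hcF]
    apply le_of_eq
    ring
  · rw [hcf, hcF]
    calc q ^ 6 - 1 ≤ q ^ 6 := Nat.sub_le _ _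
      _ ≤ 16 * q ^ 6 := by omega
      _ = 16 * q * q ^ 5 := by ring
  · rw [hcf, hcF]
    calc q ^ 6 - 1 ≤ q ^ 6 := Nat.sub_le _ _
      _ ≤ q ^ 9 := Nat.pow_le_pow_right (by omega) (by norm_num)
      _ = q ^ 7 * q ^ 2 := by ring
  · rw [hcL, hcf, hcF]
    calc q ^ 6 * (q ^ 2 - 1) * (q ^ 6 - 1) ≤ q ^ 6 * q ^ 2 * q ^ 6 :=
          Nat.mul_le_mul (Nat.mul_le_mul_left _ (Nat.sub_le _ _)) (Nat.sub_le _ _)
      _ = (q * q) ^ 7 := by ring
  · intro t ht
    have ho : orderOf (t : GL chevG2.Idx F) = 2 := by rw [Subgroup.orderOf_coe, ht]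
    obtain ⟨y, hy, hy', h, hh, e⟩ := (Cfsg.Agent.S2177.result (F := F) h4).2.1 t t.2 ho
    have hcj : IsConj t (⟨y, hy⟩ : ↥(chevG2.group F)) := isConj_iff.2 ⟨⟨h, hh⟩, Subtype.ext e⟩
    simp only [List.mem_cons, List.not_mem_nil, or_false] at hy'
    rcases hy' with h1 | h1
    · refine ⟨4, _, ?_, hcj⟩
      show _ ∈ X F 4
      rw [mem_X' (show tab 4 = 11 by decide +kernel)]
      exact ⟨1, Subtype.ext (Units.ext h1)⟩
    · refine ⟨3, _, ?_, hcj⟩
      show _ ∈ X F 3
      rw [mem_X' (show tab 3 = 9 by decide +kernel)]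
      exact ⟨1, Subtype.ext (Units.ext h1)⟩

end Cfsg.Agent.H751.G2Even
end

-- part: H625/IF/G2
section
/-!
# S5719, cell `g2`, all `q`
-/

set_option autoImplicit false

namespace Cfsg.Agent.H625.IFx

open Cfsg Cfsg.Lie Cfsg.Agent.H209.Fxy

/-- the field `g2` of `CellsExc` -/
theorem g2 (F : Type) [Field F] [Fintype F] (h3 : 3 ≤ Fintype.card F) (hs : IsSimpleGroup (chevG2.group F)) :
    KillE (chevG2.group F) := by
  rcases Nat.even_or_odd (Fintype.card F) with he | ho
  · exact H751.G2Even.g2_even F he h3 hs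
  · rcases Nat.lt_or_ge (Fintype.card F) 5 with h5 | h5
    · have : Fintype.card F = 3 := by
        obtain ⟨k, hk⟩ := ho
        omega
      exact H244.IFG.killE_g2_three F this hs
    · exact H132.IFG.killE_g2_of_stepC F h5 ho hs fun h2 A hz hs hK hB =>
        H747.IFG.stepC _ h2 h5 A hz hs hK hB

end Cfsg.Agent.H625.IFx
end
end

-- part: H838/IF/Both
section
prune_inst 0x4f01041004d00100000000010200000007800000000000c0004210a040308a000000208000c8004015002000000040000110000000200000000000000000404010000000080080000000000000000000000000000000000000000000000000000200000000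
set_option linter.all false
open scoped Cfsg.Agent.FastGrp

-- part: H248/UF/Plane
section
/-!
# S5719, `PSU_4(q)`, pieces W3a, W3b, W3c (helper248)

Transvections with centre in a nondegenerate plane / three-space; the group `H` contains them.
-/

set_option autoImplicit false
set_option linter.unusedSectionVars false

namespace Cfsg.Agent.H248.UF

open Module Subgroup Cfsg Cfsg.Agent.H91.U Cfsg.Agent.H450.UF Cfsg.Agent.H450.Bs Cfsg.Agent.H209.Fxy
open Cfsg.Agent.H838.IF
open Cfsg.Agent.ClassicalGeometry.HermWitt (trace_surj norm_surj)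

variable {F V : Type*} [Field F] [Fintype F] [AddCommGroup V] [Module F V] [FiniteDimensional F V] {σ : F →+* F}
  {B : V →ₛₗ[σ] V →ₗ[F] F} {H : Subgroup (V ≃ₗ[F] V)} {q : ℕ}

/-- `y` is reached from `x` by an element of `H` which is trivial on `P^⊥` -/
def R (B : V →ₛₗ[σ] V →ₗ[F] F) (H : Subgroup (V ≃ₗ[F] V)) (P : Submodule F V) (x y : V) : Prop :=
  ∃ h ∈ H, h x = y ∧ ∀ u ∈ pp B P, h u = u

omit [Fintype F] [FiniteDimensional F V] in
theorem R.trans {P : Submodule F V} {x y z : V} (h1 : R B H P x y) (h2 : R B H P y z) : R B H P x z := by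
  obtain ⟨g, hg, hgx, hgu⟩ := h1
  obtain ⟨h, hh, hhy, hhu⟩ := h2
  refine ⟨h * g, H.mul_mem hh hg, ?_, fun u hu => ?_⟩
  · rw [LinearEquiv.mul_apply, hgx, hhy]
  · rw [LinearEquiv.mul_apply, hgu u hu, hhu u hu]

omit [Fintype F] [FiniteDimensional F V] in
theorem R.tv (hB : HForm B) {P : Submodule F V} (hO : On B H P) {c : V} (hc : c ∈ P) (h0 : c ≠ 0) (hcc : B c c = 0)
    {l : F} (hl : l + σ l = 0) (x : V) : R B H P x (x + (l * B c x) • c) := by
  obtain ⟨g, hg⟩ := exists_tv hcc l
  refine ⟨g, hO c hc h0 hcc l hl g hg, hg x, fun u hu => ?_⟩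
  rw [hg, hB.swap_zero (hu c hc), mul_zero, zero_smul, add_zero]

omit [Fintype F] in
/-- coordinates in a nondegenerate plane -/
theorem plane_coord [Finite F] (hB : HForm B) {P : Submodule F V} (hP : NP B P) {e f : V} (he : e ∈ P) (hf : f ∈ P)
    (hee : B e e = 0) (hff : B f f = 0) (hef : B e f = 1) {x : V} (hx : x ∈ P) :
    x = (B f x) • e + (B e x) • f := by
  have hfe : B f e = 1 := by rw [sw hB e f, hef, map_one]
  have hli : LinearIndependent F ![e, f] := by
    rw [LinearIndependent.pair_iff]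
    intro s t hst
    have h1 := congrArg (B e) hst
    have h2 := congrArg (B f) hst
    rw [map_add, smul_right, smul_right, hee, hef, map_zero] at h1
    rw [map_add, smul_right, smul_right, hff, hfe, map_zero] at h2
    exact ⟨by linear_combination h2, by linear_combination h1⟩
  have hsp : Submodule.span F {e, f} = P := by
    apply Submodule.eq_of_le_of_finrank_eq
    · rw [Submodule.span_le]
      rintro z (rfl | rfl)
      · exact he
      · exact hf
    · rw [hP.dim]
      have := finrank_span_eq_card hli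
      rw [Matrix.range_cons, Matrix.range_cons, Matrix.range_empty, Set.union_empty, Fintype.card_fin] at this
      rw [Set.insert_eq]
      exact this
  rw [← hsp, Submodule.mem_span_pair] at hx
  obtain ⟨a, b, rfl⟩ := hx
  have h1 : B f (a • e + b • f) = a := by
    rw [map_add, smul_right, smul_right, hfe, hff]; ring
  have h2 : B e (a • e + b • f) = b := by
    rw [map_add, smul_right, smul_right, hee, hef]; ring
  rw [h1, h2]

/-- **W3a** -/
theorem plane_trans (hB : HForm B) (_hF : Fintype.card F = q ^ 2) {P : Submodule F V} (hP : NP B P)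
    (hO : On B H P) {x y : V} (hx : x ∈ P) (hy : y ∈ P) (hn : B x x ≠ 0) (he : B x x = B y y) :
    ∃ h ∈ H, h x = y ∧ ∀ u ∈ pp B P, h u = u := by
  obtain ⟨e, heP, f, hfP, hee, hff, hef⟩ := _root_.Cfsg.Agent.H450.Bs.exists_hyp hB hP.nd hP.dim.ge
  have hfe : B f e = 1 := by rw [sw hB e f, hef, map_one]
  have he0 : e ≠ 0 := by
    rintro rfl
    rw [map_zero, LinearMap.zero_apply] at hef
    exact zero_ne_one hef
  have hf0 : f ≠ 0 := by
    rintro rfl
    rw [map_zero] at hef
    exact zero_ne_one hef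
  -- the norm in coordinates
  have nrm : ∀ a b : F, B (a • e + b • f) (a • e + b • f) = σ a * b + σ b * a := by
    intro a b
    rw [map_add (B (a • e + b • f)), map_add B, LinearMap.add_apply, LinearMap.add_apply, smul_left, smul_left,
      smul_left, smul_left, smul_right, smul_right, smul_right, smul_right, hee, hff, hef, hfe]
    ring
  -- the steps
  have te : ∀ (a b l : F), l + σ l = 0 → R B H P (a • e + b • f) ((a + l * b) • e + b • f) := by
    intro a b l hl
    have h1 := R.tv hB hO heP he0 hee hl (a • e + b • f)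
    have h2 : B e (a • e + b • f) = b := by
      rw [map_add, smul_right, smul_right, hee, hef]; ring
    rw [h2] at h1
    have h3 : a • e + b • f + (l * b) • e = (a + l * b) • e + b • f := by
      rw [add_smul]; abel
    rwa [h3] at h1
  have tf : ∀ (a b l : F), l + σ l = 0 → R B H P (a • e + b • f) (a • e + (b + l * a) • f) := by
    intro a b l hl
    have h1 := R.tv hB hO hfP hf0 hff hl (a • e + b • f)
    have h2 : B f (a • e + b • f) = a := by
      rw [map_add, smul_right, smul_right, hff, hfe]; ring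
    rw [h2] at h1
    have h3 : a • e + b • f + (l * a) • f = a • e + (b + l * a) • f := by
      rw [add_smul]; abel
    rwa [h3] at h1
  have ne : ∀ (a b l N : F), l + σ l = 0 → σ a * b + σ b * a = N → σ (a + l * b) * b + σ b * (a + l * b) = N := by
    intro a b l N hl h
    rw [map_add, map_mul]
    linear_combination h + b * σ b * hl
  have nf : ∀ (a b l N : F), l + σ l = 0 → σ a * b + σ b * a = N → σ a * (b + l * a) + σ (b + l * a) * a = N := by
    intro a b l N hl h
    rw [map_add, map_mul]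
    linear_combination h + a * σ a * hl
  -- the generic case
  have gen : ∀ a b a' b' N : F, N ≠ 0 → σ a * b + σ b * a = N → σ a' * b' + σ b' * a' = N →
      b' * σ b - b * σ b' ≠ 0 → R B H P (a • e + b • f) (a' • e + b' • f) := by
    intro a b a' b' N hN h1 h2 h3
    have hNs : σ N = N := by
      rw [← h1]
      simp only [map_add, map_mul, hB.invol]
      ring
    have hb0 : b' ≠ 0 := by
      rintro rfl
      apply hN
      rw [← h2, map_zero]
      ring
    have hsb0 := sig_ne_zero (σ := σ) hb0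
    set c := (b' * σ b - b * σ b') / N with hc
    set d := (a * σ b' + σ a * b') / N with hd
    have hc0 : c ≠ 0 := div_ne_zero h3 hN
    have hcs : c + σ c = 0 := by
      rw [hc, map_div₀, hNs]
      simp only [map_sub, map_mul, hB.invol]
      ring
    have hds : σ d = d := by
      rw [hd, map_div₀, hNs]
      simp only [map_add, map_mul, hB.invol]
      ring
    have hcd : c * a + d * b = b' := by
      rw [hc, hd]
      field_simp
      linear_combination b' * h1
    have hl1 : (d - 1) / c + σ ((d - 1) / c) = 0 := by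
      have hc' : σ c = - c := by linear_combination hcs
      rw [map_div₀, map_sub, hds, map_one, hc']
      rw [div_neg]
      ring
    have s1 := te a b ((d - 1) / c) hl1
    have n1 := ne a b ((d - 1) / c) N hl1 h1
    obtain ⟨z, hz⟩ : ∃ z, z = a + (d - 1) / c * b := ⟨_, rfl⟩
    have h4 : b + c * z = b' := by
      rw [hz]
      field_simp
      linear_combination hcd
    rw [← hz] at s1 n1
    have s2 := tf z b c hcs
    have n2 := nf z b c N hcs n1
    rw [h4] at s2 n2
    have s3 := te z b' ((a' - z) / b') (by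
      rw [map_div₀, map_sub]
      field_simp
      linear_combination h2 - n2)
    have h5 : z + (a' - z) / b' * b' = a' := by
      rw [div_mul_cancel₀ _ hb0]
      ring
    rw [h5] at s3
    exact (s1.trans s2).trans s3
  -- coordinates of `x`, `y`
  have cx := plane_coord hB hP heP hfP hee hff hef hx
  have cy := plane_coord hB hP heP hfP hee hff hef hy
  set a := B f x
  set b := B e x
  set a' := B f y
  set b' := B e y
  have hN1 : σ a * b + σ b * a = B x x := by rw [← nrm, ← cx]
  have hN2 : σ a' * b' + σ b' * a' = B x x := by rw [he, ← nrm, ← cy]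
  rw [cx, cy]
  change R B H P (a • e + b • f) (a' • e + b' • f)
  by_cases h3 : b' * σ b - b * σ b' = 0
  · obtain ⟨t, ht0, ht⟩ := exists_trz hB
    have hb0 : b ≠ 0 := by
      intro h0
      apply hn
      rw [← hN1, h0, map_zero]
      ring
    have hb0' : b' ≠ 0 := by
      intro h0
      apply hn
      rw [← hN2, h0, map_zero]
      ring
    have hts : σ t = - t := by linear_combination ht
    refine (tf a b t ht).trans (gen a (b + t * a) a' b' (B x x) hn ?_ hN2 ?_)
    · rw [← hN1, map_add, map_mul, hts]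
      ring
    · rw [map_add, map_mul, hts]
      intro h4
      -- `b' (σ b - t σ a) - (b + t a) σ b' = - t (b' σ a + a σ b')`
      have h5 : t * (b' * σ a + a * σ b') = 0 := by linear_combination h3 - h4
      have h6 := (mul_eq_zero.1 h5).resolve_left ht0
      have hsb := sig_ne_zero (σ := σ) hb0
      -- multiply by `σ b`: `σ b b' = b σ b'`
      have h7 : σ b' * (σ a * b + σ b * a) = 0 := by linear_combination σ b * h6 - σ a * h3
      rw [hN1] at h7
      exact (mul_ne_zero (sig_ne_zero hb0') hn) h7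
  · exact gen a b a' b' (B x x) hn hN1 hN2 h3

omit [Fintype F] [FiniteDimensional F V] in
/-- a plane with nonzero Gram determinant -/
theorem np_pair {x y : V} (hd : B x x * B y y - B x y * B y x ≠ 0) : NP B (Submodule.span F {x, y}) := by
  have hli : LinearIndependent F ![x, y] := by
    rw [LinearIndependent.pair_iff]
    intro s t hst
    have h1 := congrArg (B x) hst
    have h2 := congrArg (B y) hst
    rw [map_add, smul_right, smul_right, map_zero] at h1 h2
    have e1 : s * (B x x * B y y - B x y * B y x) = 0 := by linear_combination B y y * h1 - B x y * h2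
    have e2 : t * (B x x * B y y - B x y * B y x) = 0 := by linear_combination B x x * h2 - B y x * h1
    exact ⟨(mul_eq_zero.1 e1).resolve_right hd, (mul_eq_zero.1 e2).resolve_right hd⟩
  refine ⟨?_, ?_⟩
  · have := finrank_span_eq_card hli
    rw [Matrix.range_cons, Matrix.range_cons, Matrix.range_empty, Set.union_empty, Fintype.card_fin] at this
    rw [Set.insert_eq]
    exact this
  · intro z hz hz0
    obtain ⟨s, t, rfl⟩ := Submodule.mem_span_pair.1 hz
    have h1 := hz0 x (Submodule.subset_span (Or.inl rfl))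
    have h2 := hz0 y (Submodule.subset_span (Or.inr rfl))
    rw [map_add, LinearMap.add_apply, smul_left, smul_left] at h1 h2
    have e1 : σ s * (B x x * B y y - B x y * B y x) = 0 := by linear_combination B y y * h1 - B y x * h2
    have e2 : σ t * (B x x * B y y - B x y * B y x) = 0 := by linear_combination B x x * h2 - B x y * h1
    rw [(map_eq_zero σ).1 ((mul_eq_zero.1 e1).resolve_right hd), (map_eq_zero σ).1 ((mul_eq_zero.1 e2).resolve_right hd),
      zero_smul, zero_smul, add_zero]

/-- **W3b** -/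
theorem On.three (hB : HForm B) (hF : Fintype.card F = q ^ 2) (hH : H ≤ SIso B) {e : Fin 3 → V}
    (he : ∀ i j, B (e i) (e j) = if i = j then 1 else 0)
    (h1 : On B H (Submodule.span F {e 0, e 1})) (h2 : On B H (Submodule.span F {e 0, e 2})) :
    On B H (Submodule.span F (Set.range e)) := by
  have e00 : B (e 0) (e 0) = 1 := by rw [he, if_pos rfl]
  have e11 : B (e 1) (e 1) = 1 := by rw [he, if_pos rfl]
  have e22 : B (e 2) (e 2) = 1 := by rw [he, if_pos rfl]
  have e01 : B (e 0) (e 1) = 0 := by rw [he, if_neg (by decide)]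
  have e02 : B (e 0) (e 2) = 0 := by rw [he, if_neg (by decide)]
  have e10 : B (e 1) (e 0) = 0 := by rw [he, if_neg (by decide)]
  have e12 : B (e 1) (e 2) = 0 := by rw [he, if_neg (by decide)]
  have e20 : B (e 2) (e 0) = 0 := by rw [he, if_neg (by decide)]
  have e21 : B (e 2) (e 1) = 0 := by rw [he, if_neg (by decide)]
  intro c hc hc0 hcc
  obtain ⟨a, ha⟩ := (Submodule.mem_span_range_iff_exists_fun F).1 hc
  rw [Fin.sum_univ_three] at ha
  have hP : NP B (Submodule.span F {e 0, e 2}) := np_pair (by rw [e00, e22, e02]; norm_num)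
  have m0 : e 0 ∈ Submodule.span F {e 0, e 2} := Submodule.subset_span (Or.inl rfl)
  have m2 : e 2 ∈ Submodule.span F {e 0, e 2} := Submodule.subset_span (Or.inr rfl)
  have hu : a 0 • e 0 + a 2 • e 2 ∈ Submodule.span F {e 0, e 2} :=
    Submodule.add_mem _ (Submodule.smul_mem _ _ m0) (Submodule.smul_mem _ _ m2)
  have hcu : c = (a 0 • e 0 + a 2 • e 2) + a 1 • e 1 := by rw [← ha]; abel
  by_cases ha1 : a 1 = 0
  · rw [ha1, zero_smul, add_zero] at hcu
    rw [← hcu] at hu
    exact h2 c hu hc0 hcc
  have huu : B (a 0 • e 0 + a 2 • e 2) (a 0 • e 0 + a 2 • e 2) = σ (a 0) * a 0 + σ (a 2) * a 2 := by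
    rw [map_add (B (a 0 • e 0 + a 2 • e 2)), map_add B, LinearMap.add_apply, LinearMap.add_apply]
    simp only [smul_left, smul_right, e00, e02, e20, e22]
    ring
  have hsum : σ (a 0) * a 0 + σ (a 2) * a 2 + σ (a 1) * a 1 = 0 := by
    rw [← hcc, hcu, map_add (B (a 0 • e 0 + a 2 • e 2 + a 1 • e 1)), map_add B, LinearMap.add_apply,
      LinearMap.add_apply, huu, smul_right, smul_left, smul_left, smul_right, map_add B, LinearMap.add_apply,
      map_add (B (e 1)), smul_left, smul_left, smul_right, smul_right, e01, e21, e10, e12, e11]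
    ring
  obtain ⟨b, hb0, hb⟩ := norm_surj σ hB.ne_id hB.invol (σ (a 0) * a 0 + σ (a 2) * a 2) (by
    simp only [map_add, map_mul, hB.invol]
    ring) (by
    intro h
    rw [h, zero_add] at hsum
    exact (mul_ne_zero (sig_ne_zero ha1) ha1) hsum)
  have hsb := sig_ne_zero (σ := σ) hb0
  obtain ⟨h, hh, hx, hfix⟩ := plane_trans hB hF hP h2 (x := e 0) (y := b⁻¹ • (a 0 • e 0 + a 2 • e 2)) m0
    (Submodule.smul_mem _ _ hu) (by rw [e00]; exact one_ne_zero) (by
      rw [smul_left, smul_right, huu, e00, ← hb, map_inv₀]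
      field_simp)
  have hfix1 : h (e 1) = e 1 := by
    apply hfix
    rw [mem_pp_span]
    rintro z (rfl | rfl)
    · exact e10
    · exact e12
  have hpp : PP B H (b • e 0 + a 1 • e 1) := by
    apply h1
    · exact Submodule.add_mem _ (Submodule.smul_mem _ _ (Submodule.subset_span (Or.inl rfl)))
        (Submodule.smul_mem _ _ (Submodule.subset_span (Or.inr rfl)))
    · intro h0
      apply ha1
      have := congrArg (B (e 1)) h0
      rw [map_add, smul_right, smul_right, e10, e11, map_zero] at this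
      linear_combination this
    · rw [map_add (B (b • e 0 + a 1 • e 1)), map_add B, LinearMap.add_apply, LinearMap.add_apply]
      simp only [smul_left, smul_right, e00, e01, e10, e11]
      linear_combination hb + hsum
  have hm := hpp.map hh (hH hh).2
  rw [map_add, map_smul, map_smul, hx, hfix1, smul_smul, mul_inv_cancel₀ hb0, one_smul, ← hcu] at hm
  exact hm

/-- **W3c** -/
theorem On.four (hB : HForm B) (hF : Fintype.card F = q ^ 2) (hq : Odd q) (hV : finrank F V = 4) (hH : H ≤ SIso B)
    {v : V} (hv : B v v ≠ 0) (h1 : ∀ c, B v c = 0 → c ≠ 0 → B c c = 0 → PP B H c) {c : V} (hc : B c c = 0)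
    (hvc : B v c ≠ 0) (hcc : PP B H c) : On B H ⊤ := by
  have h2 : (2 : F) ≠ 0 := by
    apply Ring.two_ne_zero
    intro h
    have h3 := FiniteField.even_card_iff_char_two.1 h
    have h4 : Odd (Fintype.card F) := by rw [hF]; exact hq.pow
    rw [Nat.odd_iff] at h4
    omega
  have hsv : σ (B v v) = B v v := self_fix hB v
  -- the vector `w0`
  have split : ∀ c : V, B c c = 0 → B v c ≠ 0 → B v ((B v v / B v c) • c - v) = 0 ∧
      B ((B v v / B v c) • c - v) ((B v v / B v c) • c - v) = - B v v := by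
    intro c hc hvc
    have e1 : B v ((B v v / B v c) • c - v) = 0 := by
      rw [map_sub, smul_right, div_mul_cancel₀ _ hvc, sub_self]
    refine ⟨e1, ?_⟩
    have e2 : B ((B v v / B v c) • c - v) v = 0 := hB.swap_zero e1
    have e3 : B ((B v v / B v c) • c - v) ((B v v / B v c) • c) = B ((B v v / B v c) • c - v) ((B v v / B v c) • c - v) := by
      rw [map_sub (B ((B v v / B v c) • c - v)), e2, sub_zero]
    rw [← e3, map_sub B, LinearMap.sub_apply, smul_left, smul_right, hc, smul_right, div_mul_cancel₀ _ hvc]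
    ring
  obtain ⟨hvw0, hw0⟩ := split c hc hvc
  have hp0 : PP B H (((B v v / B v c) • c - v) + v) := by
    rw [sub_add_cancel]
    exact hcc.smul hB _
  set w0 := (B v v / B v c) • c - v
  -- one step
  have step : ∀ w w' : V, B v w = 0 → B v w' = 0 → B w w = - B v v → B w' w' = - B v v →
      B v v * B v v - B w w' * B w' w ≠ 0 → PP B H (w + v) → PP B H (w' + v) := by
    intro w w' hw hw' hww hww' hd hp
    have hP : NP B (Submodule.span F {w, w'}) := np_pair (by
      rw [hww, hww']
      intro h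
      apply hd
      linear_combination h)
    have hO : On B H (Submodule.span F {w, w'}) := by
      intro z hz hz0 hzz
      refine h1 z ?_ hz0 hzz
      obtain ⟨s, t, rfl⟩ := Submodule.mem_span_pair.1 hz
      rw [map_add, smul_right, smul_right, hw, hw']
      ring
    obtain ⟨h, hh, hx, hfix⟩ := plane_trans hB hF hP hO (x := w) (y := w') (Submodule.subset_span (Or.inl rfl))
      (Submodule.subset_span (Or.inr rfl)) (by rw [hww]; exact neg_ne_zero.2 hv) (by rw [hww, hww'])
    have hfv : h v = v := by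
      apply hfix
      rw [mem_pp_span]
      rintro z (rfl | rfl)
      · exact hw
      · exact hw'
    have hm := hp.map hh (hH hh).2
    rwa [map_add, hx, hfv] at hm
  -- all vectors `w`
  have key : ∀ w : V, B v w = 0 → B w w = - B v v → PP B H (w + v) := by
    intro w hw hww
    by_cases hd : B v v * B v v - B w0 w * B w w0 = 0
    swap
    · exact step w0 w hvw0 hw hw0 hww hd hp0
    -- the plane `C`
    have hCd : NP B (Submodule.span F {v, w0}) := np_pair (by
      rw [hvw0, hw0, zero_mul, sub_zero]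
      exact mul_ne_zero hv (neg_ne_zero.2 hv))
    have hdim : finrank F (pp B (Submodule.span F {v, w0})) = 2 := by
      have := finrank_pp hB (Submodule.span F {v, w0})
      rw [hCd.dim, hV] at this
      omega
    have hnd : ∀ x ∈ pp B (Submodule.span F {v, w0}), (∀ y ∈ pp B (Submodule.span F {v, w0}), B x y = 0) → x = 0 := by
      intro x hx hx0
      apply hB.eq_zero
      intro y
      obtain ⟨a, ha, b, hb, rfl⟩ := exists_decomp hB hCd.nd y
      rw [map_add, hx a ha, hx0 b (fun z hz => hB.swap_zero (hb z hz)), add_zero]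
    have memC : ∀ x, x ∈ pp B (Submodule.span F {v, w0}) ↔ B v x = 0 ∧ B w0 x = 0 := by
      intro x
      rw [mem_pp_span]
      constructor
      · intro h
        exact ⟨hB.swap_zero (h v (Or.inl rfl)), hB.swap_zero (h w0 (Or.inr rfl))⟩
      · rintro ⟨h, h'⟩ z (rfl | rfl)
        · exact hB.swap_zero h
        · exact hB.swap_zero h'
    -- the component of `w`
    have hww0 : B w w0 = σ (B w0 w) := sw hB w0 w
    set α := B w0 w / (- B v v) with hα
    have hsα : σ α = B w w0 / (- B v v) := by rw [hα, map_div₀, map_neg, hsv, ← hww0]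
    have hw'C : w - α • w0 ∈ pp B (Submodule.span F {v, w0}) := by
      rw [memC]
      constructor
      · rw [map_sub, smul_right, hw, hvw0]; ring
      · rw [map_sub, smul_right, hw0, hα]
        field_simp
        ring
    have hw'' : B (w - α • w0) (w - α • w0) = 0 := by
      rw [map_sub (B (w - α • w0)), map_sub B, LinearMap.sub_apply, LinearMap.sub_apply, smul_left, smul_right,
        smul_right, smul_left, hww, hw0, hsα, hα]
      field_simp
      linear_combination -hd
    obtain ⟨e, heC, f, hfC, hee, hff, hef, β, hβ, hwβ⟩ : ∃ e ∈ pp B (Submodule.span F {v, w0}),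
        ∃ f ∈ pp B (Submodule.span F {v, w0}), B e e = 0 ∧ B f f = 0 ∧ B e f = 1 ∧ ∃ β : F, (β = 0 ∨ β = 1) ∧
        w - α • w0 = β • e := by
      by_cases h0 : w - α • w0 = 0
      · obtain ⟨e, he, f, hf, h3, h4, h5⟩ := _root_.Cfsg.Agent.H450.Bs.exists_hyp hB hnd hdim.ge
        exact ⟨e, he, f, hf, h3, h4, h5, 0, Or.inl rfl, by rw [h0, zero_smul]⟩
      · obtain ⟨y, hy, hey⟩ : ∃ y ∈ pp B (Submodule.span F {v, w0}), B (w - α • w0) y ≠ 0 := by
          by_contra hcon
          push Not at hcon
          exact h0 (hnd _ hw'C hcon)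
        have h6 : B (w - α • w0) ((B (w - α • w0) y)⁻¹ • y) = 1 := by rw [smul_right, inv_mul_cancel₀ hey]
        obtain ⟨m, hm⟩ := exists_iso hB hw'' h6
        refine ⟨w - α • w0, hw'C, _, Submodule.add_mem _ (Submodule.smul_mem _ _ hy) (Submodule.smul_mem _ m hw'C), hw'',
          hm, ?_, 1, Or.inr rfl, by rw [one_smul]⟩
        rw [map_add, h6, smul_right, hw'', mul_zero, add_zero]
    have hfe : B f e = 1 := by rw [sw hB e f, hef, map_one]
    rw [memC] at heC hfC
    obtain ⟨t, ht0, ht⟩ := norm_surj σ hB.ne_id hB.invol (- (B v v * B v v)) (by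
      rw [map_neg, map_mul, hsv]) (neg_ne_zero.2 (mul_ne_zero hv hv))
    obtain ⟨m, hm⟩ := trace_surj σ hB.ne_id hB.invol (- B v v) (by rw [map_neg, hsv])
    have hst := sig_ne_zero (σ := σ) ht0
    have hwe : w = α • w0 + β • e := by rw [← hwβ]; abel
    have hv1 : B v ((m / σ t) • e + t • f) = 0 := by
      rw [map_add, smul_right, smul_right, heC.1, hfC.1]; ring
    have hw01 : B w0 ((m / σ t) • e + t • f) = 0 := by
      rw [map_add, smul_right, smul_right, heC.2, hfC.2]; ring
    have h11 : B ((m / σ t) • e + t • f) ((m / σ t) • e + t • f) = - B v v := by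
      rw [map_add (B ((m / σ t) • e + t • f)), map_add B, LinearMap.add_apply, LinearMap.add_apply]
      simp only [smul_left, smul_right, hee, hff, hef, hfe, map_div₀, hB.invol]
      field_simp
      linear_combination (σ t * t) * hm
    have hw1 : B w ((m / σ t) • e + t • f) = σ β * t := by
      rw [hwe, map_add B, LinearMap.add_apply, smul_left, hw01, smul_left, map_add (B e), smul_right, smul_right, hee, hef]
      ring
    have h1w : B ((m / σ t) • e + t • f) w = β * σ t := by
      rw [sw hB w, hw1, map_mul, hB.invol]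
    refine step _ w hv1 hw h11 hww ?_ (step w0 _ hvw0 hv1 hw0 h11 ?_ hp0)
    · rw [hw1, h1w]
      rcases hβ with rfl | rfl
      · rw [map_zero]
        intro h
        apply mul_ne_zero hv hv
        linear_combination h
      · rw [map_one]
        intro h
        apply mul_ne_zero h2 (mul_ne_zero hv hv)
        linear_combination h + ht
    · rw [hw01, zero_mul, sub_zero]
      exact mul_ne_zero hv hv
  intro z _ hz0 hzz
  by_cases hvz : B v z = 0
  · exact h1 z hvz hz0 hzz
  · obtain ⟨hz1, hz2⟩ := split z hzz hvz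
    have h3 := (key _ hz1 hz2).smul hB (B v v / B v z)⁻¹
    rwa [sub_add_cancel, smul_smul, inv_mul_cancel₀ (div_ne_zero hv hvz), one_smul] at h3

end Cfsg.Agent.H248.UF
end

-- part: H450/Bs/BR3
section
/-!
# BR3: hermitian `Frm` and the matrix groups `SU n F q` (helper450, S5733)

* `equivSU` : `Φ.Iso ⊓ slV F V ≃* SU n F r`, `n = finrank F V`;
* `rb_siso_of_psu` : `RB c (PSU n F r) → RB c (Φ.Iso ⊓ slV F V)`;
* `s40u_of` : `S40u` from the row of the groups `PSU_4`.
-/

set_option autoImplicit false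

namespace Cfsg.Agent.H450.Bs

open Module Cfsg Cfsg.Agent.H91.U Cfsg.Agent.H847.Bs Cfsg.Agent.LieClassical.HermBasic Cfsg.Agent.H450.UF
open Cfsg.Agent.H77.Witt (formB formB_apply)

/-- isometric spaces have isomorphic special isometry groups -/
noncomputable def sisoEquiv {F V V' : Type*} [Field F] [AddCommGroup V] [Module F V] [AddCommGroup V'] [Module F V']
    {σ σ' : F →+* F} {B : V →ₛₗ[σ] V →ₗ[F] F} {B' : V' →ₛₗ[σ'] V' →ₗ[F] F} (φ : V ≃ₗ[F] V')
    (h : ∀ v w, B' (φ v) (φ w) = B v w) : SIso B ≃* SIso B' where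
  toFun g := ⟨φ.symm ≪≫ₗ g.1 ≪≫ₗ φ, by rw [LinearEquiv.det_conj]; exact g.2.1, fun x y => by
    have h1 : ∀ z w, B' (φ (g.1 z)) (φ (g.1 w)) = B' (φ z) (φ w) := fun z w => by rw [h, g.2.2, ← h]
    have h2 := h1 (φ.symm x) (φ.symm y)
    rw [φ.apply_symm_apply, φ.apply_symm_apply] at h2
    exact h2⟩
  invFun g := ⟨φ ≪≫ₗ g.1 ≪≫ₗ φ.symm, by
      have := LinearEquiv.det_conj g.1 φ.symm
      rw [LinearEquiv.symm_symm] at this
      rw [this]
      exact g.2.1, fun x y => by
    change B (φ.symm (g.1 (φ x))) (φ.symm (g.1 (φ y))) = _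
    rw [← h, φ.apply_symm_apply, φ.apply_symm_apply, g.2.2, h]⟩
  left_inv g := Subtype.ext (LinearEquiv.ext fun x => by
    change φ.symm (φ (g.1 (φ.symm (φ x)))) = _
    rw [φ.symm_apply_apply, φ.symm_apply_apply])
  right_inv g := Subtype.ext (LinearEquiv.ext fun x => by
    change φ (φ.symm (g.1 (φ (φ.symm x)))) = _
    rw [φ.apply_symm_apply, φ.apply_symm_apply])
  map_mul' g g' := Subtype.ext (LinearEquiv.ext fun x => by
    change φ (g.1 (g'.1 (φ.symm x))) = φ (g.1 (φ.symm (φ (g'.1 (φ.symm x)))))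
    rw [φ.symm_apply_apply])

variable {F V : Type*} [Field F] [Fintype F] [AddCommGroup V] [Module F V] {Φ : Frm F V} {r : ℕ}

end Cfsg.Agent.H450.Bs
end

-- part: H811/PU4/Five
section
/-!
# S5719, `PSU_4(q)`, `q` odd: hyperplanes (helper811, pieces W5a, W5b of helper838)

* `exists_neg` : the involution `-1` on a nondegenerate plane of centres is in `H`;
* `index_ge` : the index of `H ∩ SU(D)` in `SU(D)` if `H` fixes a line of the plane `D`;
* `no_three` : not all transvections with centre in a nondegenerate hyperplane are in `H`;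
* `three_top` : subgroups of small index of `SU₃`; `no_refl` : no element of the third type.
-/

set_option autoImplicit false
set_option linter.unusedSectionVars false

namespace Cfsg.Agent.H811.PU4

open Module Subgroup Cfsg Cfsg.Agent.H91.U Cfsg.Agent.H450.UF Cfsg.Agent.H450.Bs Cfsg.Agent.H209.Fxy Cfsg.Agent.H838.IF
open scoped commutatorElement

section
variable {F V : Type*} [Field F] [Fintype F] [AddCommGroup V] [Module F V] [FiniteDimensional F V] {σ : F →+* F}
  {B : V →ₛₗ[σ] V →ₗ[F] F} {H : Subgroup (V ≃ₗ[F] V)} {q : ℕ}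


theorem mem_ppv (hB : HForm B) {v u : V} : u ∈ pp B (Submodule.span F {v}) ↔ B v u = 0 := by
  rw [mem_pp_span]
  constructor
  · intro h
    exact hB.swap_zero (h v rfl)
  · rintro h z rfl
    exact hB.swap_zero h

/-- the orthogonal space of an anisotropic vector is nondegenerate -/
theorem nd_ppv (hB : HForm B) {v : V} (hv : B v v ≠ 0) :
    ∀ x ∈ pp B (Submodule.span F {v}), (∀ y ∈ pp B (Submodule.span F {v}), B x y = 0) → x = 0 := by
  intro x hx h
  apply hB.eq_zero
  intro y
  have h1 : y - (B v y / B v v) • v ∈ pp B (Submodule.span F {v}) := by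
    rw [mem_ppv hB, map_sub, smul_right, div_mul_cancel₀ _ hv, sub_self]
  have h2 := h _ h1
  rw [map_sub, smul_right, hB.swap_zero ((mem_ppv hB).1 hx), mul_zero, sub_zero] at h2
  exact h2

theorem finrank_ppv (hB : HForm B) {v : V} (hv : v ≠ 0) : finrank F (pp B (Submodule.span F {v})) + 1 = finrank F V := by
  have h1 := finrank_pp hB (Submodule.span F {v})
  rwa [finrank_span_singleton hv] at h1

/-- if an element of `H` moves the line of `v` -/
theorem exists_fix (hB : HForm B) (hF : Fintype.card F = q ^ 2) (hV : finrank F V = 4) (hq : Odd q)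
    (hH : Pk B H) {v : V} (hv : B v v ≠ 0) (h1 : ∀ c, B v c = 0 → c ≠ 0 → B c c = 0 → PP B H c)
    {h : V ≃ₗ[F] V} (hh : h ∈ H) : ∃ a : F, h v = a • v := by
  by_contra hcon
  push Not at hcon
  have hi : ∀ x y, B (h x) (h y) = B x y := (hH.le hh).2
  have hvv : B (h v) (h v) ≠ 0 := by rwa [hi]
  have hv0 : v ≠ 0 := by
    rintro rfl
    exact hv (by rw [map_zero])
  have hhv0 : h v ≠ 0 := fun e => hv0 ((LinearEquiv.map_eq_zero_iff h).1 e)
  -- centres
  have hc : ∀ c, B (h v) c = 0 → c ≠ 0 → B c c = 0 → PP B H c := by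
    intro c hc0 hc1 hc2
    have e : h (h⁻¹ c) = c := h.apply_symm_apply c
    have h2 : B v (h⁻¹ c) = 0 := by rw [← hi, e, hc0]
    have h3 : h⁻¹ c ≠ 0 := fun e' => hc1 (by rw [← e, e', map_zero])
    have h4 : B (h⁻¹ c) (h⁻¹ c) = 0 := by rw [← hi, e, hc2]
    have h5 := (h1 _ h2 h3 h4).map hh hi
    rwa [e] at h5
  -- an isotropic vector orthogonal to `h v` but not to `v`
  obtain ⟨c, hc0, hc1, hc2⟩ : ∃ c, B (h v) c = 0 ∧ B c c = 0 ∧ B v c ≠ 0 := by
    by_contra hcon2
    push Not at hcon2
    have h2 := span_iso hB (nd_ppv hB hvv) (by have := finrank_ppv hB hhv0; omega)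
    have h3 : ∀ w ∈ pp B (Submodule.span F {h v}), B v w = 0 := by
      intro w hw
      have h4 : Submodule.span F {x | x ∈ pp B (Submodule.span F {h v}) ∧ B x x = 0} ≤ LinearMap.ker (B v) :=
        Submodule.span_le.2 fun x hx => hcon2 x ((mem_ppv hB).1 hx.1) hx.2
      exact h4 (h2 hw)
    obtain ⟨w, hw⟩ : ∃ w, w = v - (B (h v) v / B (h v) (h v)) • h v := ⟨_, rfl⟩
    have hw1 : w ∈ pp B (Submodule.span F {h v}) := by
      rw [mem_ppv hB, hw, map_sub, smul_right, div_mul_cancel₀ _ hvv, sub_self]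
    have hw0 : w = 0 := by
      refine nd_ppv hB hvv w hw1 fun y hy => ?_
      rw [hw, map_sub, LinearMap.sub_apply, smul_left, h3 y hy, (mem_ppv hB).1 hy, mul_zero, sub_zero]
    have h5 : v = (B (h v) v / B (h v) (h v)) • h v := by
      rw [hw] at hw0
      exact sub_eq_zero.1 hw0
    obtain ⟨a, ha⟩ : ∃ a, a = B (h v) v / B (h v) (h v) := ⟨_, rfl⟩
    rw [← ha] at h5
    have h6 : a ≠ 0 := by
      intro e
      rw [e, zero_smul] at h5
      exact hv0 h5
    apply hcon a⁻¹
    have h8 : a⁻¹ • v = a⁻¹ • a • h v := congrArg (fun z => a⁻¹ • z) h5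
    rw [h8, smul_smul, inv_mul_cancel₀ h6, one_smul]
  have hc0' : c ≠ 0 := by
    rintro rfl
    exact hc2 (map_zero _)
  have h7 := H248.UF.On.four hB hF hq hV hH.le hv h1 hc1 hc2 (hc c hc0 hc0' hc1)
  exact hH.ne (gen hB hV.ge fun c hc0 hcc l hl g hg => h7 c trivial hc0 hcc l hl g hg)

/-- `-1` on a nondegenerate plane of centres -/
theorem exists_neg (hB : HForm B) {P : Submodule F V} (hP : NP B P)
    (hO : On B H P) : ∃ t ∈ H, _root_.Cfsg.Agent.H838.IF.Neg B t P := by
  obtain ⟨e, he, f, hf, hee, hff, hef⟩   := Cfsg.Agent.H450.Bs.exists_hyp hB hP.nd (by rw [hP.dim])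
  obtain ⟨l, hl0, hl⟩ := exists_trz hB
  have hfe : B f e = 1 := by rw [sw hB e f, hef, map_one]
  have he0 : e ≠ 0 := by
    rintro rfl
    rw [map_zero, LinearMap.zero_apply] at hef
    exact zero_ne_one hef
  have hf0 : f ≠ 0 := by
    rintro rfl
    rw [map_zero] at hef
    exact zero_ne_one hef
  have hl' : σ l = -l := by linear_combination hl
  have hm : -l⁻¹ + σ (-l⁻¹) = 0 := by
    rw [map_neg, map_inv₀, hl', inv_neg]
    ring
  obtain ⟨x, hx⟩ := exists_tv hee l
  obtain ⟨y, hy⟩ := exists_tv hff (-l⁻¹)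
  have hxH : x ∈ H := hO e he he0 hee l hl x hx
  have hyH : y ∈ H := hO f hf hf0 hff _ hm y hy
  obtain ⟨w, hw⟩ : ∃ w, w = x * y * x := ⟨_, rfl⟩
  have hwH : w ∈ H := by rw [hw]; exact mul_mem (mul_mem hxH hyH) hxH
  have hwa : ∀ z, w z = x (y (x z)) := fun z => by rw [hw]; rfl
  have xe : x e = e := by rw [hx, hee, mul_zero, zero_smul, add_zero]
  have xf : x f = f + l • e := by rw [hx, hef, mul_one]
  have ye : y e = e - l⁻¹ • f := by rw [hy, hfe, mul_one, neg_smul, sub_eq_add_neg]
  have yf : y f = f := by rw [hy, hff, mul_zero, zero_smul, add_zero]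
  have we : w e = -(l⁻¹ • f) := by
    rw [hwa, xe, ye, map_sub, map_smul, xe, xf, smul_add, smul_smul, inv_mul_cancel₀ hl0, one_smul]
    abel
  have wf : w f = l • e := by
    rw [hwa, xf, map_add, map_smul, yf, ye, map_add, map_smul, map_sub, map_smul, xe, xf, smul_sub, smul_add, smul_add,
      smul_smul, smul_smul, smul_smul, mul_inv_cancel₀ hl0, one_smul, one_mul]
    abel
  have hwu : ∀ u ∈ pp B P, w u = u := by
    intro u hu
    have h1 : B e u = 0 := hB.swap_zero (hu e he)
    have h2 : B f u = 0 := hB.swap_zero (hu f hf)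
    have h3 : x u = u := by rw [hx, h1, mul_zero, zero_smul, add_zero]
    have h4 : y u = u := by rw [hy, h2, mul_zero, zero_smul, add_zero]
    rw [hwa, h3, h4, h3]
  have hspan : P ≤ Submodule.span F {e, f} := by
    have h1 : Submodule.span F {e, f} ≤ P := by
      rw [Submodule.span_le]
      rintro z (rfl | rfl)
      exacts [he, hf]
    have h2 : LinearIndependent F ![e, f] := li_of_not_perp hee (by rw [hef]; exact one_ne_zero)
    have h3 : finrank F (Submodule.span F {e, f}) = 2 := by
      have h4 := finrank_span_eq_card h2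
      rwa [Matrix.range_cons, Matrix.range_cons, Matrix.range_empty, Set.union_empty, Set.singleton_union,
        Fintype.card_fin] at h4
    exact (Submodule.eq_of_le_of_finrank_eq h1 (by rw [h3, hP.dim])).ge
  refine ⟨w * w, mul_mem hwH hwH, fun z hz => ?_, fun u hu => ?_⟩
  · obtain ⟨a, b, rfl⟩ := Submodule.mem_span_pair.1 (hspan hz)
    change w (w (a • e + b • f)) = _
    rw [map_add, map_smul, map_smul, we, wf, map_add, map_smul, map_smul, map_neg, map_smul, map_smul, we, wf,
      smul_smul, inv_mul_cancel₀ hl0, one_smul, smul_neg l, smul_smul, mul_inv_cancel₀ hl0, one_smul]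
    simp only [smul_neg, neg_add]
  · change w (w u) = u
    rw [hwu u hu, hwu u hu]

/-- all transvections are in `SIso B` -/
theorem on_siso (hB : HForm B) (P : Submodule F V) : On B (SIso B) P :=
  fun _ _ _ hcc _ hl _ hg => hg.mem hB hcc hl

/-- decomposition along a nondegenerate plane -/
theorem decomp (hB : HForm B) {P : Submodule F V} (hP : NP B P) (z : V) :
    ∃ a ∈ P, ∃ b ∈ pp B P, z = a + b := by
  obtain ⟨a, ha, b, hb, h⟩ := exists_decomp hB hP.nd z
  exact ⟨a, ha, b, fun w hw => hB.swap_zero (hb w hw), h⟩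

theorem np_pp (hB : HForm B) (hV : finrank F V = 4) {P : Submodule F V} (hP : NP B P) : NP B (pp B P) where
  dim := by
    have h1 := finrank_pp hB P
    rw [hP.dim] at h1
    omega
  nd x hx h := by
    apply hB.eq_zero
    intro y
    obtain ⟨a, ha, b, hb, rfl⟩ := decomp hB hP y
    rw [map_add, hx a ha, zero_add, h b hb]

theorem pp_pp (hB : HForm B) (hV : finrank F V = 4) {P : Submodule F V} (hP : NP B P) : pp B (pp B P) = P := by
  have h1 : P ≤ pp B (pp B P) := fun x hx y hy => hB.swap_zero (hy x hx)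
  refine (Submodule.eq_of_le_of_finrank_eq h1 ?_).symm
  rw [hP.dim, (np_pp hB hV (np_pp hB hV hP)).dim]

/-- the elements of `SU(P^⊥)` commute with `t` -/
theorem comm_of_neg (hB : HForm B) (hV : finrank F V = 4) {P : Submodule F V} (hP : NP B P) {t : V ≃ₗ[F] V}
    (ht : _root_.Cfsg.Agent.H838.IF.Neg B t P) {k : V ≃ₗ[F] V} (hk : k ∈ SUW B (pp B P)) : Comm k t := by
  refine ⟨1, fun z => ?_⟩
  obtain ⟨a, ha, b, hb, rfl⟩ := decomp hB hP z
  have h1 : ∀ u ∈ P, k u = u := fun u hu => hk.2 u (by rw [pp_pp hB hV hP]; exact hu)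
  have h2 : k b ∈ pp B P := fun w hw => by
    have := hk.1.2 b w
    rw [h1 w hw, hb w hw] at this
    exact this
  rw [one_smul, map_add, ht.1 a ha, ht.2 b hb, map_add, map_neg, h1 a ha, map_add, h1 a ha, map_add, ht.1 a ha,
    ht.2 _ h2]

theorem two_ne (hF : Fintype.card F = q ^ 2) (hq : Odd q) : (2 : F) ≠ 0 := by
  intro h0
  have h3 : ringChar F = 2 := by
    have h4 : ringChar F ∣ 2 := (ringChar.spec F 2).1 (by exact_mod_cast h0)
    exact (Nat.prime_dvd_prime_iff_eq (CharP.char_is_prime F _) Nat.prime_two).1 h4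
  have h4 := FiniteField.even_card_of_char_two h3
  rw [hF] at h4
  have h5 : q ^ 2 % 2 = 1 := Nat.odd_iff.1 (hq.pow)
  omega

/-- the number of lines -/
theorem card_T (hB : HForm B) (hF : Fintype.card F = q ^ 2) {n n' : F} (hn' : n' ≠ 0) :
    q ^ 2 - q - 1 ≤ Nat.card {b : F // σ b * b * n' + n ≠ 0} := by
  classical
  have hσ : ∀ b, σ b = b ^ q := sig_eq hF hB.ne_id hB.invol
  have h1 : Nat.card {b : F // σ b * b * n' + n ≠ 0} + Nat.card {b : F // ¬ (σ b * b * n' + n ≠ 0)} = q ^ 2 := by
    rw [← hF, ← Nat.card_eq_fintype_card, ← Nat.card_sum]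
    exact Nat.card_congr (Equiv.sumCompl _)
  have h2 : Nat.card {b : F // ¬ (σ b * b * n' + n ≠ 0)} ≤ q + 1 := by
    have h3 : ∀ b : {b : F // ¬ (σ b * b * n' + n ≠ 0)}, b.1 ∈ (Polynomial.nthRoots (q + 1) (-n / n')).toFinset := by
      rintro ⟨b, hb⟩
      rw [not_not, hσ] at hb
      rw [Multiset.mem_toFinset, Polynomial.mem_nthRoots (Nat.succ_pos q), eq_div_iff hn', pow_succ]
      linear_combination hb
    refine le_trans ?_ ((Multiset.toFinset_card_le _).trans (Polynomial.card_nthRoots (q + 1) (-n / n')))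
    rw [← Fintype.card_coe, ← Nat.card_eq_fintype_card]
    exact Nat.card_le_card_of_injective (fun b => (⟨b.1, h3 b⟩ : (Polynomial.nthRoots (q + 1) (-n / n')).toFinset))
      fun b b' h => Subtype.ext (congrArg (fun z : (Polynomial.nthRoots (q + 1) (-n / n')).toFinset => z.1) h)
  omega

/-- the index of `H ∩ SU(D)` if `H` fixes a line of `D` -/
theorem index_ge (hB : HForm B) (hF : Fintype.card F = q ^ 2) {v v' : V} (hv : B v v ≠ 0) (hv' : B v' v' ≠ 0)
    (hvv : B v v' = 0) (hD : NP B (Submodule.span F {v, v'})) (hfix : ∀ h ∈ H, ∃ a : F, h v = a • v) :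
    q ^ 2 - q - 1 ≤ H.relIndex (SUW B (Submodule.span F {v, v'})) := by
  have hVf : Finite V := Module.finite_of_finite F
  have hEf : Finite (V ≃ₗ[F] V) := Finite.of_injective (fun g : V ≃ₗ[F] V => (g : V → V)) DFunLike.coe_injective
  have hv'v : B v' v = 0 := hB.swap_zero hvv
  obtain ⟨D, hDd⟩ : ∃ D, D = Submodule.span F {v, v'} := ⟨_, rfl⟩
  rw [← hDd] at hD ⊢
  have hvD : v ∈ D := by rw [hDd]; exact Submodule.subset_span (Or.inl rfl)
  have hvD' : v' ∈ D := by rw [hDd]; exact Submodule.subset_span (Or.inr rfl)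
  have key : ∀ b : {b : F // σ b * b * B v' v' + B v v ≠ 0}, ∃ g ∈ SUW B D, ∃ c : F, c ≠ 0 ∧
      g v = c • (v + b.1 • v') := by
    rintro ⟨b, hb⟩
    have hN : B (v + b • v') (v + b • v') = σ b * b * B v' v' + B v v := by
      rw [quad, hvv, hv'v]
      ring
    have hfx : σ (B v v / (σ b * b * B v' v' + B v v)) = B v v / (σ b * b * B v' v' + B v v) := by
      rw [map_div₀, map_add, map_mul, map_mul, hB.invol, self_fix hB, self_fix hB]
      congr 1
      ring
    obtain ⟨c, hc0, hc⟩ := Cfsg.Agent.ClassicalGeometry.HermWitt.norm_surj σ hB.ne_id hB.invol _ hfx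
      (div_ne_zero hv hb)
    have he : B v v = B (c • (v + b • v')) (c • (v + b • v')) := by
      rw [smul_left, smul_right, hN, ← mul_assoc, mul_comm (σ c) c, hc, div_mul_cancel₀ _ hb]
    obtain ⟨g, hg, hg1, hg2⟩ := H248.UF.plane_trans hB hF hD (on_siso hB D) hvD
      (D.smul_mem c (D.add_mem hvD (D.smul_mem b hvD'))) hv he
    exact ⟨g, ⟨hg, hg2⟩, c, hc0, hg1⟩
  choose g hg c hc0 hgc using key
  refine (card_T hB hF (n := B v v) hv').trans ?_
  refine Nat.card_le_card_of_injective
    (fun b => (QuotientGroup.mk (⟨g b, hg b⟩ : SUW B D) : SUW B D ⧸ H.subgroupOf (SUW B D))) ?_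
  intro b b' hbb
  have h1 := QuotientGroup.eq.1 hbb
  rw [Subgroup.mem_subgroupOf] at h1
  obtain ⟨a, ha⟩ := hfix _ h1
  have h2 : g b' v = a • g b v := by
    have h3 : (g b)⁻¹ (g b' v) = a • v := ha
    have h4 : g b ((g b)⁻¹ (g b' v)) = g b' v := (g b).apply_symm_apply _
    rw [← h4, h3, map_smul]
  rw [hgc, hgc, smul_smul] at h2
  -- pair with `v` and `v'`
  have h5 := congrArg (B v) h2
  have h6 := congrArg (B v') h2
  rw [smul_right, smul_right, map_add, smul_right, map_add, smul_right, hvv, mul_zero, mul_zero, add_zero] at h5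
  rw [smul_right, smul_right, map_add, smul_right, map_add, smul_right, hv'v, zero_add, zero_add] at h6
  have h7 : c b' = a * c b := mul_right_cancel₀ hv h5
  rw [← h7] at h6
  have h8 := mul_left_cancel₀ (hc0 b') h6
  exact Subtype.ext (mul_right_cancel₀ hv' h8).symm

theorem arith_five {q r : ℕ} (h5 : 5 ≤ q) (h : q ^ 2 - q - 1 ≤ r)
    (h1 : r ^ 5 < q ^ 4 * (q ^ 2 + 1) * (q ^ 2 - q + 1)) : False := by
  have hqq : q ≤ q ^ 2 := by nlinarith only []
  obtain ⟨X, hX⟩ : ∃ X, X = q ^ 2 - q - 1 := ⟨_, rfl⟩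
  have hX1 : q ^ 2 = X + q + 1 := by
    have : q + 1 ≤ q ^ 2 := by nlinarith only [h5]
    omega
  have h2 : X ^ 5 < q ^ 4 * (q ^ 2 + 1) * (q ^ 2 - q + 1) := lt_of_le_of_lt (Nat.pow_le_pow_left (hX ▸ h) 5) h1
  have h3 : q ^ 2 - q + 1 = X + 2 := by omega
  rw [h3] at h2
  have h4 : 19 * q ≤ 5 * X + 0 := by nlinarith only [h5, hX1]
  have h6 : 19 * (q ^ 2) ≤ 25 * X := by
    have : 19 ≤ X := by linarith only [h5, h4]
    omega
  have hX19 : 19 ≤ X := by linarith only [h5, h4]
  have e : q ^ 4 = q ^ 2 * q ^ 2 := by ring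
  have h7 : 361 * q ^ 4 ≤ 625 * X ^ 2 := by
    rw [e]
    nlinarith only [h5, hX1, h4]
  have h8 : 19 * (q ^ 2 + 1) ≤ 26 * X := by omega
  have h9 : 19 * (X + 2) ≤ 21 * X := by omega
  have h10 : 361 * 19 * 19 * (q ^ 4 * (q ^ 2 + 1) * (X + 2)) ≤ 625 * 26 * 21 * X ^ 4 := by
    calc 361 * 19 * 19 * (q ^ 4 * (q ^ 2 + 1) * (X + 2))
        = (361 * q ^ 4) * (19 * (q ^ 2 + 1)) * (19 * (X + 2)) := by ring
      _ ≤ (625 * X ^ 2) * (26 * X) * (21 * X) := Nat.mul_le_mul (Nat.mul_le_mul h7 h8) h9
      _ = 625 * 26 * 21 * X ^ 4 := by ring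
  have h11 : 361 * 19 * 19 * X ^ 5 < 625 * 26 * 21 * X ^ 4 := lt_of_lt_of_le (Nat.mul_lt_mul_of_pos_left h2 (by norm_num)) h10
  have h12 : X ^ 5 = X * X ^ 4 := by ring
  have h13 : 19 * X ^ 4 ≤ X ^ 5 := by
    rw [h12]
    exact Nat.mul_le_mul_right _ hX19
  omega

/-- W5a: all transvections with centre in a nondegenerate hyperplane -/
theorem no_three (hB : HForm B) (hF : Fintype.card F = q ^ 2) (hV : finrank F V = 4) (hq : Odd q) (h5 : 5 ≤ q)
    (hH : Pk B H) {v : V} (hv : B v v ≠ 0) (h1 : ∀ c, B v c = 0 → c ≠ 0 → B c c = 0 → PP B H c) : False := by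
  have h2 := two_ne hF hq
  have hv0 : v ≠ 0 := by
    rintro rfl
    exact hv (by rw [map_zero])
  have hfix : ∀ h ∈ H, ∃ a : F, h v = a • v := fun h hh => exists_fix hB hF hV hq hH hv h1 hh
  -- `v'`
  obtain ⟨e, he, f, hf, hee, hff, hef⟩ := Cfsg.Agent.H450.Bs.exists_hyp hB (nd_ppv hB hv)
    (by have := finrank_ppv hB hv0; omega)
  have hfe : B f e = 1 := by rw [sw hB e f, hef, map_one]
  obtain ⟨v', hv'⟩ : ∃ v', v' = e + f := ⟨_, rfl⟩
  have hvv : B v v' = 0 := by rw [hv', map_add, (mem_ppv hB).1 he, (mem_ppv hB).1 hf, add_zero]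
  have hvv' : B v' v = 0 := hB.swap_zero hvv
  have hn' : B v' v' ≠ 0 := by
    rw [hv', map_add, map_add, LinearMap.add_apply, LinearMap.add_apply, hee, hff, hef, hfe]
    intro e0
    apply h2
    linear_combination e0
  have hli : LinearIndependent F ![v, v'] := by
    rw [LinearIndependent.pair_iff' hv0]
    rintro a rfl
    rw [smul_right] at hvv
    rcases mul_eq_zero.1 hvv with h3 | h3
    · rw [h3, zero_smul, map_zero] at hn'
      exact hn' rfl
    · exact hv h3
  have hD : NP B (Submodule.span F {v, v'}) := by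
    refine ⟨?_, fun x hx h => ?_⟩
    · have h4 := finrank_span_eq_card hli
      rwa [Matrix.range_cons, Matrix.range_cons, Matrix.range_empty, Set.union_empty, Set.singleton_union,
        Fintype.card_fin] at h4
    · obtain ⟨a, b, rfl⟩ := Submodule.mem_span_pair.1 hx
      have h3 := h v (Submodule.subset_span (Or.inl rfl))
      have h4 := h v' (Submodule.subset_span (Or.inr rfl))
      rw [map_add, LinearMap.add_apply, smul_left, smul_left, hvv', mul_zero, add_zero] at h3
      rw [map_add, LinearMap.add_apply, smul_left, smul_left, hvv, mul_zero, zero_add] at h4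
      rw [(map_eq_zero σ).1 ((mul_eq_zero.1 h3).resolve_right hv), (map_eq_zero σ).1 ((mul_eq_zero.1 h4).resolve_right hn'),
        zero_smul, zero_smul, add_zero]
  -- the plane
  obtain ⟨P, hPd⟩ : ∃ P, P = pp B (Submodule.span F {v, v'}) := ⟨_, rfl⟩
  have hP : NP B P := by rw [hPd]; exact np_pp hB hV hD
  have hPD : pp B P = Submodule.span F {v, v'} := by rw [hPd]; exact pp_pp hB hV hD
  have hO : On B H P := by
    intro c hc hc0 hcc
    rw [hPd] at hc
    exact h1 c (hB.swap_zero (hc v (Submodule.subset_span (Or.inl rfl)))) hc0 hcc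
  obtain ⟨t, ht, htn⟩ := exists_neg hB hP hO
  have hvP : v ∈ pp B P := by rw [hPD]; exact Submodule.subset_span (Or.inl rfl)
  have hs : ¬ Scal t := by
    rintro ⟨a, ha⟩
    have h3 := ha v
    rw [htn.2 v hvP] at h3
    have ha1 : a = 1 := by
      have h4 : (1 - a) • v = 0 := by rw [sub_smul, one_smul, ← h3, sub_self]
      exact (sub_eq_zero.1 ((smul_eq_zero.1 h4).resolve_right hv0)).symm
    obtain ⟨x, hx, hx0⟩ : ∃ x ∈ P, x ≠ 0 := by
      apply Submodule.exists_mem_ne_zero_of_ne_bot
      rintro hbot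
      have h4 := hP.dim
      rw [hbot, finrank_bot] at h4
      omega
    have h4 := ha x
    rw [htn.1 x hx, ha1, one_smul] at h4
    have h6 : (2 : F) • x = 0 := by
      rw [two_smul]
      nth_rewrite 1 [← h4]
      exact neg_add_cancel x
    exact hx0 ((smul_eq_zero.1 h6).resolve_left h2)
  have htt : Scal (t * t) := by
    refine ⟨1, fun z => ?_⟩
    obtain ⟨a, ha, b, hb, rfl⟩ := decomp hB hP z
    change t (t (a + b)) = _
    rw [map_add, htn.1 a ha, htn.2 b hb, map_add, map_neg, htn.1 a ha, htn.2 b hb, neg_neg, one_smul]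
  have hlt := hH.e2 t ht hs htt (SUW B (pp B P)) (fun k hk => hk.1) (fun k hk => comm_of_neg hB hV hP htn hk)
  rw [hPD] at hlt
  exact arith_five h5 (index_ge hB hF hv hn' hvv hD hfix) (hlt.trans_le (H715.IFU.cls_neg hB hF hV hP htn))

/-! ### W5b -/

omit [Fintype F] [FiniteDimensional F V] in
theorem arith_cube {q r : ℕ} (h5 : 5 ≤ q) (h1 : r ^ 5 < (q ^ 4 + 1) * (q ^ 2 + 1)) :
    r < q ^ 3 + 1 ∧ (q = 5 → r < 50) := by
  constructor
  · by_contra hcon
    push Not at hcon
    have h2 : (q ^ 3 + 1) ^ 5 ≤ r ^ 5 := Nat.pow_le_pow_left hcon 5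
    have h3 : (q ^ 4 + 1) * (q ^ 2 + 1) ≤ (q ^ 3 + 1) ^ 5 := by
      have h4 : q ^ 4 + 1 ≤ (q ^ 3 + 1) ^ 2 := by
        have : q ^ 4 ≤ q ^ 6 := Nat.pow_le_pow_right (by omega) (by norm_num)
        nlinarith only [this, _root_.sq_nonneg (↑q : ℤ), _root_.Nat.cast_nonneg (α := ℤ) (q)]
      have h6 : q ^ 2 + 1 ≤ (q ^ 3 + 1) ^ 3 := by
        have h7 : q ^ 2 ≤ q ^ 3 := Nat.pow_le_pow_right (by omega) (by norm_num)
        have h8 : q ^ 3 + 1 ≤ (q ^ 3 + 1) ^ 3 := Nat.le_self_pow (by norm_num) _
        omega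
      calc _ ≤ (q ^ 3 + 1) ^ 2 * (q ^ 3 + 1) ^ 3 := Nat.mul_le_mul h4 h6
        _ = _ := by ring
    omega
  · rintro rfl
    by_contra hcon
    push Not at hcon
    have h2 : 50 ^ 5 ≤ r ^ 5 := Nat.pow_le_pow_left hcon 5
    omega

/-- subgroups of small index of the special isometry group of a space of dimension three -/
theorem three_top (hB : HForm B) (hF : Fintype.card F = q ^ 2) {W : Submodule F V}
    (hW : ∀ x ∈ W, (∀ y ∈ W, B x y = 0) → x = 0) (h3 : finrank F W = 3) (h5 : 5 ≤ q)
    {Y : Subgroup (SIso (res B W))} (hY : Y.index ^ 5 < (q ^ 4 + 1) * (q ^ 2 + 1)) : Y = ⊤ := by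
  obtain ⟨φ, hφ⟩ : ∃ φ : W ≃ₗ[F] (Fin 3 → F), ∀ v w, res B W v w = hermForm 3 F q (φ w) (φ v) := by
    rw [← h3]
    exact exists_model hF (hform_res hB hW)
  let e : SIso (res B W) ≃* SU 3 F q := (sisoEquiv φ (B' := Cfsg.Agent.H77.Witt.formB hF 3) fun v w => by
    rw [Cfsg.Agent.H77.Witt.formB_apply, hφ]).trans (toIso hF).symm
  obtain ⟨Y', hY'⟩ : ∃ Y', Y' = Y.map e.toMonoidHom := ⟨_, rfl⟩
  have hidx : Y'.index ≤ Y.index := by
    have : Finite (SIso (res B W)) := by
      have : Finite V := Module.finite_of_finite F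
      have : Finite (W ≃ₗ[F] W) := Finite.of_injective (fun g : W ≃ₗ[F] W => (g : W → W)) DFunLike.coe_injective
      infer_instance
    rw [hY']
    exact Nat.le_of_dvd (Nat.pos_of_ne_zero Subgroup.index_ne_zero_of_finite) (Subgroup.index_map_dvd Y e.surjective)
  have hlt := arith_cube h5 hY
  -- the image in `PSU`
  have hZ : Y'.map (QuotientGroup.mk' (Subgroup.center (SU 3 F q))) = ⊤ := by
    by_contra hne
    have h1 : (Y'.map (QuotientGroup.mk' (Subgroup.center (SU 3 F q)))).index ≤ Y.index := by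
      refine (Nat.le_of_dvd (Nat.pos_of_ne_zero ?_)
        (Subgroup.index_map_dvd Y' (QuotientGroup.mk'_surjective _))).trans hidx
      exact Subgroup.index_ne_zero_of_finite
    by_cases hq5 : q = 5
    · subst hq5
      have h2 := (S2149.result (F := F) (by rw [hF]; norm_num)).1 _ hne
      have h3 := hlt.2 rfl
      omega
    · have h2 := (S2148.result q hF (by omega) hq5).1 _ hne
      omega
  have hYt : Y' = ⊤ := by
    have hperf : _root_.commutator (SU 3 F q) = ⊤ :=
      Cfsg.Agent.LieClassical.HermPerfect.commutator_SU_eq_top hF (by omega) (by omega)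
    rw [eq_top_iff, ← hperf, commutator_def, Subgroup.commutator_le]
    have key : ∀ g : SU 3 F q, ∃ y ∈ Y', ∃ z ∈ Subgroup.center (SU 3 F q), g = y * z := by
      intro g
      have h1 : QuotientGroup.mk' (Subgroup.center (SU 3 F q)) g ∈
          Y'.map (QuotientGroup.mk' (Subgroup.center (SU 3 F q))) := by rw [hZ]; trivial
      obtain ⟨y, hy, hyg⟩ := h1
      refine ⟨y, hy, y⁻¹ * g, QuotientGroup.eq.1 hyg, by group⟩
    intro g _ g' _
    obtain ⟨y, hy, z, hz, rfl⟩ := key g
    obtain ⟨y', hy', z', hz', rfl⟩ := key g'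
    rw [Subgroup.mem_center_iff] at hz hz'
    have h1 : ⁅y * z, y' * z'⁆ = ⁅y, y'⁆ := by
      rw [commutatorElement_def, commutatorElement_def, mul_inv_rev, mul_inv_rev]
      have e1 : z * (y' * z') = y' * z' * z := (hz _).symm
      have e2 : z' * (z * (z⁻¹ * y⁻¹)) = z * (z⁻¹ * y⁻¹) * z' := (hz' _).symm
      calc y * z * (y' * z') * (z⁻¹ * y⁻¹) * (z'⁻¹ * y'⁻¹)
          = y * (z * (y' * z')) * (z⁻¹ * y⁻¹) * (z'⁻¹ * y'⁻¹) := by group
        _ = y * (y' * z' * z) * (z⁻¹ * y⁻¹) * (z'⁻¹ * y'⁻¹) := by rw [e1]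
        _ = y * y' * (z' * (z * (z⁻¹ * y⁻¹))) * (z'⁻¹ * y'⁻¹) := by group
        _ = y * y' * (z * (z⁻¹ * y⁻¹) * z') * (z'⁻¹ * y'⁻¹) := by rw [e2]
        _ = y * y' * y⁻¹ * y'⁻¹ := by group
    rw [h1]
    exact mul_mem (mul_mem (mul_mem hy hy') (inv_mem hy)) (inv_mem hy')
  rw [eq_top_iff]
  intro g _
  have h1 : e g ∈ Y' := by rw [hYt]; trivial
  rw [hY'] at h1
  obtain ⟨y, hy, hyg⟩ := h1
  have : y = g := e.injective hyg
  rw [← this]
  exact hy

/-- W5b: the third type -/
theorem no_refl (hB : HForm B) (hF : Fintype.card F = q ^ 2) (hV : finrank F V = 4) (hq : Odd q) (h5 : 5 ≤ q)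
    (hH : Pk B H) {t : V ≃ₗ[F] V} (ht : t ∈ H) {v : V} (hv : B v v ≠ 0) {m : F} (hm : m ≠ 0) (h1 : t v = -(m • v))
    (h2 : ∀ u, B v u = 0 → t u = m • u) : False := by
  have h20 := two_ne hF hq
  have hv0 : v ≠ 0 := by
    rintro rfl
    exact hv (by rw [map_zero])
  obtain ⟨W, hWd⟩ : ∃ W, W = pp B (Submodule.span F {v}) := ⟨_, rfl⟩
  have hW : ∀ x ∈ W, (∀ y ∈ W, B x y = 0) → x = 0 := by rw [hWd]; exact nd_ppv hB hv
  have hWm : ∀ u, u ∈ W ↔ B v u = 0 := fun u => by rw [hWd]; exact mem_ppv hB
  have h3 : finrank F W = 3 := by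
    have := finrank_ppv hB hv0
    rw [← hWd] at this
    omega
  have hdec : ∀ z : V, ∃ a : F, ∃ w ∈ W, z = a • v + w := fun z =>
    ⟨B v z / B v v, z - (B v z / B v v) • v, (hWm _).2 (by rw [map_sub, smul_right, div_mul_cancel₀ _ hv, sub_self]),
      by abel⟩
  have hpv : v ∈ pp B W := fun u hu => (hWm u).1 hu
  -- the group
  let f : SIso (res B W) →* (V ≃ₗ[F] V) := (SIso B).subtype.comp (H27.IF.e1 hB hW)
  have hfW : ∀ (g : SIso (res B W)) (w : V) (hw : w ∈ W), f g w = g.1 ⟨w, hw⟩ := fun g w hw => H27.IF.e1_W hB hW g hw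
  have hfv : ∀ g : SIso (res B W), f g v = v := fun g => H27.IF.e1_pp hB hW g hpv
  have hns : ¬ Scal t := by
    rintro ⟨a, ha⟩
    have e1 := ha v
    rw [h1] at e1
    have e2 : (a + m) • v = 0 := by rw [add_smul, ← e1]; exact neg_add_cancel _
    have e3 : a = -m := eq_neg_of_add_eq_zero_left ((smul_eq_zero.1 e2).resolve_right hv0)
    obtain ⟨x, hx, hx0⟩ : ∃ x ∈ W, x ≠ 0 := by
      apply Submodule.exists_mem_ne_zero_of_ne_bot
      rintro hbot
      rw [hbot, finrank_bot] at h3
      omega
    have e4 := ha x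
    rw [h2 x ((hWm x).1 hx), e3] at e4
    have e5 : (2 * m) • x = 0 := by
      rw [two_mul, add_smul]
      nth_rewrite 1 [e4]
      rw [neg_smul]
      exact neg_add_cancel _
    exact (mul_ne_zero h20 hm) ((smul_eq_zero.1 e5).resolve_right hx0)
  have htt : Scal (t * t) := by
    refine ⟨m * m, fun z => ?_⟩
    obtain ⟨a, w, hw, rfl⟩ := hdec z
    change t (t (a • v + w)) = _
    rw [map_add, map_smul, h1, h2 w ((hWm w).1 hw), map_add, map_smul, map_neg, map_smul, map_smul, h1,
      h2 w ((hWm w).1 hw), smul_add, smul_neg m, neg_neg, smul_smul, smul_smul, smul_smul, smul_smul]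
    congr 2
    ring
  have hlt := hH.e2 t ht hns htt f.range (by
    rintro _ ⟨g, rfl⟩
    exact (H27.IF.e1 hB hW g).2) (by
    rintro _ ⟨g, rfl⟩
    refine ⟨1, fun z => ?_⟩
    obtain ⟨a, w, hw, rfl⟩ := hdec z
    have hgw : B v (f g w) = 0 := by
      rw [hfW g w hw]
      exact (hWm _).1 (g.1 ⟨w, hw⟩).2
    rw [one_smul, map_add t, map_smul t, h1, h2 w ((hWm w).1 hw), map_add (f g), map_smul (f g), map_neg (f g),
      map_smul (f g), map_smul (f g), hfv, map_add (f g), map_smul (f g), hfv, map_add t, map_smul t, h1, h2 _ hgw])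
  have hlt2 := hlt.trans_le (H411.IFU.cls_pt hB hF hV hv (a := -m) (b := m) (by rw [h1, neg_smul]) h2)
  rw [← Subgroup.index_comap] at hlt2
  have htop := three_top hB hF hW h3 h5 hlt2
  refine no_three hB hF hV hq h5 hH hv fun c hvc hc0 hcc l hl g hg => ?_
  have hcW := (hWm c).2 hvc
  obtain ⟨g', hg'⟩ := exists_tv (B := res B W) (c := ⟨c, hcW⟩) hcc l
  have hg'm : g' ∈ SIso (res B W) := hg'.mem (hform_res hB hW) hcc hl
  have e1 : f ⟨g', hg'm⟩ = g := by
    ext z
    obtain ⟨a, w, hw, rfl⟩ := hdec z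
    rw [map_add, map_smul, hfv, hfW _ w hw]
    change a • v + ((g' ⟨w, hw⟩ : W) : V) = _
    rw [hg', hg, map_add, smul_right, hB.swap_zero hvc, mul_zero, zero_add]
    change a • v + (w + (l * B c w) • c) = _
    rw [add_assoc]
  have h6 : (⟨g', hg'm⟩ : SIso (res B W)) ∈ H.comap f := by rw [htop]; trivial
  rw [← e1]
  exact h6

end

end Cfsg.Agent.H811.PU4
end

-- part: H910/IF/Types
section
/-!
# S5719, `PSU_4(q)`, `q` odd: the types of the involutions modulo scalars (W6a, helper910)
-/

set_option autoImplicit false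

namespace Cfsg.Agent.H910.IF

open Module Subgroup Cfsg Cfsg.Agent.H91.U Cfsg.Agent.H450.UF Cfsg.Agent.H450.Bs Cfsg.Agent.H838.IF

section

variable {F V : Type*} [Field F] [Fintype F] [AddCommGroup V] [Module F V] [FiniteDimensional F V] {σ : F →+* F}
  {B : V →ₛₗ[σ] V →ₗ[F] F} {q : ℕ}

/-- the eigenspace -/
def ei (t : V ≃ₗ[F] V) (m : F) : Submodule F V where
  carrier := {v | t v = m • v}
  add_mem' := fun {a b} ha hb => by
    change t (a + b) = m • (a + b)
    rw [map_add, ha, hb, smul_add]
  zero_mem' := by change t 0 = m • 0; rw [map_zero, smul_zero]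
  smul_mem' := fun c x hx => by
    change t (c • x) = m • (c • x)
    rw [map_smul, hx, smul_comm]

omit [Fintype F] [FiniteDimensional F V] in
theorem mem_ei {t : V ≃ₗ[F] V} {m : F} {v : V} : v ∈ ei t m ↔ t v = m • v := Iff.rfl

/-- the setting: `t^2 = m^2`, `m σ(m) = 1`, characteristic not two -/
structure Set2 (B : V →ₛₗ[σ] V →ₗ[F] F) (t : V ≃ₗ[F] V) (m : F) : Prop where
  two : (2 : F) ≠ 0
  ne : m ≠ 0
  nm : σ m * m = 1
  sq : ∀ v, t (t v) = (m * m) • v
  iso : ∀ x y, B (t x) (t y) = B x y

namespace Set2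

variable {t : V ≃ₗ[F] V} {m : F}

omit [Fintype F] [FiniteDimensional F V] in
theorem neg (h : Set2 B t m) : Set2 B t (-m) :=
  ⟨h.two, neg_ne_zero.2 h.ne, by rw [map_neg, neg_mul_neg, h.nm], fun v => by rw [h.sq, neg_mul_neg], h.iso⟩

omit [Fintype F] [FiniteDimensional F V] in
theorem ort (h : Set2 B t m) {x y : V} (hx : x ∈ ei t m) (hy : y ∈ ei t (-m)) : B x y = 0 := by
  have h1 := h.iso x y
  rw [mem_ei.1 hx, mem_ei.1 hy, smul_left', smul_right', ← mul_assoc, mul_neg, h.nm, neg_one_mul] at h1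
  have h2 : 2 * B x y = 0 := by
    rw [two_mul]
    nth_rewrite 1 [← h1]
    exact neg_add_cancel _
  exact (mul_eq_zero.1 h2).resolve_left h.two

omit [Fintype F] [FiniteDimensional F V] in
theorem isCompl (h : Set2 B t m) : IsCompl (ei t m) (ei t (-m)) := by
  have h2 := h.two
  refine ⟨?_, ?_⟩
  · rw [Submodule.disjoint_def]
    intro x hx hy
    have h3 : m • x = (-m) • x := (mem_ei.1 hx).symm.trans (mem_ei.1 hy)
    rw [neg_smul, ← sub_eq_zero, sub_neg_eq_add, ← two_smul F, smul_smul] at h3
    exact (smul_eq_zero.1 h3).resolve_left (mul_ne_zero h2 h.ne)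
  · rw [codisjoint_iff, Submodule.eq_top_iff']
    intro v
    have h3 : v = (2 : F)⁻¹ • (v + m⁻¹ • t v) + (2 : F)⁻¹ • (v - m⁻¹ • t v) := by
      rw [← smul_add]
      have : v + m⁻¹ • t v + (v - m⁻¹ • t v) = (2 : F) • v := by rw [two_smul]; abel
      rw [this, smul_smul, inv_mul_cancel₀ h2, one_smul]
    rw [h3]
    refine Submodule.add_mem_sup (Submodule.smul_mem _ _ ?_) (Submodule.smul_mem _ _ ?_)
    · rw [mem_ei, map_add, map_smul, h.sq, smul_add, smul_smul, smul_smul, ← mul_assoc, inv_mul_cancel₀ h.ne, one_mul,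
        mul_inv_cancel₀ h.ne, one_smul, add_comm]
    · rw [mem_ei, map_sub, map_smul, h.sq, smul_sub, smul_smul, smul_smul, ← mul_assoc, inv_mul_cancel₀ h.ne, one_mul,
        neg_mul, mul_inv_cancel₀ h.ne, neg_smul, neg_smul, one_smul]
      abel

omit [Fintype F] in
theorem dim (h : Set2 B t m) : finrank F (ei t m) + finrank F (ei t (-m)) = finrank F V :=
  Submodule.finrank_add_eq_of_isCompl h.isCompl

theorem pp_eq (hB : HForm B) (h : Set2 B t m) : pp B (ei t m) = ei t (-m) := by
  symm
  apply Submodule.eq_of_le_of_finrank_eq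
  · intro y hy
    rw [mem_pp]
    intro x hx
    exact hB.swap_zero (h.ort hx hy)
  · have h1 := finrank_pp hB (ei t m)
    have h2 := h.dim
    omega

omit [Fintype F] [FiniteDimensional F V] in
theorem ne_top (_ : Set2 B t m) (hs : ¬ Scal t) : ei t m ≠ ⊤ := by
  intro e
  exact hs ⟨m, fun v => by have : v ∈ ei t m := by rw [e]; exact Submodule.mem_top
                           exact this⟩

omit [Fintype F] [FiniteDimensional F V] in
theorem nd (hB : HForm B) (h : Set2 B t m) : ∀ x ∈ ei t (-m), (∀ y ∈ ei t (-m), B x y = 0) → x = 0 := by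
  intro x hx h1
  apply hB.eq_zero
  intro y
  have h2 : y ∈ ei t m ⊔ ei t (-m) := by rw [h.isCompl.sup_eq_top]; exact Submodule.mem_top
  obtain ⟨a, ha, b, hb, rfl⟩ := Submodule.mem_sup.1 h2
  rw [map_add, hB.swap_zero (h.ort ha hx), h1 b hb, add_zero]

/-- dimensions `(3, 1)` -/
theorem refl (hB : HForm B) (h : Set2 B t m) (hd : finrank F (ei t (-m)) = 1) :
    ∃ (v : V) (m : F), B v v ≠ 0 ∧ m ≠ 0 ∧ t v = -(m • v) ∧ ∀ u, B v u = 0 → t u = m • u := by
  obtain ⟨⟨v, hv⟩, hv0, h1⟩ := finrank_eq_one_iff'.1 hd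
  have hv0' : v ≠ 0 := fun e => hv0 (Subtype.ext e)
  have hs : ∀ w ∈ ei t (-m), ∃ c : F, w = c • v := fun w hw => by
    obtain ⟨c, hc⟩ := h1 ⟨w, hw⟩
    exact ⟨c, (congrArg Subtype.val hc).symm⟩
  refine ⟨v, m, ?_, h.ne, ?_, ?_⟩
  · intro e
    apply hv0'
    refine h.nd hB v hv fun y hy => ?_
    obtain ⟨c, rfl⟩ := hs y hy
    rw [smul_right', e, mul_zero]
  · rw [mem_ei.1 hv, neg_smul]
  · intro u hu
    have h2 : u ∈ pp B (ei t (-m)) := by
      rw [mem_pp]
      intro z hz
      obtain ⟨c, rfl⟩ := hs z hz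
      rw [smul_right', hB.swap_zero hu, mul_zero]
    rw [h.neg.pp_eq hB, neg_neg] at h2
    exact h2

/-- dimensions `(2, 2)` -/
theorem first (hB : HForm B) (h : Set2 B t m) (hd : finrank F (ei t (-m)) = 2) :
    ∃ (P : Submodule F V) (s : V ≃ₗ[F] V) (a : F), NP B P ∧ _root_.Cfsg.Agent.H838.IF.Neg B s P ∧ s ∈ SIso B ∧ (∀ v, t v = a • s v) := by
  have hm : m⁻¹ ≠ 0 := inv_ne_zero h.ne
  set s : V ≃ₗ[F] V := t.trans (LinearEquiv.smulOfNeZero F V m⁻¹ hm) with hsd
  have hs : ∀ v, s v = m⁻¹ • t v := fun v => rfl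
  have hts : ∀ v, t v = m • s v := fun v => by rw [hs, smul_smul, mul_inv_cancel₀ h.ne, one_smul]
  have hs1 : ∀ x ∈ ei t (-m), s x = -x := fun x hx => by
    rw [hs, mem_ei.1 hx, smul_smul, mul_neg, inv_mul_cancel₀ h.ne, neg_smul, one_smul]
  have hs2 : ∀ x ∈ ei t m, s x = x := fun x hx => by
    rw [hs, mem_ei.1 hx, smul_smul, inv_mul_cancel₀ h.ne, one_smul]
  have hnm : σ m⁻¹ * m⁻¹ = 1 := by
    rw [map_inv₀, ← mul_inv, h.nm, inv_one]
  refine ⟨ei t (-m), s, m, ⟨hd, h.nd hB⟩, ⟨hs1, ?_⟩, ⟨?_, ?_⟩, hts⟩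
  · intro u hu
    rw [h.neg.pp_eq hB, neg_neg] at hu
    exact hs2 u hu
  · -- the determinant
    have hle : ei t (-m) ≤ (ei t (-m)).comap (s : V →ₗ[F] V) := by
      intro x hx
      rw [Submodule.mem_comap]
      change s x ∈ ei t (-m)
      rw [hs1 x hx]
      exact Submodule.neg_mem _ hx
    have h1 := LinearMap.det_eq_det_mul_det (ei t (-m)) (s : V →ₗ[F] V) hle
    have h2 : (s : V →ₗ[F] V).restrict (p := ei t (-m)) (q := ei t (-m)) hle = (-1 : F) • LinearMap.id := by
      ext ⟨w, hw⟩ : 1
      apply Subtype.ext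
      change s w = (-1 : F) • w
      rw [hs1 w hw, neg_one_smul]
    have h3 : (ei t (-m)).mapQ (ei t (-m)) (s : V →ₗ[F] V) hle = LinearMap.id := by
      ext w
      change Submodule.Quotient.mk (s w) = (Submodule.Quotient.mk w : V ⧸ ei t (-m))
      rw [Submodule.Quotient.eq]
      have h4 : w ∈ ei t m ⊔ ei t (-m) := by rw [h.isCompl.sup_eq_top]; exact Submodule.mem_top
      obtain ⟨a, ha, b, hb, rfl⟩ := Submodule.mem_sup.1 h4
      rw [map_add, hs2 a ha, hs1 b hb, add_sub_add_left_eq_sub]
      exact Submodule.sub_mem _ (Submodule.neg_mem _ hb) hb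
    apply Units.ext
    rw [LinearEquiv.coe_det, h1, h2, h3, LinearMap.det_smul, LinearMap.det_id, LinearMap.det_id, hd, Units.val_one]
    ring
  · intro x y
    rw [hs, hs, smul_left', smul_right', h.iso, ← mul_assoc, hnm, one_mul]

end Set2

/-- W6a: the types of the involutions modulo scalars -/
theorem types (hB : HForm B) (hF : Fintype.card F = q ^ 2) (hV : finrank F V = 4) (hq : Odd q) {t : V ≃ₗ[F] V}
    (ht : t ∈ SIso B) (h1 : ¬ Scal t) (h2 : Scal (t * t)) :
    (∃ (P : Submodule F V) (s : V ≃ₗ[F] V) (a : F), NP B P ∧ _root_.Cfsg.Agent.H838.IF.Neg B s P ∧ s ∈ SIso B ∧ (∀ v, t v = a • s v)) ∨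
    (∃ (v : V) (m : F), B v v ≠ 0 ∧ m ≠ 0 ∧ t v = -(m • v) ∧ ∀ u, B v u = 0 → t u = m • u) ∨
    (∃ m : F, m ^ (q + 1) = -1 ∧ ∀ v, t (t v) = (m * m) • v) := by
  have hσ := sig_eq hF hB.ne_id hB.invol
  obtain ⟨z, hz⟩ := h2
  have hz : ∀ v, t (t v) = z • v := hz
  have hnt : Nontrivial V := Module.nontrivial_of_finrank_pos (R := F) (by omega)
  obtain ⟨x, hx⟩ := exists_ne (0 : V)
  obtain ⟨y, hxy⟩ := hB.exists_ne hx
  have hz1 : z ^ (q + 1) = 1 := by
    have h3 : B (t (t x)) (t (t y)) = B x y := by rw [ht.2, ht.2]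
    rw [hz, hz, smul_left', smul_right', ← mul_assoc, hσ, ← pow_succ] at h3
    exact mul_right_cancel₀ hxy (by rw [h3, one_mul])
  have hz0 : z ≠ 0 := by
    rintro rfl
    rw [zero_pow (by omega)] at hz1
    exact zero_ne_one hz1
  have hodd : Odd (Fintype.card F) := by rw [hF]; exact hq.pow
  have hchar : ringChar F ≠ 2 := by
    intro h
    have := FiniteField.even_card_iff_char_two.1 h
    rw [Nat.odd_iff] at hodd
    omega
  have h2 : (2 : F) ≠ 0 := Ring.two_ne_zero hchar
  obtain ⟨k, hk⟩ := hq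
  obtain ⟨m, hm⟩ : IsSquare z := by
    rw [FiniteField.isSquare_iff hchar hz0]
    have h3 : Fintype.card F / 2 = (q + 1) * k := by
      rw [hF, hk]
      have : (2 * k + 1) ^ 2 = 2 * ((2 * k + 1 + 1) * k) + 1 := by ring
      omega
    rw [h3, pow_mul, hz1, one_pow]
  have hm0 : m ≠ 0 := by
    rintro rfl
    exact hz0 (by rw [hm, mul_zero])
  have hm2 : m ^ (q + 1) * m ^ (q + 1) = 1 := by
    rw [← mul_pow, ← hm, hz1]
  rcases mul_self_eq_one_iff.1 hm2 with h3 | h3
  · have hS : Set2 B t m := ⟨h2, hm0, by rw [hσ, ← pow_succ, h3], fun v => by rw [hz, hm], ht.2⟩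
    have h4 := hS.dim
    rw [hV] at h4
    have h5 : finrank F (ei t m) ≠ 4 := fun e => hS.ne_top h1 (Submodule.eq_top_of_finrank_eq (by rw [e, hV]))
    have h6 : finrank F (ei t (-m)) ≠ 4 := fun e => hS.neg.ne_top h1 (Submodule.eq_top_of_finrank_eq (by rw [e, hV]))
    have h7 : finrank F (ei t (-m)) = 2 ∨ finrank F (ei t (-m)) = 1 ∨ finrank F (ei t m) = 1 := by omega
    rcases h7 with h7 | h7 | h7
    · exact Or.inl (hS.first hB h7)
    · exact Or.inr (Or.inl (hS.refl hB h7))
    · refine Or.inr (Or.inl (hS.neg.refl hB ?_))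
      rw [neg_neg]
      exact h7
  · exact Or.inr (Or.inr ⟨m, h3, fun v => by rw [hz, hm]⟩)

end

end Cfsg.Agent.H910.IF
end

-- part: H744/Pu4/Opp
section
/-!
# S5719, `PSU₄(q)`, W3d: transvections and two complementary totally isotropic planes (helper744 for helper838)
-/

set_option autoImplicit false
set_option linter.unusedSectionVars false
set_option linter.unusedVariables false

namespace Cfsg.Agent.H744.Pu4

open Module Subgroup Cfsg Cfsg.Agent.H91.U Cfsg.Agent.H450.UF Cfsg.Agent.H450.Bs Cfsg.Agent.H209.Fxy Cfsg.Agent.H838.IF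

variable {F V : Type*} [Field F] [Fintype F] [AddCommGroup V] [Module F V] [FiniteDimensional F V] {σ : F →+* F}
  {B : V →ₛₗ[σ] V →ₗ[F] F} {H : Subgroup (V ≃ₗ[F] V)} {q : ℕ}

/-- a nonzero vector of `U` is not orthogonal to `U'` -/
theorem exists_not_perp (hB : HForm B) {U U' : Submodule F V} (hU : TI B U) (hc : IsCompl U U') {x : V} (hx : x ∈ U)
    (h0 : x ≠ 0) : ∃ y ∈ U', B x y ≠ 0 := by
  by_contra hcon
  push Not at hcon
  apply h0
  apply hB.eq_zero
  intro v
  have hv : v ∈ U ⊔ U' := by
    rw [hc.sup_eq_top]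
    trivial
  obtain ⟨a, ha, b, hb, rfl⟩ := Submodule.mem_sup.1 hv
  rw [map_add, hU x hx a ha, hcon b hb, add_zero]

/-- W3d -/
theorem On.opp (hB : HForm B) (hF : Fintype.card F = q ^ 2) (hV : finrank F V = 4) (hH : H ≤ SIso B)
    {U U' : Submodule F V} (hU : TI B U) (hU' : TI B U') (h2 : finrank F U = 2) (h2' : finrank F U' = 2)
    (hc : IsCompl U U') (h : ∀ x ∈ U, ∀ y ∈ U', B x y ≠ 0 → On B H (Submodule.span F {x, y})) : On B H ⊤ := by
  intro c _ hc0 hcc
  have hcm : c ∈ U ⊔ U' := by
    rw [hc.sup_eq_top]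
    trivial
  obtain ⟨x, hx, y, hy, rfl⟩ := Submodule.mem_sup.1 hcm
  have hsp : ∀ x y : V, x ∈ Submodule.span F {x, y} := fun x y => Submodule.subset_span (Set.mem_insert _ _)
  have hsp' : ∀ x y : V, y ∈ Submodule.span F {x, y} := fun x y =>
    Submodule.subset_span (Set.mem_insert_of_mem _ rfl)
  by_cases hxy : B x y = 0
  · by_cases hy0 : y = 0
    · rw [hy0, add_zero] at hc0 hcc ⊢
      obtain ⟨y1, hy1, h1⟩ := exists_not_perp hB hU hc hx hc0
      exact h x hx y1 hy1 h1 x (hsp x y1) hc0 hcc
    by_cases hx0 : x = 0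
    · rw [hx0, zero_add] at hc0 hcc ⊢
      obtain ⟨x1, hx1, h1⟩ := exists_not_perp hB hU' hc.symm hy hc0
      have h1' : B x1 y ≠ 0 := fun e => h1 (hB.swap_zero e)
      exact h x1 hx1 y hy h1' y (hsp' x1 y) hc0 hcc
    -- the general case
    obtain ⟨z, hz, hxz⟩ := exists_not_perp hB hU hc hx hx0
    have hz0 : z ≠ 0 := by
      rintro rfl
      exact hxz (map_zero _)
    have hzz : B z z = 0 := hU' z hz z hz
    have hzx : B z x ≠ 0 := fun e => hxz (hB.swap_zero e)
    obtain ⟨l, hl0, hl⟩ := exists_trz hB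
    obtain ⟨g, hg⟩ := exists_tv hzz l
    have hgH : g ∈ H := h x hx z hz hxz z (hsp' x z) hz0 hzz l hl g hg
    have hgi : ∀ v w, B (g v) (g w) = B v w := (hH hgH).2
    have hgi' : ∀ v w, B (g⁻¹ v) (g⁻¹ w) = B v w := (hH (H.inv_mem hgH)).2
    have hgc : g (x + y) = x + ((l * B z x) • z + y) := by
      rw [hg, map_add, hU' z hz y hy, add_zero]
      abel
    have hw : (l * B z x) • z + y ∈ U' := U'.add_mem (U'.smul_mem _ hz) hy
    have hne : B x ((l * B z x) • z + y) ≠ 0 := by
      rw [map_add, hxy, add_zero, smul_right]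
      exact mul_ne_zero (mul_ne_zero hl0 hzx) hxz
    have hP : PP B H (g (x + y)) := by
      rw [hgc]
      refine h x hx _ hw hne _ ?_ ?_ ?_
      · exact Submodule.add_mem _ (hsp _ _) (hsp' _ _)
      · rw [← hgc]
        exact fun e => hc0 ((LinearEquiv.map_eq_zero_iff g).1 e)
      · rw [← hgc, hgi, hcc]
    have h3 := hP.map (H.inv_mem hgH) hgi'
    rwa [← LinearEquiv.mul_apply, inv_mul_cancel] at h3
  · exact h x hx y hy hxy _ (Submodule.add_mem _ (hsp x y) (hsp' x y)) hc0 hcc

end Cfsg.Agent.H744.Pu4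
end

-- part: H744/Pu4/Lev
section
/-!
# S5719, `PSU₄(q)`: the Levi subgroup `SL₂(q²)` of the stabilizer of two opposite totally isotropic planes
(helper744 for helper838)

* `Fr B u f` : `u 0, u 1` and `f 0, f 1` are dual bases of totally isotropic planes;
* `lev h : SL(2, F) →* GL(V)` : `M` on `<u>`, `M⁻¹ᵀ` (twisted by `σ`) on `<f>`.
-/

set_option autoImplicit false
set_option linter.unusedSectionVars false
set_option linter.unusedVariables false

namespace Cfsg.Agent.H744.Pu4

open Module Subgroup Cfsg Cfsg.Agent.H91.U Cfsg.Agent.H450.UF Cfsg.Agent.H450.Bs Cfsg.Agent.H209.Fxy Cfsg.Agent.H838.IF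

variable {F V : Type*} [Field F] [Fintype F] [AddCommGroup V] [Module F V] [FiniteDimensional F V] {σ : F →+* F}
  {B : V →ₛₗ[σ] V →ₗ[F] F} {H : Subgroup (V ≃ₗ[F] V)} {q : ℕ}

variable (B) in
/-- dual bases of two totally isotropic planes -/
structure Fr (u f : Fin 2 → V) : Prop where
  uu : ∀ i j, B (u i) (u j) = 0
  ff : ∀ i j, B (f i) (f j) = 0
  uf : ∀ i j, B (u i) (f j) = if i = j then 1 else 0

variable {u f : Fin 2 → V}

theorem Fr.fu (h : Fr B u f) (hB : HForm B) (i j : Fin 2) : B (f i) (u j) = if i = j then 1 else 0 := by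
  rw [sw hB (u j) (f i), h.uf]
  by_cases e : i = j
  · rw [if_pos e, if_pos e.symm, map_one]
  · rw [if_neg e, if_neg (fun e' => e e'.symm), map_zero]

theorem Fr.li (h : Fr B u f) (hB : HForm B) : LinearIndependent F (Sum.elim u f) := by
  rw [Fintype.linearIndependent_iff]
  intro c hc
  rw [Fintype.sum_sum_type] at hc
  simp only [Sum.elim_inl, Sum.elim_inr] at hc
  rintro (i | i)
  · have h1 := congrArg (B (f i)) hc
    rw [map_add, map_sum, map_sum, map_zero] at h1
    simp only [smul_right, h.fu hB, h.ff, mul_zero, Finset.sum_const_zero, add_zero, mul_ite, mul_one,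
      Finset.sum_ite_eq, Finset.mem_univ, if_true] at h1
    exact h1
  · have h1 := congrArg (B (u i)) hc
    rw [map_add, map_sum, map_sum, map_zero] at h1
    simp only [smul_right, h.uf, h.uu, mul_zero, Finset.sum_const_zero, zero_add, mul_ite, mul_one,
      Finset.sum_ite_eq, Finset.mem_univ, if_true] at h1
    exact h1

/-- the basis -/
noncomputable def Fr.b (h : Fr B u f) (hB : HForm B) (hV : finrank F V = 4) : Basis (Fin 2 ⊕ Fin 2) F V :=
  basisOfLinearIndependentOfCardEqFinrank (h.li hB) (by rw [hV]; rfl)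

theorem Fr.b_inl (h : Fr B u f) (hB : HForm B) (hV : finrank F V = 4) (i : Fin 2) : h.b hB hV (Sum.inl i) = u i := by
  rw [Fr.b, coe_basisOfLinearIndependentOfCardEqFinrank]
  rfl

theorem Fr.b_inr (h : Fr B u f) (hB : HForm B) (hV : finrank F V = 4) (i : Fin 2) : h.b hB hV (Sum.inr i) = f i := by
  rw [Fr.b, coe_basisOfLinearIndependentOfCardEqFinrank]
  rfl

/-- two linear maps which agree on the frame are equal -/
theorem Fr.ext (h : Fr B u f) (hB : HForm B) (hV : finrank F V = 4) {g g' : V →ₗ[F] V} (h1 : ∀ i, g (u i) = g' (u i))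
    (h2 : ∀ i, g (f i) = g' (f i)) : g = g' := by
  refine (h.b hB hV).ext ?_
  rintro (i | i)
  · rw [h.b_inl, h1]
  · rw [h.b_inr, h2]

/-- the block matrix -/
def blk (σ : F →+* F) (M : Matrix.SpecialLinearGroup (Fin 2) F) : Matrix (Fin 2 ⊕ Fin 2) (Fin 2 ⊕ Fin 2) F :=
  Matrix.fromBlocks M.1 0 0 ((M⁻¹).1.transpose.map σ)

theorem blk_one : blk σ 1 = 1 := by
  unfold blk
  rw [inv_one, Matrix.SpecialLinearGroup.coe_one, Matrix.transpose_one, Matrix.map_one _ (map_zero _) (map_one _),
    Matrix.fromBlocks_one]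

theorem blk_mul (M N : Matrix.SpecialLinearGroup (Fin 2) F) : blk σ (M * N) = blk σ M * blk σ N := by
  unfold blk
  rw [Matrix.fromBlocks_multiply, Matrix.SpecialLinearGroup.coe_mul, mul_inv_rev, Matrix.SpecialLinearGroup.coe_mul,
    Matrix.transpose_mul, Matrix.map_mul]
  simp only [_root_.Matrix.SpecialLinearGroup.coe_inv, _root_.MulZeroClass.mul_zero, _root_.add_zero, _root_.MulZeroClass.zero_mul, _root_.zero_add]

theorem det_blk (M : Matrix.SpecialLinearGroup (Fin 2) F) : (blk σ M).det = 1 := by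
  unfold blk
  rw [Matrix.det_fromBlocks_zero₂₁, M.2, one_mul]
  have h1 : ((M⁻¹).1.transpose.map σ).det = σ ((M⁻¹).1.transpose.det) := (RingHom.map_det σ _).symm
  rw [h1, Matrix.det_transpose, (M⁻¹).2, map_one]

/-- the monoid homomorphism -/
def blkHom (σ : F →+* F) : Matrix.SpecialLinearGroup (Fin 2) F →* Matrix (Fin 2 ⊕ Fin 2) (Fin 2 ⊕ Fin 2) F where
  toFun := blk σ
  map_one' := blk_one
  map_mul' := blk_mul

/-- the Levi subgroup -/
noncomputable def Fr.lev (h : Fr B u f) (hB : HForm B) (hV : finrank F V = 4) :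
    Matrix.SpecialLinearGroup (Fin 2) F →* (V ≃ₗ[F] V) :=
  (LinearMap.GeneralLinearGroup.generalLinearEquiv F V).toMonoidHom.comp
    (MonoidHom.toHomUnits (((Matrix.toLinAlgEquiv (h.b hB hV)).toAlgHom : _ →* (V →ₗ[F] V)).comp (blkHom σ)))

theorem Fr.lev_coe (h : Fr B u f) (hB : HForm B) (hV : finrank F V = 4) (M : Matrix.SpecialLinearGroup (Fin 2) F) :
    ((h.lev hB hV M : V ≃ₗ[F] V) : V →ₗ[F] V) = Matrix.toLin (h.b hB hV) (h.b hB hV) (blk σ M) := rfl

theorem Fr.lev_u (h : Fr B u f) (hB : HForm B) (hV : finrank F V = 4) (M : Matrix.SpecialLinearGroup (Fin 2) F)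
    (j : Fin 2) : h.lev hB hV M (u j) = M.1 0 j • u 0 + M.1 1 j • u 1 := by
  have h1 : h.lev hB hV M (u j) = Matrix.toLin (h.b hB hV) (h.b hB hV) (blk σ M) (h.b hB hV (Sum.inl j)) := by
    rw [h.b_inl]
    rfl
  rw [h1, Matrix.toLin_self, Fintype.sum_sum_type, Fin.sum_univ_two, Fin.sum_univ_two]
  simp only [h.b_inl, h.b_inr, blk, Matrix.fromBlocks_apply₁₁, Matrix.fromBlocks_apply₂₁, Matrix.zero_apply, zero_smul,
    add_zero]

theorem Fr.lev_f (h : Fr B u f) (hB : HForm B) (hV : finrank F V = 4) (M : Matrix.SpecialLinearGroup (Fin 2) F)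
    (j : Fin 2) : h.lev hB hV M (f j) = σ ((M⁻¹).1 j 0) • f 0 + σ ((M⁻¹).1 j 1) • f 1 := by
  have h1 : h.lev hB hV M (f j) = Matrix.toLin (h.b hB hV) (h.b hB hV) (blk σ M) (h.b hB hV (Sum.inr j)) := by
    rw [h.b_inr]
    rfl
  rw [h1, Matrix.toLin_self, Fintype.sum_sum_type, Fin.sum_univ_two, Fin.sum_univ_two]
  simp only [h.b_inl, h.b_inr, blk, Matrix.fromBlocks_apply₁₂, Matrix.fromBlocks_apply₂₂, Matrix.zero_apply, zero_smul,
    zero_add, Matrix.map_apply, Matrix.transpose_apply]

theorem Fr.lev_det (h : Fr B u f) (hB : HForm B) (hV : finrank F V = 4) (M : Matrix.SpecialLinearGroup (Fin 2) F) :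
    LinearMap.det ((h.lev hB hV M : V ≃ₗ[F] V) : V →ₗ[F] V) = 1 := by
  rw [h.lev_coe, LinearMap.det_toLin, det_blk]

/-- isometries are detected on the frame -/
theorem Fr.isom (h : Fr B u f) (hB : HForm B) (hV : finrank F V = 4) {g : V ≃ₗ[F] V}
    (h1 : ∀ i j, B (g (u i)) (g (u j)) = 0) (h2 : ∀ i j, B (g (f i)) (g (f j)) = 0)
    (h3 : ∀ i j, B (g (u i)) (g (f j)) = if i = j then 1 else 0) (x y : V) : B (g x) (g y) = B x y := by
  let C : V →ₛₗ[σ] V →ₗ[F] F := (B.comp (g : V →ₗ[F] V)).compl₂ (g : V →ₗ[F] V)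
  have hC : C = B := by
    refine LinearMap.ext_basis (h.b hB hV) (h.b hB hV) ?_
    rintro (i | i) (j | j)
    · rw [h.b_inl, h.b_inl, h.uu]
      exact h1 i j
    · rw [h.b_inl, h.b_inr, h.uf]
      exact h3 i j
    · rw [h.b_inl, h.b_inr, h.fu hB]
      change B (g (f i)) (g (u j)) = _
      rw [sw hB (g (u j)), h3]
      by_cases e : i = j
      · rw [if_pos e, if_pos e.symm, map_one]
      · rw [if_neg e, if_neg (fun e' => e e'.symm), map_zero]
    · rw [h.b_inr, h.b_inr, h.ff]
      exact h2 i j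
  exact congrArg (fun D : V →ₛₗ[σ] V →ₗ[F] F => D x y) hC

theorem Fr.lev_mem (h : Fr B u f) (hB : HForm B) (hV : finrank F V = 4) (M : Matrix.SpecialLinearGroup (Fin 2) F) :
    h.lev hB hV M ∈ SIso B := by
  refine mem_SIso_of (h.isom hB hV (fun i j => ?_) (fun i j => ?_) fun i j => ?_) (h.lev_det hB hV M)
  · rw [h.lev_u, h.lev_u]
    simp only [map_add, LinearMap.add_apply, smul_left, smul_right, h.uu, mul_zero, add_zero]
  · rw [h.lev_f, h.lev_f]
    simp only [map_add, LinearMap.add_apply, smul_left, smul_right, h.ff, mul_zero, add_zero]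
  · rw [h.lev_u, h.lev_f]
    have h1 : (M⁻¹).1 * M.1 = 1 := by
      rw [← Matrix.SpecialLinearGroup.coe_mul, inv_mul_cancel, Matrix.SpecialLinearGroup.coe_one]
    have h2 := congrFun (congrFun h1 j) i
    rw [Matrix.mul_apply, Fin.sum_univ_two, Matrix.one_apply] at h2
    have h3 : B (M.1 0 i • u 0 + M.1 1 i • u 1) (σ ((M⁻¹).1 j 0) • f 0 + σ ((M⁻¹).1 j 1) • f 1) =
        σ ((M⁻¹).1 j 0 * M.1 0 i + (M⁻¹).1 j 1 * M.1 1 i) := by
      simp only [map_add, LinearMap.add_apply, smul_left, smul_right, h.uf, map_mul]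
      simp only [_root_.Fin.isValue, _root_.Matrix.SpecialLinearGroup.coe_inv, ↓ _root_.reduceIte, _root_.mul_one, _root_.one_ne_zero, _root_.MulZeroClass.mul_zero, _root_.add_zero, _root_.zero_ne_one, _root_.zero_add]
    rw [h3, h2]
    by_cases e : i = j
    · rw [if_pos e, if_pos e.symm, map_one]
    · rw [if_neg e, if_neg (fun e' => e e'.symm), map_zero]

end Cfsg.Agent.H744.Pu4
end

-- part: H744/Pu4/Second
section
/-!
# S5719, `PSU₄(q)`, W4: no involutions of the second type (helper744 for helper838)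
-/

set_option autoImplicit false
set_option linter.unusedSectionVars false
set_option linter.unusedVariables false

namespace Cfsg.Agent.H744.Pu4

open Module Subgroup Cfsg Cfsg.Agent.H91.U Cfsg.Agent.H450.UF Cfsg.Agent.H450.Bs Cfsg.Agent.H209.Fxy Cfsg.Agent.H838.IF

variable {F V : Type*} [Field F] [Fintype F] [AddCommGroup V] [Module F V] [FiniteDimensional F V] {σ : F →+* F}
  {B : V →ₛₗ[σ] V →ₗ[F] F} {H : Subgroup (V ≃ₗ[F] V)} {q : ℕ} {u f : Fin 2 → V}

theorem two_ne (hF : Fintype.card F = q ^ 2) (hq : Odd q) : (2 : F) ≠ 0 := by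
  intro h2
  have : CharP F 2 := CharTwo.of_one_ne_zero_of_two_eq_zero one_ne_zero h2
  obtain ⟨n, hn⟩ := FiniteField.card F 2
  have h1 : Odd (Fintype.card F) := by
    rw [hF]
    exact hq.pow
  rw [hn.2] at h1
  exact absurd h1 (Nat.not_odd_iff_even.2 ((even_iff_two_dvd).2 (dvd_pow_self 2 n.ne_zero)))

theorem Fr.u_ne (h : Fr B u f) (i : Fin 2) : u i ≠ 0 := by
  intro e
  have h1 := h.uf i i
  rw [e, map_zero, LinearMap.zero_apply, if_pos rfl] at h1
  exact zero_ne_one h1

theorem Fr.f_ne (h : Fr B u f) (i : Fin 2) : f i ≠ 0 := by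
  intro e
  have h1 := h.uf i i
  rw [e, map_zero, if_pos rfl] at h1
  exact zero_ne_one h1

/-- the centre of `SL(2, F)` acts as scalars -/
theorem Fr.lev_center (h : Fr B u f) (hB : HForm B) (hV : finrank F V = 4) {M : Matrix.SpecialLinearGroup (Fin 2) F}
    (hM : M ∈ center (Matrix.SpecialLinearGroup (Fin 2) F)) : Scal (h.lev hB hV M) := by
  obtain ⟨r, hr, he⟩ := Matrix.SpecialLinearGroup.mem_center_iff.1 hM
  rw [Fintype.card_fin] at hr
  have hr' : r = 1 ∨ r = -1 := by
    have h1 : (r - 1) * (r + 1) = 0 := by linear_combination hr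
    rcases mul_eq_zero.1 h1 with h2 | h2
    · exact Or.inl (sub_eq_zero.1 h2)
    · exact Or.inr (eq_neg_of_add_eq_zero_left h2)
  have hsr : σ r = r := by
    rcases hr' with rfl | rfl
    · rw [map_one]
    · rw [map_neg, map_one]
  have hMM : M * M = 1 := by
    apply Subtype.ext
    rw [Matrix.SpecialLinearGroup.coe_mul, ← he, ← map_mul, ← sq, hr, map_one, Matrix.SpecialLinearGroup.coe_one]
  have hMi : M⁻¹ = M := inv_eq_of_mul_eq_one_left hMM
  refine ⟨r, fun v => ?_⟩
  have h1 : ((h.lev hB hV M : V ≃ₗ[F] V) : V →ₗ[F] V) = r • LinearMap.id := by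
    refine h.ext hB hV (fun i => ?_) fun i => ?_
    · change h.lev hB hV M (u i) = r • u i
      rw [h.lev_u, ← he]
      (revert i; simp only [_root_.Fin.forall_fin_succ, Fin.isValue, _root_.Matrix.scalar_apply, _root_.Matrix.diagonal_apply_eq, _root_.ne_eq, _root_.one_ne_zero, _root_.not_false_eq_true, _root_.Matrix.diagonal_apply_ne, _root_.zero_smul, _root_.add_zero, _root_.Fin.succ_zero_eq_one, _root_.zero_ne_one, _root_.zero_add, _root_.IsEmpty.forall_iff, _root_.and_self])
    · change h.lev hB hV M (f i) = r • f i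
      rw [h.lev_f, hMi, ← he]
      fin_cases i <;> simp [hsr]
  exact congrArg (fun g : V →ₗ[F] V => g v) h1

theorem num (h5 : 5 ≤ q) : ((q + 1) * (q ^ 3 + 1)) ^ 2 < (q ^ 2 + 1) ^ 5 := by
  have h1 : (q + 1) ^ 2 ≤ 2 * (q ^ 2 + 1) := by linarith only [sq_nonneg ((q : ℤ) - 1)]
  have h2 : (q ^ 3 + 1) ^ 2 ≤ (q ^ 2 + 1) ^ 3 := by
    have h3 : 2 * q ^ 3 ≤ 3 * q ^ 4 := by
      have : 1 * q ^ 3 ≤ q * q ^ 3 := Nat.mul_le_mul_right _ (by omega)
      nlinarith only [this, _root_.sq_nonneg (↑q : ℤ)]
    linarith only [h5, h1, h3]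
  calc ((q + 1) * (q ^ 3 + 1)) ^ 2 = (q + 1) ^ 2 * (q ^ 3 + 1) ^ 2 := mul_pow _ _ _
    _ ≤ (2 * (q ^ 2 + 1)) * (q ^ 2 + 1) ^ 3 := Nat.mul_le_mul h1 h2
    _ = 2 * (q ^ 2 + 1) ^ 4 := by ring
    _ < (q ^ 2 + 1) * (q ^ 2 + 1) ^ 4 := Nat.mul_lt_mul_of_pos_right (by linarith only [h5, h1]) (by positivity)
    _ = (q ^ 2 + 1) ^ 5 := by ring

/-- the Levi subgroup is contained in `H` -/
theorem Fr.lev_le (h : Fr B u f) (hB : HForm B) (hF : Fintype.card F = q ^ 2) (hV : finrank F V = 4) (hq : Odd q)
    (h5 : 5 ≤ q) (hH : Pk B H) {t : V ≃ₗ[F] V} (ht : t ∈ H) {m : F} (hm0 : m ≠ 0) (htu : ∀ i, t (u i) = m • u i)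
    (htf : ∀ i, t (f i) = -(m • f i)) (hcls : cls B t ≤ ((q + 1) * (q ^ 3 + 1)) ^ 2)
    (M : Matrix.SpecialLinearGroup (Fin 2) F) : h.lev hB hV M ∈ H := by
  have h2 := two_ne hF hq
  have hns : ¬ Scal t := by
    rintro ⟨a, ha⟩
    have h3 : m = a := by
      have h4 := (htu 0).symm.trans (ha (u 0))
      have h6 : (m - a) • u 0 = 0 := by rw [sub_smul, h4, sub_self]
      exact sub_eq_zero.1 ((smul_eq_zero.1 h6).resolve_right (h.u_ne 0))
    have h4 : -m = a := by
      have h4 := (htf 0).symm.trans (ha (f 0))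
      have h6 : (-m - a) • f 0 = 0 := by rw [sub_smul, ← h4, neg_smul, sub_self]
      exact sub_eq_zero.1 ((smul_eq_zero.1 h6).resolve_right (h.f_ne 0))
    apply hm0
    have h6 : 2 * m = 0 := by linear_combination h3 - h4
    exact (mul_eq_zero.1 h6).resolve_left h2
  have hs : Scal (t * t) := by
    refine ⟨m * m, fun v => ?_⟩
    have h1 : ((t * t : V ≃ₗ[F] V) : V →ₗ[F] V) = (m * m) • LinearMap.id := by
      refine h.ext hB hV (fun i => ?_) fun i => ?_
      · change t (t (u i)) = (m * m) • u i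
        rw [htu, map_smul, htu, smul_smul]
      · change t (t (f i)) = (m * m) • f i
        rw [htf, map_neg, map_smul, htf, smul_neg, neg_neg, smul_smul]
    exact congrArg (fun g : V →ₗ[F] V => g v) h1
  have hK : ∀ k ∈ (h.lev hB hV).range, Comm k t := by
    rintro _ ⟨M, rfl⟩
    refine ⟨1, fun v => ?_⟩
    have h1 : ((h.lev hB hV M * t : V ≃ₗ[F] V) : V →ₗ[F] V) = ((t * h.lev hB hV M : V ≃ₗ[F] V) : V →ₗ[F] V) := by
      refine h.ext hB hV (fun i => ?_) fun i => ?_
      · change h.lev hB hV M (t (u i)) = t (h.lev hB hV M (u i))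
        rw [htu, map_smul, h.lev_u, map_add, map_smul, map_smul, htu, htu, smul_add, smul_comm m, smul_comm m]
      · change h.lev hB hV M (t (f i)) = t (h.lev hB hV M (f i))
        rw [htf, map_neg, map_smul, h.lev_f, map_add, map_smul, map_smul, htf, htf, smul_add, smul_comm m, smul_comm m,
          smul_neg, smul_neg, neg_add]
    rw [one_smul]
    exact congrArg (fun g : V →ₗ[F] V => g v) h1
  have he2 := hH.e2 t ht hns hs (h.lev hB hV).range (by
    rintro _ ⟨M, rfl⟩
    exact h.lev_mem hB hV M) hK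
  rw [← Subgroup.index_comap] at he2
  have hlt : (H.comap (h.lev hB hV)).index < q ^ 2 + 1 := by
    by_contra hcon
    push Not at hcon
    have h1 := Nat.pow_le_pow_left hcon 5
    have h3 := num h5
    omega
  -- the image in `PSL(2, F)`
  have hcard : 25 ≤ q ^ 2 := by nlinarith only [h5]
  have htop : (H.comap (h.lev hB hV)).map
      (QuotientGroup.mk' (center (Matrix.SpecialLinearGroup (Fin 2) F))) = ⊤ := by
    by_contra hcon
    have h1 := (Cfsg.Agent.S0806.result (F := F) (q := q ^ 2) hF (by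
      intro hmem
      simp only [Finset.mem_insert, Finset.mem_singleton] at hmem
      omega)).1 _ hcon
    have h3 := Nat.le_of_dvd (Nat.pos_of_ne_zero Subgroup.index_ne_zero_of_finite)
      ((H.comap (h.lev hB hV)).index_map_dvd
        (QuotientGroup.mk'_surjective (center (Matrix.SpecialLinearGroup (Fin 2) F))))
    omega
  have hM : (QuotientGroup.mk' (center (Matrix.SpecialLinearGroup (Fin 2) F))) M ∈
      (H.comap (h.lev hB hV)).map (QuotientGroup.mk' (center (Matrix.SpecialLinearGroup (Fin 2) F))) := by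
    rw [htop]
    trivial
  obtain ⟨N, hN, hNM⟩ := hM
  have h3 : N⁻¹ * M ∈ center (Matrix.SpecialLinearGroup (Fin 2) F) := QuotientGroup.eq.1 hNM
  have h4 := hH.sc _ (h.lev_mem hB hV (N⁻¹ * M)) (h.lev_center hB hV h3)
  have h6 : h.lev hB hV M = h.lev hB hV N * h.lev hB hV (N⁻¹ * M) := by
    rw [← map_mul, mul_inv_cancel_left]
  rw [h6]
  exact H.mul_mem hN h4

/-- a frame contained in two given totally isotropic planes -/
theorem exists_fr (hB : HForm B) (hV : finrank F V = 4) {U U' : Submodule F V} (hU : TI B U) (hU' : TI B U')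
    (h2 : finrank F U = 2) (h2' : finrank F U' = 2) (hc : IsCompl U U') {x y : V} (hx : x ∈ U) (hy : y ∈ U')
    (hxy : B x y ≠ 0) : ∃ u f : Fin 2 → V, Fr B u f ∧ (∀ i, u i ∈ U) ∧ (∀ i, f i ∈ U') ∧ u 0 = x ∧
      f 0 = (B x y)⁻¹ • y := by
  have hyx : B y x ≠ 0 := fun e => hxy (hB.swap_zero e)
  -- a vector of `U` orthogonal to `y`
  have key : ∀ {W : Submodule F V} (z : V), finrank F W = 2 → ∃ w ∈ W, w ≠ 0 ∧ B z w = 0 := by
    intro W z hW
    have h1 := LinearMap.finrank_range_add_finrank_ker ((B z).comp W.subtype)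
    have h3 : finrank F (LinearMap.range ((B z).comp W.subtype)) ≤ 1 :=
      (Submodule.finrank_le _).trans (by rw [finrank_self])
    have h4 : 0 < finrank F (LinearMap.ker ((B z).comp W.subtype)) := by omega
    have : Nontrivial (LinearMap.ker ((B z).comp W.subtype)) := Module.nontrivial_of_finrank_pos (R := F) h4
    obtain ⟨w, hw⟩ := exists_ne (0 : LinearMap.ker ((B z).comp W.subtype))
    refine ⟨(w : W), (w : W).2, fun e => hw (Subtype.ext (Subtype.ext e)), ?_⟩
    exact LinearMap.mem_ker.1 w.2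
  obtain ⟨a, ha, ha0, hya⟩ := key y h2
  obtain ⟨b, hb, hb0, hxb⟩ := key x h2'
  have hay := hB.swap_zero hya
  have hbx := hB.swap_zero hxb
  have hab : B a b ≠ 0 := by
    intro e
    -- `b` is orthogonal to `U'` and to `x`, `a`
    have hli : LinearIndependent F ![x, a] := by
      have hx0 : x ≠ 0 := by
        rintro rfl
        rw [map_zero, LinearMap.zero_apply] at hxy
        exact hxy rfl
      rw [LinearIndependent.pair_iff]
      intro s r hsr
      have h3 := congrArg (B y) hsr
      rw [map_add, smul_right, smul_right, hya, mul_zero, add_zero, map_zero] at h3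
      have hs : s = 0 := (mul_eq_zero.1 h3).resolve_right hyx
      rw [hs, zero_smul, zero_add] at hsr
      exact ⟨hs, (smul_eq_zero.1 hsr).resolve_right ha0⟩
    have hsp : Submodule.span F (Set.range ![x, a]) = U := by
      apply Submodule.eq_of_le_of_finrank_eq
      · rw [Submodule.span_le]
        rintro _ ⟨i, rfl⟩
        fin_cases i
        · exact hx
        · exact ha
      · rw [finrank_span_eq_card hli, h2]
        rfl
    have hperp : ∀ z ∈ U, B b z = 0 := by
      intro z hz
      rw [← hsp] at hz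
      have h3 : Submodule.span F (Set.range ![x, a]) ≤ LinearMap.ker (B b) := by
        rw [Submodule.span_le]
        rintro _ ⟨i, rfl⟩
        fin_cases i
        · exact hbx
        · exact hB.swap_zero e
      exact h3 hz
    obtain ⟨z, hz, hbz⟩ := exists_not_perp hB hU' hc.symm hb hb0
    exact hbz (hperp z hz)
  have hab' : B b a ≠ 0 := fun e => hab (hB.swap_zero e)
  refine ⟨![x, a], ![(B x y)⁻¹ • y, (B a b)⁻¹ • b], ⟨?_, ?_, ?_⟩, ?_, ?_, rfl, rfl⟩
  · intro i j
    fin_cases i <;> fin_cases j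
    · exact hU x hx x hx
    · exact hU x hx a ha
    · exact hU a ha x hx
    · exact hU a ha a ha
  · have h3 : (B x y)⁻¹ • y ∈ U' := U'.smul_mem _ hy
    have h4 : (B a b)⁻¹ • b ∈ U' := U'.smul_mem _ hb
    intro i j
    fin_cases i <;> fin_cases j
    · exact hU' _ h3 _ h3
    · exact hU' _ h3 _ h4
    · exact hU' _ h4 _ h3
    · exact hU' _ h4 _ h4
  · intro i j
    fin_cases i <;> fin_cases j
    · change B x ((B x y)⁻¹ • y) = 1
      rw [smul_right, inv_mul_cancel₀ hxy]
    · change B x ((B a b)⁻¹ • b) = 0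
      rw [smul_right, hxb, mul_zero]
    · change B a ((B x y)⁻¹ • y) = 0
      rw [smul_right, hay, mul_zero]
    · change B a ((B a b)⁻¹ • b) = 1
      rw [smul_right, inv_mul_cancel₀ hab]
  · intro i
    fin_cases i
    · exact hx
    · exact ha
  · intro i
    fin_cases i
    · exact U'.smul_mem _ hy
    · exact U'.smul_mem _ hb

theorem np_span (hB : HForm B) {x y : V} (hxx : B x x = 0) (hyy : B y y = 0) (hxy : B x y ≠ 0) :
    NP B (Submodule.span F {x, y}) := by
  have hyx : B y x ≠ 0 := fun e => hxy (hB.swap_zero e)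
  have hli := li_of_not_perp hxx hxy
  have hr : Set.range ![x, y] = {x, y} := by
    rw [Matrix.range_cons, Matrix.range_cons, Matrix.range_empty, Set.union_empty]
    rfl
  refine ⟨?_, ?_⟩
  · have h1 := finrank_span_eq_card hli
    rw [hr, Fintype.card_fin] at h1
    exact h1
  · intro z hz h
    obtain ⟨a, b, rfl⟩ := Submodule.mem_span_pair.1 hz
    have h1 := h x (Submodule.subset_span (Set.mem_insert _ _))
    have h2 := h y (Submodule.subset_span (Set.mem_insert_of_mem _ rfl))
    rw [map_add, LinearMap.add_apply, smul_left, smul_left, hxx, mul_zero, zero_add, mul_eq_zero] at h1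
    rw [map_add, LinearMap.add_apply, smul_left, smul_left, hyy, mul_zero, add_zero, mul_eq_zero] at h2
    have hb : b = 0 := (map_eq_zero σ).1 (h1.resolve_right hyx)
    have ha : a = 0 := (map_eq_zero σ).1 (h2.resolve_right hxy)
    rw [ha, hb, zero_smul, zero_smul, add_zero]

/-- all transvections with centre in `<u 0, f 0>` are in `H` -/
theorem Fr.on (h : Fr B u f) (hB : HForm B) (hV : finrank F V = 4) (hH : Pk B H) (hC : StepC B H) {t : V ≃ₗ[F] V}
    (ht : t ∈ H) {m : F} (hm2 : m * m = -1) (hm : σ m * m = -1) (htu : ∀ i, t (u i) = m • u i)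
    (htf : ∀ i, t (f i) = -(m • f i)) (hL : ∀ M, h.lev hB hV M ∈ H) : On B H (Submodule.span F {u 0, f 0}) := by
  have h01 : (0 : Fin 2) ≠ 1 := by decide
  let M : Matrix.SpecialLinearGroup (Fin 2) F := ⟨!![m, 0; 0, -m], by
    rw [Matrix.det_fin_two_of]
    linear_combination -hm2⟩
  have hMi : (M⁻¹).1 = !![-m, 0; 0, m] := by
    rw [Matrix.SpecialLinearGroup.coe_inv]
    change (!![m, 0; 0, -m] : Matrix (Fin 2) (Fin 2) F).adjugate = _
    rw [Matrix.adjugate_fin_two_of, neg_zero]
  let N : Matrix.SpecialLinearGroup (Fin 2) F := ⟨!![0, -1; 1, 0], by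
    rw [Matrix.det_fin_two_of]
    ring⟩
  have hNi : (N⁻¹).1 = !![0, 1; -1, 0] := by
    rw [Matrix.SpecialLinearGroup.coe_inv]
    change (!![0, -1; 1, 0] : Matrix (Fin 2) (Fin 2) F).adjugate = _
    rw [Matrix.adjugate_fin_two_of, neg_neg]
  -- the involution
  have hg0 : h.lev hB hV M (u 0) = m • u 0 := by
    rw [h.lev_u]
    change m • u 0 + (0 : F) • u 1 = _
    rw [zero_smul, add_zero]
  have hg1 : h.lev hB hV M (u 1) = (-m) • u 1 := by
    rw [h.lev_u]
    change (0 : F) • u 0 + (-m) • u 1 = _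
    rw [zero_smul, zero_add]
  have hg2 : h.lev hB hV M (f 0) = σ (-m) • f 0 := by
    rw [h.lev_f, hMi]
    change σ (-m) • f 0 + σ 0 • f 1 = _
    rw [map_zero, zero_smul, add_zero]
  have hg3 : h.lev hB hV M (f 1) = σ m • f 1 := by
    rw [h.lev_f, hMi]
    change σ 0 • f 0 + σ m • f 1 = _
    rw [map_zero, zero_smul, zero_add]
  set P : Submodule F V := Submodule.span F {u 0, f 0} with hP
  have hNeg : _root_.Cfsg.Agent.H838.IF.Neg B (t * h.lev hB hV M) P := by
    refine ⟨fun x hx => ?_, fun x hx => ?_⟩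
    · obtain ⟨a, b, rfl⟩ := Submodule.mem_span_pair.1 hx
      rw [LinearEquiv.mul_apply, map_add, map_smul, map_smul, hg0, hg2, map_add, map_smul, map_smul, map_smul,
        map_smul, htu, htf, smul_neg, smul_smul m m, hm2, smul_smul (σ (-m)) m, map_neg, neg_mul, hm]
      module
    · have h1 : B x (u 0) = 0 := hx _ (Submodule.subset_span (Set.mem_insert _ _))
      have h2 : B x (f 0) = 0 := hx _ (Submodule.subset_span (Set.mem_insert_of_mem _ rfl))
      have h3 := (h.b hB hV).sum_repr x
      rw [Fintype.sum_sum_type, Fin.sum_univ_two, Fin.sum_univ_two, h.b_inl, h.b_inl, h.b_inr, h.b_inr] at h3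
      set a := (h.b hB hV).repr x (Sum.inl 0)
      set b := (h.b hB hV).repr x (Sum.inl 1)
      set c := (h.b hB hV).repr x (Sum.inr 0)
      set d := (h.b hB hV).repr x (Sum.inr 1)
      have ha : a = 0 := by
        have h4 := hB.swap_zero h2
        rw [← h3] at h4
        simp only [map_add, smul_right, h.fu hB, h.ff, mul_zero, add_zero, if_true, if_neg h01, mul_one] at h4
        exact h4
      have hc' : c = 0 := by
        have h4 := hB.swap_zero h1
        rw [← h3] at h4
        simp only [map_add, smul_right, h.uf, h.uu, mul_zero, add_zero, zero_add, if_true, if_neg h01, mul_one] at h4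
        exact h4
      rw [ha, hc', zero_smul, zero_smul, zero_add, zero_add] at h3
      rw [← h3, LinearEquiv.mul_apply, map_add, map_smul, map_smul, hg1, hg3, map_add, map_smul, map_smul, map_smul,
        map_smul, htu, htf, smul_neg, smul_smul (-m) m, neg_mul, hm2, neg_neg, one_smul, smul_smul (σ m) m, hm,
        neg_smul, neg_neg, one_smul]
  have hNP : NP B P := np_span hB (h.uu 0 0) (h.ff 0 0) (by rw [h.uf, if_pos rfl]; exact one_ne_zero)
  rcases hC P _ hNP hNeg (H.mul_mem ht (hL M)) with h1 | h1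
  · exact h1
  · intro c hc hc0 hcc
    have hw0 : h.lev hB hV N (u 0) = u 1 := by
      rw [h.lev_u]
      change (0 : F) • u 0 + (1 : F) • u 1 = _
      rw [zero_smul, zero_add, one_smul]
    have hw1 : h.lev hB hV N (f 0) = f 1 := by
      rw [h.lev_f, hNi]
      change σ 0 • f 0 + σ 1 • f 1 = _
      rw [map_zero, zero_smul, zero_add, map_one, one_smul]
    have hi : ∀ v w, B (h.lev hB hV N v) (h.lev hB hV N w) = B v w := (h.lev_mem hB hV N).2
    have hi' : ∀ v w, B ((h.lev hB hV N)⁻¹ v) ((h.lev hB hV N)⁻¹ w) = B v w :=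
      ((SIso B).inv_mem (h.lev_mem hB hV N)).2
    have h2 : PP B H (h.lev hB hV N c) := by
      refine h1 _ ?_ (fun e => hc0 ((LinearEquiv.map_eq_zero_iff _).1 e)) (by rw [hi, hcc])
      rw [hP, mem_pp_span]
      obtain ⟨a, b, rfl⟩ := Submodule.mem_span_pair.1 hc
      rintro z (rfl | rfl)
      · rw [map_add, map_smul, map_smul, hw0, hw1, map_add, LinearMap.add_apply, smul_left, smul_left, h.uu, h.fu hB,
          if_neg h01.symm, mul_zero, mul_zero, add_zero]
      · rw [map_add, map_smul, map_smul, hw0, hw1, map_add, LinearMap.add_apply, smul_left, smul_left, h.ff, h.uf,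
          if_neg h01.symm, mul_zero, mul_zero, add_zero]
    have h3 := h2.map (H.inv_mem (hL N)) hi'
    rwa [← LinearEquiv.mul_apply, inv_mul_cancel] at h3

/-- W4, with the bound W1c as a hypothesis -/
theorem no_second_of (hB : HForm B) (hF : Fintype.card F = q ^ 2) (hV : finrank F V = 4) (hq : Odd q) (h5 : 5 ≤ q)
    (hH : Pk B H) (hC : StepC B H) {t : V ≃ₗ[F] V} (ht : t ∈ H) {m : F} (hm : m ^ (q + 1) = -1)
    (htt : ∀ v, t (t v) = (m * m) • v)
    (hcls : ∀ {U U' : Submodule F V}, TI B U → TI B U' → finrank F U = 2 → finrank F U' = 2 → IsCompl U U' →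
      (∀ u ∈ U, t u = m • u) → (∀ u ∈ U', t u = (-m) • u) → cls B t ≤ ((q + 1) * (q ^ 3 + 1)) ^ 2) : False := by
  have h2 := two_ne hF hq
  have hm0 : m ≠ 0 := by
    rintro rfl
    rw [zero_pow (by omega)] at hm
    exact neg_ne_zero.2 one_ne_zero hm.symm
  have hsm : σ m * m = -1 := by
    rw [sig_eq hF hB.ne_id hB.invol, ← pow_succ, hm]
  have hi : ∀ v w, B (t v) (t w) = B v w := (hH.le ht).2
  have hTI : ∀ c : F, σ c * c = -1 → TI B (Module.End.eigenspace (t : V →ₗ[F] V) c) := by
    intro c hc x hx y hy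
    rw [Module.End.mem_eigenspace_iff] at hx hy
    have h3 := hi x y
    rw [show t x = c • x from hx, show t y = c • y from hy, smul_left, smul_right, ← mul_assoc, hc] at h3
    have h4 : 2 * B x y = 0 := by linear_combination -h3
    exact (mul_eq_zero.1 h4).resolve_left h2
  set U := Module.End.eigenspace (t : V →ₗ[F] V) m with hUd
  set U' := Module.End.eigenspace (t : V →ₗ[F] V) (-m) with hUd'
  have hU : TI B U := hTI m hsm
  have hU' : TI B U' := hTI (-m) (by rw [map_neg, neg_mul_neg, hsm])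
  have hmU : ∀ x ∈ U, t x = m • x := fun x hx => Module.End.mem_eigenspace_iff.1 hx
  have hmU' : ∀ x ∈ U', t x = (-m) • x := fun x hx => Module.End.mem_eigenspace_iff.1 hx
  have hc : IsCompl U U' := by
    refine ⟨?_, ?_⟩
    · rw [Submodule.disjoint_def]
      intro x hx hx'
      have h3 : (2 * m) • x = 0 := by
        have h4 := (hmU x hx).symm.trans (hmU' x hx')
        rw [two_mul, add_smul]
        nth_rewrite 1 [h4]
        rw [neg_smul, neg_add_cancel]
      exact (smul_eq_zero.1 h3).resolve_left (mul_ne_zero h2 hm0)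
    · rw [codisjoint_iff, eq_top_iff]
      intro x _
      have h3 : x = (2 : F)⁻¹ • (x + m⁻¹ • t x) + (2 : F)⁻¹ • (x - m⁻¹ • t x) := by
        rw [← smul_add, add_add_sub_cancel, ← two_smul F x, smul_smul, inv_mul_cancel₀ h2, one_smul]
      rw [h3]
      refine Submodule.add_mem_sup (U.smul_mem _ ?_) (U'.smul_mem _ ?_)
      · refine Module.End.mem_eigenspace_iff.2 ?_
        change t (x + m⁻¹ • t x) = m • (x + m⁻¹ • t x)
        rw [map_add, map_smul, htt, smul_smul, inv_mul_cancel_left₀ hm0, smul_add, smul_smul, mul_inv_cancel₀ hm0,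
          one_smul, add_comm]
      · refine Module.End.mem_eigenspace_iff.2 ?_
        change t (x - m⁻¹ • t x) = (-m) • (x - m⁻¹ • t x)
        rw [map_sub, map_smul, htt, smul_smul, inv_mul_cancel_left₀ hm0, smul_sub, smul_smul, neg_mul,
          mul_inv_cancel₀ hm0, neg_smul, neg_smul, one_smul]
        abel
  have hd := Submodule.finrank_add_eq_of_isCompl hc
  have hd1 := ti_two_mul_le hB hU
  have hd2 := ti_two_mul_le hB hU'
  rw [hV] at hd hd1 hd2
  have hdU : finrank F U = 2 := by omega
  have hdU' : finrank F U' = 2 := by omega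
  have hcl := hcls hU hU' hdU hdU' hc hmU hmU'
  have hfr : ∀ x ∈ U, ∀ y ∈ U', B x y ≠ 0 → ∃ u f : Fin 2 → V, Fr B u f ∧ (∀ i, t (u i) = m • u i) ∧
      (∀ i, t (f i) = -(m • f i)) ∧ u 0 = x ∧ f 0 = (B x y)⁻¹ • y := by
    intro x hx y hy hxy
    obtain ⟨u, f, h1, h3, h4, h5, h6⟩ := exists_fr hB hV hU hU' hdU hdU' hc hx hy hxy
    exact ⟨u, f, h1, fun i => hmU _ (h3 i), fun i => by rw [hmU' _ (h4 i), neg_smul], h5, h6⟩
  -- `m ^ 2 = -1`
  have hm2 : m * m = -1 := by
    have : Nontrivial U := Module.nontrivial_of_finrank_pos (R := F) (by omega)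
    obtain ⟨x, hx0⟩ := exists_ne (0 : U)
    obtain ⟨y, hy, hxy⟩ := exists_not_perp hB hU hc x.2 (fun e => hx0 (Subtype.ext e))
    obtain ⟨u, f, h, htu, htf, -, -⟩ := hfr x x.2 y hy hxy
    have h3 : (t : V →ₗ[F] V) = Matrix.toLin (h.b hB hV) (h.b hB hV)
        (Matrix.diagonal (Sum.elim (fun _ => m) (fun _ => -m))) := by
      refine (h.b hB hV).ext ?_
      intro i
      rw [Matrix.toLin_self, Finset.sum_eq_single i (fun j _ hj => by
        rw [Matrix.diagonal_apply_ne _ hj, zero_smul]) (fun hi => absurd (Finset.mem_univ i) hi),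
        Matrix.diagonal_apply_eq]
      rcases i with i | i
      · rw [h.b_inl]
        exact htu i
      · rw [h.b_inr]
        exact (htf i).trans (neg_smul _ _).symm
    have h4 : LinearMap.det (t : V →ₗ[F] V) = 1 := by
      rw [← LinearEquiv.coe_det, (hH.le ht).1, Units.val_one]
    rw [h3, LinearMap.det_toLin, Matrix.det_diagonal, Fintype.prod_sum_type, Fin.prod_univ_two,
      Fin.prod_univ_two] at h4
    simp only [Sum.elim_inl, Sum.elim_inr] at h4
    have h6 : (m * m - 1) * (m * m + 1) = 0 := by linear_combination h4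
    rcases mul_eq_zero.1 h6 with h7 | h7
    · exfalso
      obtain ⟨r, hr⟩ := hq
      have h8 : m ^ (q + 1) = (m * m) ^ (r + 1) := by
        rw [hr, ← sq, ← pow_mul]
        congr 1
      rw [sub_eq_zero.1 h7, one_pow, hm] at h8
      apply h2
      linear_combination -h8
    · exact eq_neg_of_add_eq_zero_left h7
  have hopp : On B H ⊤ := by
    refine On.opp hB hF hV hH.le hU hU' hdU hdU' hc fun x hx y hy hxy => ?_
    obtain ⟨u, f, h, htu, htf, hu0, hf0⟩ := hfr x hx y hy hxy
    have h3 := h.on hB hV hH hC ht hm2 hsm htu htf (h.lev_le hB hF hV hq h5 hH ht hm0 htu htf hcl)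
    have h4 : Submodule.span F {x, y} ≤ Submodule.span F {u 0, f 0} := by
      rw [Submodule.span_le]
      rintro z (rfl | rfl)
      · rw [hu0]
        exact Submodule.subset_span (Set.mem_insert _ _)
      · have h6 : z = (B x z) • f 0 := by
          rw [hf0, smul_smul, mul_inv_cancel₀ hxy, one_smul]
        rw [h6]
        exact Submodule.smul_mem _ _ (Submodule.subset_span (Set.mem_insert_of_mem _ rfl))
    exact fun c hc' => h3 c (h4 hc')
  exact hH.ne (gen hB (by omega) fun c hc0 hcc => hopp c trivial hc0 hcc)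

end Cfsg.Agent.H744.Pu4
end

-- part: H744/Pu4/Main
section
/-!
# S5719, `PSU₄(q)`, W4 (helper744 for helper838)
-/

set_option autoImplicit false

namespace Cfsg.Agent.H744.Pu4

open Module Subgroup Cfsg Cfsg.Agent.H91.U Cfsg.Agent.H450.UF Cfsg.Agent.H450.Bs Cfsg.Agent.H209.Fxy Cfsg.Agent.H838.IF

variable {F V : Type*} [Field F] [Fintype F] [AddCommGroup V] [Module F V] [FiniteDimensional F V] {σ : F →+* F}
  {B : V →ₛₗ[σ] V →ₗ[F] F} {H : Subgroup (V ≃ₗ[F] V)} {q : ℕ}

/-- W4: the second type -/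
theorem no_second (hB : HForm B) (hF : Fintype.card F = q ^ 2) (hV : finrank F V = 4) (hq : Odd q) (h5 : 5 ≤ q)
    (hH : Pk B H) (hC : StepC B H) {t : V ≃ₗ[F] V} (ht : t ∈ H) {m : F} (hm : m ^ (q + 1) = -1)
    (htt : ∀ v, t (t v) = (m * m) • v) : False :=
  no_second_of hB hF hV hq h5 hH hC ht hm htt fun hU hU' h2 h2' hc h1 h1' =>
    Cfsg.Agent.H411.IFU.cls_ti hB hF hV hU hU' h2 h2' hc h1 h1'

end Cfsg.Agent.H744.Pu4
end

-- part: H838/IF/Both
section
/-!
# S5719, `PSU_4(q)`, W6b and W6c (helper838): no two commuting involutions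
-/

set_option autoImplicit false
set_option linter.unusedSectionVars false

namespace Cfsg.Agent.H838.IF

open Module Subgroup Cfsg Cfsg.Agent.H91.U Cfsg.Agent.H450.UF Cfsg.Agent.H450.Bs Cfsg.Agent.H209.Fxy
open Cfsg.Agent.ClassicalGeometry.HermWitt (trace_surj norm_surj)

section

variable {F V : Type*} [Field F] [AddCommGroup V] [Module F V] [FiniteDimensional F V] {σ : F →+* F}
  {B : V →ₛₗ[σ] V →ₗ[F] F} {H : Subgroup (V ≃ₗ[F] V)} {q : ℕ}

/-- expansion in four orthonormal vectors -/
theorem expand (hV : finrank F V = 4) {e : Fin 4 → V}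
    (he : ∀ i j, B (e i) (e j) = if i = j then 1 else 0) (w : V) : w = ∑ i, B (e i) w • e i := by
  have hli : LinearIndependent F e := by
    rw [Fintype.linearIndependent_iff]
    intro c h i
    have h1 := congrArg (B (e i)) h
    rw [map_sum, map_zero] at h1
    rw [← h1, Finset.sum_eq_single i]
    · rw [smul_right, he, if_pos rfl, mul_one]
    · intro j _ hj
      rw [smul_right, he, if_neg (Ne.symm hj), mul_zero]
    · intro h2
      exact absurd (Finset.mem_univ _) h2
  let b : Basis (Fin 4) F V := basisOfLinearIndependentOfCardEqFinrank hli (by rw [Fintype.card_fin, hV])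
  have hb : ∀ i, b i = e i := fun i => by
    change (basisOfLinearIndependentOfCardEqFinrank hli _) i = e i
    rw [coe_basisOfLinearIndependentOfCardEqFinrank]
  have h1 : ∀ i, b.repr w i = B (e i) w := by
    intro i
    conv_rhs => rw [← b.sum_repr w]
    rw [map_sum, Finset.sum_eq_single i]
    · rw [smul_right, hb, he, if_pos rfl, mul_one]
    · intro j _ hj
      rw [smul_right, hb, he, if_neg (Ne.symm hj), mul_zero]
    · intro h2
      exact absurd (Finset.mem_univ _) h2
  conv_lhs => rw [← b.sum_repr w]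
  exact Finset.sum_congr rfl fun i _ => by rw [h1, hb]

/-- two planes which share exactly one basis vector -/
theorem adj [Fintype F] (hB : HForm B) (hF : Fintype.card F = q ^ 2) (hV : finrank F V = 4) (hq : Odd q) (h5 : 5 ≤ q)
    (hH : Pk B H) {e : Fin 4 → V} (he : ∀ i j, B (e i) (e j) = if i = j then 1 else 0)
    (h1 : On B H (Submodule.span F {e 0, e 1})) (h2 : On B H (Submodule.span F {e 0, e 2})) : False := by
  let e' : Fin 3 → V := ![e 0, e 1, e 2]
  have he' : ∀ i j, B (e' i) (e' j) = if i = j then 1 else 0 := by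
    intro i j
    (revert i j; simp only [e', he, _root_.Fin.forall_fin_succ, Fin.isValue, _root_.Matrix.cons_val_zero, _root_.Matrix.cons_val_succ, _root_.Fin.succ_zero_eq_one, _root_.Matrix.cons_val_fin_one, _root_.Fin.succ_one_eq_two, _root_.IsEmpty.forall_iff, _root_.and_true, ↓reduceIte, _root_.zero_ne_one, Fin.reduceEq, _root_.and_self, _root_.Fin.succ_ne_zero, _root_.one_ne_zero, _root_.right_eq_ite_iff, _root_.imp_false, _root_.left_eq_ite_iff, _root_.Decidable.not_not, _root_.true_and, _root_.not_false_eq_true])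
  have h3 := Cfsg.Agent.H248.UF.On.three hB hF hH.le he' h1 h2
  refine Cfsg.Agent.H811.PU4.no_three hB hF hV hq h5 hH (v := e 3) (by rw [he, if_pos rfl]; exact one_ne_zero) ?_
  intro c hc hc0 hcc
  refine h3 c ?_ hc0 hcc
  rw [expand hV he c, Fin.sum_univ_four, hc, zero_smul, add_zero]
  refine add_mem (add_mem ?_ ?_) ?_ <;> refine Submodule.smul_mem _ _ (Submodule.subset_span ?_)
  · exact ⟨0, rfl⟩
  · exact ⟨1, rfl⟩
  · exact ⟨2, rfl⟩

/-- the same with four vectors -/
theorem adj' [Fintype F] (hB : HForm B) (hF : Fintype.card F = q ^ 2) (hV : finrank F V = 4) (hq : Odd q) (h5 : 5 ≤ q)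
    (hH : Pk B H) {a b c d : V} (haa : B a a = 1) (hbb : B b b = 1) (hcc : B c c = 1) (hdd : B d d = 1)
    (hab : B a b = 0) (hac : B a c = 0) (had : B a d = 0) (hbc : B b c = 0) (hbd : B b d = 0) (hcd : B c d = 0)
    {P Q : Submodule F V} (haP : a ∈ P) (hbP : b ∈ P) (haQ : a ∈ Q) (hcQ : c ∈ Q) (h1 : On B H P) (h2 : On B H Q) :
    False := by
  have hba := hB.swap_zero hab
  have hca := hB.swap_zero hac
  have hda := hB.swap_zero had
  have hcb := hB.swap_zero hbc
  have hdb := hB.swap_zero hbd
  have hdc := hB.swap_zero hcd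
  refine adj hB hF hV hq h5 hH (e := ![a, b, c, d]) ?_ ?_ ?_
  · intro i j
    (revert i j; simp only [haa, hbb, hcc, hdd, hab, hac, had, hbc, hbd, hcd, hba, hca, hda, hcb, hdb, hdc, _root_.Fin.forall_fin_succ, Fin.isValue, _root_.Matrix.cons_val_zero, _root_.Matrix.cons_val_succ, _root_.Fin.succ_zero_eq_one, _root_.Fin.succ_one_eq_two, _root_.Matrix.cons_val_fin_one, Fin.reduceSucc, _root_.IsEmpty.forall_iff, _root_.and_true, ↓reduceIte, _root_.zero_ne_one, Fin.reduceEq, _root_.and_self, _root_.Fin.succ_ne_zero, _root_.right_eq_ite_iff, _root_.imp_false, _root_.left_eq_ite_iff, _root_.one_ne_zero, _root_.Decidable.not_not, _root_.true_and, _root_.not_false_eq_true])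
  · intro x hx
    refine h1 x ((Submodule.span_le.2 ?_) hx)
    rintro y (rfl | rfl)
    · exact haP
    · exact hbP
  · intro x hx
    refine h2 x ((Submodule.span_le.2 ?_) hx)
    rintro y (rfl | rfl)
    · exact haQ
    · exact hcQ

theorem decp [Finite F] (hB : HForm B) {P : Submodule F V} (hP : NP B P) (v : V) :
    ∃ a ∈ P, ∃ u ∈ pp B P, v = a + u := by
  obtain ⟨a, ha, u, hu, hv⟩ := exists_decomp hB hP.nd v
  exact ⟨a, ha, u, mem_pp.2 fun z hz => hB.swap_zero (hu z hz), hv⟩

theorem neg_mem_of [Finite F] (h2 : (2 : F) ≠ 0) (hB : HForm B) {P : Submodule F V} (hP : NP B P) {t : V ≃ₗ[F] V} (ht : Neg B t P)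
    {v : V} (hv : t v = -v) : v ∈ P := by
  obtain ⟨a, ha, u, hu, rfl⟩ := decp hB hP v
  rw [map_add, ht.1 a ha, ht.2 u hu] at hv
  have h1 : (2 : F) • u = 0 := by
    rw [two_smul]
    have h3 : -a + u + (a + u) = 0 := by rw [hv, neg_add_cancel]
    calc u + u = -a + u + (a + u) := by abel
      _ = 0 := h3
  rw [(smul_eq_zero.1 h1).resolve_left h2, add_zero]
  exact ha

theorem pos_mem_of [Finite F] (h2 : (2 : F) ≠ 0) (hB : HForm B) {P : Submodule F V} (hP : NP B P) {t : V ≃ₗ[F] V} (ht : Neg B t P)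
    {v : V} (hv : t v = v) : v ∈ pp B P := by
  obtain ⟨a, ha, u, hu, rfl⟩ := decp hB hP v
  rw [map_add, ht.1 a ha, ht.2 u hu] at hv
  have h1 : (2 : F) • a = 0 := by
    rw [two_smul]
    have h3 : a + u - (-a + u) = 0 := by rw [hv, sub_self]
    calc a + a = a + u - (-a + u) := by abel
      _ = 0 := h3
  rw [(smul_eq_zero.1 h1).resolve_left h2, zero_add]
  exact hu

theorem neg_sq [Finite F] (hB : HForm B) {P : Submodule F V} (hP : NP B P) {t : V ≃ₗ[F] V} (ht : Neg B t P) (v : V) :
    t (t v) = v := by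
  obtain ⟨a, ha, u, hu, rfl⟩ := decp hB hP v
  rw [map_add, ht.1 a ha, ht.2 u hu, map_add, map_neg, ht.1 a ha, ht.2 u hu, neg_neg]

theorem norm_one [Finite F] (hB : HForm B) {x : V} (hx : B x x ≠ 0) : ∃ a : F, a ≠ 0 ∧ B (a • x) (a • x) = 1 := by
  obtain ⟨c, hc0, hc⟩ := norm_surj σ hB.ne_id hB.invol (B x x)⁻¹ (by rw [map_inv₀, self_fix hB x]) (inv_ne_zero hx)
  refine ⟨c, hc0, ?_⟩
  rw [smul_right, smul_left, ← mul_assoc, hc, inv_mul_cancel₀ hx]

/-- the common eigenvectors in `P` -/
theorem exists_eig [Finite F] (h2 : (2 : F) ≠ 0) (hB : HForm B) (hV : finrank F V = 4) {P Q : Submodule F V} (hP : NP B P) (hQ : NP B Q)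
    {t : V ≃ₗ[F] V} (ht : Neg B t Q) (htP : ∀ x ∈ P, t x ∈ P) (hPQ : P ≠ Q) (hPQ' : P ≠ pp B Q) :
    ∃ x ∈ P, ∃ x' ∈ P, x ∈ Q ∧ x' ∈ pp B Q ∧ B x x = 1 ∧ B x' x' = 1 ∧ B x x' = 0 := by
  have hQp := np_pp hB hV hQ
  obtain ⟨x, hxP, hxQ, hx0⟩ : ∃ x ∈ P, x ∈ Q ∧ x ≠ 0 := by
    by_contra hcon
    push Not at hcon
    apply hPQ'
    refine Submodule.eq_of_le_of_finrank_eq (fun x hx => pos_mem_of h2 hB hQ ht ?_) (by rw [hP.dim, hQp.dim])
    have h3 : x - t x ∈ Q := neg_mem_of h2 hB hQ ht (by rw [map_sub, neg_sq hB hQ ht]; abel)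
    have h4 := hcon _ (sub_mem hx (htP x hx)) h3
    exact (sub_eq_zero.1 h4).symm
  obtain ⟨x', hxP', hxQ', hx0'⟩ : ∃ x ∈ P, x ∈ pp B Q ∧ x ≠ 0 := by
    by_contra hcon
    push Not at hcon
    apply hPQ
    refine Submodule.eq_of_le_of_finrank_eq (fun x hx => neg_mem_of h2 hB hQ ht ?_) (by rw [hP.dim, hQ.dim])
    have h3 : x + t x ∈ pp B Q := pos_mem_of h2 hB hQ ht (by rw [map_add, neg_sq hB hQ ht]; abel)
    have h4 := hcon _ (add_mem hx (htP x hx)) h3
    exact (neg_eq_of_add_eq_zero_right h4).symm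
  have hxx' : B x x' = 0 := hB.swap_zero (mem_pp.1 hxQ' x hxQ)
  have hsc : ∀ a : F, x' ≠ a • x := by
    intro a ha
    have h3 : x' = 0 := hQ.nd x' (by rw [ha]; exact Q.smul_mem _ hxQ) fun y hy => mem_pp.1 hxQ' y hy
    exact hx0' h3
  have hsc' : ∀ a : F, x ≠ a • x' := by
    intro a ha
    have h3 : x = 0 := hQ.nd x hxQ fun y hy => by
      rw [ha, smul_left, mem_pp.1 hxQ' y hy, mul_zero]
    exact hx0 h3
  have hn : B x x ≠ 0 := fun h0 => by
    obtain ⟨a, ha⟩ := np_scalar hB hP hxP hx0 h0 hxP' hxx'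
    exact hsc a ha
  have hn' : B x' x' ≠ 0 := fun h0 => by
    obtain ⟨a, ha⟩ := np_scalar hB hP hxP' hx0' h0 hxP (hB.swap_zero hxx')
    exact hsc' a ha
  obtain ⟨a, -, ha⟩ := norm_one hB hn
  obtain ⟨a', -, ha'⟩ := norm_one hB hn'
  refine ⟨a • x, P.smul_mem _ hxP, a' • x', P.smul_mem _ hxP', Q.smul_mem _ hxQ, (pp B Q).smul_mem _ hxQ', ha, ha', ?_⟩
  rw [smul_right, smul_left, hxx', mul_zero, mul_zero]

/-- commuting involutions of the first type -/
theorem cross [Fintype F] (hB : HForm B) (hF : Fintype.card F = q ^ 2) (hV : finrank F V = 4) (hq : Odd q) (h5 : 5 ≤ q)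
    (h2 : (2 : F) ≠ 0) (hH : Pk B H) (hC : StepC B H) {P Q : Submodule F V} (hP : NP B P) (hQ : NP B Q)
    {s t : V ≃ₗ[F] V} (hs : Neg B s P) (ht : Neg B t Q) (hsH : s ∈ H) (htH : t ∈ H) (hPQ : P ≠ Q)
    (hPQ' : P ≠ pp B Q) (hc : ∀ v, s (t v) = t (s v)) : False := by
  have hPp := np_pp hB hV hP
  have hQp := np_pp hB hV hQ
  have hpe : ∀ {X Y : Submodule F V}, NP B X → NP B Y → X = pp B Y → pp B X = Y := by
    intro X Y hX hY h
    refine (Submodule.eq_of_le_of_finrank_eq (fun y hy => ?_) (by rw [hY.dim, (np_pp hB hV hX).dim])).symm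
    rw [h, mem_pp]
    intro z hz
    exact hB.swap_zero (mem_pp.1 hz y hy)
  obtain ⟨x, hxP, x', hxP', hxQ, hxQ', hx, hx', hxx'⟩ := exists_eig h2 hB hV hP hQ ht
    (fun x hx => neg_mem_of h2 hB hP hs (by rw [hc, hs.1 x hx, map_neg])) hPQ hPQ'
  obtain ⟨y, hyP, y', hyP', hyQ, hyQ', hy, hy', hyy'⟩ := exists_eig h2 hB hV hPp hQ ht
    (fun x hx => pos_mem_of h2 hB hP hs (by rw [hc, hs.2 x hx]))
    (fun h => hPQ' (hpe hQ hP h.symm).symm) (fun h => by
      apply hPQ
      have h3 := hpe hPp hQ h
      rw [← h3]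
      exact (hpe hPp hP rfl).symm)
  have hxy : B x y = 0 := hB.swap_zero (mem_pp.1 hyP x hxP)
  have hxy' : B x y' = 0 := hB.swap_zero (mem_pp.1 hyP' x hxP)
  have hx'y : B x' y = 0 := hB.swap_zero (mem_pp.1 hyP x' hxP')
  have hx'y' : B x' y' = 0 := hB.swap_zero (mem_pp.1 hyP' x' hxP')
  rcases hC P s hP hs hsH with h3 | h3 <;> rcases hC Q t hQ ht htH with h4 | h4
  · exact adj' hB hF hV hq h5 hH hx hx' hy hy' hxx' hxy hxy' hx'y hx'y' hyy' hxP hxP' hxQ hyQ h3 h4
  · exact adj' hB hF hV hq h5 hH hx' hx hy' hy (hB.swap_zero hxx') hx'y' hx'y hxy' hxy (hB.swap_zero hyy')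
      hxP' hxP hxQ' hyQ' h3 h4
  · exact adj' hB hF hV hq h5 hH hy hy' hx hx' hyy' (hB.swap_zero hxy) (hB.swap_zero hx'y) (hB.swap_zero hxy')
      (hB.swap_zero hx'y') hxx' hyP hyP' hyQ hxQ h3 h4
  · exact adj' hB hF hV hq h5 hH hy' hy hx' hx (hB.swap_zero hyy') (hB.swap_zero hx'y') (hB.swap_zero hxy')
      (hB.swap_zero hx'y) (hB.swap_zero hxy) (hB.swap_zero hxx') hyP' hyP hyQ' hxQ' h3 h4

/-- an element of square `-1` on `P` -/
theorem exists_jP (hB : HForm B) [Finite F] {P : Submodule F V} (hP : NP B P) (hO : On B H P) :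
    ∃ j ∈ H, (∀ x ∈ P, j x ∈ P ∧ j (j x) = -x) ∧ (∀ u ∈ pp B P, j u = u) ∧ ∃ e ∈ P, B e e = 0 ∧ B e (j e) ≠ 0 := by
  obtain ⟨e, he, f, hf, hee, hff, hef⟩ := _root_.Cfsg.Agent.H450.Bs.exists_hyp hB hP.nd hP.dim.ge
  obtain ⟨l, m, g1, g2, hl, hm, hg1, hg2, hm0, hlm, hwe, hwf, hwu⟩ := exists_w hB hee hff hef
  have hfe : B f e = 1 := by rw [sw hB e f, hef, map_one]
  have he0 : e ≠ 0 := by
    rintro rfl
    rw [map_zero, LinearMap.zero_apply] at hef
    exact zero_ne_one hef
  have hf0 : f ≠ 0 := by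
    rintro rfl
    rw [map_zero] at hef
    exact zero_ne_one hef
  have hg1H : g1 ∈ H := hO e he he0 hee l hl g1 hg1
  have hg2H : g2 ∈ H := hO f hf hf0 hff m hm g2 hg2
  refine ⟨g1 * g2 * g1, mul_mem (mul_mem hg1H hg2H) hg1H, ?_, ?_, e, he, hee, ?_⟩
  · intro x hx
    have h1 := np_basis hB hP he hf hee hff hef hx
    have h3 : (g1 * g2 * g1) x = (B f x * m) • f + (B e x * l) • e := by
      conv_lhs => rw [h1]
      rw [map_add, map_smul, map_smul, hwe, hwf, smul_smul, smul_smul]
    refine ⟨?_, ?_⟩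
    · rw [h3]
      exact add_mem (P.smul_mem _ hf) (P.smul_mem _ he)
    · rw [h3, map_add, map_smul, map_smul, hwe, hwf, smul_smul, smul_smul]
      conv_rhs => rw [h1]
      rw [mul_assoc, mul_assoc, mul_comm m l, hlm, mul_neg_one, mul_neg_one, neg_smul, neg_smul, neg_add, add_comm]
  · intro u hu
    exact hwu u (hB.swap_zero (mem_pp.1 hu e he) |> fun h => by simpa using h) (by
      exact hB.swap_zero (mem_pp.1 hu f hf))
  · rw [hwe, smul_right, hef, mul_one]
    exact hm0

/-- **W6b** -/
theorem no_both [Fintype F] (hB : HForm B) (hF : Fintype.card F = q ^ 2) (hV : finrank F V = 4) (hq : Odd q)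
    (h5 : 5 ≤ q) (h2 : (2 : F) ≠ 0) (hH : Pk B H) (hC : StepC B H) {P : Submodule F V} (hP : NP B P)
    (h1 : On B H P) (h1' : On B H (pp B P)) : False := by
  have hPp := np_pp hB hV hP
  obtain ⟨j1, hj1, hj1P, hj1u, e, he, hee, hej⟩ := exists_jP hB hP h1
  obtain ⟨j2, hj2, hj2P, hj2u, -⟩ := exists_jP hB hPp h1'
  have hj2u : ∀ u ∈ P, j2 u = u := fun u hu => hj2u u (mem_pp.2 fun z hz => hB.swap_zero (mem_pp.1 hz u hu))
  obtain ⟨j, hj⟩ : ∃ j, j = j1 * j2 := ⟨_, rfl⟩
  have hjH : j ∈ H := by rw [hj]; exact mul_mem hj1 hj2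
  have hjP : ∀ x ∈ P, j x = j1 x := fun x hx => by rw [hj, LinearEquiv.mul_apply, hj2u x hx]
  have hjQ : ∀ x ∈ pp B P, j x = j2 x := fun x hx => by rw [hj, LinearEquiv.mul_apply, hj1u _ (hj2P x hx).1]
  have hjj : ∀ v, j (j v) = (-1 : F) • v := by
    intro v
    obtain ⟨a, ha, u, hu, rfl⟩ := decp hB hP v
    rw [map_add, hjP a ha, hjQ u hu, map_add, hjP _ (hj1P a ha).1, hjQ _ (hj2P u hu).1, (hj1P a ha).2, (hj2P u hu).2,
      neg_one_smul, neg_add]
  have hs : Neg B (j1 * j1) P := by
    refine ⟨fun x hx => ?_, fun u hu => ?_⟩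
    · rw [LinearEquiv.mul_apply, (hj1P x hx).2]
    · rw [LinearEquiv.mul_apply, hj1u u hu, hj1u u hu]
  have hjs : ∀ v, (j1 * j1) (j v) = j ((j1 * j1) v) := by
    intro v
    obtain ⟨a, ha, u, hu, rfl⟩ := decp hB hP v
    rw [map_add, map_add, map_add, map_add, hs.1 a ha, hs.2 u hu, hjP a ha, hjQ u hu, hs.1 _ (hj1P a ha).1,
      hs.2 _ (hj2P u hu).1, map_neg, hjP a ha]
  have hns : ∀ a : F, (∀ x ∈ P, j x = a • x) → False := by
    intro a ha
    apply hej
    rw [← hjP e he, ha e he, smul_right, hee, mul_zero]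
  rcases Cfsg.Agent.H910.IF.types hB hF hV hq (hH.le hjH) (fun ⟨a, ha⟩ => hns a fun x _ => ha x)
    ⟨-1, fun v => by rw [LinearEquiv.mul_apply, hjj]⟩ with ⟨Q, t, a, hQ, ht, htS, hta⟩ | ⟨v, m, hv, hm, h3, h4⟩ | ⟨m, hm, h3⟩
  · have ha0 : a ≠ 0 := by
      rintro rfl
      apply hns 0
      intro x _
      rw [hta]
      rw [zero_smul, zero_smul]
    have htH : t ∈ H := by
      have h6 : j * t⁻¹ ∈ H := hH.sc _ (mul_mem (hH.le hjH) (inv_mem htS)) ⟨a, fun v => by
        rw [LinearEquiv.mul_apply, hta]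
        congr 1
        rw [← LinearEquiv.mul_apply, mul_inv_cancel]
        rfl⟩
      have h7 : t = (j * t⁻¹)⁻¹ * j := by group
      rw [h7]
      exact mul_mem (inv_mem h6) hjH
    refine cross hB hF hV hq h5 h2 hH hC hP hQ hs ht (mul_mem hj1 hj1) htH ?_ ?_ ?_
    · rintro rfl
      apply hns (-a)
      intro x hx
      rw [hta, ht.1 x hx, smul_neg, neg_smul]
    · intro h6
      apply hns a
      intro x hx
      rw [hta, ht.2 x (by rw [← h6]; exact hx)]
    · intro v
      have h6 := hjs v
      rw [hta, hta, map_smul] at h6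
      exact smul_right_injective V ha0 h6
  · exact Cfsg.Agent.H811.PU4.no_refl hB hF hV hq h5 hH hjH hv hm h3 h4
  · exact Cfsg.Agent.H744.Pu4.no_second hB hF hV hq h5 hH hC hjH hm h3

/-- **W6c** -/
theorem no_comm [Fintype F] (hB : HForm B) (hF : Fintype.card F = q ^ 2) (hV : finrank F V = 4) (hq : Odd q)
    (h5 : 5 ≤ q) (hH : Pk B H) (hC : StepC B H) {P Q : Submodule F V} (hP : NP B P) (hQ : NP B Q)
    {s t : V ≃ₗ[F] V} (hs : Neg B s P) (ht : Neg B t Q) (hsH : s ∈ H) (htH : t ∈ H) (hPQ : P ≠ Q)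
    (hPQ' : P ≠ pp B Q) (hc : Comm s t) : False := by
  have h2 : (2 : F) ≠ 0 := Cfsg.Agent.H811.PU4.two_ne hF hq
  obtain ⟨a, ha⟩ := hc
  have hs2 := neg_sq hB hP hs
  have ht2 := neg_sq hB hQ ht
  have haa : a * a = 1 := by
    obtain ⟨e, he, f, hf, hee, hff, hef⟩ := _root_.Cfsg.Agent.H450.Bs.exists_hyp hB hP.nd hP.dim.ge
    have he0 : e ≠ 0 := by
      rintro rfl
      rw [map_zero, LinearMap.zero_apply] at hef
      exact zero_ne_one hef
    have h3 : s (s (t e)) = (a * a) • t (s (s e)) := by
      rw [ha, map_smul, ha, smul_smul]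
    rw [hs2, hs2] at h3
    have h4 : t e ≠ 0 := (LinearEquiv.map_ne_zero_iff t).2 he0
    have h5 : (a * a - 1) • t e = 0 := by rw [sub_smul, one_smul, ← h3, sub_self]
    exact sub_eq_zero.1 ((smul_eq_zero.1 h5).resolve_right h4)
  rcases mul_self_eq_one_iff.1 haa with rfl | rfl
  · exact cross hB hF hV hq h5 h2 hH hC hP hQ hs ht hsH htH hPQ hPQ' fun v => by rw [ha, one_smul]
  · have hQp := np_pp hB hV hQ
    have h3 : ∀ v ∈ Q, s v ∈ pp B Q := by
      intro v hv
      apply pos_mem_of h2 hB hQ ht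
      have h4 := ha v
      rw [ht.1 v hv, map_neg, neg_one_smul, neg_inj] at h4
      exact h4.symm
    have h3' : ∀ v ∈ pp B Q, s v ∈ Q := by
      intro v hv
      apply neg_mem_of h2 hB hQ ht
      have h4 := ha v
      rw [ht.2 v hv, neg_one_smul] at h4
      exact (neg_eq_iff_eq_neg.2 h4).symm
    have hi : ∀ h ∈ H, ∀ x y, B (h x) (h y) = B x y := fun h hh x y => (hH.le hh).2 x y
    rcases hC Q t hQ ht htH with h4 | h4
    · refine no_both hB hF hV hq h5 h2 hH hC hQ h4 ?_
      intro c hc hc0 hcc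
      have h6 := (h4 (s c) (h3' c hc) ((LinearEquiv.map_ne_zero_iff s).2 hc0) (by rw [hi s hsH]; exact hcc)).map hsH
        (hi s hsH)
      rwa [hs2] at h6
    · refine no_both hB hF hV hq h5 h2 hH hC hQ ?_ h4
      intro c hc hc0 hcc
      have h6 := (h4 (s c) (h3 c hc) ((LinearEquiv.map_ne_zero_iff s).2 hc0) (by rw [hi s hsH]; exact hcc)).map hsH
        (hi s hsH)
      rwa [hs2] at h6

end

end Cfsg.Agent.H838.IF
end

private theorem dce_fcb599318413 : _root_.True := by
  try have : _root_.True := by simp only [_root_.Cfsg.Agent.H744.Pu4.Fr.b.congr_simp]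
  try have : _root_.True := by simp only [_root_.Cfsg.Agent.H744.Pu4.blk.eq_1]
  try have : _root_.True := by simp only [_root_.Cfsg.Agent.H744.Pu4.Fr.lev.congr_simp]
  try have : _root_.True := by simp only [_root_.Cfsg.Agent.H744.Pu4.Fr.b.eq_1]
  exact _root_.True.intro
end

-- part: H838/IF/PSUfour
section
prune_inst 0x4c4006404096212000000001060001c429200000200480c00046104040480ac6200020860a8200511520000040034006011000010420000000a0000000118048100000008b1480000000008000000000000000000000000000000000000000000200000000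
set_option linter.all false
open scoped Cfsg.Agent.FastGrp

-- part: H274/IF/UFourAbs
section
/-!
# S5719 (involution fixity), `U₄(3)`, the abstract part (helper274)

A simple group of order `|U₄(3)|` with elements satisfying `Rules` (helper893), `z ~ s ~ y s ~ i k`, has no counterexample
with `|A|` even (`killE_abs`).
-/

set_option autoImplicit false
set_option linter.unusedSectionVars false
set_option linter.unusedVariables false

namespace Cfsg.Agent.H274.IF.UFour

open Subgroup MulAction Cfsg.Agent.LargeExtra.W2.CM Cfsg.Agent.LargeExtra.W2.U43 Cfsg.Agent.LargeExtra.W2.U43.InvClass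
  Cfsg.Agent.LargeExtra.W2.U43.ExistsD Cfsg.Agent.LargeExtra.W2.U43.Ident Cfsg.Agent.H209.Fxy Cfsg.Agent.H999.IFB
open scoped commutatorElement

/-! ### a law of `S₃` -/

theorem law3 : ∀ a b c d : Equiv.Perm (Fin 3), ⁅⁅a, b⁆, ⁅c, d⁆⁆ = 1 := by
  have h1 : ∀ a b : Equiv.Perm (Fin 3), ⁅a, b⁆ = 1 ∨ ⁅a, b⁆ = finRotate 3 ∨ ⁅a, b⁆ = (finRotate 3)⁻¹ := by decide
  have h2 : ⁅(finRotate 3), (finRotate 3)⁻¹⁆ = 1 := by decide
  intro a b c d
  rcases h1 a b with h | h | h <;> rcases h1 c d with h' | h' | h' <;> rw [h, h'] <;> decide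

/-- a subgroup of index at most three contains `⁅⁅a, b⁆, ⁅c, d⁆⁆` -/
theorem mem_of_index_le_three {H : Type*} [Group H] [Finite H] (D : Subgroup H) (hD : D.index ≤ 3) (a b c d : H) :
    ⁅⁅a, b⁆, ⁅c, d⁆⁆ ∈ D := by
  classical
  have hf : Finite (H ⧸ D) := inferInstance
  have := Fintype.ofFinite (H ⧸ D)
  have hc : Fintype.card (H ⧸ D) ≤ Fintype.card (Fin 3) := by
    rw [Fintype.card_fin, ← Nat.card_eq_fintype_card]
    exact hD
  obtain ⟨ι⟩ := Function.Embedding.nonempty_of_card_le hc
  let φ : H →* Equiv.Perm (Fin 3) := (Equiv.Perm.viaEmbeddingHom ι).comp (MulAction.toPermHom H (H ⧸ D))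
  have h1 : φ ⁅⁅a, b⁆, ⁅c, d⁆⁆ = 1 := by
    rw [map_commutatorElement, map_commutatorElement, map_commutatorElement]
    exact law3 _ _ _ _
  have h2 : MulAction.toPermHom H (H ⧸ D) ⁅⁅a, b⁆, ⁅c, d⁆⁆ = 1 := by
    apply Equiv.Perm.viaEmbeddingHom_injective ι
    rw [map_one]
    exact h1
  have h3 : ⁅⁅a, b⁆, ⁅c, d⁆⁆ • ((1 : H) : H ⧸ D) = ((1 : H) : H ⧸ D) := by
    have := congrArg (fun σ : Equiv.Perm (H ⧸ D) => σ ((1 : H) : H ⧸ D)) h2
    exact this
  have h4 : ((⁅⁅a, b⁆, ⁅c, d⁆⁆ * 1 : H) : H ⧸ D) = ((1 : H) : H ⧸ D) := h3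
  rw [mul_one, QuotientGroup.eq, mul_one] at h4
  exact (D.inv_mem_iff).1 h4

section

variable {G : Type*} [Group G] {z i j k l x₁ x₂ y s : G}

theorem eq_comm_i (R : Rules true false true z i j k l x₁ x₂ y s) : ⁅⁅y, x₁⁆, ⁅x₁, i * j⁆⁆ = i := by
  have h1 : ⁅y, x₁⁆ = x₁ := by
    rw [commutatorElement_def, mul_inv_eq_iff_eq_mul, mul_inv_eq_iff_eq_mul]
    coll R
  have h2 : ⁅x₁, i * j⁆ = j := by
    rw [commutatorElement_def, mul_inv_eq_iff_eq_mul, mul_inv_eq_iff_eq_mul]
    coll R
  rw [h1, h2, commutatorElement_def, mul_inv_eq_iff_eq_mul, mul_inv_eq_iff_eq_mul]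
  coll R

theorem eq_comm_j (R : Rules true false true z i j k l x₁ x₂ y s) : ⁅⁅y, x₁⁆, ⁅x₁, i⁆⁆ = j := by
  have h1 : ⁅y, x₁⁆ = x₁ := by
    rw [commutatorElement_def, mul_inv_eq_iff_eq_mul, mul_inv_eq_iff_eq_mul]
    coll R
  have h2 : ⁅x₁, i⁆ = i * j := by
    rw [commutatorElement_def, mul_inv_eq_iff_eq_mul, mul_inv_eq_iff_eq_mul]
    coll R
  rw [h1, h2, commutatorElement_def, mul_inv_eq_iff_eq_mul, mul_inv_eq_iff_eq_mul]
  coll R

theorem eq_comm_k (R : Rules true false true z i j k l x₁ x₂ y s) : ⁅⁅y, x₂⁆, ⁅x₂, k * l⁆⁆ = k := by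
  have h1 : ⁅y, x₂⁆ = x₂ := by
    rw [commutatorElement_def, mul_inv_eq_iff_eq_mul, mul_inv_eq_iff_eq_mul]
    coll R
  have h2 : ⁅x₂, k * l⁆ = l := by
    rw [commutatorElement_def, mul_inv_eq_iff_eq_mul, mul_inv_eq_iff_eq_mul]
    coll R
  rw [h1, h2, commutatorElement_def, mul_inv_eq_iff_eq_mul, mul_inv_eq_iff_eq_mul]
  coll R

theorem eq_comm_l (R : Rules true false true z i j k l x₁ x₂ y s) : ⁅⁅y, x₂⁆, ⁅x₂, k⁆⁆ = l := by
  have h1 : ⁅y, x₂⁆ = x₂ := by
    rw [commutatorElement_def, mul_inv_eq_iff_eq_mul, mul_inv_eq_iff_eq_mul]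
    coll R
  have h2 : ⁅x₂, k⁆ = k * l := by
    rw [commutatorElement_def, mul_inv_eq_iff_eq_mul, mul_inv_eq_iff_eq_mul]
    coll R
  rw [h1, h2, commutatorElement_def, mul_inv_eq_iff_eq_mul, mul_inv_eq_iff_eq_mul]
  coll R

end

/-! ### the subgroup of order 1152 -/

section

variable {G : Type*} [Group G] [Finite G] {z i j k l x₁ x₂ y s : G}

theorem card_nf_eq (R : Rules true false true z i j k l x₁ x₂ y s)
    (inj : Function.Injective fun t : T => t.ev z i j k l x₁ x₂ y s) : Nat.card (nf R) = 1152 := by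
  rw [← card_T]
  exact (Nat.card_congr (Equiv.ofInjective _ inj)).symm

theorem nf_le (R : Rules true false true z i j k l x₁ x₂ y s) : nf R ≤ centralizer ({z} : Set G) := by
  rintro _ ⟨t, rfl⟩
  exact mem_centralizer_singleton_iff.2 (ev_comm R t)

theorem index_nf (hcard : Nat.card G = 3265920) (R : Rules true false true z i j k l x₁ x₂ y s)
    (inj : Function.Injective fun t : T => t.ev z i j k l x₁ x₂ y s) : (nf R).index = 2835 := by
  have h1 := (nf R).index_mul_card
  rw [card_nf_eq R inj, hcard] at h1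
  omega

theorem z_ne (R : Rules true false true z i j k l x₁ x₂ y s)
    (inj : Function.Injective fun t : T => t.ev z i j k l x₁ x₂ y s) : z ≠ 1 := by
  intro h
  have h1 : tz = T.one := inj (by
    show tz.ev z i j k l x₁ x₂ y s = T.one.ev z i j k l x₁ x₂ y s
    rw [ev_z, ev_one, h])
  exact absurd (T.beq_iff.2 h1) (by decide +kernel)

/-- the classes of involutions of `nf R` -/
theorem inv_nf (R : Rules true false true z i j k l x₁ x₂ y s)
    (inj : Function.Injective fun t : T => t.ev z i j k l x₁ x₂ y s) (h1 : IsConj z s) (h2 : IsConj z (y * s))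
    (h3 : IsConj z (i * k)) {u : G} (hu : u ∈ nf R) (u2 : u * u = 1) (u1 : u ≠ 1) : IsConj z u := by
  set EV : T → G := fun t => t.ev z i j k l x₁ x₂ y s with hEV
  have emul : ∀ t u, EV t * EV u = EV (mu t u) := fun t u => ev_mul R t u
  have e1 : EV T.one = 1 := ev_one
  have ez : EV tz = z := ev_z
  have es : EV ts = s := ev_s
  have eik : EV tik = i * k := by rw [tik, ← emul]; simp only [hEV, ev_i, ev_k]
  have eys : EV tys = y * s := by rw [tys, ← emul]; simp only [hEV, ev_y, ev_s]
  obtain ⟨t, rfl⟩ := hu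
  change EV t * EV t = 1 at u2
  change EV t ≠ 1 at u1
  change IsConj z (EV t)
  have h4 : mu t t = T.one := by
    apply inj
    show EV (mu t t) = EV T.one
    rw [← emul, u2, e1]
  have h5 : t ≠ T.one := by
    rintro rfl
    exact u1 e1
  have h6 := allT_spec fact t
  simp only [chk, Bool.or_eq_true, Bool.not_eq_true'] at h6
  rcases h6 with h6 | h6 | h6
  · rw [← Bool.not_eq_true, T.beq_iff] at h6
    exact absurd h4 h6
  · exact absurd (T.eq_of_beq h6) h5
  · obtain ⟨c, -, hc⟩ := anyL_mem h6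
    obtain ⟨r, hr, hc⟩ := anyL_mem hc
    have hc := T.eq_of_beq hc
    have h7 : EV c * EV t = EV r * EV c := by rw [emul, hc, ← emul]
    have h8 : IsConj (EV t) (EV r) := isConj_iff.2 ⟨EV c, by rw [h7]; group⟩
    simp only [List.mem_cons, List.not_mem_nil, or_false] at hr
    refine IsConj.trans ?_ h8.symm
    rcases hr with rfl | rfl | rfl | rfl
    · rw [ez]
    · rw [eik]; exact h3
    · rw [es]; exact h1
    · rw [eys]; exact h2

/-- **one class of involutions** -/
theorem one_class (hcard : Nat.card G = 3265920) (R : Rules true false true z i j k l x₁ x₂ y s)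
    (inj : Function.Injective fun t : T => t.ev z i j k l x₁ x₂ y s) (h1 : IsConj z s) (h2 : IsConj z (y * s))
    (h3 : IsConj z (i * k)) {u : G} (u2 : u * u = 1) (u1 : u ≠ 1) : IsConj z u := by
  have : Fact (Nat.Prime 2) := ⟨Nat.prime_two⟩
  obtain ⟨P⟩ : Nonempty (Sylow 2 (nf R)) := inferInstance
  have hPc : Nat.card P = 2 ^ 7 := by
    rw [Sylow.card_eq_multiplicity, card_nf_eq R inj]
    have : (1152 : ℕ).factorization 2 = 7 := by
      have : (1152 : ℕ) = 2 ^ 7 * 9 := by norm_num
      rw [this, Nat.factorization_mul (by norm_num) (by norm_num), Nat.Prime.factorization_pow Nat.prime_two]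
      simp [Nat.factorization_eq_zero_of_not_dvd]
    rw [this]
  let P' : Subgroup G := (P : Subgroup (nf R)).map (nf R).subtype
  have hP'c : Nat.card P' = 2 ^ (Nat.card G).factorization 2 := by
    have h4 : Nat.card P' = Nat.card P :=
      Nat.card_congr ((P : Subgroup (nf R)).equivMapOfInjective _ (nf R).subtype_injective).toEquiv.symm
    rw [h4, hPc, hcard]
    have : (3265920 : ℕ).factorization 2 = 7 := by
      have : (3265920 : ℕ) = 2 ^ 7 * 25515 := by norm_num
      rw [this, Nat.factorization_mul (by norm_num) (by norm_num), Nat.Prime.factorization_pow Nat.prime_two]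
      simp [Nat.factorization_eq_zero_of_not_dvd]
    rw [this]
  let S : Sylow 2 G := Sylow.ofCard P' hP'c
  have ho : orderOf u = 2 := orderOf_eq_prime (by rw [pow_two, u2]) u1
  have hx' : IsPGroup 2 (Subgroup.zpowers u) := by
    apply IsPGroup.of_card (n := 1)
    rw [Nat.card_zpowers, ho, pow_one]
  obtain ⟨S', hS'⟩ := hx'.exists_le_sylow
  obtain ⟨g, hg⟩ := MulAction.exists_smul_eq G S' S
  have hxS : u ∈ (S' : Subgroup G) := hS' (Subgroup.mem_zpowers _)
  have hgx : g * u * g⁻¹ ∈ (S : Subgroup G) := by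
    rw [← hg]
    exact Subgroup.mem_map.2 ⟨u, hxS, rfl⟩
  obtain ⟨c, hc, hcg⟩ := Subgroup.mem_map.1 hgx
  have hc' : (c : G) = g * u * g⁻¹ := hcg
  have h4 := inv_nf R inj h1 h2 h3 (u := g * u * g⁻¹) (by rw [← hc']; exact c.2)
    (by
      calc g * u * g⁻¹ * (g * u * g⁻¹) = g * (u * u) * g⁻¹ := by group
        _ = 1 := by rw [u2]; group)
    (by
      intro h'
      apply u1
      calc u = g⁻¹ * (g * u * g⁻¹) * g := by group
        _ = 1 := by rw [h']; group)
  exact h4.trans (isConj_iff.2 ⟨g, rfl⟩).symm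

/-- `nf R ∩ A` of index at most three: `A` contains the extraspecial group -/
theorem ev_mem_of_le_three (R : Rules true false true z i j k l x₁ x₂ y s) {A : Subgroup G}
    (hA : A.relIndex (nf R) ≤ 3) : z ∈ A ∧ i ∈ A ∧ j ∈ A ∧ k ∈ A ∧ l ∈ A := by
  have mi : i ∈ nf R := ⟨ti, ev_i⟩
  have mj : j ∈ nf R := ⟨tj, ev_j⟩
  have mk : k ∈ nf R := ⟨tk, ev_k⟩
  have ml : l ∈ nf R := ⟨tl, ev_l⟩
  have mx : x₁ ∈ nf R := ⟨tx₁, ev_x₁⟩
  have mw : x₂ ∈ nf R := ⟨tx₂, ev_x₂⟩
  have my : y ∈ nf R := ⟨ty, ev_y⟩
  have key : ∀ {a b c d : G} (ha : a ∈ nf R) (hb : b ∈ nf R) (hc : c ∈ nf R) (hd : d ∈ nf R),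
      ⁅⁅a, b⁆, ⁅c, d⁆⁆ ∈ A := by
    intro a b c d ha hb hc hd
    have h1 := mem_of_index_le_three (A.subgroupOf (nf R)) hA ⟨a, ha⟩ ⟨b, hb⟩ ⟨c, hc⟩ ⟨d, hd⟩
    exact h1
  have hi : i ∈ A := by
    have := key my mx mx (mul_mem mi mj)
    rwa [eq_comm_i R] at this
  have hj : j ∈ A := by
    have := key my mx mx mi
    rwa [eq_comm_j R] at this
  have hk : k ∈ A := by
    have := key my mw mw (mul_mem mk ml)
    rwa [eq_comm_k R] at this
  have hl : l ∈ A := by
    have := key my mw mw mk
    rwa [eq_comm_l R] at this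
  refine ⟨?_, hi, hj, hk, hl⟩
  rw [← R.ii]
  exact mul_mem hi hi

/-- the 18 noncentral involutions of the extraspecial group -/
def good (p : Bool × Bool × Bool × Bool × Bool) : Bool := (p.2.1 || p.2.2.1) && (p.2.2.2.1 || p.2.2.2.2)

def toT (p : Bool × Bool × Bool × Bool × Bool) : T := ⟨⟨p.1, p.2.1, p.2.2.1, p.2.2.2.1, p.2.2.2.2⟩, C3.o, C3.o, false, false⟩

theorem toT_injective : Function.Injective toT := by
  rintro ⟨a, b, c, d, e⟩ ⟨a', b', c', d', e'⟩ h
  simp only [toT, T.mk.injEq, Qt.mk.injEq] at h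
  obtain ⟨⟨rfl, rfl, rfl, rfl, rfl⟩, -⟩ := h
  rfl

theorem card_good : Nat.card {p : Bool × Bool × Bool × Bool × Bool // good p = true} = 18 := by
  rw [Nat.card_eq_fintype_card]
  decide +kernel

theorem toT_sq : ∀ p, good p = true → mu (toT p) (toT p) = T.one := by
  rintro ⟨a, b, c, d, e⟩ h
  revert h
  cases a <;> cases b <;> cases c <;> cases d <;> cases e <;> first | (intro; rfl) | (intro h; exact absurd h (by decide))

theorem toT_ne : ∀ p, good p = true → toT p ≠ T.one := by
  rintro ⟨a, b, c, d, e⟩ h h1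
  simp only [toT, T.one, T.mk.injEq, Qt.mk.injEq] at h1
  obtain ⟨⟨rfl, rfl, rfl, rfl, rfl⟩, -⟩ := h1
  exact absurd h (by decide)

/-- at least 18 involutions -/
theorem eighteen (R : Rules true false true z i j k l x₁ x₂ y s)
    (inj : Function.Injective fun t : T => t.ev z i j k l x₁ x₂ y s) {A : Subgroup G}
    (hA : z ∈ A ∧ i ∈ A ∧ j ∈ A ∧ k ∈ A ∧ l ∈ A) : 18 ≤ {a : G | a ∈ A ∧ a * a = 1 ∧ a ≠ 1}.ncard := by
  rw [← card_good, ← Nat.card_coe_set_eq]
  have pwm : ∀ (b : Bool) {g : G}, g ∈ A → pw b g ∈ A := by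
    intro b g hg
    cases b
    · exact one_mem A
    · exact hg
  refine Nat.card_le_card_of_injective (fun p : {p : Bool × Bool × Bool × Bool × Bool // good p = true} =>
    (⟨(toT p.1).ev z i j k l x₁ x₂ y s, ?_, ?_, ?_⟩ : {a : G | a ∈ A ∧ a * a = 1 ∧ a ≠ 1})) ?_
  · obtain ⟨⟨a, b, c, d, e⟩, hp⟩ := p
    show (pw a z * (pw b i * (pw c j * (pw d k * pw e l)))) * (1 * (1 * (1 * 1))) ∈ A
    simp only [mul_one]
    exact mul_mem (pwm _ hA.1) (mul_mem (pwm _ hA.2.1) (mul_mem (pwm _ hA.2.2.1)
      (mul_mem (pwm _ hA.2.2.2.1) (pwm _ hA.2.2.2.2))))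
  · rw [ev_mul R]
    have h1 := toT_sq p.1 p.2
    rw [show T.mul true false true (toT p.1) (toT p.1) = T.one from h1, ev_one]
  · intro h1
    exact toT_ne p.1 p.2 (inj (h1.trans (ev_one (z := z) (i := i) (j := j) (k := k) (l := l) (x₁ := x₁) (x₂ := x₂)
      (y := y) (s := s)).symm))
  · intro p p' h
    exact Subtype.ext (toT_injective (inj (congrArg Subtype.val h)))

theorem not_comm (R : Rules true false true z i j k l x₁ x₂ y s)
    (inj : Function.Injective fun t : T => t.ev z i j k l x₁ x₂ y s) : ∃ a b : G, a * b ≠ b * a := by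
  refine ⟨j, i, fun h => z_ne R inj ?_⟩
  rw [R.ji] at h
  exact mul_eq_right.1 h

theorem conj_injective [IsSimpleGroup G] (hna : ∃ a b : G, a * b ≠ b * a) :
    Function.Injective (MulAut.conj : G → MulAut G) := by
  have h1 : Function.Injective (MulAut.conj : G →* MulAut G) := by
    rw [injective_iff_map_eq_one]
    intro z hz
    apply center_of hna
    intro x
    have h3 := congrArg (fun τ : MulAut G => τ x) hz
    simp only [MulAut.conj_apply, MulAut.one_apply] at h3
    rwa [mul_inv_eq_iff_eq_mul] at h3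
  exact h1

/-- **the main argument** -/
theorem kill_aux [IsSimpleGroup G] (hcard : Nat.card G = 3265920) (R : Rules true false true z i j k l x₁ x₂ y s)
    (inj : Function.Injective fun t : T => t.ev z i j k l x₁ x₂ y s) (h1 : IsConj z s) (h2 : IsConj z (y * s))
    (h3 : IsConj z (i * k)) {A : Subgroup G} {Γ : Subgroup (MulAut G)} (h : IF A Γ) (hz : z ∈ A) : False := by
  have hna := not_comm R inj
  have hz1 := z_ne R inj
  have oz : orderOf z = 2 := orderOf_eq_prime (by rw [pow_two, R.zz]) hz1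
  obtain ⟨a1, a2, a3, -, -⟩ := IF.E2' h hna hz oz
  have hσ : MulAut.conj z ∈ Γ := (h.conj z).2 hz
  have hN : (centralizer ({z} : Set G)).index ≤ 2835 := by
    rw [← index_nf hcard R inj]
    exact Nat.le_of_dvd (Nat.pos_of_ne_zero index_ne_zero_of_finite) (index_dvd_of_le (nf_le R))
  have hE1 : A.relIndex (nf R) ≤ fx A (MulAut.conj z) := (IF.E1 h hσ a1 (B := nf R) (fun b hb => by
    have h4 := mem_centralizer_singleton_iff.1 (nf_le R hb)
    rw [MulAut.conj_apply, mul_inv_eq_iff_eq_mul, h4])).1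
  have hff := IF.fix_formula' h hσ
  rw [a2] at hff
  have hsm := h.small _ hσ a1
  have hbig := h.big
  set f := fx A (MulAut.conj z) with hf
  set n := A.index with hn
  set N := (centralizer ({z} : Set G)).index with hN'
  set κ := (icl (MulAut.conj z) ∩ (Γ : Set (MulAut G))).ncard with hκ
  -- the involutions of `A`
  have hS : {a : G | a ∈ A ∧ a * a = 1 ∧ a ≠ 1}.ncard ≤ κ := by
    rw [← Set.ncard_image_of_injective _ (conj_injective hna)]
    refine Set.ncard_le_ncard ?_ (Set.toFinite _)
    rintro _ ⟨a, ⟨ha, ha2, ha1⟩, rfl⟩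
    obtain ⟨g, hg⟩ := isConj_iff.1 (one_class hcard R inj h1 h2 h3 ha2 ha1)
    refine ⟨⟨g, ?_⟩, (h.conj a).2 ha⟩
    rw [← hg, map_mul, map_mul, map_inv]
  have hf4 : f ≤ 4 := by
    by_contra hcon
    have h5 : 5 ^ 5 ≤ f ^ 5 := Nat.pow_le_pow_left (by omega) 5
    omega
  rcases (show f ≤ 3 ∨ f = 4 by omega) with hf3 | hf4'
  · have h5 := eighteen R inj (ev_mem_of_le_three R (hE1.trans hf3))
    have h6 : n * 18 ≤ n * κ := Nat.mul_le_mul_left _ (h5.trans hS)
    have h7 : f * N ≤ 3 * 2835 := Nat.mul_le_mul hf3 hN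
    omega
  · have h4096 : 4096 < n := by
      rw [hf4'] at hsm
      omega
    have h7 : f * N ≤ 4 * 2835 := Nat.mul_le_mul hf4'.le hN
    have hκ2 : κ ≤ 2 := by
      by_contra hcon
      have h6 : n * 3 ≤ n * κ := Nat.mul_le_mul_left _ (by omega)
      omega
    have huniq : ∀ u ∈ A, u * u = 1 → u ≠ 1 → u = z := by
      intro u hu hu2 hu1
      by_contra huz
      have hz2 := R.zz
      have iz : z⁻¹ = z := inv_eq_of_mul_eq_one_left hz2
      obtain ⟨w, hw, hw2, hw1, hwz, hwu⟩ : ∃ w ∈ A, w * w = 1 ∧ w ≠ 1 ∧ w ≠ z ∧ w ≠ u := by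
        by_cases hc : u * z = z * u
        · refine ⟨u * z, mul_mem hu hz, ?_, ?_, ?_, ?_⟩
          · calc u * z * (u * z) = u * (z * u) * z := by group
              _ = u * (u * z) * z := by rw [hc]
              _ = (u * u) * (z * z) := by group
              _ = 1 := by rw [hu2, hz2, one_mul]
          · intro h8
            apply huz
            rw [eq_inv_of_mul_eq_one_left h8, iz]
          · intro h8
            exact hu1 (mul_eq_right.1 h8)
          · intro h8
            exact hz1 (mul_eq_left.1 h8)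
        · refine ⟨z * u * z⁻¹, mul_mem (mul_mem hz hu) (inv_mem hz), ?_, ?_, ?_, ?_⟩
          · calc z * u * z⁻¹ * (z * u * z⁻¹) = z * (u * u) * z⁻¹ := by group
              _ = 1 := by rw [hu2]; group
          · intro h8
            apply hu1
            calc u = z⁻¹ * (z * u * z⁻¹) * z := by group
              _ = 1 := by rw [h8]; group
          · intro h8
            apply huz
            calc u = z⁻¹ * (z * u * z⁻¹) * z := by group
              _ = z := by rw [h8]; group
          · intro h8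
            apply hc
            rw [mul_inv_eq_iff_eq_mul] at h8
            exact h8.symm
      have h8 : ({z, u, w} : Set G) ⊆ {a : G | a ∈ A ∧ a * a = 1 ∧ a ≠ 1} := by
        rintro a (rfl | rfl | rfl)
        · exact ⟨hz, hz2, hz1⟩
        · exact ⟨hu, hu2, hu1⟩
        · exact ⟨hw, hw2, hw1⟩
      have h9 : ({z, u, w} : Set G).ncard = 3 :=
        Set.ncard_eq_three.2 ⟨z, u, w, fun h => huz h.symm, fun h => hwz h.symm, fun h => hwu h.symm, rfl⟩
      have h10 := Set.ncard_le_ncard h8 (Set.toFinite _)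
      omega
    have hAC : A ≤ centralizer ({z} : Set G) := by
      intro a ha
      rw [mem_centralizer_singleton_iff]
      have h8 := huniq (a * z * a⁻¹) (mul_mem (mul_mem ha hz) (inv_mem ha))
        (by
          calc a * z * a⁻¹ * (a * z * a⁻¹) = a * (z * z) * a⁻¹ := by group
            _ = 1 := by rw [R.zz]; group)
        (by
          intro h9
          apply hz1
          calc z = a⁻¹ * (a * z * a⁻¹) * a := by group
            _ = 1 := by rw [h9]; group)
      rwa [mul_inv_eq_iff_eq_mul] at h8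
    have hinv : ∀ τ ∈ Γ, ∀ b ∈ centralizer ({z} : Set G), τ b ∈ centralizer ({z} : Set G) := by
      intro τ hτ b hb
      have h8 : τ z = z := huniq (τ z) ((h.inv τ hτ z).2 hz) (by rw [← map_mul, R.zz, map_one])
        (by rw [Ne, map_eq_one_iff τ τ.injective]; exact hz1)
      rw [mem_centralizer_singleton_iff] at hb ⊢
      calc τ b * z = τ b * τ z := by rw [h8]
        _ = τ z * τ b := by rw [← map_mul, ← map_mul, hb]
        _ = z * τ b := by rw [h8]
    have hik : i * k ∈ centralizer ({z} : Set G) := by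
      rw [mem_centralizer_singleton_iff]
      coll R
    have hik2 : i * k * (i * k) = 1 := by coll R
    have hikT : tik.ev z i j k l x₁ x₂ y s = i * k := by
      have := ev_mul R ti tk
      rw [ev_i, ev_k] at this
      exact this.symm
    rcases h.max _ hAC hinv with h8 | h8
    · rw [h8] at hik
      have h9 := huniq _ hik hik2 (by
        intro h9
        have h10 : tik = T.one := inj (hikT.trans (h9.trans ev_one.symm))
        exact absurd (T.beq_iff.2 h10) (by decide +kernel))
      have h10 : tik = tz := inj (hikT.trans (h9.trans ev_z.symm))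
      exact absurd (T.beq_iff.2 h10) (by decide +kernel)
    · apply hz1
      apply center_of hna
      intro x
      have h9 : x ∈ centralizer ({z} : Set G) := by rw [h8]; exact mem_top x
      exact (mem_centralizer_singleton_iff.1 h9).symm

/-- **`KillE` for a group with the data of `U₄(3)`** -/
theorem killE_abs [IsSimpleGroup G] (hcard : Nat.card G = 3265920) (R : Rules true false true z i j k l x₁ x₂ y s)
    (inj : Function.Injective fun t : T => t.ev z i j k l x₁ x₂ y s) (h1 : IsConj z s) (h2 : IsConj z (y * s))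
    (h3 : IsConj z (i * k)) : KillE G := by
  rintro A Γ h ⟨t, htA, ht⟩
  have ht2 : t * t = 1 := by
    rw [← pow_two, ← ht]
    exact pow_orderOf_eq_one t
  have ht1 : t ≠ 1 := by
    rintro rfl
    rw [orderOf_one] at ht
    exact absurd ht (by norm_num)
  obtain ⟨g, hg⟩ := isConj_iff.1 (one_class hcard R inj h1 h2 h3 ht2 ht1)
  refine kill_aux hcard R inj h1 h2 h3 (h.map (MulAut.conj g⁻¹ : G ≃* G)) ⟨t, htA, ?_⟩
  show g⁻¹ * t * g⁻¹⁻¹ = z
  rw [← hg]
  group

end

end Cfsg.Agent.H274.IF.UFour
end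

-- part: H274/IF/UFour3
section
/-!
# S5719 (involution fixity), `U₄(3)` (helper274)

**`three`** : `KillE (PSU 4 F 3)`, from the permutation model of helper926 and `killE_abs`.
-/

set_option autoImplicit false
set_option maxRecDepth 10000
set_option linter.unusedSectionVars false
set_option linter.unusedVariables false

namespace Cfsg.Agent.H274.IF.UFour

open Subgroup Cfsg Cfsg.Agent.LargeExtra.W2.CM Cfsg.Agent.LargeExtra.W2.U43 Cfsg.Agent.LargeExtra.W2.U43.PermModel
  Cfsg.Agent.LargeExtra.W2.U43.Ident Cfsg.Agent.H209.Fxy Cfsg.Agent.SporadicRecognition.CosetCert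
  Cfsg.Agent.SporadicRecognition.CosetCertHyp Cfsg.Agent.SporadicStructure.FieldNine
  Cfsg.Agent.LargeExtra.W2.U43.ExistsD

/-- the group generated by the letters -/
def MM : Subgroup (Equiv.Perm (Fin 280)) := closure (P '' {x | x < 12})

/-- the subgroup of order 1152 -/
def H0 : Subgroup (Equiv.Perm (Fin 280)) := closure {P 0, P 13, P 15, P 17, P 3, P 19, P 5, P 7}

theorem card_MM_le : Nat.card MM ≤ 2835 * Nat.card H0 := by
  obtain ⟨hf, -⟩ := card_closure_rules rules_P
  have m0 : P 0 ∈ H0 := subset_closure (by simp)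
  have hyp : Hyp CertData.C H0 P := by
    apply hyp_of_checks H0 P CertData.C CertData.rels CertData.subw
    · exact P12
    · intro x hx
      exact inv_P x hx
    · intro r hr
      exact rels_P r hr
    · have h1 : ∀ a : ℕ, P a ∈ H0 → ev P [a] ∈ H0 := by
        intro a ha
        rw [ev_cons, ev_nil, mul_one]
        exact ha
      simp only [CertData.subw, List.forall_mem_cons]
      refine ⟨h1 _ m0, h1 _ (subset_closure (by simp)), h1 _ (subset_closure (by simp)),
        h1 _ (subset_closure (by simp)), h1 _ ?_, fun _ h => absurd h (by simp)⟩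
      rw [← rules_P.ii]
      exact mul_mem m0 m0
    · exact (Cfsg.Agent.SporadicRecognition.HypFast.check_fast (by decide +kernel))
  have : Finite H0 := hf
  exact (card_closure_le CertData.C H0 P hyp CertAll.part).2

theorem card_H0_le : Nat.card H0 ≤ 1152 := (card_closure_rules rules_P).2

theorem M_le : M ≤ MM := range_le

theorem card_MM : Nat.card MM = 3265920 := by
  have h1 : Nat.card MM ≤ 2835 * 1152 := card_MM_le.trans (Nat.mul_le_mul_left _ card_H0_le)
  have h2 : 3265920 ≤ Nat.card M := SporadicStructure.U43Perm.card_ge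
  have h3 : Nat.card M ≤ Nat.card MM := card_le_of_le M_le
  omega

theorem M_eq : M = MM := by
  refine eq_of_le_of_card_ge M_le ?_
  have h2 : 3265920 ≤ Nat.card M := SporadicStructure.U43Perm.card_ge
  rw [card_MM]
  exact h2

theorem card_H0 : Nat.card H0 = 1152 := by
  have h1 := card_MM_le
  rw [card_MM] at h1
  have h2 := card_H0_le
  omega

/-! ### the elements -/

theorem mem_lt (n : ℕ) (h : n < 12) : P n ∈ MM := subset_closure ⟨n, h, rfl⟩

theorem mem13 : P 13 ∈ MM := by
  rw [j_P]
  exact mul_mem (mem_lt 3 (by norm_num)) (mul_mem (mem_lt 0 (by norm_num)) (mem_lt 4 (by norm_num)))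
theorem mem15 : P 15 ∈ MM := by
  rw [k_P]
  exact mul_mem (mem_lt 7 (by norm_num)) (mul_mem (mem_lt 0 (by norm_num)) (mem_lt 7 (by norm_num)))
theorem mem17 : P 17 ∈ MM := by
  rw [l_P]
  exact mul_mem (mem_lt 7 (by norm_num)) (mul_mem mem13 (mem_lt 7 (by norm_num)))
theorem mem19 : P 19 ∈ MM := by
  rw [w_P]
  exact mul_mem (mem_lt 7 (by norm_num)) (mul_mem (mem_lt 3 (by norm_num)) (mem_lt 7 (by norm_num)))
theorem mem14 : P 14 ∈ MM := by
  have h : P 14 = P 3 * (P 1 * P 4) := pr_of_eqW (l := [14]) (l' := [3, 1, 4]) (by decide +kernel)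
  rw [h]
  exact mul_mem (mem_lt 3 (by norm_num)) (mul_mem (mem_lt 1 (by norm_num)) (mem_lt 4 (by norm_num)))

noncomputable def gz : MM := ⟨P 2, mem_lt 2 (by norm_num)⟩
noncomputable def gi : MM := ⟨P 0, mem_lt 0 (by norm_num)⟩
noncomputable def gj : MM := ⟨P 13, mem13⟩
noncomputable def gk : MM := ⟨P 15, mem15⟩
noncomputable def gl : MM := ⟨P 17, mem17⟩
noncomputable def gx : MM := ⟨P 3, mem_lt 3 (by norm_num)⟩
noncomputable def gw : MM := ⟨P 19, mem19⟩
noncomputable def gy : MM := ⟨P 5, mem_lt 5 (by norm_num)⟩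
noncomputable def gs : MM := ⟨P 7, mem_lt 7 (by norm_num)⟩

theorem rules_g : Rules true false true gz gi gj gk gl gx gw gy gs where
  zz := Subtype.ext rules_P.zz
  zi := Subtype.ext rules_P.zi
  zj := Subtype.ext rules_P.zj
  zk := Subtype.ext rules_P.zk
  zl := Subtype.ext rules_P.zl
  zx := Subtype.ext rules_P.zx
  zw := Subtype.ext rules_P.zw
  zy := Subtype.ext rules_P.zy
  zs := Subtype.ext rules_P.zs
  ii := Subtype.ext rules_P.ii
  jj := Subtype.ext rules_P.jj
  kk := Subtype.ext rules_P.kk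
  ll := Subtype.ext rules_P.ll
  ji := Subtype.ext rules_P.ji
  lk := Subtype.ext rules_P.lk
  ki := Subtype.ext rules_P.ki
  li := Subtype.ext rules_P.li
  kj := Subtype.ext rules_P.kj
  lj := Subtype.ext rules_P.lj
  xi := Subtype.ext rules_P.xi
  xj := Subtype.ext rules_P.xj
  xk := Subtype.ext rules_P.xk
  xl := Subtype.ext rules_P.xl
  wi := Subtype.ext rules_P.wi
  wj := Subtype.ext rules_P.wj
  wk := Subtype.ext rules_P.wk
  wl := Subtype.ext rules_P.wl
  yi := Subtype.ext rules_P.yi
  yj := Subtype.ext rules_P.yj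
  yk := Subtype.ext rules_P.yk
  yl := Subtype.ext rules_P.yl
  si := Subtype.ext rules_P.si
  sj := Subtype.ext rules_P.sj
  sk := Subtype.ext rules_P.sk
  sl := Subtype.ext rules_P.sl
  wx := Subtype.ext rules_P.wx
  xxx := Subtype.ext rules_P.xxx
  www := Subtype.ext rules_P.www
  yx := Subtype.ext rules_P.yx
  yw := Subtype.ext rules_P.yw
  sx := Subtype.ext rules_P.sx
  sw := Subtype.ext rules_P.sw
  sy := Subtype.ext rules_P.sy
  yy := Subtype.ext rules_P.yy
  ss := Subtype.ext rules_P.ss

theorem pw_coe (b : Bool) (g : MM) : ((pw b g : MM) : Equiv.Perm (Fin 280)) = pw b (g : Equiv.Perm (Fin 280)) := by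
  cases b <;> rfl

theorem pw3_coe (m : C3) (g : MM) : ((pw3 m g : MM) : Equiv.Perm (Fin 280)) = pw3 m (g : Equiv.Perm (Fin 280)) := by
  cases m <;> rfl

theorem ev_coe (t : T) : ((t.ev gz gi gj gk gl gx gw gy gs : MM) : Equiv.Perm (Fin 280)) =
    t.ev (P 2) (P 0) (P 13) (P 15) (P 17) (P 3) (P 19) (P 5) (P 7) := by
  simp only [T.ev, Qt.ev, Subgroup.coe_mul, pw_coe, pw3_coe]
  rfl

/-- the elements of the model are distinct -/
theorem inj_P : Function.Injective
    fun t : T => t.ev (P 2) (P 0) (P 13) (P 15) (P 17) (P 3) (P 19) (P 5) (P 7) := by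
  have hle : H0 ≤ nf rules_P := by
    rw [H0, closure_le]
    rintro c (rfl | rfl | rfl | rfl | rfl | rfl | rfl | rfl)
    · exact ⟨ti, ev_i⟩
    · exact ⟨tj, ev_j⟩
    · exact ⟨tk, ev_k⟩
    · exact ⟨tl, ev_l⟩
    · exact ⟨tx₁, ev_x₁⟩
    · exact ⟨tx₂, ev_x₂⟩
    · exact ⟨ty, ev_y⟩
    · exact ⟨ts, ev_s⟩
  have h1 : 1152 ≤ Nat.card (nf rules_P) := by
    rw [← card_H0]
    exact card_le_of_le hle
  have hT : Finite T := Nat.finite_of_card_ne_zero (by rw [card_T]; norm_num)
  let f : T → nf rules_P := fun t => ⟨t.ev (P 2) (P 0) (P 13) (P 15) (P 17) (P 3) (P 19) (P 5) (P 7), t, rfl⟩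
  have hs : Function.Surjective f := by
    rintro ⟨_, t, rfl⟩
    exact ⟨t, rfl⟩
  have hb : Function.Bijective f := by
    rw [Nat.bijective_iff_surjective_and_card]
    refine ⟨hs, ?_⟩
    rw [card_T]
    exact le_antisymm h1 (by rw [← card_T]; exact Nat.card_le_card_of_surjective _ hs)
  intro a b hab
  exact hb.1 (Subtype.ext hab)

theorem inj_g : Function.Injective fun t : T => t.ev gz gi gj gk gl gx gw gy gs := by
  intro a b hab
  apply inj_P
  show a.ev _ _ _ _ _ _ _ _ _ = b.ev _ _ _ _ _ _ _ _ _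
  rw [← ev_coe, ← ev_coe]
  exact congrArg Subtype.val hab

theorem conj_s : IsConj gz gs := by
  refine isConj_iff.2 ⟨⟨P 8, mem_lt 8 (by norm_num)⟩, ?_⟩
  rw [mul_inv_eq_iff_eq_mul]
  apply Subtype.ext
  exact pr_of_eqW (l := [8, 2]) (l' := [7, 8]) (by decide +kernel)

theorem conj_ys : IsConj gz (gy * gs) := by
  refine isConj_iff.2 ⟨⟨P 10, mem_lt 10 (by norm_num)⟩, ?_⟩
  rw [mul_inv_eq_iff_eq_mul, mul_assoc]
  apply Subtype.ext
  exact pr_of_eqW (l := [10, 2]) (l' := [5, 7, 10]) (by decide +kernel)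

theorem conj_ik : IsConj gz (gi * gk) := by
  refine isConj_iff.2 ⟨⟨P 14, mem14⟩ * (⟨P 9, mem_lt 9 (by norm_num)⟩ * (⟨P 0, mem_lt 0 (by norm_num)⟩ *
    (⟨P 8, mem_lt 8 (by norm_num)⟩ * ⟨P 8, mem_lt 8 (by norm_num)⟩))), ?_⟩
  rw [mul_inv_eq_iff_eq_mul]
  simp only [mul_assoc]
  apply Subtype.ext
  exact pr_of_eqW (l := [14, 9, 0, 8, 8, 2]) (l' := [0, 15, 14, 9, 0, 8, 8]) (by decide +kernel)

theorem simple_MM : IsSimpleGroup MM := by
  rw [← M_eq]
  exact simple_M

theorem killE_MM : KillE MM :=
  have := simple_MM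
  killE_abs card_MM rules_g inj_g conj_s conj_ys conj_ik

theorem killE_congr {T T' : Type*} [Group T] [Group T'] (e : T ≃* T') (h : KillE T) : KillE T' := by
  rintro A Γ hA ⟨t, ht, ho⟩
  refine h _ _ (hA.map e.symm) ⟨e.symm t, ⟨t, ht, rfl⟩, ?_⟩
  rw [← ho]
  exact MulEquiv.orderOf_eq e.symm t

/-- **W8**: `U₄(3)` -/
theorem three {F : Type*} [Field F] [Fintype F] (hF : Fintype.card F = 3 ^ 2) [IsSimpleGroup (PSU 4 F 3)] :
    KillE (PSU 4 F 3) := by
  obtain ⟨e⟩ := psu_iso
  obtain ⟨e'⟩ := SporadicStructure.PsuMatch.psu_iso_of_card (F := F) (K := K9)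
    (hF.trans (by rw [K9.card_K9]; norm_num)) 4 3
  rw [M_eq] at e
  exact killE_congr (e'.trans e).symm killE_MM

end Cfsg.Agent.H274.IF.UFour
end

-- part: H974/IFU/LR
section
/-!
# S5719, `PSU_4(q)`, `q` odd: two transvections with non-orthogonal centres (helper974)

* `R` : the action of `SL_2` on a hyperbolic plane;
* `exists_j` : two transvections of `H` with non-orthogonal centres `c, c'` give `j ∈ H`, `j² = -1` on `⟨c, c'⟩`, `j = 1`
  on the orthogonal space;
* `not_mixed`, `pp_snd` : the components of the centres of `H` with respect to `P ⊕ P^⊥`.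
-/

set_option autoImplicit false
set_option linter.unusedSectionVars false

namespace Cfsg.Agent.H974.IFU

open Module Subgroup Cfsg Cfsg.Agent.H91.U Cfsg.Agent.H450.UF Cfsg.Agent.H450.Bs Cfsg.Agent.H838.IF
open scoped Matrix

section

variable {F V : Type*} [Field F] [AddCommGroup V] [Module F V]

/-- the action of `SL_2` on the plane `⟨c, c'⟩` with the coordinates `α, β` -/
def R (α β : V →ₗ[F] F) (c c' : V) (y : Matrix.SpecialLinearGroup (Fin 2) F) (v : V) : V :=
  v + ((y.1 0 0 - 1) * α v + y.1 0 1 * β v) • c + (y.1 1 0 * α v + (y.1 1 1 - 1) * β v) • c'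

variable {α β : V →ₗ[F] F} {c c' : V}

theorem R_apply (y : Matrix.SpecialLinearGroup (Fin 2) F) (v : V) : R α β c c' y v =
    v + ((y.1 0 0 - 1) * α v + y.1 0 1 * β v) • c + (y.1 1 0 * α v + (y.1 1 1 - 1) * β v) • c' := rfl

theorem R_one (v : V) : R α β c c' 1 v = v := by
  unfold R
  simp [Matrix.SpecialLinearGroup.coe_one]

theorem alpha_R (h1 : α c = 1) (h3 : α c' = 0)
    (z : Matrix.SpecialLinearGroup (Fin 2) F) (v : V) :
    α (R α β c c' z v) = z.1 0 0 * α v + z.1 0 1 * β v := by
  unfold R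
  rw [map_add, map_add, map_smul, map_smul, h1, h3, smul_eq_mul, smul_eq_mul]
  ring

theorem beta_R (h2 : β c = 0) (h4 : β c' = 1)
    (z : Matrix.SpecialLinearGroup (Fin 2) F) (v : V) :
    β (R α β c c' z v) = z.1 1 0 * α v + z.1 1 1 * β v := by
  unfold R
  rw [map_add, map_add, map_smul, map_smul, h2, h4, smul_eq_mul, smul_eq_mul]
  ring

theorem R_mul (h1 : α c = 1) (h2 : β c = 0) (h3 : α c' = 0) (h4 : β c' = 1)
    (y z : Matrix.SpecialLinearGroup (Fin 2) F) (v : V) :
    R α β c c' y (R α β c c' z v) = R α β c c' (y * z) v := by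
  rw [R_apply y (R α β c c' z v), alpha_R h1 h3, beta_R h2 h4, R_apply z v, R_apply (y * z) v]
  have e : ∀ i j, (y * z).1 i j = y.1 i 0 * z.1 0 j + y.1 i 1 * z.1 1 j := by
    intro i j
    change (y.1 * z.1) i j = _
    rw [Matrix.mul_apply, Fin.sum_univ_two]
  rw [e, e, e, e]
  have k1 : ((y.1 0 0 * z.1 0 0 + y.1 0 1 * z.1 1 0 - 1) * α v + (y.1 0 0 * z.1 0 1 + y.1 0 1 * z.1 1 1) * β v) • c =
      ((z.1 0 0 - 1) * α v + z.1 0 1 * β v) • c +
        ((y.1 0 0 - 1) * (z.1 0 0 * α v + z.1 0 1 * β v) + y.1 0 1 * (z.1 1 0 * α v + z.1 1 1 * β v)) • c := by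
    rw [← add_smul]
    congr 1
    ring
  have k2 : ((y.1 1 0 * z.1 0 0 + y.1 1 1 * z.1 1 0) * α v + (y.1 1 0 * z.1 0 1 + y.1 1 1 * z.1 1 1 - 1) * β v) • c' =
      (z.1 1 0 * α v + (z.1 1 1 - 1) * β v) • c' +
        (y.1 1 0 * (z.1 0 0 * α v + z.1 0 1 * β v) + (y.1 1 1 - 1) * (z.1 1 0 * α v + z.1 1 1 * β v)) • c' := by
    rw [← add_smul]
    congr 1
    ring
  rw [k1, k2]
  abel

variable (α β c c') in
/-- the elements of `SL_2` induced by `H` -/
def HR (H : Subgroup (V ≃ₗ[F] V)) (h1 : α c = 1) (h2 : β c = 0) (h3 : α c' = 0) (h4 : β c' = 1) :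
    Subgroup (Matrix.SpecialLinearGroup (Fin 2) F) where
  carrier := {y | ∃ h ∈ H, ∀ v, h v = R α β c c' y v}
  mul_mem' := by
    rintro y z ⟨h, hh, hy⟩ ⟨k, hk, hz⟩
    refine ⟨h * k, mul_mem hh hk, fun v => ?_⟩
    rw [LinearEquiv.mul_apply, hy, hz, R_mul h1 h2 h3 h4]
  one_mem' := ⟨1, one_mem _, fun v => by rw [R_one]; rfl⟩
  inv_mem' := by
    rintro y ⟨h, hh, hy⟩
    refine ⟨h⁻¹, inv_mem hh, fun v => ?_⟩
    change h.symm v = _
    rw [LinearEquiv.symm_apply_eq, hy, R_mul h1 h2 h3 h4, mul_inv_cancel, R_one]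

end

section

variable {F V : Type*} [Field F] [Finite F] [AddCommGroup V] [Module F V] {σ : F →+* F}
  {B : V →ₛₗ[σ] V →ₗ[F] F} {H : Subgroup (V ≃ₗ[F] V)}

/-- **two transvections with non-orthogonal centres** -/
theorem exists_j (hB : HForm B) (h2 : (2 : F) ≠ 0) {c c' : V} (hc : B c c = 0) (hc' : B c' c' = 0) (hcc : B c c' ≠ 0)
    {l l' : F} (hl : l ≠ 0) (hl' : l' ≠ 0) {g g' : V ≃ₗ[F] V} (hg : IsTv B c l g) (hg' : IsTv B c' l' g')
    (hgH : g ∈ H) (hgH' : g' ∈ H) :
    ∃ j ∈ H, (∀ a b : F, j (j (a • c + b • c')) = -(a • c + b • c')) ∧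
      (∀ a b : F, ∃ a' b' : F, j (a • c + b • c') = a' • c + b' • c') ∧
      (¬ ∃ m : F, j c = m • c ∧ j c' = m • c') ∧ ∀ u, B c u = 0 → B c' u = 0 → j u = u := by
  have hcc' : B c' c ≠ 0 := fun e => hcc (hB.swap_zero e)
  let α : V →ₗ[F] F := (B c' c)⁻¹ • B c'
  let β : V →ₗ[F] F := (B c c')⁻¹ • B c
  have hα : ∀ v, α v = (B c' c)⁻¹ * B c' v := fun v => rfl
  have hβ : ∀ v, β v = (B c c')⁻¹ * B c v := fun v => rfl
  have e1 : α c = 1 := by rw [hα, inv_mul_cancel₀ hcc']
  have e2 : β c = 0 := by rw [hβ, hc, mul_zero]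
  have e3 : α c' = 0 := by rw [hα, hc', mul_zero]
  have e4 : β c' = 1 := by rw [hβ, inv_mul_cancel₀ hcc]
  let x : Matrix.SpecialLinearGroup (Fin 2) F := ⟨!![1, l * B c c'; 0, 1], by simp [Matrix.det_fin_two]⟩
  let x' : Matrix.SpecialLinearGroup (Fin 2) F := ⟨!![1, 0; l' * B c' c, 1], by simp [Matrix.det_fin_two]⟩
  have hx : x ∈ HR α β c c' H e1 e2 e3 e4 := by
    refine ⟨g, hgH, fun v => ?_⟩
    rw [hg v]
    have k1 : R α β c c' x v = v + ((1 - 1) * α v + (l * B c c') * β v) • c + (0 * α v + (1 - 1) * β v) • c' := rfl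
    rw [k1, hβ]
    have k2 : ((1 : F) - 1) * α v + l * B c c' * ((B c c')⁻¹ * B c v) = l * B c v := by
      rw [mul_assoc l, mul_inv_cancel_left₀ hcc]
      ring
    have k3 : (0 : F) * α v + (1 - 1) * ((B c c')⁻¹ * B c v) = 0 := by ring
    rw [k2, k3, zero_smul, add_zero]
  have hx' : x' ∈ HR α β c c' H e1 e2 e3 e4 := by
    refine ⟨g', hgH', fun v => ?_⟩
    rw [hg' v]
    have k1 : R α β c c' x' v = v + ((1 - 1) * α v + 0 * β v) • c + ((l' * B c' c) * α v + (1 - 1) * β v) • c' := rfl
    rw [k1, hα]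
    have k2 : ((1 : F) - 1) * ((B c' c)⁻¹ * B c' v) + 0 * β v = 0 := by ring
    have k3 : l' * B c' c * ((B c' c)⁻¹ * B c' v) + (1 - 1) * β v = l' * B c' v := by
      rw [mul_assoc l', mul_inv_cancel_left₀ hcc']
      ring
    rw [k2, k3, zero_smul, add_zero]
  obtain ⟨y, ⟨j, hjH, hj⟩, hyy⟩ := Cfsg.Agent.H411.L4.exists_sq h2 (mul_ne_zero hl hcc) (mul_ne_zero hl' hcc')
    (HR α β c c' H e1 e2 e3 e4) hx hx' rfl rfl
  have hαl : ∀ a b : F, α (a • c + b • c') = a := by
    intro a b
    rw [map_add, map_smul, map_smul, e1, e3, smul_eq_mul, smul_eq_mul, mul_one, mul_zero, add_zero]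
  have hβl : ∀ a b : F, β (a • c + b • c') = b := by
    intro a b
    rw [map_add, map_smul, map_smul, e2, e4, smul_eq_mul, smul_eq_mul, mul_one, mul_zero, zero_add]
  have hjl : ∀ a b : F, j (a • c + b • c') = (y.1 0 0 * a + y.1 0 1 * b) • c + (y.1 1 0 * a + y.1 1 1 * b) • c' := by
    intro a b
    rw [hj, R_apply, hαl, hβl]
    module
  have hE : ∀ i k, y.1 i 0 * y.1 0 k + y.1 i 1 * y.1 1 k = (-1 : Matrix (Fin 2) (Fin 2) F) i k := by
    intro i k
    rw [← hyy, Matrix.mul_apply, Fin.sum_univ_two]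
  have h00 := hE 0 0
  have h01 := hE 0 1
  have h10 := hE 1 0
  have h11 := hE 1 1
  rw [Matrix.neg_apply, Matrix.one_apply_eq] at h00 h11
  rw [Matrix.neg_apply, Matrix.one_apply_ne (by decide), neg_zero] at h01 h10
  refine ⟨j, hjH, ?_, ?_, ?_, ?_⟩
  · intro a b
    rw [hjl, hjl]
    have k1 : y.1 0 0 * (y.1 0 0 * a + y.1 0 1 * b) + y.1 0 1 * (y.1 1 0 * a + y.1 1 1 * b) = -a := by
      linear_combination a * h00 + b * h01
    have k2 : y.1 1 0 * (y.1 0 0 * a + y.1 0 1 * b) + y.1 1 1 * (y.1 1 0 * a + y.1 1 1 * b) = -b := by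
      linear_combination a * h10 + b * h11
    rw [k1, k2]
    module
  · intro a b
    exact ⟨_, _, hjl a b⟩
  · rintro ⟨m, hm1, hm2⟩
    have k1 := hjl 1 0
    have k2 := hjl 0 1
    rw [one_smul, zero_smul, add_zero, hm1] at k1
    rw [one_smul, zero_smul, zero_add, hm2] at k2
    have k3 := congrArg α k1
    have k4 := congrArg β k1
    have k5 := congrArg α k2
    have k6 := congrArg β k2
    rw [hαl, map_smul, e1, smul_eq_mul, mul_one] at k3
    rw [hβl, map_smul, e2, smul_eq_mul, mul_zero] at k4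
    rw [hαl, map_smul, e3, smul_eq_mul, mul_zero] at k5
    rw [hβl, map_smul, e4, smul_eq_mul, mul_one] at k6
    have hdet := y.2
    rw [Matrix.det_fin_two] at hdet
    apply h2
    have k7 : y.1 0 0 = m := by linear_combination -k3
    have k8 : y.1 1 0 = 0 := by linear_combination -k4
    have k9 : y.1 0 1 = 0 := by linear_combination -k5
    have k10 : y.1 1 1 = m := by linear_combination -k6
    rw [k7, k8, k9, k10] at hdet
    rw [k7, k9] at h00
    linear_combination h00 - hdet
  · intro u hu hu'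
    rw [hj, R_apply, hα, hβ, hu, hu']
    simp

end

end Cfsg.Agent.H974.IFU
end

-- part: H974/IFU/Geo
section
/-!
# S5719, `PSU_4(q)`, `q` odd: centres of transvections and the decomposition `V = P + P^⊥` (helper974)

`t = -1` on the nondegenerate plane `P`, `t = 1` on `P^⊥`, `t ∈ H`, no two distinct commuting involutions (`NC`).
* `not_mixed` : a centre `c = c₁ + c₂` of `H` has isotropic components;
* `pp_snd` : then `c₂` is a centre of `H` (all transvections with centre in `P` are in `H`);
* `orth_snd` : two centres of `H` in `P^⊥` are orthogonal.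
-/

set_option autoImplicit false
set_option linter.unusedSectionVars false

namespace Cfsg.Agent.H974.IFU

open Module Subgroup Cfsg Cfsg.Agent.H91.U Cfsg.Agent.H450.UF Cfsg.Agent.H450.Bs Cfsg.Agent.H838.IF

section

variable {F V : Type*} [Field F] [AddCommGroup V] [Module F V]

/-- no two distinct commuting involutions modulo scalars -/
def NC (H : Subgroup (V ≃ₗ[F] V)) : Prop :=
  ∀ s ∈ H, ∀ t ∈ H, ¬ Scal s → ¬ Scal t → Scal (s * s) → Scal (t * t) → s * t = t * s → ∃ a : F, ∀ v, s v = a • t v

variable [Finite F] [FiniteDimensional F V] {σ : F →+* F} {B : V →ₛₗ[σ] V →ₗ[F] F} {H : Subgroup (V ≃ₗ[F] V)}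

theorem B_left (hB : HForm B) (x y z : V) : B (x + y) z = B x z + B y z := by
  rw [map_add, LinearMap.add_apply]

/-- a plane is spanned by two isotropic vectors which are not orthogonal -/
theorem span_two (hB : HForm B) {W : Submodule F V} (hW : finrank F W = 2) {d d' : V} (hd : d ∈ W) (hd' : d' ∈ W)
    (h0 : B d d = 0) (h0' : B d' d' = 0) (hne : B d d' ≠ 0) {y : V} (hy : y ∈ W) : ∃ a b : F, y = a • d + b • d' := by
  have hne' : B d' d ≠ 0 := fun e => hne (hB.swap_zero e)
  let w : Fin 2 → W := ![⟨d, hd⟩, ⟨d', hd'⟩]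
  have hli : LinearIndependent F w := by
    rw [LinearIndependent.pair_iff]
    intro a b hab
    have h1 : a • d + b • d' = 0 := congrArg Subtype.val hab
    have h2 : B d (a • d + b • d') = 0 := by rw [h1, map_zero]
    have h3 : B d' (a • d + b • d') = 0 := by rw [h1, map_zero]
    rw [map_add, smul_right, smul_right, h0, mul_zero, zero_add] at h2
    rw [map_add, smul_right, smul_right, h0', mul_zero, add_zero] at h3
    exact ⟨(mul_eq_zero.1 h3).resolve_right hne', (mul_eq_zero.1 h2).resolve_right hne⟩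
  have hsp : Submodule.span F (Set.range w) = ⊤ := by
    apply Submodule.eq_top_of_finrank_eq
    rw [finrank_span_eq_card hli, Fintype.card_fin, hW]
  have h1 : (⟨y, hy⟩ : W) ∈ Submodule.span F (Set.range w) := by rw [hsp]; trivial
  rw [Submodule.mem_span_range_iff_exists_fun] at h1
  obtain ⟨f, hf⟩ := h1
  refine ⟨f 0, f 1, ?_⟩
  have h2 := congrArg Subtype.val hf
  rw [Fin.sum_univ_two] at h2
  exact h2.symm

variable {P : Submodule F V} {t : V ≃ₗ[F] V}

theorem decomp (hB : HForm B) (hP : NP B P) (v : V) : ∃ x ∈ P, ∃ y ∈ pp B P, v = x + y := by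
  obtain ⟨a, ha, b, hb, rfl⟩ := exists_decomp hB hP.nd v
  exact ⟨a, ha, b, fun z hz => hB.swap_zero (hb z hz), rfl⟩

theorem tt (hB : HForm B) (hP : NP B P) (ht : Neg B t P) (v : V) : t (t v) = v := by
  obtain ⟨x, hx, y, hy, rfl⟩ := decomp hB hP v
  rw [map_add, ht.1 x hx, ht.2 y hy, map_add, map_neg, ht.1 x hx, ht.2 y hy, neg_neg]

theorem self_add_self (h2 : (2 : F) ≠ 0) {v : V} (h : v = -v) : v = 0 := by
  have h1 : (2 : F) • v = 0 := by
    rw [two_smul]
    nth_rewrite 1 [h]
    exact neg_add_cancel v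
  exact (smul_eq_zero.1 h1).resolve_left h2

/-- **the components of a centre are isotropic** -/
theorem not_mixed (hB : HForm B) (h2 : (2 : F) ≠ 0) (hH : H ≤ SIso B) (hP : NP B P) (ht : Neg B t P) (htH : t ∈ H)
    (hNC : NC H) {c₁ c₂ : V} (h1 : c₁ ∈ P) (h1' : c₂ ∈ pp B P) (hc : B (c₁ + c₂) (c₁ + c₂) = 0)
    (hp : PP B H (c₁ + c₂)) : B c₁ c₁ = 0 := by
  by_contra hne
  have h21 : B c₂ c₁ = 0 := h1' c₁ h1
  have h12 : B c₁ c₂ = 0 := hB.swap_zero h21
  have hsum : B c₁ c₁ + B c₂ c₂ = 0 := by
    rw [B_left hB, map_add, map_add, h12, h21] at hc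
    linear_combination hc
  have htc : t (c₁ + c₂) = -c₁ + c₂ := by rw [map_add, ht.1 c₁ h1, ht.2 c₂ h1']
  have hiso : ∀ x y, B (t x) (t y) = B x y := (hH htH).2
  have hp' : PP B H (-c₁ + c₂) := by
    have := hp.map htH hiso
    rwa [htc] at this
  have hc' : B (-c₁ + c₂) (-c₁ + c₂) = 0 := by
    rw [← htc, hiso]
    exact hc
  have hcc : B (c₁ + c₂) (-c₁ + c₂) ≠ 0 := by
    rw [B_left hB, map_add, map_add, map_neg, map_neg, h12, h21]
    intro h
    apply hne
    have : (2 : F) * B c₁ c₁ = 0 := by linear_combination hsum - h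
    exact (mul_eq_zero.1 this).resolve_left h2
  obtain ⟨l, hl0, hl⟩ := exists_trz hB
  obtain ⟨g, hg⟩ := exists_tv hc l
  obtain ⟨g', hg'⟩ := exists_tv hc' l
  obtain ⟨j, hj, hj1, hj2, hj3, hj4⟩ := exists_j hB h2 hc hc' hcc hl0 hl0 hg hg' (hp l hl g hg) (hp' l hl g' hg')
  -- `j² = -1` on `⟨c₁, c₂⟩`
  have hs1 : j (j c₁) = -c₁ := by
    have e1 : c₁ = (2 : F)⁻¹ • (c₁ + c₂) + (-(2 : F)⁻¹) • (-c₁ + c₂) := by
      have e2 : (2 : F)⁻¹ • (c₁ + c₂) + (-(2 : F)⁻¹) • (-c₁ + c₂) = ((2 : F)⁻¹ * 2) • c₁ := by module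
      rw [e2, inv_mul_cancel₀ h2, one_smul]
    have := hj1 (2 : F)⁻¹ (-(2 : F)⁻¹)
    rwa [← e1] at this
  have hs2 : j (j c₂) = -c₂ := by
    have e1 : c₂ = (2 : F)⁻¹ • (c₁ + c₂) + (2 : F)⁻¹ • (-c₁ + c₂) := by
      have e2 : (2 : F)⁻¹ • (c₁ + c₂) + (2 : F)⁻¹ • (-c₁ + c₂) = ((2 : F)⁻¹ * 2) • c₂ := by module
      rw [e2, inv_mul_cancel₀ h2, one_smul]
    have := hj1 (2 : F)⁻¹ (2 : F)⁻¹
    rwa [← e1] at this
  have hs3 : ∀ u, B c₁ u = 0 → B c₂ u = 0 → j (j u) = u := by
    intro u hu hu'
    have e1 : j u = u := hj4 u (by rw [B_left hB, hu, hu', add_zero]) (by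
      rw [B_left hB, map_neg, LinearMap.neg_apply, hu, hu', neg_zero, add_zero])
    rw [e1, e1]
  have h22 : B c₂ c₂ ≠ 0 := by
    intro h
    rw [h, add_zero] at hsum
    exact hne hsum
  have hc10 : c₁ ≠ 0 := by
    rintro rfl
    rw [map_zero] at hne
    exact hne rfl
  have hc20 : c₂ ≠ 0 := by
    rintro rfl
    rw [map_zero] at h22
    exact h22 rfl
  -- every vector is the sum of a multiple of `c₁`, a multiple of `c₂` and an orthogonal vector
  have hdec : ∀ v, ∃ a b : F, ∃ u, B c₁ u = 0 ∧ B c₂ u = 0 ∧ v = a • c₁ + b • c₂ + u := by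
    intro v
    refine ⟨B c₁ v / B c₁ c₁, B c₂ v / B c₂ c₂, v - (B c₁ v / B c₁ c₁) • c₁ - (B c₂ v / B c₂ c₂) • c₂, ?_, ?_, by module⟩
    · rw [map_sub, map_sub, smul_right, smul_right, h12, div_mul_cancel₀ _ hne, mul_zero, sub_self, sub_zero]
    · rw [map_sub, map_sub, smul_right, smul_right, h21, div_mul_cancel₀ _ h22, mul_zero, sub_zero, sub_self]
  have hs : ∀ a b : F, ∀ u, B c₁ u = 0 → B c₂ u = 0 → (j * j) (a • c₁ + b • c₂ + u) = -(a • c₁) - b • c₂ + u := by
    intro a b u hu hu'
    rw [LinearEquiv.mul_apply, map_add, map_add, map_add, map_add, map_smul, map_smul, map_smul, map_smul, hs1, hs2,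
      hs3 u hu hu']
    module
  -- a vector of `P` orthogonal to `c₁`
  obtain ⟨u, huP, hu0, hu⟩ : ∃ u ∈ P, u ≠ 0 ∧ B c₁ u = 0 := by
    by_contra hcon
    push Not at hcon
    let φ : P →ₗ[F] F := (B c₁).comp P.subtype
    have hinj : LinearMap.ker φ = ⊥ := by
      rw [LinearMap.ker_eq_bot']
      intro x hx
      by_contra hx0
      exact hcon x x.2 (fun e => hx0 (Subtype.ext e)) hx
    have h3 := LinearMap.finrank_range_add_finrank_ker φ
    rw [hinj, finrank_bot, hP.dim] at h3
    have h4 : finrank F (LinearMap.range φ) ≤ 1 := (Submodule.finrank_le _).trans (by rw [finrank_self])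
    omega
  have hu2 : B c₂ u = 0 := h1' u huP
  have hnu : ∀ {s : V ≃ₗ[F] V}, s u = u → s c₁ = -c₁ → ¬ Scal s := by
    rintro s hs1 hs2 ⟨a, ha⟩
    have e1 : u = a • u := by rw [← ha, hs1]
    have e2 : a • c₁ = -c₁ := by rw [← ha, hs2]
    have e3 : a = 1 := by
      have : (a - 1) • u = 0 := by rw [sub_smul, one_smul, ← e1, sub_self]
      exact sub_eq_zero.1 ((smul_eq_zero.1 this).resolve_right hu0)
    rw [e3, one_smul] at e2
    exact hc10 (self_add_self h2 e2)
  obtain ⟨a, ha⟩ := hNC (j * j) (mul_mem hj hj) t htH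
    (hnu (by
      have := hs 0 0 u hu hu2
      rwa [zero_smul, zero_smul, zero_add, zero_add, neg_zero, zero_sub, neg_zero, zero_add] at this) (by
      rw [LinearEquiv.mul_apply, hs1]))
    (by
      rintro ⟨a, ha⟩
      have e1 : a • c₂ = c₂ := by rw [← ha, ht.2 c₂ h1']
      have e2 : a • c₁ = -c₁ := by rw [← ha, ht.1 c₁ h1]
      have e3 : a = 1 := by
        have : (a - 1) • c₂ = 0 := by rw [sub_smul, one_smul, e1, sub_self]
        exact sub_eq_zero.1 ((smul_eq_zero.1 this).resolve_right hc20)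
      rw [e3, one_smul] at e2
      exact hc10 (self_add_self h2 e2))
    ⟨1, fun v => by
      obtain ⟨a, b, u, hu, hu', rfl⟩ := hdec v
      rw [LinearEquiv.mul_apply, hs a b u hu hu']
      have := hs (-a) (-b) u hu hu'
      rw [neg_smul, neg_smul] at this
      rw [sub_eq_add_neg, this]
      module⟩
    ⟨1, fun v => by rw [LinearEquiv.mul_apply, tt hB hP ht, one_smul]⟩
    (by
      apply LinearEquiv.ext
      intro v
      obtain ⟨a, b, u, hu, hu', rfl⟩ := hdec v
      have htu : B c₁ (t u) = 0 ∧ B c₂ (t u) = 0 := by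
        constructor
        · rw [← hiso, tt hB hP ht, ht.1 c₁ h1, map_neg, LinearMap.neg_apply, hu, neg_zero]
        · rw [← hiso, tt hB hP ht, ht.2 c₂ h1', hu']
      have e1 : t (a • c₁ + b • c₂ + u) = (-a) • c₁ + b • c₂ + t u := by
        rw [map_add, map_add, map_smul, map_smul, ht.1 c₁ h1, ht.2 c₂ h1']
        module
      rw [LinearEquiv.mul_apply (j * j) t, LinearEquiv.mul_apply t (j * j), e1, hs (-a) b (t u) htu.1 htu.2,
        hs a b u hu hu']
      rw [map_add, map_sub, map_neg, map_smul, map_smul, ht.1 c₁ h1, ht.2 c₂ h1']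
      module)
  -- the contradiction
  have e1 : (j * j) c₁ = -c₁ := by rw [LinearEquiv.mul_apply, hs1]
  have e2 : (j * j) c₂ = -c₂ := by rw [LinearEquiv.mul_apply, hs2]
  rw [ha, ht.1 c₁ h1, smul_neg, neg_inj] at e1
  rw [ha, ht.2 c₂ h1'] at e2
  have e3 : a = 1 := by
    have : (a - 1) • c₁ = 0 := by rw [sub_smul, one_smul, e1, sub_self]
    exact sub_eq_zero.1 ((smul_eq_zero.1 this).resolve_right hc10)
  rw [e3, one_smul] at e2
  exact hc20 (self_add_self h2 e2)

/-- **the second component of a centre is a centre** -/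
theorem pp_snd (hB : HForm B) (h2 : (2 : F) ≠ 0) (hH : H ≤ SIso B) (ht : Neg B t P) (htH : t ∈ H)
    (hO : On B H P) {c₁ c₂ : V} (h1 : c₁ ∈ P) (h1' : c₂ ∈ pp B P) (h11 : B c₁ c₁ = 0) (h22 : B c₂ c₂ = 0)
    (hp : PP B H (c₁ + c₂)) : PP B H c₂ := by
  intro l hl g hg
  have h21 : B c₂ c₁ = 0 := h1' c₁ h1
  have h12 : B c₁ c₂ = 0 := hB.swap_zero h21
  have hiso : ∀ x y, B (t x) (t y) = B x y := (hH htH).2
  have htc : t (c₁ + c₂) = -c₁ + c₂ := by rw [map_add, ht.1 c₁ h1, ht.2 c₂ h1']
  have hp' : PP B H (-c₁ + c₂) := by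
    have := hp.map htH hiso
    rwa [htc] at this
  have hc : B (c₁ + c₂) (c₁ + c₂) = 0 := by
    rw [B_left hB, map_add, map_add, h12, h21, h11, h22]
    ring
  have hc' : B (-c₁ + c₂) (-c₁ + c₂) = 0 := by
    rw [← htc, hiso]
    exact hc
  have hm : (2 : F)⁻¹ * l + σ ((2 : F)⁻¹ * l) = 0 := by
    have e : σ (2 : F)⁻¹ = (2 : F)⁻¹ := by rw [map_inv₀, map_ofNat]
    rw [map_mul, e, ← mul_add, hl, mul_zero]
  obtain ⟨g1, hg1⟩ := exists_tv hc ((2 : F)⁻¹ * l)
  obtain ⟨g2, hg2⟩ := exists_tv hc' ((2 : F)⁻¹ * l)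
  have hl' : -l + σ (-l) = 0 := by rw [map_neg]; linear_combination -hl
  obtain ⟨g3, hg3⟩ := exists_tv h11 (-l)
  have hg3H : g3 ∈ H := by
    by_cases h0 : c₁ = 0
    · have : g3 = 1 := by
        apply LinearEquiv.ext
        intro v
        rw [hg3 v, h0, smul_zero, add_zero]
        rfl
      rw [this]
      exact one_mem H
    · exact hO c₁ h1 h0 h11 (-l) hl' g3 hg3
  have hprod : g = g1 * g2 * g3 := by
    apply LinearEquiv.ext
    intro v
    rw [LinearEquiv.mul_apply, LinearEquiv.mul_apply, hg3 v, hg2, hg1, hg v]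
    have e1 : B (-c₁ + c₂) (v + (-l * B c₁ v) • c₁) = -B c₁ v + B c₂ v := by
      rw [B_left hB, map_neg, LinearMap.neg_apply, map_add, map_add, smul_right, smul_right, h11, h21]
      ring
    rw [e1]
    have e2 : B (c₁ + c₂) (v + (-l * B c₁ v) • c₁ + ((2 : F)⁻¹ * l * (-B c₁ v + B c₂ v)) • (-c₁ + c₂)) =
        B c₁ v + B c₂ v := by
      rw [B_left hB]
      simp only [map_add, smul_right, map_neg, h11, h12, h21, h22]
      ring
    rw [e2]
    have e3 : v + (-l * B c₁ v) • c₁ + ((2 : F)⁻¹ * l * (-B c₁ v + B c₂ v)) • (-c₁ + c₂) +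
        ((2 : F)⁻¹ * l * (B c₁ v + B c₂ v)) • (c₁ + c₂) =
        v + (((2 : F)⁻¹ * 2 - 1) * (l * B c₁ v)) • c₁ + (((2 : F)⁻¹ * 2) * (l * B c₂ v)) • c₂ := by module
    rw [e3, inv_mul_cancel₀ h2, sub_self, zero_mul, zero_smul, add_zero, one_mul]
  rw [hprod]
  exact mul_mem (mul_mem (hp _ hm g1 hg1) (hp' _ hm g2 hg2)) hg3H

/-- **two centres in `P^⊥` are orthogonal** -/
theorem orth_snd (hB : HForm B) (h2 : (2 : F) ≠ 0) (hV : finrank F V = 4) (hP : NP B P) (ht : Neg B t P)
    (htH : t ∈ H) (hNC : NC H) (hO : On B H P) {d d' : V} (h1 : d ∈ pp B P) (h1' : d' ∈ pp B P) (hd : B d d = 0)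
    (hd' : B d' d' = 0) {l l' : F} (hl : l ≠ 0) (hl' : l' ≠ 0) {g g' : V ≃ₗ[F] V} (hg : IsTv B d l g)
    (hg' : IsTv B d' l' g') (hgH : g ∈ H) (hgH' : g' ∈ H) : B d d' = 0 := by
  by_contra hne
  obtain ⟨j, hj, hj1, hj2, hj3, hj4⟩ := exists_j hB h2 hd hd' hne hl hl' hg hg' hgH hgH'
  obtain ⟨e, he, f, hf, hee, hff, hef⟩ := Cfsg.Agent.H450.Bs.exists_hyp hB hP.nd (by rw [hP.dim])
  have hef0 : B e f ≠ 0 := by rw [hef]; exact one_ne_zero
  have he0 : e ≠ 0 := by
    rintro rfl
    rw [map_zero] at hef0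
    exact hef0 rfl
  have hf0 : f ≠ 0 := by
    rintro rfl
    rw [map_zero] at hef0
    exact hef0 rfl
  obtain ⟨m, hm0, hm⟩ := exists_trz hB
  obtain ⟨x, hx⟩ := exists_tv hee m
  obtain ⟨x', hx'⟩ := exists_tv hff m
  obtain ⟨i, hi, hi1, hi2, hi3, hi4⟩ := exists_j hB h2 hee hff hef0 hm0 hm0 hx hx' (hO e he he0 hee m hm x hx)
    (hO f hf hf0 hff m hm x' hx')
  have hdim : finrank F (pp B P) = 2 := by
    have := finrank_pp hB P
    rw [hP.dim, hV] at this
    omega
  have hPs : ∀ {y : V}, y ∈ P → ∃ a b : F, y = a • e + b • f := fun {y} hy => span_two hB hP.dim he hf hee hff hef0 hy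
  have hQs : ∀ {y : V}, y ∈ pp B P → ∃ a b : F, y = a • d + b • d' :=
    fun {y} hy => span_two hB hdim h1 h1' hd hd' hne hy
  have hiP : ∀ y ∈ P, i y ∈ P ∧ i (i y) = -y := by
    intro y hy
    obtain ⟨a, b, rfl⟩ := hPs hy
    refine ⟨?_, hi1 a b⟩
    obtain ⟨a', b', h⟩ := hi2 a b
    rw [h]
    exact P.add_mem (P.smul_mem _ he) (P.smul_mem _ hf)
  have hjQ : ∀ y ∈ pp B P, j y ∈ pp B P ∧ j (j y) = -y := by
    intro y hy
    obtain ⟨a, b, rfl⟩ := hQs hy
    refine ⟨?_, hj1 a b⟩
    obtain ⟨a', b', h⟩ := hj2 a b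
    rw [h]
    exact (pp B P).add_mem ((pp B P).smul_mem _ h1) ((pp B P).smul_mem _ h1')
  have hiQ : ∀ y ∈ pp B P, i y = y := fun y hy => hi4 y (hB.swap_zero (hy e he)) (hB.swap_zero (hy f hf))
  have hjP : ∀ y ∈ P, j y = y := fun y hy => hj4 y (h1 y hy) (h1' y hy)
  have hs1 : ∀ y ∈ P, (i * j) y = i y := fun y hy => by rw [LinearEquiv.mul_apply, hjP y hy]
  have hs2 : ∀ y ∈ pp B P, (i * j) y = j y := fun y hy => by rw [LinearEquiv.mul_apply, hiQ _ (hjQ y hy).1]
  have hd0 : d ≠ 0 := by
    rintro rfl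
    rw [map_zero] at hne
    exact hne rfl
  obtain ⟨a, ha⟩ := hNC (i * j) (mul_mem hi hj) t htH
    (by
      rintro ⟨a, ha⟩
      exact hi3 ⟨a, by rw [← hs1 e he, ha], by rw [← hs1 f hf, ha]⟩)
    (by
      rintro ⟨a, ha⟩
      have e1 : a • d = d := by rw [← ha, ht.2 d h1]
      have e2 : a • e = -e := by rw [← ha, ht.1 e he]
      have e3 : a = 1 := by
        have : (a - 1) • d = 0 := by rw [sub_smul, one_smul, e1, sub_self]
        exact sub_eq_zero.1 ((smul_eq_zero.1 this).resolve_right hd0)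
      rw [e3, one_smul] at e2
      exact he0 (self_add_self h2 e2))
    ⟨-1, fun v => by
      obtain ⟨y, hy, z, hz, rfl⟩ := decomp hB hP v
      rw [LinearEquiv.mul_apply, map_add, hs1 y hy, hs2 z hz, map_add, hs1 _ (hiP y hy).1, hs2 _ (hjQ z hz).1,
        (hiP y hy).2, (hjQ z hz).2]
      module⟩
    ⟨1, fun v => by rw [LinearEquiv.mul_apply, tt hB hP ht, one_smul]⟩
    (by
      apply LinearEquiv.ext
      intro v
      obtain ⟨y, hy, z, hz, rfl⟩ := decomp hB hP v
      rw [LinearEquiv.mul_apply (i * j) t, LinearEquiv.mul_apply t (i * j), map_add t, ht.1 y hy, ht.2 z hz, map_add,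
        map_add, map_neg, hs1 y hy, hs2 z hz, map_add, ht.1 _ (hiP y hy).1, ht.2 _ (hjQ z hz).1])
  apply hi3
  refine ⟨-a, ?_, ?_⟩
  · rw [← hs1 e he, ha, ht.1 e he]
    module
  · rw [← hs1 f hf, ha, ht.1 f hf]
    module

end

end Cfsg.Agent.H974.IFU
end

-- part: H974/IFU/Vee
section
/-!
# S5719, `PSU_4(q)`: the orthogonal plane (helper974)

* `np_pp`, `pp_pp`, `neg_SIso`, `neg_pp` : replacing `P` by `P^⊥` and `t` by `-t`.
* `orth_line` : the vectors of a nondegenerate plane orthogonal to an isotropic vector.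
-/

set_option autoImplicit false
set_option linter.unusedSectionVars false

namespace Cfsg.Agent.H974.IFU

open Module Subgroup Cfsg Cfsg.Agent.H91.U Cfsg.Agent.H450.UF Cfsg.Agent.H450.Bs Cfsg.Agent.H838.IF

section

variable {F V : Type*} [Field F] [AddCommGroup V] [Module F V] [Finite F] [FiniteDimensional F V] {σ : F →+* F}
  {B : V →ₛₗ[σ] V →ₗ[F] F} {H : Subgroup (V ≃ₗ[F] V)} {P : Submodule F V}

theorem np_pp (hB : HForm B) (hV : finrank F V = 4) (hP : NP B P) : NP B (pp B P) := by
  refine ⟨?_, ?_⟩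
  · have := finrank_pp hB P
    rw [hP.dim, hV] at this
    omega
  · intro x hx hxy
    apply hB.nd.1 x
    intro y
    obtain ⟨a, ha, b, hb, rfl⟩ := decomp hB hP y
    rw [map_add, hx a ha, hxy b hb, add_zero]

theorem pp_pp (hB : HForm B) (hP : NP B P) : pp B (pp B P) = P := by
  apply le_antisymm
  · intro u hu
    obtain ⟨a, ha, b, hb, rfl⟩ := decomp hB hP u
    have hb0 : b = 0 := by
      apply hB.nd.1 b
      intro y
      obtain ⟨c, hc, d, hd, rfl⟩ := decomp hB hP y
      rw [map_add, hb c hc, zero_add]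
      have h1 := hu d hd
      rw [B_left hB, hB.swap_zero (hd a ha), zero_add] at h1
      exact h1
    rw [hb0, add_zero]
    exact ha
  · intro u hu z hz
    exact hB.swap_zero (hz u hu)

theorem neg_SIso (hV : finrank F V = 4) : (LinearEquiv.neg F : V ≃ₗ[F] V) ∈ SIso B := by
  refine ⟨?_, fun x y => ?_⟩
  · apply Units.ext
    rw [LinearEquiv.coe_det, Units.val_one]
    have h1 : ((LinearEquiv.neg F : V ≃ₗ[F] V) : V →ₗ[F] V) = (-1 : F) • LinearMap.id := by
      ext v
      simp
    rw [h1, LinearMap.det_smul, hV, LinearMap.det_id]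
    norm_num
  · rw [LinearEquiv.neg_apply, LinearEquiv.neg_apply, map_neg, map_neg, LinearMap.neg_apply, neg_neg]

theorem neg_pp (hB : HForm B) (hP : NP B P) {t : V ≃ₗ[F] V} (ht : Neg B t P) :
    Neg B (LinearEquiv.neg F * t) (pp B P) := by
  refine ⟨fun x hx => ?_, fun u hu => ?_⟩
  · rw [LinearEquiv.mul_apply, LinearEquiv.neg_apply, ht.2 x hx]
  · rw [pp_pp hB hP] at hu
    rw [LinearEquiv.mul_apply, LinearEquiv.neg_apply, ht.1 u hu, neg_neg]

/-- the vectors of a nondegenerate plane orthogonal to an isotropic vector -/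
theorem orth_line (hB : HForm B) (hP : NP B P) {d u : V} (hd : d ∈ P) (hd0 : d ≠ 0) (hdd : B d d = 0)
    (hu : u ∈ P) (hdu : B d u = 0) : ∃ c : F, u = c • d := by
  obtain ⟨y, hy, hey⟩ : ∃ y ∈ P, B d y ≠ 0 := by
    by_contra hcon
    push Not at hcon
    exact hd0 (hP.nd d hd hcon)
  have h1 : B d ((B d y)⁻¹ • y) = 1 := by rw [smul_right, inv_mul_cancel₀ hey]
  obtain ⟨c, hc⟩ := exists_iso hB hdd h1
  have hm : (B d y)⁻¹ • y + c • d ∈ P := P.add_mem (P.smul_mem _ hy) (P.smul_mem c hd)
  have hne : B d ((B d y)⁻¹ • y + c • d) ≠ 0 := by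
    rw [map_add, h1, smul_right, hdd, mul_zero, add_zero]
    exact one_ne_zero
  obtain ⟨a, b, rfl⟩ := span_two hB hP.dim hd hm hdd hc hne hu
  rw [map_add, smul_right, smul_right, hdd, mul_zero, zero_add] at hdu
  have hb : b = 0 := (mul_eq_zero.1 hdu).resolve_right hne
  exact ⟨a, by rw [hb, zero_smul, add_zero]⟩

end

end Cfsg.Agent.H974.IFU
end

-- part: H974/IFU/Brg
section
/-!
# S5719, `PSU_4(q)`: from `PSU_4(q)` to the special isometry group (helper974)

* `RR_le_iff` : `RR u ≤ A` exactly when the preimage of `A` contains all transvections with centre `u`;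
* `card_RR` : the order of `RR u` is `q`; `RR_ne_bot`;
* `nc_of` : no two distinct commuting involutions;
* `norm_RR` : `g u = c u` implies that `g` normalises `RR u`.
-/

set_option autoImplicit false
set_option linter.unusedSectionVars false

namespace Cfsg.Agent.H974.IFU

open Module Subgroup Cfsg Cfsg.Agent.H91.U Cfsg.Agent.H450.UF Cfsg.Agent.H450.Bs Cfsg.Agent.H838.IF
open Cfsg.Agent.LieClassical.HermBasic Cfsg.Agent.LieClassical.HermSiegel Cfsg.Agent.LieClassical.SUBasic
open Cfsg.Agent.ClassicalGeometry.PSUAutSylow Cfsg.Agent.ClassicalGeometry.PSUAutBasic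
open Cfsg.Agent.H77.Witt (formB formB_apply)
open Cfsg.Agent.H847.IF (HA mem_HA pi_eq_one_iff)

variable {F : Type*} [Field F] [Fintype F] {q n : ℕ}

theorem isTv_toIso (hF : Fintype.card F = q ^ 2) {u : Fin n → F} (hu : hermForm n F q u u = 0) {μ : F}
    (hμ : μ + μ ^ q = 0) : IsTv (formB hF n) u μ (toIso hF (transv hF u hu μ hμ)).1 := by
  intro v
  rw [toIso_apply, act_transv, formB_apply]

theorem RR_le_iff (hF : Fintype.card F = q ^ 2) (A : Subgroup (PSU 4 F q)) {u : Fin 4 → F}
    (hu : hermForm 4 F q u u = 0) : RR hF u hu ≤ A ↔ PP (formB hF 4) (HA hF A) u := by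
  constructor
  · intro h l hl g hg
    have hl' : l + l ^ q = 0 := hl
    have h1 : g = (toIso hF (transv hF u hu l hl')).1 := by
      apply LinearEquiv.ext
      intro v
      rw [hg v, isTv_toIso hF hu hl' v]
    rw [h1, mem_HA, pi_toIso]
    exact h (mem_RR.2 ⟨l, hl', rfl⟩)
  · intro h x hx
    obtain ⟨μ, hμ, rfl⟩ := mem_RR.1 hx
    have h1 := h μ hμ _ (isTv_toIso hF hu hμ)
    rw [mem_HA, pi_toIso] at h1
    exact h1

theorem card_trz (hF : Fintype.card F = q ^ 2) : Nat.card {x : F // x + x ^ q = 0} = q := by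
  obtain ⟨c0, hc0, hc⟩ := exists_trace_zero_ne hF
  have hcq : c0 ^ q = -c0 := by linear_combination hc
  refine (Nat.card_congr ?_).trans (card_fixed hF)
  exact
    { toFun := fun x => ⟨c0⁻¹ * x.1, by
        have h1 : x.1 ^ q = -x.1 := by linear_combination x.2
        rw [mul_pow, inv_pow, hcq, h1, inv_neg, neg_mul_neg]⟩
      invFun := fun x => ⟨c0 * x.1, by rw [mul_pow, hcq, x.2]; ring⟩
      left_inv := fun x => Subtype.ext (mul_inv_cancel_left₀ hc0 _)
      right_inv := fun x => Subtype.ext (inv_mul_cancel_left₀ hc0 _) }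

/-- the transvections with centre `u` are determined by their parameter -/
theorem transv_inj (hF : Fintype.card F = q ^ 2) (hn : 3 ≤ n) {u : Fin n → F} (hu0 : u ≠ 0)
    (hu : hermForm n F q u u = 0) {μ ν : F} (hμ : μ + μ ^ q = 0) (hν : ν + ν ^ q = 0)
    (h : pr n F q (transv hF u hu μ hμ) = pr n F q (transv hF u hu ν hν)) : μ = ν := by
  have h3 := siegel_pr_inj hF hn _ _ h
  obtain ⟨f, -, huf, hfu⟩ := exists_partner hF hu0 hu
  have h4 : act (transv hF u hu μ hμ) f = act (transv hF u hu ν hν) f := congrArg (fun g => act g f) h3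
  rw [act_transv, act_transv, hfu, add_right_inj, mul_one, mul_one] at h4
  have h5 : (μ - ν) • u = 0 := by rw [sub_smul, h4, sub_self]
  exact sub_eq_zero.1 ((smul_eq_zero.1 h5).resolve_right hu0)

theorem card_RR (hF : Fintype.card F = q ^ 2) (hn : 3 ≤ n) {u : Fin n → F} (hu0 : u ≠ 0)
    (hu : hermForm n F q u u = 0) : q ≤ Nat.card (RR hF u hu) := by
  have hfin : Finite (PSU n F q) := Quotient.finite _
  refine (card_trz hF).symm.le.trans ?_
  refine Nat.card_le_card_of_injective (fun x : {x : F // x + x ^ q = 0} =>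
    (⟨pr n F q (transv hF u hu x.1 x.2), mem_RR.2 ⟨x.1, x.2, rfl⟩⟩ : RR hF u hu)) ?_
  intro x y hxy
  exact Subtype.ext (transv_inj hF hn hu0 hu x.2 y.2 (congrArg Subtype.val hxy))

theorem RR_ne_bot (hF : Fintype.card F = q ^ 2) (hn : 3 ≤ n) {u : Fin n → F} (hu0 : u ≠ 0)
    (hu : hermForm n F q u u = 0) : RR hF u hu ≠ ⊥ := by
  intro h
  have h1 := card_RR hF hn hu0 hu
  rw [h, Subgroup.card_bot] at h1
  have h2 := two_le hF
  omega

/-- `g` normalises `RR u` when `u` is an eigenvector of `g` -/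
theorem norm_RR (hF : Fintype.card F = q ^ 2) {u : Fin n → F} (hu : hermForm n F q u u = 0) (g : SU n F q) {c : F}
    (hc : c ≠ 0) (hg : act g u = c • u) {x : PSU n F q} (hx : x ∈ RR hF u hu) :
    pr n F q g * x * (pr n F q g)⁻¹ ∈ RR hF u hu := by
  have hgu : hermForm n F q (act g u) (act g u) = 0 := by rw [herm_act]; exact hu
  have hcu : hermForm n F q (c • u) (c • u) = 0 := by rw [← hg]; exact hgu
  have h1 : RR hF (act g u) hgu = RR hF u hu := by
    rw [RR_congr hF hgu hcu hg, RR_le hF hu hc hcu]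
  rw [← h1, RR_conj hF hu g hgu]
  have h2 : (pr n F q g)⁻¹ * (pr n F q g * x * (pr n F q g)⁻¹) * pr n F q g = x := by group
  rw [h2]
  exact hx

/-- **no two distinct commuting involutions** -/
theorem nc_of (hF : Fintype.card F = q ^ 2) {A : Subgroup (PSU 4 F q)}
    (hno : ∀ s ∈ A, ∀ t ∈ A, orderOf s = 2 → orderOf t = 2 → s * t = t * s → s = t) : NC (HA hF A) := by
  have key : ∀ x : SIso (formB hF 4), ¬ Scal x.1 → Scal (x.1 * x.1) → orderOf (Cfsg.Agent.H450.UF.pi hF 4 x) = 2 := by
    intro x h1 h2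
    apply orderOf_eq_prime
    · rw [pow_two, ← map_mul, pi_eq_one_iff hF (by norm_num)]
      exact h2
    · rw [Ne, pi_eq_one_iff hF (by norm_num)]
      exact h1
  rintro _ ⟨x, hxA, rfl⟩ _ ⟨y, hyA, rfl⟩ hx hy hx2 hy2 hxy
  have hxy' : x * y = y * x := Subtype.ext hxy
  have h1 := hno _ hxA _ hyA (key x hx hx2) (key y hy hy2) (by rw [← map_mul, hxy', map_mul])
  have h2 : Cfsg.Agent.H450.UF.pi hF 4 (x * y⁻¹) = 1 := by rw [map_mul, map_inv, h1, mul_inv_cancel]
  obtain ⟨a, ha⟩ := (pi_eq_one_iff hF (by norm_num) _).1 h2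
  refine ⟨a, fun v => ?_⟩
  have h3 := ha (y.1 v)
  have h4 : (x * y⁻¹).1 (y.1 v) = x.1 v := by
    have h5 : (x * y⁻¹) * y = x := inv_mul_cancel_right _ _
    exact LinearEquiv.congr_fun (congrArg Subtype.val h5) v
  rw [h4] at h3
  exact h3

end Cfsg.Agent.H974.IFU
end

-- part: H974/IFU/UFourRk
section
/-!
# S5719, `PSU_4(q)`, `q` odd: W7, the rank one case (helper974)

* `false_of` : no two distinct commuting involutions, `t = -1` on `P`, `1` on `P^⊥`, all transvections with centre
  in `P` are in `A`;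
* `rank_one` : the hypothesis `rank_one` of `H847.IF.killE_odd`.
-/

set_option autoImplicit false
set_option linter.unusedSectionVars false

namespace Cfsg.Agent.H974.IFU

open Module Subgroup Cfsg Cfsg.Agent.H91.U Cfsg.Agent.H450.UF Cfsg.Agent.H450.Bs Cfsg.Agent.H838.IF
open Cfsg.Agent.H209.Fxy
open Cfsg.Agent.LieClassical.HermBasic Cfsg.Agent.LieClassical.HermSiegel Cfsg.Agent.LieClassical.SUBasic
open Cfsg.Agent.LieClassical.HermGen
open Cfsg.Agent.ClassicalGeometry.PSUAutSylow Cfsg.Agent.ClassicalGeometry.PSUAutBasic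
open Cfsg.Agent.H77.Witt (formB formB_apply)
open Cfsg.Agent.H847.IF (HA mem_HA pi_eq_one_iff)
open Cfsg.Agent.H950 (isoNum)

variable {F : Type*} [Field F] [Fintype F] {q : ℕ}

/-- an isotropic vector in a nondegenerate plane has a partner -/
theorem partner {V : Type*} [AddCommGroup V] [Module F V] [FiniteDimensional F V] {σ : F →+* F}
    {B : V →ₛₗ[σ] V →ₗ[F] F} (hB : HForm B) {P : Submodule F V} (hP : NP B P) {d : V} (hd : d ∈ P) (hd0 : d ≠ 0)
    (hdd : B d d = 0) : ∃ m ∈ P, B m m = 0 ∧ B d m ≠ 0 := by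
  obtain ⟨y, hy, hey⟩ : ∃ y ∈ P, B d y ≠ 0 := by
    by_contra hcon
    push Not at hcon
    exact hd0 (hP.nd d hd hcon)
  have h1 : B d ((B d y)⁻¹ • y) = 1 := by rw [smul_right, inv_mul_cancel₀ hey]
  obtain ⟨c, hc⟩ := exists_iso hB hdd h1
  refine ⟨_, P.add_mem (P.smul_mem _ hy) (P.smul_mem c hd), hc, ?_⟩
  rw [map_add, h1, smul_right, hdd, mul_zero, add_zero]
  exact one_ne_zero

theorem ne_zero_left {V : Type*} [AddCommGroup V] [Module F V] {σ : F →+* F} {B : V →ₛₗ[σ] V →ₗ[F] F} {x y : V}
    (h : B x y ≠ 0) : x ≠ 0 := by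
  rintro rfl
  rw [map_zero] at h
  exact h rfl

theorem ne_zero_right {V : Type*} [AddCommGroup V] [Module F V] {σ : F →+* F} {B : V →ₛₗ[σ] V →ₗ[F] F} {x y : V}
    (h : B x y ≠ 0) : y ≠ 0 := by
  rintro rfl
  rw [map_zero] at h
  exact h rfl

theorem numeric {q n : ℕ} (hq : 2 ≤ q) (h1 : n * (q ^ 2 - 1) ≤ (q ^ 4 - 1) * (q ^ 3 + 1)) (h2 : q ^ 6 < n) : False := by
  have e1 : 1 ≤ q ^ 2 := Nat.one_le_pow _ _ (by omega)
  have e2 : q ^ 4 - 1 = (q ^ 2 + 1) * (q ^ 2 - 1) := by
    have := Nat.sq_sub_sq (q ^ 2) 1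
    rw [one_pow, ← pow_mul] at this
    exact this
  rw [e2, mul_right_comm] at h1
  have e3 : 0 < q ^ 2 - 1 := by
    have : 2 ^ 2 ≤ q ^ 2 := Nat.pow_le_pow_left hq 2
    omega
  have h3 : n ≤ (q ^ 2 + 1) * (q ^ 3 + 1) := Nat.le_of_mul_le_mul_right h1 e3
  have h4 : (q ^ 2 + 1) * (q ^ 3 + 1) ≤ q ^ 6 := by
    obtain ⟨k, rfl⟩ := Nat.exists_eq_add_of_le hq
    have : (2 + k) ^ 6 = ((2 + k) ^ 2 + 1) * ((2 + k) ^ 3 + 1) + (19 + 96 * k + 153 * k ^ 2 + 119 * k ^ 3 + 50 * k ^ 4 +
        11 * k ^ 5 + k ^ 6) := by ring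
    omega
  omega

section

variable {hF : Fintype.card F = q ^ 2} [hs : IsSimpleGroup (PSU 4 F q)] {A : Subgroup (PSU 4 F q)}
  {Γ : Subgroup (MulAut (PSU 4 F q))} {P : Submodule F (Fin 4 → F)} {t : SIso (formB hF 4)}

theorem perm (h : IF A Γ) {τ : MulAut (PSU 4 F q)} (hτ : τ ∈ Γ) {u : Fin 4 → F} (hu0 : u ≠ 0)
    (hu : hermForm 4 F q u u = 0) (hle : RR hF u hu ≤ A) :
    ∃ (u' : Fin 4 → F) (hu' : hermForm 4 F q u' u' = 0), u' ≠ 0 ∧ RR hF u' hu' ≤ A ∧
      (RR hF u hu).map (τ : PSU 4 F q →* PSU 4 F q) = RR hF u' hu' := by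
  obtain ⟨u', hu'0, hu', e⟩ := exists_map_RR hF (by norm_num) τ hu0 hu
  refine ⟨u', hu', hu'0, ?_, e⟩
  rw [← e]
  rintro _ ⟨x, hx, rfl⟩
  exact (h.inv τ hτ x).2 (hle hx)

/-- **Case I.** -/
theorem case_one (h : IF A Γ) (hP : NP (formB hF 4) P) (hO : On (formB hF 4) (HA hF A) P)
    (hcase : ∀ u : Fin 4 → F, u ≠ 0 → ∀ hu : hermForm 4 F q u u = 0, RR hF u hu ≤ A → u ∈ P) : False := by
  have hfin : Finite (PSU 4 F q) := Quotient.finite _
  have hB := hform hF 4
  have hV : finrank F (Fin 4 → F) = 4 := finrank_fin_fun F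
  have cv : ∀ x y : Fin 4 → F, formB hF 4 x y = hermForm 4 F q y x := fun x y => rfl
  let K : Subgroup (PSU 4 F q) := closure {x | ∃ (u : Fin 4 → F) (hu : hermForm 4 F q u u = 0),
    u ≠ 0 ∧ RR hF u hu ≤ A ∧ x ∈ RR hF u hu}
  have hKA : K ≤ A := by
    rw [closure_le]
    rintro x ⟨u, hu, -, h1, h2⟩
    exact h1 h2
  have hKinv : ∀ τ ∈ Γ, ∀ k ∈ K, τ k ∈ K := by
    intro τ hτ k hk
    induction hk using closure_induction with
    | mem x hx =>
      obtain ⟨u, hu, hu0, h1, h2⟩ := hx
      obtain ⟨u', hu', hu'0, h3, h4⟩ := perm h hτ hu0 hu h1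
      exact subset_closure ⟨u', hu', hu'0, h3, by rw [← h4]; exact ⟨x, h2, rfl⟩⟩
    | one => rw [map_one]; exact K.one_mem
    | mul x y _ _ hx hy => rw [map_mul]; exact K.mul_mem hx hy
    | inv x _ hx => rw [map_inv]; exact K.inv_mem hx
  obtain ⟨e, he, f, hf, hee, hff, hef⟩ := Cfsg.Agent.H450.Bs.exists_hyp hB hP.nd (by rw [hP.dim])
  have he0 : e ≠ 0 := ne_zero_left (B := formB hF 4) (y := f) (by rw [hef]; exact one_ne_zero)
  have hKne : K ≠ ⊥ := by
    intro hK
    apply RR_ne_bot hF (by norm_num) he0 hee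
    rw [eq_bot_iff, ← hK]
    intro x hx
    exact subset_closure ⟨e, hee, he0, (RR_le_iff hF A hee).2 (hO e he he0 hee), hx⟩
  have hQ := np_pp hB hV hP
  obtain ⟨d, hd, d', hd', hdd, hdd', hdd1⟩ := Cfsg.Agent.H450.Bs.exists_hyp hB hQ.nd (by rw [hQ.dim])
  have hd0 : d ≠ 0 := ne_zero_left (B := formB hF 4) (y := d') (by rw [hdd1]; exact one_ne_zero)
  have h5 : RR hF d hdd ≤ A := by
    intro x hx
    refine Cfsg.Agent.H680.Fxy.IF.norm h hKA hKinv hKne ?_
    have h6 : ∀ k ∈ K, x * k = k * x := by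
      intro k hk
      induction hk using closure_induction with
      | mem y hy =>
        obtain ⟨u, hu, hu0, h1, h2⟩ := hy
        refine (RR_commute_iff hF (by norm_num) hd0 hu0 hdd hu).2 ?_ x hx y h2
        have h7 : formB hF 4 d u = 0 := hd u (hcase u hu0 hu h1)
        exact hB.swap_zero h7
      | one => rw [mul_one, one_mul]
      | mul y z _ _ hy hz => rw [← mul_assoc, hy, mul_assoc, hz, mul_assoc]
      | inv y _ hy =>
        have h8 : Commute x y := hy
        exact h8.inv_right
    intro k hk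
    rw [h6 k hk, mul_assoc, mul_inv_cancel, mul_one]
    exact hk
  exact hd0 (hP.nd d (hcase d hd0 hdd h5) hd)

/-- the bound of the index, when `RR p` is invariant under `Γ` -/
theorem index_le {p : Fin 4 → F} (hp0 : p ≠ 0) (hp : hermForm 4 F q p p = 0)
    (hnorm : ∀ g : SU 4 F q, ∀ c : F, c ≠ 0 → act g p = c • p → pr 4 F q g ∈ A) (hF : Fintype.card F = q ^ 2) :
    A.index * (q ^ 2 - 1) ≤ (q ^ 4 - 1) * (q ^ 3 + 1) := by
  have hB := hform hF 4
  have hV : finrank F (Fin 4 → F) = 4 := finrank_fin_fun F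
  have hsurj : ∀ x : PSU 4 F q ⧸ A, ∃ g : SU 4 F q, ((pr 4 F q g : PSU 4 F q) : PSU 4 F q ⧸ A) = x := by
    intro x
    induction x using QuotientGroup.induction_on with
    | H y =>
      obtain ⟨g, rfl⟩ := pr_surjective y
      exact ⟨g, rfl⟩
  choose r hr using hsurj
  have h1 := ncard_iso hF hB
  have h2 : isoNum q 4 = (q ^ 4 - 1) * (q ^ 3 + 1) := if_pos (by decide)
  rw [hV, h2, ← Nat.card_coe_set_eq] at h1
  rw [← h1]
  have h3 : Nat.card Fˣ = q ^ 2 - 1 := by
    rw [Nat.card_units, Nat.card_eq_fintype_card, hF]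
  rw [Subgroup.index, ← h3, ← Nat.card_prod]
  refine Nat.card_le_card_of_injective (fun x : (PSU 4 F q ⧸ A) × Fˣ =>
    (⟨x.2.1 • act (r x.1) p, smul_ne_zero x.2.ne_zero (fun e => hp0 ((act_eq_zero _).1 e)), ?_⟩ :
      ({v : Fin 4 → F | v ≠ 0 ∧ formB hF 4 v v = 0} : Set (Fin 4 → F)))) ?_
  · rw [formB_apply, herm_smul_left, herm_smul_right, herm_act, hp, mul_zero, mul_zero]
  · rintro ⟨X, c⟩ ⟨Y, d⟩ hXY
    have h4 : c.1 • act (r X) p = d.1 • act (r Y) p := congrArg Subtype.val hXY
    have h5 : act ((r Y)⁻¹ * r X) p = (c.1⁻¹ * d.1) • p := by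
      have h6 : act (r X) p = (c.1⁻¹ * d.1) • act (r Y) p := by
        rw [mul_smul, ← h4, smul_smul, inv_mul_cancel₀ c.ne_zero, one_smul]
      rw [act_mul, h6, act_smul, act_inv_act]
    have h6 := hnorm _ _ (mul_ne_zero (inv_ne_zero c.ne_zero) d.ne_zero) h5
    rw [map_mul, map_inv] at h6
    have h7 : ((pr 4 F q (r Y) : PSU 4 F q) : PSU 4 F q ⧸ A) = (pr 4 F q (r X) : PSU 4 F q) := QuotientGroup.eq.2 h6
    rw [hr, hr] at h7
    subst h7
    have h8 : (c.1 - d.1) • act (r Y) p = 0 := by rw [sub_smul, h4, sub_self]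
    have h9 : c.1 = d.1 := sub_eq_zero.1 ((smul_eq_zero.1 h8).resolve_right (fun e => hp0 ((act_eq_zero _).1 e)))
    rw [Units.ext h9]

/-- `t` is not scalar -/
theorem not_scal {V : Type*} [AddCommGroup V] [Module F V] [FiniteDimensional F V] {σ : F →+* F}
    {B : V →ₛₗ[σ] V →ₗ[F] F} (hB : HForm B) (h2 : (2 : F) ≠ 0) (hV : finrank F V = 4) {P : Submodule F V}
    (hP : NP B P) {t : V ≃ₗ[F] V} (ht : Neg B t P) : ¬ Scal t := by
  rintro ⟨a, ha⟩
  obtain ⟨e, he, f, hf, hee, hff, hef⟩ := Cfsg.Agent.H450.Bs.exists_hyp hB hP.nd (by rw [hP.dim])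
  have he0 : e ≠ 0 := ne_zero_left (B := B) (y := f) (by rw [hef]; exact one_ne_zero)
  have hQ := np_pp hB hV hP
  obtain ⟨d, hd, d', hd', hdd, hdd', hdd1⟩ := Cfsg.Agent.H450.Bs.exists_hyp hB hQ.nd (by rw [hQ.dim])
  have hd0 : d ≠ 0 := ne_zero_left (B := B) (y := d') (by rw [hdd1]; exact one_ne_zero)
  have e1 : a • d = d := by rw [← ha, ht.2 d hd]
  have e2 : a • e = -e := by rw [← ha, ht.1 e he]
  have e3 : a = 1 := by
    have : (a - 1) • d = 0 := by rw [sub_smul, one_smul, e1, sub_self]
    exact sub_eq_zero.1 ((smul_eq_zero.1 this).resolve_right hd0)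
  rw [e3, one_smul] at e2
  exact he0 (self_add_self h2 e2)


/-- **Case II.** -/
theorem case_two (h2 : (2 : F) ≠ 0) (h : IF A Γ) (hNC : NC (HA hF A)) (hP : NP (formB hF 4) P)
    (ht : Neg (formB hF 4) t.1 P) (htH : t.1 ∈ HA hF A) (hO : On (formB hF 4) (HA hF A) P) {u : Fin 4 → F}
    (hu : hermForm 4 F q u u = 0) (huA : RR hF u hu ≤ A) (huP : u ∉ P) : False := by
  have hfin : Finite (PSU 4 F q) := Quotient.finite _
  have hB := hform hF 4
  have hV : finrank F (Fin 4 → F) = 4 := finrank_fin_fun F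
  have hH := (Cfsg.Agent.H847.IF.pk_of_IF hF h).le
  have hQ := np_pp hB hV hP
  have split : ∀ c₁ c₂ : Fin 4 → F, c₁ ∈ P → c₂ ∈ pp (formB hF 4) P → formB hF 4 (c₁ + c₂) (c₁ + c₂) = 0 →
      PP (formB hF 4) (HA hF A) (c₁ + c₂) → formB hF 4 c₂ c₂ = 0 ∧ PP (formB hF 4) (HA hF A) c₂ := by
    intro c₁ c₂ h1 h1' hc hp
    have h11 := not_mixed hB h2 hH hP ht htH hNC h1 h1' hc hp
    have h21 : formB hF 4 c₂ c₁ = 0 := h1' c₁ h1
    have h12 : formB hF 4 c₁ c₂ = 0 := hB.swap_zero h21
    have h22 : formB hF 4 c₂ c₂ = 0 := by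
      rw [B_left hB, map_add, map_add, h12, h21, h11] at hc
      linear_combination hc
    exact ⟨h22, pp_snd hB h2 hH ht htH hO h1 h1' h11 h22 hp⟩
  obtain ⟨c₁, h1, p, hpP, rfl⟩ := decomp hB hP u
  obtain ⟨hpp, hpc⟩ := split c₁ p h1 hpP hu ((RR_le_iff hF A hu).1 huA)
  have hp0 : p ≠ 0 := by
    rintro rfl
    rw [add_zero] at huP
    exact huP h1
  obtain ⟨l, hl0, hl⟩ := exists_trz hB
  have horth : ∀ c₂ ∈ pp (formB hF 4) P, formB hF 4 c₂ c₂ = 0 → PP (formB hF 4) (HA hF A) c₂ →
      formB hF 4 p c₂ = 0 := by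
    intro c₂ h3 h4 h5
    obtain ⟨g, hg⟩ := exists_tv hpp l
    obtain ⟨g', hg'⟩ := exists_tv h4 l
    exact orth_snd hB h2 hV hP ht htH hNC hO hpP h3 hpp h4 hl0 hl0 hg hg' (hpc l hl g hg) (h5 l hl g' hg')
  have hporth : ∀ v, ∀ hv : hermForm 4 F q v v = 0, RR hF v hv ≤ A → formB hF 4 p v = 0 := by
    intro v hv hle
    obtain ⟨c₁, h3, c₂, h3', rfl⟩ := decomp hB hP v
    obtain ⟨h4, h5⟩ := split c₁ c₂ h3 h3' hv ((RR_le_iff hF A hv).1 hle)
    rw [map_add, hpP c₁ h3, zero_add]
    exact horth c₂ h3' h4 h5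
  -- the centres orthogonal to all centres
  have huniq : ∀ v : Fin 4 → F, v ≠ 0 → ∀ hv : hermForm 4 F q v v = 0, RR hF v hv ≤ A →
      (∀ w : Fin 4 → F, w ≠ 0 → ∀ hw : hermForm 4 F q w w = 0, RR hF w hw ≤ A → formB hF 4 v w = 0) →
      ∃ c : F, c ≠ 0 ∧ v = c • p := by
    intro v hv0 hv hle hall
    obtain ⟨c₁, h3, c₂, h3', rfl⟩ := decomp hB hP v
    have hc1 : c₁ = 0 := by
      apply hP.nd c₁ h3
      intro y hy
      obtain ⟨e, he, f, hf, hee, hff, hef⟩ := Cfsg.Agent.H450.Bs.exists_hyp hB hP.nd (by rw [hP.dim])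
      have hef0 : formB hF 4 e f ≠ 0 := by rw [hef]; exact one_ne_zero
      obtain ⟨a, b, rfl⟩ := span_two hB hP.dim he hf hee hff hef0 hy
      have key : ∀ z ∈ P, z ≠ 0 → formB hF 4 z z = 0 → formB hF 4 c₁ z = 0 := by
        intro z hz hz0 hzz
        have h7 := hall z hz0 hzz ((RR_le_iff hF A hzz).2 (hO z hz hz0 hzz))
        rw [B_left hB, h3' z hz, add_zero] at h7
        exact h7
      rw [map_add, smul_right, smul_right, key e he (ne_zero_left hef0) hee, key f hf (ne_zero_right hef0) hff,
        mul_zero, mul_zero, add_zero]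
    have h7 := hporth _ hv hle
    rw [map_add, hpP c₁ h3, zero_add] at h7
    obtain ⟨c, hc⟩ := orth_line hB hQ hpP hp0 hpp h3' h7
    refine ⟨c, ?_, by rw [hc1, zero_add, hc]⟩
    rintro rfl
    rw [zero_smul] at hc
    exact hv0 (by rw [hc1, hc, zero_add])
  have hpA : RR hF p hpp ≤ A := (RR_le_iff hF A hpp).2 hpc
  have hinv : ∀ τ ∈ Γ, ∀ k ∈ RR hF p hpp, τ k ∈ RR hF p hpp := by
    intro τ hτ k hk
    obtain ⟨p₁, hp₁, hp₁0, hp₁A, hmap⟩ := perm h hτ hp0 hpp hpA
    obtain ⟨c, hc, rfl⟩ := huniq p₁ hp₁0 hp₁ hp₁A (by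
      intro v hv0 hv hvA
      obtain ⟨w, hw, hw0, hwA, hwm⟩ := perm h (Γ.inv_mem hτ) hv0 hv hvA
      have h5 : hermForm 4 F q p₁ v = 0 := by
        rw [← RR_commute_iff hF (by norm_num) hp₁0 hv0 hp₁ hv]
        intro x hx y hy
        rw [← hmap] at hx
        obtain ⟨x, hx, rfl⟩ := hx
        have hy' : τ⁻¹ y ∈ RR hF w hw := by rw [← hwm]; exact ⟨y, hy, rfl⟩
        have h6 := (RR_commute_iff hF (by norm_num) hp0 hw0 hpp hw).2 (by
          have h8 : formB hF 4 p w = 0 := hporth w hw hwA
          exact hB.swap_zero h8) x hx _ hy'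
        have h7 := congrArg τ h6
        rw [map_mul, map_mul, MulAut.apply_inv_self] at h7
        exact h7
      exact herm_eq_zero_swap hF h5)
    rw [← RR_le hF hpp hc hp₁, ← hmap]
    exact ⟨k, hk, rfl⟩
  have hnorm : ∀ g : SU 4 F q, ∀ c : F, c ≠ 0 → act g p = c • p → pr 4 F q g ∈ A := by
    intro g c hc hg
    exact Cfsg.Agent.H680.Fxy.IF.norm h hpA hinv (RR_ne_bot hF (by norm_num) hp0 hpp)
      (fun k hk => norm_RR hF hpp g hc hg hk)
  have hcount := index_le hp0 hpp hnorm hF
  -- the lower bound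
  obtain ⟨p', hp'P, hp'p', hne⟩ := partner hB hQ hpP hp0 hpp
  have hp'0 : p' ≠ 0 := ne_zero_right hne
  have hph : hermForm 4 F q p' p' = 0 := hp'p'
  have hdisj : A.subgroupOf (RR hF p' hph) = ⊥ := by
    rw [eq_bot_iff]
    rintro ⟨x, hx⟩ hxA
    obtain ⟨μ, hμ, rfl⟩ := mem_RR.1 hx
    have hxA' : pr 4 F q (transv hF p' hph μ hμ) ∈ A := hxA
    by_cases hμ0 : μ = 0
    · rw [mem_bot]
      apply Subtype.ext
      have h8 : transv hF p' hph μ hμ = 1 := by
        apply ext_act
        intro v
        rw [act_transv, hμ0, zero_mul, zero_smul, add_zero, act_one]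
      change pr 4 F q (transv hF p' hph μ hμ) = 1
      rw [h8, map_one]
    · exfalso
      obtain ⟨g, hg⟩ := exists_tv hpp l
      refine hne (orth_snd hB h2 hV hP ht htH hNC hO hpP hp'P hpp hp'p' hl0 hμ0 hg (isTv_toIso hF hph hμ)
        (hpc l hl g hg) ?_)
      rw [mem_HA, pi_toIso]
      exact hxA'
  have hrel : q ≤ A.relIndex (RR hF p' hph) := by
    rw [Subgroup.relIndex, hdisj, Subgroup.index_bot]
    exact card_RR hF (by norm_num) hp'0 hph
  have hna : ∃ a b : PSU 4 F q, a * b ≠ b * a := by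
    by_contra hcon
    push Not at hcon
    exact Cfsg.Agent.CpAut.Fix.not_comm_quot (H := SU 4 F q) (hs := hs) ⟨⟨hcon⟩⟩
  have htA : Cfsg.Agent.H450.UF.pi hF 4 t ∈ A := (mem_HA hF A t).1 htH
  have ho : orderOf (Cfsg.Agent.H450.UF.pi hF 4 t) = 2 := by
    apply orderOf_eq_prime
    · rw [pow_two, ← map_mul, pi_eq_one_iff hF (by norm_num)]
      exact ⟨1, fun v => by
        rw [one_smul]
        exact tt hB hP ht v⟩
    · rw [Ne, pi_eq_one_iff hF (by norm_num)]
      exact not_scal hB h2 hV hP ht
  have hE := (Cfsg.Agent.H680.Fxy.IF.E1 h ((h.conj _).2 htA) (by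
    rw [Cfsg.Agent.H999.IFB.orderOf_conj hna, ho]) (B := RR hF p' hph) (by
    intro b hb
    obtain ⟨μ, hμ, rfl⟩ := mem_RR.1 hb
    have h8 : pr 4 F q (transv hF p' hph μ hμ) =
      Cfsg.Agent.H450.UF.pi hF 4 (toIso hF (transv hF p' hph μ hμ)) := (pi_toIso hF _).symm
    rw [h8, MulAut.conj_apply, mul_inv_eq_iff_eq_mul, ← map_mul, ← map_mul]
    congr 1
    apply Subtype.ext
    apply LinearEquiv.ext
    intro v
    change t.1 ((toIso hF (transv hF p' hph μ hμ)).1 v) = (toIso hF (transv hF p' hph μ hμ)).1 (t.1 v)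
    rw [isTv_toIso hF hph hμ v, isTv_toIso hF hph hμ (t.1 v), map_add, map_smul, ht.2 p' hp'P]
    have h9 : formB hF 4 p' (t.1 v) = formB hF 4 p' v := by
      have h10 := t.2.2 p' v
      rw [ht.2 p' hp'P] at h10
      exact h10
    rw [h9])).2
  exact numeric (two_le hF) hcount ((Nat.pow_le_pow_left hrel 6).trans_lt hE)

/-- **no two distinct commuting involutions** -/
theorem false_of (h2 : (2 : F) ≠ 0) (h : IF A Γ) (hNC : NC (HA hF A)) (hP : NP (formB hF 4) P)
    (ht : Neg (formB hF 4) t.1 P) (htH : t.1 ∈ HA hF A) (hO : On (formB hF 4) (HA hF A) P) : False := by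
  by_cases hcase : ∀ u : Fin 4 → F, u ≠ 0 → ∀ hu : hermForm 4 F q u u = 0, RR hF u hu ≤ A → u ∈ P
  · exact case_one h hP hO hcase
  · push Not at hcase
    obtain ⟨u, -, hu, huA, huP⟩ := hcase
    exact case_two h2 h hNC hP ht htH hO hu huA huP

end

/-- **W7**: the rank one case. -/
theorem rank_one (hF : Fintype.card F = q ^ 2) [hs : IsSimpleGroup (PSU 4 F q)] (h2 : (2 : F) ≠ 0)
    (no_second : ∀ H : Subgroup ((Fin 4 → F) ≃ₗ[F] (Fin 4 → F)), Pk (formB hF 4) H → StepC (formB hF 4) H →
      ∀ t ∈ H, ∀ m : F, m ^ (q + 1) = -1 → (∀ v, t (t v) = (m * m) • v) → False)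
    (no_refl : ∀ H : Subgroup ((Fin 4 → F) ≃ₗ[F] (Fin 4 → F)), Pk (formB hF 4) H →
      ∀ t ∈ H, ∀ v : Fin 4 → F, formB hF 4 v v ≠ 0 → ∀ m : F, m ≠ 0 → t v = -(m • v) →
      (∀ u, formB hF 4 v u = 0 → t u = m • u) → False)
    (types : ∀ t ∈ SIso (formB hF 4), ¬ Scal t → Scal (t * t) →
      (∃ (P : Submodule F (Fin 4 → F)) (s : (Fin 4 → F) ≃ₗ[F] (Fin 4 → F)) (a : F), NP (formB hF 4) P ∧
        Neg (formB hF 4) s P ∧ s ∈ SIso (formB hF 4) ∧ (∀ v, t v = a • s v)) ∨
      (∃ (v : Fin 4 → F) (m : F), formB hF 4 v v ≠ 0 ∧ m ≠ 0 ∧ t v = -(m • v) ∧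
        ∀ u, formB hF 4 v u = 0 → t u = m • u) ∨
      (∃ m : F, m ^ (q + 1) = -1 ∧ ∀ v, t (t v) = (m * m) • v))
    (A : Subgroup (PSU 4 F q)) (Γ : Subgroup (MulAut (PSU 4 F q))) (h : IF A Γ) (hev : Even (Nat.card A))
    (hC : StepC (formB hF 4) (HA hF A))
    (hno : ∀ s ∈ A, ∀ t ∈ A, orderOf s = 2 → orderOf t = 2 → s * t = t * s → s = t) : False := by
  have hfin : Finite (PSU 4 F q) := Quotient.finite _
  have hB := hform hF 4
  have hV : finrank F (Fin 4 → F) = 4 := finrank_fin_fun F
  have hPk := Cfsg.Agent.H847.IF.pk_of_IF hF h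
  have hNC := nc_of hF hno
  have hfp : Fact (Nat.Prime 2) := ⟨Nat.prime_two⟩
  obtain ⟨a, ha⟩ := exists_prime_orderOf_dvd_card' 2 hev.two_dvd
  have ha2 : orderOf (a : PSU 4 F q) = 2 := by rw [Subgroup.orderOf_coe, ha]
  obtain ⟨x, hx⟩ := pi_surjective hF 4 (a : PSU 4 F q)
  have hxH : x.1 ∈ HA hF A := (mem_HA hF A x).2 (by rw [hx]; exact a.2)
  have hx1 : ¬ Scal x.1 := by
    intro h1
    rw [← pi_eq_one_iff hF (by norm_num)] at h1
    rw [← hx, h1, orderOf_one] at ha2
    omega
  have hx2 : Scal (x.1 * x.1) := by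
    have h1 : Cfsg.Agent.H450.UF.pi hF 4 (x * x) = 1 := by
      rw [map_mul, ← pow_two, hx]
      exact ha2 ▸ pow_orderOf_eq_one _
    exact (pi_eq_one_iff hF (by norm_num) _).1 h1
  obtain ⟨P, s, hP, hN, hs0, hsH⟩ : ∃ (P : Submodule F (Fin 4 → F)) (s : (Fin 4 → F) ≃ₗ[F] (Fin 4 → F)),
      NP (formB hF 4) P ∧ Neg (formB hF 4) s P ∧ s ∈ SIso (formB hF 4) ∧ s ∈ HA hF A := by
    rcases types x.1 x.2 hx1 hx2 with ⟨P, s0, b, hP, hN, h0, h1⟩ | ⟨v, m, h1, h2', h3, h4⟩ | ⟨m, h1, h2'⟩
    · refine ⟨P, s0, hP, hN, h0, ?_⟩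
      have hb : b ≠ 0 := by
        rintro rfl
        obtain ⟨v0, hv0⟩ := exists_ne (0 : Fin 4 → F)
        have h3 := h1 v0
        rw [zero_smul, LinearEquiv.map_eq_zero_iff] at h3
        exact hv0 h3
      have hz : s0 * x.1⁻¹ ∈ HA hF A := by
        refine hPk.sc _ ((SIso (formB hF 4)).mul_mem h0 ((SIso (formB hF 4)).inv_mem x.2)) ⟨b⁻¹, fun v => ?_⟩
        have h3 : x.1 (x.1⁻¹ v) = v := by
          rw [← LinearEquiv.mul_apply, mul_inv_cancel]
          rfl
        rw [h1] at h3
        rw [LinearEquiv.mul_apply, eq_inv_smul_iff₀ hb, h3]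
      have h3 := (HA hF A).mul_mem hz hxH
      rwa [inv_mul_cancel_right] at h3
    · exact (no_refl _ hPk x.1 hxH v h1 m h2' h3 h4).elim
    · exact (no_second _ hPk hC x.1 hxH m h1 h2').elim
  rcases hC P s hP hN hsH with hO | hO
  · exact false_of (t := ⟨s, hs0⟩) h2 h hNC hP hN hsH hO
  · have h3 : (LinearEquiv.neg F : (Fin 4 → F) ≃ₗ[F] (Fin 4 → F)) ∈ SIso (formB hF 4) := neg_SIso hV
    have h4 := hPk.sc _ h3 ⟨-1, fun v => by rw [LinearEquiv.neg_apply, neg_smul, one_smul]⟩
    exact false_of (t := ⟨LinearEquiv.neg F * s, mul_mem h3 hs0⟩) h2 h hNC (np_pp hB hV hP) (neg_pp hB hP hN)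
      (mul_mem h4 hsH) hO

end Cfsg.Agent.H974.IFU
end

-- part: H838/IF/PSUfour
section
/-!
# S5719: the cell `CellsPSU.four` (helper838), from the pieces of helpers 847, 715, 411, 800, 248, 744, 811, 910, 274,
361, 838
-/

set_option autoImplicit false

namespace Cfsg.Agent.H838.IF

open Module Subgroup Cfsg Cfsg.Agent.H91.U Cfsg.Agent.H450.UF Cfsg.Agent.H450.Bs Cfsg.Agent.H209.Fxy
open Cfsg.Agent.H77.Witt (formB)
open Cfsg.Agent.H847.IF (HA mem_HA pi_eq_one_iff pk_of_IF)

variable {F : Type*} [Field F] [Fintype F] {q : ℕ}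

theorem killE_odd (hF : Fintype.card F = q ^ 2) (hq : Odd q) (h5 : 5 ≤ q) [hs : IsSimpleGroup (PSU 4 F q)] :
    KillE (PSU 4 F q) := by
  have hB := hform hF 4
  have hV : finrank F (Fin 4 → F) = 4 := by rw [finrank_fin_fun]
  have hsec : ∀ H : Subgroup ((Fin 4 → F) ≃ₗ[F] (Fin 4 → F)), Pk (formB hF 4) H → StepC (formB hF 4) H →
      ∀ t ∈ H, ∀ m : F, m ^ (q + 1) = -1 → (∀ v, t (t v) = (m * m) • v) → False :=
    fun H hH hC t ht m hm h => Cfsg.Agent.H744.Pu4.no_second hB hF hV hq h5 hH hC ht hm h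
  have href : ∀ H : Subgroup ((Fin 4 → F) ≃ₗ[F] (Fin 4 → F)), Pk (formB hF 4) H →
      ∀ t ∈ H, ∀ v : Fin 4 → F, formB hF 4 v v ≠ 0 → ∀ m : F, m ≠ 0 → t v = -(m • v) →
      (∀ u, formB hF 4 v u = 0 → t u = m • u) → False :=
    fun H hH t ht v hv m hm h1 h2 => Cfsg.Agent.H811.PU4.no_refl hB hF hV hq h5 hH ht hv hm h1 h2
  have htyp := fun (t : (Fin 4 → F) ≃ₗ[F] (Fin 4 → F)) (ht : t ∈ SIso (formB hF 4)) (h1 : ¬ Scal t)
    (h2 : Scal (t * t)) => Cfsg.Agent.H910.IF.types hB hF hV hq ht h1 h2
  exact Cfsg.Agent.H847.IF.killE_odd hF (fun H hH => Cfsg.Agent.H800.IFx.stepC hB hF hV hq h5 hH) hsec href htyp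
    (fun H hH hC P Q hP hQ s t h1 h2 h3 h4 h6 h7 h8 => no_comm hB hF hV hq h5 hH hC hP hQ h1 h2 h3 h4 h6 h7 h8)
    (Cfsg.Agent.H974.IFU.rank_one hF (Cfsg.Agent.H811.PU4.two_ne hF hq) hsec href htyp)

/-- **the cell `CellsPSU.four`** -/
theorem psu_four : ∀ (F : Type) [Field F] [Fintype F] (q : ℕ), Fintype.card F = q ^ 2 → IsSimpleGroup (PSU 4 F q) →
    KillE (PSU 4 F q) :=
  Cfsg.Agent.H847.IF.four_of
    (fun F _ _ hF hs => Cfsg.Agent.H274.IF.UFour.three hF)
    (fun F _ _ q hF he hs => Cfsg.Agent.H361.IFU4.even hF he)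
    (fun F _ _ q hF ho h5 hs => killE_odd hF ho h5)

end Cfsg.Agent.H838.IF
end

private theorem dce_147fa3dce994 : _root_.True := by
  try have : _root_.True := by simp only [_root_.Cfsg.Agent.H274.IF.UFour.toT.eq_1]
  try have : _root_.True := by simp only [_root_.Cfsg.Agent.H274.IF.UFour.H0.eq_1]
  exact _root_.True.intro
end

-- part: H890/IF/RowCoTwo_mg
section
prune_inst 0xd53025440c40120000000582310020246c00019000200c0095210a400206732209002140448019015a0aa20000000020100000c040000000000004000005042180a852083340010426000f801085180c00000000000000000000000000041004200000000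
set_option linter.all false
open scoped Cfsg.Agent.FastGrp

-- part: H129/IF/Abs
section
/-!
# S5719, characteristic 2: counting lemmas (helper129)

* `cl t A` : the conjugates of `t` in `A`; `count` : `f(t)^5 |t^T ∩ A| < |t^T|`;
* `rel_le` : `|B| ≤ f(t) |A ∩ B|` for `B ≤ C(t)`;
* `index_cent_le` : `|t^T| ≤ (|Y| - 1) |T : N(Y)|` for `t ∈ Y`;
* `step1` : a special subgroup `Q` with `t ∈ Q ∩ A`, `Z ≰ A`.
-/

set_option autoImplicit false
set_option linter.unusedSectionVars false

namespace Cfsg.Agent.H129.IFE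

open MulAction Subgroup Cfsg.Agent.H209.Fxy Cfsg.Agent.H999.IFB

variable {T : Type*} [Group T] [Finite T] {A : Subgroup T} {Γ : Subgroup (MulAut T)}

/-- the conjugates of `t` in `A` -/
def cl (t : T) (A : Subgroup T) : Set T := {x | x ∈ A ∧ IsConj t x}

theorem conj_inj [IsSimpleGroup T] (hna : ∃ a b : T, a * b ≠ b * a) :
    Function.Injective (MulAut.conj : T →* MulAut T) := by
  rw [injective_iff_map_eq_one]
  intro z hz
  apply center_of hna
  intro x
  have h3 := congrArg (fun τ : MulAut T => τ x) hz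
  simp only [MulAut.conj_apply, MulAut.one_apply] at h3
  rwa [mul_inv_eq_iff_eq_mul] at h3

theorem conj_mem_icl {t x : T} (h : IsConj t x) : MulAut.conj x ∈ icl (MulAut.conj t) := by
  obtain ⟨c, hc⟩ := isConj_iff.1 h
  exact ⟨c, by rw [← hc, map_mul, map_mul, map_inv]⟩

theorem cl_ncard_le [IsSimpleGroup T] (hna : ∃ a b : T, a * b ≠ b * a) (h : IF A Γ) (t : T) :
    (cl t A).ncard ≤ (icl (MulAut.conj t) ∩ (Γ : Set (MulAut T))).ncard := by
  refine Set.ncard_le_ncard_of_injOn (fun x : T => MulAut.conj x) ?_ ((conj_inj hna).injOn) (Set.toFinite _)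
  rintro x ⟨hx, hc⟩
  exact ⟨conj_mem_icl hc, (h.conj x).2 hx⟩

/-- **Counting.** -/
theorem count [IsSimpleGroup T] (hna : ∃ a b : T, a * b ≠ b * a) (h : IF A Γ) {t : T} (ht : t ∈ A)
    (h2 : orderOf t = 2) : fx A (MulAut.conj t) ^ 5 * (cl t A).ncard < (centralizer ({t} : Set T)).index := by
  have hσ : MulAut.conj t ∈ Γ := (h.conj t).2 ht
  obtain ⟨ho, hc, -, -, -⟩ := IF.E2' h hna ht h2
  have h1 := IF.fix_formula' h hσ
  rw [hc] at h1
  have h3 := h.small _ hσ ho
  have h4 := fx_pos A (MulAut.conj t)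
  have h5 := cl_ncard_le hna h t
  set f := fx A (MulAut.conj t)
  set N := (icl (MulAut.conj t) ∩ (Γ : Set (MulAut T))).ncard
  have h6 : 0 < N := by
    have : (icl (MulAut.conj t) ∩ (Γ : Set (MulAut T))).Nonempty :=
      ⟨MulAut.conj t, conj_mem_icl (IsConj.refl t), hσ⟩
    exact (Set.ncard_pos (Set.toFinite _)).2 this
  have h7 : f * (f ^ 5 * N) < f * (centralizer ({t} : Set T)).index := by
    rw [h1]
    calc f * (f ^ 5 * N) = f ^ 6 * N := by ring
      _ < A.index * N := Nat.mul_lt_mul_of_pos_right h3 h6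
  have h8 : f ^ 5 * N < (centralizer ({t} : Set T)).index := lt_of_mul_lt_mul_left h7 (Nat.zero_le _)
  exact lt_of_le_of_lt (Nat.mul_le_mul_left _ h5) h8

end Cfsg.Agent.H129.IFE
end

-- part: H890/IF/CoTwoCode
section
/-!
# Sign characters: groups whose trace takes few values (helper890, S5719 `Co2`)

`s : ι → F →* ℤˣ`, 24 sign characters of a finite group `F`, `χ f = ∑ i, s i f`.
* `ineq_two`, `count_two` : if `χ f ∈ {0, 8}` for all `f ≠ 1`, with `m` trivial characters, then
  `(m² - 9 m + 24) |F| ≤ 384` (so `|F| ≤ 96`), and `24 + 8 #{f | χ f = 8} = m |F|`;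
* `card_dvd_zero` : if `χ f = 0` for all `f ≠ 1` then `|F|` divides 24.
-/

set_option autoImplicit false

namespace Cfsg.Agent.H890.IF.CoTwoCode

open Finset

variable {F : Type*} [Group F] [Fintype F] {ι : Type*} [Fintype ι]

theorem sum_one (s : F →* ℤˣ) (h : s = 1) : ∑ f : F, ((s f : ℤˣ) : ℤ) = Fintype.card F := by
  subst h
  simp

theorem sum_ne (s : F →* ℤˣ) (h : s ≠ 1) : ∑ f : F, ((s f : ℤˣ) : ℤ) = 0 := by
  have h1 : ((Units.coeHom ℤ).comp s) ≠ 1 := by
    intro h2
    apply h
    ext f
    have := congrArg (fun u : F →* ℤ => u f) h2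
    simpa using this
  exact sum_hom_units_eq_zero ((Units.coeHom ℤ).comp s) h1

theorem sum_nonneg' (s : F →* ℤˣ) : 0 ≤ ∑ f : F, ((s f : ℤˣ) : ℤ) := by
  by_cases h : s = 1
  · rw [sum_one s h]
    exact Int.natCast_nonneg _
  · rw [sum_ne s h]

open Classical in
/-- the number of trivial characters -/
noncomputable def triv (s : ι → F →* ℤˣ) : Finset ι := univ.filter fun i => s i = 1

theorem sum_trace (s : ι → F →* ℤˣ) :
    ∑ f : F, ∑ i, ((s i f : ℤˣ) : ℤ) = (triv s).card * (Fintype.card F : ℤ) := by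
  classical
  rw [sum_comm]
  have h1 : ∀ i, ∑ f : F, ((s i f : ℤˣ) : ℤ) = if s i = 1 then (Fintype.card F : ℤ) else 0 := by
    intro i
    split_ifs with h
    · exact sum_one _ h
    · exact sum_ne _ h
  rw [sum_congr rfl fun i _ => h1 i, ← sum_filter, sum_const, nsmul_eq_mul]
  rfl

theorem sum_sq (s : ι → F →* ℤˣ) :
    ((triv s).card * (triv s).card + ((Fintype.card ι : ℤ) - (triv s).card)) * (Fintype.card F : ℤ) ≤
      ∑ f : F, (∑ i, ((s i f : ℤˣ) : ℤ)) * ∑ i, ((s i f : ℤˣ) : ℤ) := by
  classical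
  have h1 : ∑ f : F, (∑ i, ((s i f : ℤˣ) : ℤ)) * ∑ i, ((s i f : ℤˣ) : ℤ) =
      ∑ i, ∑ j, ∑ f : F, (((s i * s j) f : ℤˣ) : ℤ) := by
    have h2 : ∀ f : F, (∑ i, ((s i f : ℤˣ) : ℤ)) * ∑ i, ((s i f : ℤˣ) : ℤ) =
        ∑ i, ∑ j, (((s i * s j) f : ℤˣ) : ℤ) := by
      intro f
      rw [sum_mul_sum]
      refine sum_congr rfl fun i _ => sum_congr rfl fun j _ => ?_
      rw [MonoidHom.mul_apply, Units.val_mul]
    rw [sum_congr rfl fun f _ => h2 f, sum_comm]
    refine sum_congr rfl fun i _ => ?_
    rw [sum_comm]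
  rw [h1]
  have key : ∀ i, (if s i = 1 then ((triv s).card : ℤ) * Fintype.card F else (Fintype.card F : ℤ)) ≤
      ∑ j, ∑ f : F, (((s i * s j) f : ℤˣ) : ℤ) := by
    intro i
    split_ifs with h
    · have h3 : ((triv s).card : ℤ) * Fintype.card F = ∑ j ∈ triv s, ∑ f : F, (((s i * s j) f : ℤˣ) : ℤ) := by
        rw [← nsmul_eq_mul, ← sum_const]
        refine sum_congr rfl fun j hj => ?_
        have hj1 : s j = 1 := (mem_filter.1 hj).2
        rw [h, hj1, mul_one, sum_one _ rfl]
      rw [h3]
      exact sum_le_sum_of_subset_of_nonneg (subset_univ _) fun j _ _ => sum_nonneg' _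
    · have h3 : (Fintype.card F : ℤ) = ∑ f : F, (((s i * s i) f : ℤˣ) : ℤ) := by
        have h4 : s i * s i = 1 := by
          ext f
          rw [MonoidHom.mul_apply, ← pow_two, Int.units_sq]
          rfl
        rw [h4, sum_one _ rfl]
      rw [h3]
      exact single_le_sum (f := fun j => ∑ f : F, (((s i * s j) f : ℤˣ) : ℤ)) (fun j _ => sum_nonneg' _) (mem_univ i)
  refine le_trans (le_of_eq ?_) (sum_le_sum fun i _ => key i)
  rw [sum_ite, sum_const, sum_const, nsmul_eq_mul, nsmul_eq_mul]
  have h5 : (univ.filter fun i => s i = 1) = triv s := by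
    rw [triv]
  have h6 : ((univ.filter fun i => ¬ s i = 1).card : ℤ) = (Fintype.card ι : ℤ) - (triv s).card := by
    have := card_filter_add_card_filter_not (s := (univ : Finset ι)) (fun i => s i = 1)
    rw [h5, card_univ] at this
    omega
  rw [h5, h6]
  ring

/-- **Trace 0 or 8**: `m` characters are trivial. -/
theorem ineq_two (hι : Fintype.card ι = 24) (s : ι → F →* ℤˣ)
    (h : ∀ f : F, f ≠ 1 → (∑ i, ((s i f : ℤˣ) : ℤ)) = 0 ∨ (∑ i, ((s i f : ℤˣ) : ℤ)) = 8) :
    ((triv s).card * (triv s).card - 9 * (triv s).card + 24 : ℤ) * (Fintype.card F : ℤ) ≤ 384 := by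
  classical
  have h1 := sum_trace s
  have h2 := sum_sq s
  rw [hι] at h2
  have h3 : ∑ f : F, ((∑ i, ((s i f : ℤˣ) : ℤ)) * (∑ i, ((s i f : ℤˣ) : ℤ)) - 8 * ∑ i, ((s i f : ℤˣ) : ℤ)) = 384 := by
    rw [sum_eq_single (1 : F)]
    · simp only [hι, _root_.map_one, _root_.Units.val_one, _root_.Finset.sum_const, _root_.Finset.card_univ, _root_.Int.nsmul_eq_mul, _root_.Nat.cast_ofNat, _root_.mul_one, _root_.Int.reduceMul, _root_.Int.reduceSub]
    · intro f _ hf
      rcases h f hf with h4 | h4 <;> rw [h4] <;> norm_num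
    · intro h4
      exact absurd (mem_univ _) h4
  rw [sum_sub_distrib, ← mul_sum, h1] at h3
  set m : ℤ := ((triv s).card : ℤ) with hm
  set c : ℤ := (Fintype.card F : ℤ) with hc
  have hc0 : 0 ≤ c := Int.natCast_nonneg _
  have h4 : (m * m + (24 - m)) * c - 8 * (m * c) ≤ 384 := by
    rw [← h3]
    push_cast at h2
    linarith only [h2]
  have h7 : (m * m - 9 * m + 24) * c = (m * m + (24 - m)) * c - 8 * (m * c) := by ring
  rw [h7]
  exact h4

open Classical in
/-- the number of elements of trace 8 -/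
theorem count_two (hι : Fintype.card ι = 24) (s : ι → F →* ℤˣ)
    (h : ∀ f : F, f ≠ 1 → (∑ i, ((s i f : ℤˣ) : ℤ)) = 0 ∨ (∑ i, ((s i f : ℤˣ) : ℤ)) = 8) :
    (24 : ℤ) + 8 * ((univ.filter fun f : F => (∑ i, ((s i f : ℤˣ) : ℤ)) = 8).card : ℤ) =
      (triv s).card * (Fintype.card F : ℤ) := by
  rw [← sum_trace s, ← sum_erase_add (univ : Finset F) _ (mem_univ 1)]
  have h1 : ∑ i, ((s i (1 : F) : ℤˣ) : ℤ) = 24 := by simp only [hι, _root_.map_one, _root_.Units.val_one, _root_.Finset.sum_const, _root_.Finset.card_univ, _root_.Int.nsmul_eq_mul, _root_.Nat.cast_ofNat, _root_.mul_one]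
  rw [h1]
  have h2 : (univ.filter fun f : F => (∑ i, ((s i f : ℤˣ) : ℤ)) = 8) =
      (univ.erase (1 : F)).filter fun f : F => (∑ i, ((s i f : ℤˣ) : ℤ)) = 8 := by
    ext f
    simp only [mem_filter, mem_univ, true_and, mem_erase, and_true]
    constructor
    · intro h3
      refine ⟨?_, h3⟩
      rintro rfl
      rw [h1] at h3
      norm_num at h3
    · exact fun h3 => h3.2
  rw [h2]
  have h3 : ∑ f ∈ univ.erase (1 : F), ∑ i, ((s i f : ℤˣ) : ℤ) =
      ∑ f ∈ univ.erase (1 : F), if (∑ i, ((s i f : ℤˣ) : ℤ)) = 8 then (8 : ℤ) else 0 := by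
    refine sum_congr rfl fun f hf => ?_
    rcases h f (mem_erase.1 hf).1 with h4 | h4 <;> rw [h4] <;> norm_num
  rw [h3, ← sum_filter, sum_const, nsmul_eq_mul]
  ring

/-- **Trace 0**: the order divides 24. -/
theorem card_dvd_zero (hι : Fintype.card ι = 24) (s : ι → F →* ℤˣ)
    (h : ∀ f : F, f ≠ 1 → (∑ i, ((s i f : ℤˣ) : ℤ)) = 0) : Fintype.card F ∣ 24 := by
  classical
  have h1 := sum_trace s
  have h3 : ∑ f : F, ∑ i, ((s i f : ℤˣ) : ℤ) = 24 := by
    rw [sum_eq_single (1 : F)]
    · simp only [hι, _root_.map_one, _root_.Units.val_one, _root_.Finset.sum_const, _root_.Finset.card_univ, _root_.Int.nsmul_eq_mul, _root_.Nat.cast_ofNat, _root_.mul_one]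
    · intro f _ hf
      exact h f hf
    · intro h4
      exact absurd (mem_univ _) h4
  rw [h3] at h1
  have h4 : (24 : ℕ) = (triv s).card * Fintype.card F := by exact_mod_cast h1
  exact ⟨(triv s).card, by rw [h4]; ring⟩

end Cfsg.Agent.H890.IF.CoTwoCode
end

-- part: H890/IF/CoTwoBC
section
/-!
# S5719, cell `co2`: a point stabiliser without 2A involutions contains no 2B and no 2C involution (helper890)

`E = 2¹⁰` consists of sign changes; the trace `χ` (degree 24) is `-8, 8, 0` on 2A, 2B, 2C.
* 2B: `X = A ∩ E` has traces 0, 8 only; `(m² - 9 m + 24) |X| ≤ 384`, `24 + 8 N = m |X|`, and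
  `f⁵ N < |2B| ≤ 15369750`, `f ≥ 1024 / |X|`: impossible.
* 2C: `|X|` divides 24, so `f ≥ 128`, `f⁵ < |2C| ≤ |Co₂| / 2¹⁵`: impossible.
-/

set_option autoImplicit false

namespace Cfsg.Agent.H890.IF.CoTwoBC

open Subgroup Cfsg Cfsg.Agent.SporadicA.GolayBase Cfsg.Agent.SporadicA.GolayPerm
open Cfsg.Agent.SporadicStructure.M24El
open Cfsg.Agent.Co2Type.Mono Cfsg.Agent.Co2Type.TData Cfsg.Agent.Co2Type.TGroup Cfsg.Agent.Co2Type.FactsD
open Cfsg.Agent.Co2Type.FactsCo2 (ge_inj tr_eq_iff tr_eq_iff_B tr_eq_iff_C tr_cases)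
open Cfsg.Agent.H209.Fxy Cfsg.Agent.H129.IFE Cfsg.Agent.H999.IFB

theorem fin : Finite Spor.Co2 := Schreier.CoTwoStab.finite

theorem simple : IsSimpleGroup Spor.Co2 := Schreier.CoTwoStab.isSimpleGroup

theorem card_co2 : Nat.card Spor.Co2 = 42305421312000 := Schreier.CoTwoStab.card

theorem hna : ∃ a b : Spor.Co2, a * b ≠ b * a := by
  by_contra h
  push Not at h
  exact Schreier.CoTwoStab.not_comm ⟨⟨h⟩⟩

/-! ### the signs on `E` -/

theorem ex_mask (g : E) : ∃ m, inE m = true ∧ (g : Spor.Co2) = ge m := g.2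

/-- the mask of an element of `E` -/
noncomputable def mk (g : E) : ℕ := (ex_mask g).choose

theorem mk_in (g : E) : inE (mk g) = true := (ex_mask g).choose_spec.1

theorem mk_eq (g : E) : (g : Spor.Co2) = ge (mk g) := (ex_mask g).choose_spec.2

theorem mk_one : mk 1 = 0 := by
  apply ge_inj (mk_in 1) inE_zero
  rw [← mk_eq, ge_zero]
  rfl

theorem mk_mul (g h : E) : mk (g * h) = mk g ^^^ mk h := by
  apply ge_inj (mk_in _) (inE_xor (mk_in g) (mk_in h))
  rw [← mk_eq, ← ge_mul (mk_in g) (mk_in h), ← mk_eq, ← mk_eq]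
  rfl

/-- the sign at a coordinate -/
noncomputable def sg (i : GolayPt) : E →* ℤˣ where
  toFun g := if (mk g).testBit (idx i) then -1 else 1
  map_one' := by rw [mk_one]; simp
  map_mul' g h := by
    rw [mk_mul, Nat.testBit_xor]
    cases (mk g).testBit (idx i) <;> cases (mk h).testBit (idx i) <;> simp

theorem sum_sg (g : E) : ∑ i, ((sg i g : ℤˣ) : ℤ) = tr (g : Spor.Co2) := by
  have h1 : tr (g : Spor.Co2) = 24 - 2 * (popcount (mk g) : ℤ) := by
    rw [mk_eq g]
    exact Cfsg.Agent.Co2Type.FactsClass.tr_E (mk_in g)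
  have h2 : ∀ i, ((sg i g : ℤˣ) : ℤ) = 1 - 2 * (if (mk g).testBit (idx i) then (1 : ℤ) else 0) := by
    intro i
    show (((if (mk g).testBit (idx i) then -1 else 1 : ℤˣ)) : ℤ) = _
    cases (mk g).testBit (idx i) <;> simp
  rw [h1, Finset.sum_congr rfl fun i _ => h2 i, Finset.sum_sub_distrib, ← Finset.mul_sum, sum_testBit]
  have h3 : Fintype.card GolayPt = 24 := by decide +kernel
  simp [h3]

theorem cardPt : Fintype.card GolayPt = 24 := by decide +kernel

/-! ### the centralizers -/

theorem index_v : (centralizer ({ge mv} : Set Spor.Co2)).index ≤ 1291059000 := by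
  have := fin
  have h1 := (centralizer ({ge mv} : Set Spor.Co2)).index_mul_card
  have h2 : Nat.card (Co2Type.Facts.cent T (ge mv)) ≤ Nat.card (centralizer ({ge mv} : Set Spor.Co2)) :=
    Nat.card_le_card_of_injective _ (inclusion_injective inf_le_right)
  rw [cardv] at h2
  rw [card_co2] at h1
  by_contra h3
  push Not at h3
  have h4 : 1291059001 * 2 ^ 15 ≤ (centralizer ({ge mv} : Set Spor.Co2)).index *
      Nat.card (centralizer ({ge mv} : Set Spor.Co2)) := Nat.mul_le_mul h3 h2
  omega

/-- powers of a permutation code -/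
def pp (P : ℕ) : ℕ → ℕ
  | 0 => idP
  | k + 1 => pcomp (pp P k) P

theorem okP_pp {P : ℕ} (hP : okP P = true) (k : ℕ) : okP (pp P k) = true := by
  induction k with
  | zero => exact okP_idP
  | succ k ih => exact okP_pcomp ih hP

theorem pow_mo {P : ℕ} (hP : okP P = true) (k : ℕ) : mo2 0 P ^ k = mo2 0 (pp P k) := by
  induction k with
  | zero => rw [pow_zero]; exact mo2_one.symm
  | succ k ih =>
    have h1 := okP_pp hP k
    rw [pow_succ, ih, mo2_mul inE_zero inE_zero h1 hP, pimg_zero (ok_iff.1 (ok_of_okP h1)).1, Nat.xor_self]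
    rfl

theorem order_mo {P p : ℕ} (hp : p.Prime) (hP : okP P = true) (h1 : Nat.beq (pp P p) idP = true)
    (h2 : P ≠ idP) (hlt : P < 2 ^ 120) : orderOf (mo2 0 P) = p := by
  have := Fact.mk hp
  apply orderOf_eq_prime
  · rw [pow_mo hP, Nat.eq_of_beq_eq_true h1, mo2_one]
  · intro h3
    rw [← mo2_one] at h3
    exact h2 (mo2_inj inE_zero inE_zero hP okP_idP hlt (by norm_num [idP]) h3).2

theorem dvd_of {P p n : ℕ} (hp : p.Prime) (hn : inE n = true) (hP : okP P = true) (h1 : Nat.beq (pp P p) idP = true)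
    (h2 : P ≠ idP) (hlt : P < 2 ^ 120) (h3 : pimg P n = n) (h4 : pcomp P idP = P) :
    p ∣ Nat.card (centralizer ({ge n} : Set Spor.Co2)) := by
  have h5 : mo2 0 P ∈ centralizer ({ge n} : Set Spor.Co2) := by
    rw [mem_centralizer_singleton_iff]
    unfold ge
    rw [mo2_mul inE_zero hn hP okP_idP, h3, h4, mo2_mul_left hn inE_zero hP, Nat.zero_xor, Nat.xor_zero]
  have h6 := Subgroup.orderOf_dvd_natCard _ h5
  rwa [order_mo hp hP h1 h2 hlt] at h6

/-- order 3 -/
def P3 : ℕ := 984562182927573759658062217259128096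
/-- order 7 -/
def P7 : ℕ := 961251275211232037747482513563524288

theorem three_dvd : 3 ∣ Nat.card (centralizer ({ge my} : Set Spor.Co2)) :=
  dvd_of (P := P3) Nat.prime_three iy (by decide +kernel) (by decide +kernel) (by decide +kernel) (by decide +kernel)
    (by decide +kernel) (by decide +kernel)

theorem seven_dvd : 7 ∣ Nat.card (centralizer ({ge my} : Set Spor.Co2)) :=
  dvd_of (P := P7) (by norm_num) iy (by decide +kernel) (by decide +kernel) (by decide +kernel) (by decide +kernel)
    (by decide +kernel) (by decide +kernel)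

theorem index_y : (centralizer ({ge my} : Set Spor.Co2)).index ≤ 15369750 := by
  have := fin
  have h1 := (centralizer ({ge my} : Set Spor.Co2)).index_mul_card
  have h2 : Nat.card (Co2Type.Facts.cent T (ge my)) ∣ Nat.card (centralizer ({ge my} : Set Spor.Co2)) :=
    card_dvd_of_le inf_le_right
  rw [cardy] at h2
  rw [card_co2] at h1
  have h3 : 2 ^ 17 * 3 * 7 ∣ Nat.card (centralizer ({ge my} : Set Spor.Co2)) := by
    apply Nat.Coprime.mul_dvd_of_dvd_of_dvd (by norm_num)
    · exact Nat.Coprime.mul_dvd_of_dvd_of_dvd (by norm_num) h2 three_dvd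
    · exact seven_dvd
  have h4 := Nat.le_of_dvd Nat.card_pos h3
  by_contra h5
  push Not at h5
  have h6 : 15369751 * (2 ^ 17 * 3 * 7) ≤ (centralizer ({ge my} : Set Spor.Co2)).index *
      Nat.card (centralizer ({ge my} : Set Spor.Co2)) := Nat.mul_le_mul h5 h4
  omega

/-! ### the classes -/

variable {A : Subgroup Spor.Co2} {Γ : Subgroup (MulAut Spor.Co2)}

theorem E_le {m : ℕ} (hm : inE m = true) : ∀ b ∈ E, MulAut.conj (ge m) b = b := by
  intro b hb
  rw [MulAut.conj_apply, mul_inv_eq_iff_eq_mul]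
  exact Co2Type.FactsD.E_comm _ (ge_mem hm) _ hb

theorem ge_ne {m : ℕ} (hm : inE m = true) (h : m ≠ 0) : ge m ≠ 1 := by
  intro h1
  rw [← ge_zero] at h1
  exact h (ge_inj hm inE_zero h1)

theorem order_ge {m : ℕ} (hm : inE m = true) (h : m ≠ 0) : orderOf (ge m) = 2 :=
  orderOf_eq_prime (by rw [pow_two]; exact ge_sq hm) (ge_ne hm h)

/-- `|A ∩ E| |E : A ∩ E| = 1024` and `|E : A ∩ E| ≤ f` -/
theorem basic (h : IF A Γ) {m : ℕ} (hm : inE m = true) (h0 : m ≠ 0) (hA : ge m ∈ A) :
    Nat.card ↥(A.subgroupOf E) * A.relIndex E = 1024 ∧ A.relIndex E ≤ fx A (MulAut.conj (ge m)) := by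
  have := fin
  have := simple
  refine ⟨?_, ?_⟩
  · have h1 : Nat.card ↥(A.subgroupOf E) * A.relIndex E = Nat.card E := (A.subgroupOf E).card_mul_index
    rw [h1, Co2Type.TCard.card_E]
    norm_num
  · refine (IF.E1 h ((h.conj _).2 hA) ?_ (E_le hm)).1
    rw [orderOf_conj hna]
    exact order_ge hm h0

theorem tr_mem (h2A : ∀ s ∈ A, ¬ IsConj (ge mz) s) (x : ↥(A.subgroupOf E)) (hx : x ≠ 1) :
    tr ((x : ↥E) : Spor.Co2) = 0 ∨ tr ((x : ↥E) : Spor.Co2) = 8 := by
  have hA : ((x : ↥E) : Spor.Co2) ∈ A := x.2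
  have h1 : ((x : ↥E) : Spor.Co2) * ((x : ↥E) : Spor.Co2) = 1 := Co2Type.FactsD.E_sq _ (x : ↥E).2
  have h2 : ((x : ↥E) : Spor.Co2) ≠ 1 := fun h3 => hx (Subtype.ext (Subtype.ext h3))
  rcases tr_cases h1 h2 with h3 | h3 | h3
  · exact absurd ((tr_eq_iff h1).2 h3) (h2A _ hA)
  · exact Or.inr h3
  · exact Or.inl h3

theorem core_C (h : IF A Γ) (h2A : ∀ s ∈ A, ¬ IsConj (ge mz) s) (h2B : ∀ s ∈ A, ¬ IsConj (ge my) s)
    (hA : ge mv ∈ A) : False := by
  classical
  have := fin
  have := simple
  have v0 : mv ≠ 0 := by decide +kernel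
  obtain ⟨h1, h2⟩ := basic h iv v0 hA
  have h3 := count hna h hA (order_ge iv v0)
  have h4 : 0 < (cl (ge mv) A).ncard := (Set.ncard_pos (Set.toFinite _)).2 ⟨ge mv, hA, IsConj.refl _⟩
  have h5 := index_v
  let _ : Fintype ↥(A.subgroupOf E) := Fintype.ofFinite _
  have h6 : Fintype.card ↥(A.subgroupOf E) ∣ 24 := by
    refine CoTwoCode.card_dvd_zero cardPt (fun i => (sg i).comp (A.subgroupOf E).subtype) fun x hx => ?_
    show ∑ i, ((sg i (x : ↥E) : ℤˣ) : ℤ) = 0
    rw [sum_sg]
    rcases tr_mem h2A x hx with h7 | h7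
    · exact h7
    · exfalso
      have h8 : ((x : ↥E) : Spor.Co2) * ((x : ↥E) : Spor.Co2) = 1 := Co2Type.FactsD.E_sq _ (x : ↥E).2
      exact h2B _ x.2 ((tr_eq_iff_B h8).2 h7)
  rw [← Nat.card_eq_fintype_card] at h6
  have h7 : Nat.card ↥(A.subgroupOf E) ∣ 8 := by
    have h8 : Nat.card ↥(A.subgroupOf E) ∣ Nat.gcd 24 1024 := Nat.dvd_gcd h6 ⟨_, h1.symm⟩
    have h9 : Nat.gcd 24 1024 = 8 := by norm_num
    rwa [h9] at h8
  have h8 : Nat.card ↥(A.subgroupOf E) ≤ 8 := Nat.le_of_dvd (by norm_num) h7
  have h9 : 128 ≤ fx A (MulAut.conj (ge mv)) := by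
    refine le_trans ?_ h2
    by_contra h10
    push Not at h10
    have := Nat.mul_le_mul h8 (Nat.le_of_lt_succ h10)
    omega
  have h10 : 128 ^ 5 ≤ fx A (MulAut.conj (ge mv)) ^ 5 := Nat.pow_le_pow_left h9 5
  have h11 : 128 ^ 5 * 1 ≤ fx A (MulAut.conj (ge mv)) ^ 5 * (cl (ge mv) A).ncard := Nat.mul_le_mul h10 h4
  omega

theorem core_B (h : IF A Γ) (h2A : ∀ s ∈ A, ¬ IsConj (ge mz) s) (hA : ge my ∈ A) : False := by
  classical
  have := fin
  have := simple
  have v0 : my ≠ 0 := by decide +kernel
  obtain ⟨h1, h2⟩ := basic h iy v0 hA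
  have h3 := count hna h hA (order_ge iy v0)
  have h5 := index_y
  let _ : Fintype ↥(A.subgroupOf E) := Fintype.ofFinite _
  set s : GolayPt → ↥(A.subgroupOf E) →* ℤˣ := fun i => (sg i).comp (A.subgroupOf E).subtype with hs
  have hsum : ∀ x : ↥(A.subgroupOf E), ∑ i, ((s i x : ℤˣ) : ℤ) = tr ((x : ↥E) : Spor.Co2) := fun x => sum_sg (x : ↥E)
  have hval : ∀ x : ↥(A.subgroupOf E), x ≠ 1 → (∑ i, ((s i x : ℤˣ) : ℤ)) = 0 ∨ (∑ i, ((s i x : ℤˣ) : ℤ)) = 8 := by
    intro x hx
    rw [hsum]
    exact tr_mem h2A x hx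
  have h6 := CoTwoCode.ineq_two cardPt s hval
  have h7 := CoTwoCode.count_two cardPt s hval
  set J := Finset.univ.filter fun x : ↥(A.subgroupOf E) => (∑ i, ((s i x : ℤˣ) : ℤ)) = 8 with hJ
  have h8 : J.card ≤ (cl (ge my) A).ncard := by
    rw [← Set.ncard_coe_finset]
    refine Set.ncard_le_ncard_of_injOn (fun x : ↥(A.subgroupOf E) => ((x : ↥E) : Spor.Co2)) ?_ ?_ (Set.toFinite _)
    · intro x hx
      have h9 : (∑ i, ((s i x : ℤˣ) : ℤ)) = 8 := (Finset.mem_filter.1 (Finset.mem_coe.1 hx)).2
      rw [hsum] at h9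
      have h10 : ((x : ↥E) : Spor.Co2) * ((x : ↥E) : Spor.Co2) = 1 := Co2Type.FactsD.E_sq _ (x : ↥E).2
      exact ⟨x.2, (tr_eq_iff_B h10).2 h9⟩
    · intro x _ y _ hxy
      exact Subtype.ext (Subtype.ext hxy)
  have h9 : 1 ≤ J.card := by
    refine Finset.card_pos.2 ⟨⟨⟨ge my, ge_mem iy⟩, hA⟩, Finset.mem_filter.2 ⟨Finset.mem_univ _, ?_⟩⟩
    rw [hsum]
    exact tr_y
  rw [← Nat.card_eq_fintype_card] at h6 h7
  generalize Nat.card ↥(A.subgroupOf E) = c at h1 h6 h7
  generalize A.relIndex E = n at h1 h2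
  generalize fx A (MulAut.conj (ge my)) = f at h2 h3
  generalize (cl (ge my) A).ncard = M at h3 h8
  generalize (CoTwoCode.triv s).card = m at h6 h7
  generalize J.card = N at h7 h8 h9
  generalize (centralizer ({ge my} : Set Spor.Co2)).index = q at h3 h5
  have h10 : (4 : ℤ) ≤ (m : ℤ) * m - 9 * m + 24 := by
    rcases le_or_gt (m : ℤ) 4 with h11 | h11
    · nlinarith only [h11]
    · nlinarith only [h11]
  have h11 : c ≤ 96 := by
    have : (4 : ℤ) * c ≤ 384 := le_trans (mul_le_mul_of_nonneg_right h10 (Int.natCast_nonneg _)) h6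
    omega
  have h12 : c ∣ 1024 := ⟨n, h1.symm⟩
  have h13 : c = 64 ∨ c ≤ 32 := by
    have h14 : c ∈ Nat.divisors 1024 := Nat.mem_divisors.2 ⟨h12, by norm_num⟩
    have h15 : Nat.divisors 1024 = {1, 2, 4, 8, 16, 32, 64, 128, 256, 512, 1024} := by decide +kernel
    rw [h15] at h14
    simp only [Finset.mem_insert, Finset.mem_singleton] at h14
    (clear * - h11 h14; omega)
  rcases h13 with rfl | h13
  · have hn : n = 16 := by omega
    subst hn
    have h14 : (3 : ℤ) ≤ m := by
      by_contra h15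
      push Not at h15
      push_cast at h6
      nlinarith only [h6, h15]
    have h15 : 21 ≤ N := by
      push_cast at h7
      omega
    have h16 : 16 ^ 5 ≤ f ^ 5 := Nat.pow_le_pow_left h2 5
    have h17 : 16 ^ 5 * 21 ≤ f ^ 5 * M := Nat.mul_le_mul h16 (h15.trans h8)
    omega
  · have h14 : 32 ≤ f := by
      refine le_trans ?_ h2
      by_contra h15
      push Not at h15
      have := Nat.mul_le_mul h13 (Nat.le_of_lt_succ h15)
      omega
    have h16 : 32 ^ 5 ≤ f ^ 5 := Nat.pow_le_pow_left h14 5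
    have h17 : 32 ^ 5 * 1 ≤ f ^ 5 * M := Nat.mul_le_mul h16 (h9.trans h8)
    omega

theorem trans {w : Spor.Co2} (g : Spor.Co2) (h2 : ∀ s ∈ A, ¬ IsConj w s) :
    ∀ s ∈ A.map (MulAut.conj g).toMonoidHom, ¬ IsConj w s := by
  rintro _ ⟨s, hs, rfl⟩ hc
  refine h2 s hs (hc.trans (isConj_iff.2 ⟨g⁻¹, ?_⟩))
  rw [MulEquiv.coe_toMonoidHom, MulAut.conj_apply]
  group

/-- **No 2B involution.** -/
theorem no_2B (h : IF A Γ) (h2A : ∀ s ∈ A, ¬ IsConj (ge mz) s) {s : Spor.Co2} (hs : s ∈ A)
    (hc : IsConj (ge my) s) : False := by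
  obtain ⟨g, hg⟩ := isConj_iff.1 hc.symm
  refine core_B (h.map (MulAut.conj g)) (trans g h2A) ⟨s, hs, ?_⟩
  rw [MulEquiv.coe_toMonoidHom, MulAut.conj_apply]
  exact hg

/-- **No 2C involution.** -/
theorem no_2C (h : IF A Γ) (h2A : ∀ s ∈ A, ¬ IsConj (ge mz) s) {s : Spor.Co2} (hs : s ∈ A)
    (hc : IsConj (ge mv) s) : False := by
  obtain ⟨g, hg⟩ := isConj_iff.1 hc.symm
  refine core_C (h.map (MulAut.conj g)) (trans g h2A) (trans g fun x hx hxc => no_2B h h2A hx hxc) ⟨s, hs, ?_⟩
  rw [MulEquiv.coe_toMonoidHom, MulAut.conj_apply]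
  exact hg

/-- **`KillE` from 2A.** -/
theorem killE_of (hz : ∀ (A : Subgroup Spor.Co2) (Γ : Subgroup (MulAut Spor.Co2)), IF A Γ →
    ∀ s ∈ A, ¬ IsConj (ge mz) s) : KillE Spor.Co2 := by
  rintro A Γ h ⟨t, ht, h2⟩
  have h1 : t * t = 1 := by rw [← pow_two, ← h2, pow_orderOf_eq_one]
  have h3 : t ≠ 1 := by
    rintro rfl
    rw [orderOf_one] at h2
    omega
  rcases tr_cases h1 h3 with h4 | h4 | h4
  · exact hz A Γ h t ht ((tr_eq_iff h1).2 h4)
  · exact no_2B h (hz A Γ h) ht ((tr_eq_iff_B h1).2 h4)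
  · exact no_2C h (hz A Γ h) ht ((tr_eq_iff_C h1).2 h4)

end Cfsg.Agent.H890.IF.CoTwoBC
end

-- part: H890/IF/RowCoTwo
section
/-!
# S5719, cell `co2` (helper285, helper890)
-/

set_option autoImplicit false

namespace Cfsg.Agent.H890.IF.RowCoTwo

open Subgroup Cfsg Cfsg.Agent.H209.Fxy

theorem inner (σ : MulAut Spor.Co2) : ∃ g : Spor.Co2, σ = MulAut.conj g := by
  have h1 : Cfsg.Inn Spor.Co2 = ⊤ := Subgroup.index_eq_one.1 Cfsg.Agent.S2070.result
  have h2 : σ ∈ Cfsg.Inn Spor.Co2 := h1 ▸ Subgroup.mem_top σ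
  obtain ⟨g, hg⟩ := h2
  exact ⟨g, hg.symm⟩

theorem killE : KillE Spor.Co2 :=
  CoTwoBC.killE_of fun _ _ h _ hs hc => Cfsg.Agent.H285.IFCoTwoA.no_2A h hs hc

theorem kill : Kill Spor.Co2 := by
  intro A Γ h
  have hf := CoTwoBC.fin
  have hs := CoTwoBC.simple
  obtain ⟨σ, hσ, h2, -⟩ := h.ex
  obtain ⟨s, rfl⟩ := inner σ
  have h4 : s ∈ A := (h.conj s).1 hσ
  rw [Cfsg.Agent.H999.IFB.orderOf_conj CoTwoBC.hna] at h2
  exact killE A Γ h ⟨s, h4, h2⟩

/-- **Row `Co₂` of S5719.** -/
theorem row_co2 : Row fun T => Spor.IsoCo2 T := by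
  intro T _ _ _ _ h A Γ hA
  obtain ⟨e⟩ := h
  exact Kill.congr e.symm kill A Γ hA

end Cfsg.Agent.H890.IF.RowCoTwo
end

-- part: H399/IF/ONJ
section
/-!
# A subgroup `J₁` of the O'Nan group fixed by the outer automorphism `bt` (helper399, S5719)

`G = g (c ^ 3)`, `c = bt(g)⁻¹ g` of order 7, `g = b c g e d` : `bt` fixes `G`, `a`, `b`, and
`⟨G⁻¹ b G² b a b G⁻² b G, b a⟩` is a Janko group `J₁`.
-/

set_option autoImplicit false
set_option maxRecDepth 100000

namespace Cfsg.Agent.H399.IF.ONJ

open Cfsg Subgroup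
open Cfsg.Spor (ON)
open Cfsg.Spor.ON (Gen)
open Cfsg.Agent.SporadicB.ON45Data Cfsg.Agent.SporadicB.ON45Word Cfsg.Agent.SporadicB.AtlasPres
open Cfsg.Agent.UGT.C.BalON (bt btw bt_word bt_bt' eqW eqW_spec)
open Cfsg.Agent.Lib.PackMat (checkEq checkScalar okG)
open Cfsg.Agent.H248.SK.ONOut (hON exists_bt)

def mc : ℕ := 0x30060080000400c008020050020000000400a014010020020140180100600401800008000020020060180000000a00c01802004000000040080140100200c0080180000c008018010060100300600a008030000060040080500400c02005004014008030060180280600800800000006004008030000180100100a0100000500200c0180600c0100200400c000000030060040100300c0080200400601802800004018020010020100280100201801005006004018060000080000100800c0100400601800006006018000060080140200600600c000060000100080000c008000010040100080600a0000180300a000000020000140100000c01800003000004000060000080180300a0040200300a0100280500c0040080000c004020010060140180100a014020040060080180300201802004008004008030080140100000a0140100200000802001008004000020000040300500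000c01000006004030060020180200600401401806006014030030060000000400a0000180000200c0080400a004028020080180080300400c00000004008028020080140200100400001004002010020040040000180300200c01804004004018010060080080500c01801805000010030030000080000400a0180100500a0080280100600403002008014030020080140280200a0040280300c0000000500400000801008004018000020140300300c0180300100a0140000200c004020060000140180500801802806006014030010000100080300401001005008018000000040080200200a004000020060080180300a00401006002018010050080080280100a0100000300c014030060080080180200a0000080100a0180080600401003003000014018020080100300100c0080100500a0180200000000c02004004004028010060040180200c01403005008010008000080000180200c0140280400800c0100500c0080200000400c0080100400c030050040140080100600002006000000028040060080000600c00403002000010000050020040180400c01000805008018010050060100080200801400803004008028040020000180600a010010010040000000400800c010040060000180500a018028050020040180400000c03004002004020010020100180500c0000000400a018008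0200a0000000300c00c0100100a00c00002006000010000080040300500c0140080300a00c0280100c0140000400c0140300300c0180100400c01800000002004000010060140180500a01800802006014030000080100180000a00801004000014030030040000280500a0080180100a014000000080140100400a000018040040140080300601801803000010010010060040080000c008000010080100080100c018000030060180180500c00c03002006008020030040000300200400c0000100000c000060020100280600c00801806000004008000020040280300000c008060080040080400200402005002000030060040100080600c0100080100201402001002010018010060140200200a0040080200a018030010060100300000c008010040080100080000000400002004018008010000000180100a004030060020140300400601402802006018008050000140080300c0080180200000401002004014000030020180000200a00c0200300c000000060040180280400c01003001008008010040020100080000c00c018000060180300400a00c02803006008018000060000180500c01801802004010030040020080200300a014008050060000200600c014020000020100080000a0140080200401802005008004030050000100180600400402805002008028010020040080400200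0010050040100180200c01802003002018030020040140180300400c00002000018020000040100000000a004018030060100000000000c0100100c0000000300c0140100500c01400001008010018000020040080600c004030000020180200500c0080300100800401001002004020030020140080600000c008050080080200300001403003000000030020020000080500400c0100100c01000000000000010060000000300400c00c02006004004010000060000200600200402805008004018060000000080600400c03004008008030060080100280100c0140000300200802001002014028000040040100200000c000020020140180100c00c000000040140080200800403005000000010010060080200200400803005008014030030040100300200600c010000080140280000400402806000008008060080080200100200c03000002004000020000140280100c01800000004018000010040080200100c010020020040040200500a00c0080600c0040000600c004018020000000000200800001003002008028060020140080300c00c0000100c000010020060000100200c0180200600a014018020080180000200a0140300100c018008060000000100100c00c0180000a00c0080300c00c0100200a000030020000040080300600402802002000030000060080280300c00c010020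0c004010040040140280100800801002002000000030080000100400a00002006002000018010060080200000800c0280100a0000200400a0140000400600802806008014018040080040100000400c000060080100280500000c008010080180080100c0040300100c00c0100500400001003004004028040040100000400a0080080500c0100100300c018020040000000280000600c0100400600c0180100c00c0100300800c0300000200c0300300a0140000000800c010030060100180000c01803000004004028040080080100500c0040180500a0100280200a0140200200a008030020060080200200a00c0280000a0080080000200402002002014008050060180300500001401802008004020050080040280300a0080280400800c00801004014010030080140100400c00c008040060180000400400c0280100a004028030080080180300c00802805004000030020020140100600601402003008000030030080040200400600c0280500800c0080500c010030060000080300200000800803002000028020040100300500c0140280100a00c0000000401000003004008028060000080300100601001805008000030060080180280200a0080280200801002804000004010000040180000100001801002000018028050040180100200c018028010020040080100200c0100400400000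00200a0080000000a00c00002000014030000080140200500c00800000000010020020000140100500a0100080200c00c0300600c00c0100200801802005006018028040000140200400c010000030020100300100600c0100100a0040280300200c0200400c0000300100400c0200200a018028050080000200300c0000200300a01401801006004018020040080080300c0040300000a000018060040100300000a018000000020080280400000001800008008018040080040080600c014018000040100280400600c0080500801800003004014020010080100180000c018030050020040100200600c00800004008020000040100000000001001802006018020060080040000500c010020020080000080100c004028030020000200200c018030050040000000400601800800004014018050080180080000c0000280300600c00806006018000000040080200600a008008000000140180400800c030010040000280500a008010060000140200400200c0100600200403002008010020020080180080000c0040000400000c02806000000010040040000180400c0140000500401002806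

def mG : ℕ := 0x800c030000000100100300a00c0180400600400002002004030020080000100500200c0000300c01801802006004018050020140300300400c028050060100000500801400006002018030060020100280300c014020000020180100500000802803008008028000040080280600a0140000500c018010000080180200500800c0280100400c010050040000000400400c0300100a0000300200600c0180300c0000080000c00400000006004030020020180180300c0000280400801002005000010030060060140100000a01401803008010020000080140200600400c0180100a000018030080100300400200800806000008008050060180000400a0000200600400c01000002018018050020000100200800c0180400c0080000100201401005004018020060080080100500c0100100200800c0000600000c0200600a00c0200100800c02804008000018060060080280300200401006004000008040060140280400600c0100000c008028020000100080200a01800003002004010060060100200600401800001008000008020040040300400000c0200300a0000200200a00c0100500c018018040060040280000a01800804004010030050020100200500c00800805008014028010020080280600c008028040020180300100c00c01802000014028010080040200200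c0140100600000c0100000a000020020000140280600a018000020020140300000c0180100000c014020010020180180600200c0100200c014020060080100300300600c0000400c014000050080000080000a01400006002010000050080180200600a01002006002010028030040040080300c0140280100201000804002008020060040180180000c0040200200c00c000020000040200200c0040080200a00801005006008000030080100080500a014008020040140080100800c01000006000008010060100180500801400002006010010040080140100200a014010030000180000500c0140280400c0040300600c00000801006004000060080140200500c00c01003000010000030020140180600600c0100000801803002000010018000040000280600c00c0300200800c0080600000801002004018030050060100100200a0080280300c00c000040060180300100c0140080000800c00003002000010040080080000000001001805002008000050020000300600a0180280400a0080180000a00c030010000080300300a0140000600a0000300600000401001002004028010080140300000a00c0200200c01802001004018030000040180200200a0080080100a014010000080040200100000c01803008008008060060140000400a018010020040180100000c0000280300a00c020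030040080200000a00c01804006008020060040180180400601403000002008028050020100300500a0180180100a0140200400a01001806004014020060080000300500a0140080400a000010000020080300400c00c018050080140080300c000008010060180280600a010000060020100200200a004020060080040100200a004020020020140200400a0140100400c00003000000014000050020100080500a0140080400a0040100000000c0200000a0080200300a0040080500a018008040060040180000801000802000000010030040040280400400c000050020100200600201001005002000010050060180180200200001000002014010050000100100000400800803008018000000000140100400c0000200600a0180280600401803004006004008010000000100100c0140280200c0100080000800000804008000008000060080000600401800004006004018040040080200600a0100300600200003000004014028040040100180100a01402800008008008060060100000300800c0200600c018028000080000300600000c0200000c00c018060040080200400a018028030060000180300800802006006010028010020100280400c0080280300c00000805000010000050020180200600600c0100500c00c02004008018010050040100180300a010028010060000180600201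40180600600c030060000080000400400c0280600001003003008008028040020140180100c018030010080100000500c0040200300c010020020080000180400600c0180100c00c0100000c00c0280600a0000080400a01801802004010008020000080080200c01001001008000030020060100080600a010028050000000280300c0080100600a0040180600001401800000010018020060100280400400402000004010008000000040080600c00c0080000201802004004004008060000180080500c010008040020040180100a0080300500400c010010060180280300801003003006018000010020080180200800c020020040040080500600c028010060180200300a01801803000004028000000000080300800c0180000200801002004000000020000040080100c018030000080140280200401801006006000030030080000080400a0000000500600802000000008008000080140080500c010020010080040300500800c0080500c010018020040100100000a00001803000008000010040040080600c0000280400c0040080600200802004000018008040080000080100c018008040060080200100a0180200600c0040200400a0000100400a0100000200a0000200100201402002008010000010060180200500001402800000000028020060100300500200001005000004010050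0c0000100600201002002006000028050060040200400800c00803008004030060060180100500801401005006010000020080000200500a0040080600600c018000000180180200c00800803000008000030060140000500000801006000008010030040100300400400c0000100c000000050040040300100601401001002004020050020080280400c0180280000c008000010040000180300a0100000300c0180280500a0000200300c0180200000a014018030080140100000c0100280400800c0000200600c0000200c0040100200000400804000010030000000180200200c0140100400800402804004014020050000080300400600c0300200a0000100500c00c0200500c0100180400200401802004010000020040040100300400000802008000000030040040080100601003006002014028040040000000500a0040100000800c0080600a00803000002008018030040140100200001001005002004028040000140100200a00c02001000000010050080100100600400000803008000000040000080100000c0000180300a008028060060040280600c018000010000000080600a0140300000200c0280000a0040200300801801800002000028040040180100600400c008020000040180300000c0080400601001005008010028040080100000000000c0000000a0080180100400802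80200a0000200200600c0180200401802006000018000040020080000400a00c0200400c0040000300a01800005006004018050060080180000a0180200200c0140280000c0040180000001402006002014030000080080080500600c01004000004020040080180200200a0080000600c0100180200c0100100000a00c020010000080080300801400005000008028010020000200400600c0080200001801004008014018020060000200300c0040200200000000003004018000050020100000100200c0280300a018018020040080080600400400801004010030010000000100200a0080280400c0180280400a004000020040080280500c00402002006000008030040140100200000c02002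

def mGi : ℕ := 0x5000004018010000000200100000c0080500c00c00805002004028040080080200000801002005004010008050040000180100601400801008000028050080140080500401001006000018008030060040180600c0180180000000c028060080100100000200803005000018008020080180200600a000020000020000200000200003005004000018050000140300200600803001002004030060040080280200800402001000018020010040040280400400001803000000008060020000080200a00c000020080080200500001402801002010010000000100080600a0040100200c0040180200601001001000004000030020140300200801403006004004000000060040000100200002800006010030060040040280500001801003008010020030020140300400200c0080400a018028050040140200200c00c0300000a01002002004018020020060140200000801001806006010010030040080080400c018010060000040280000c01802004002000000050040140200600c018010030020000100100c014030060000100000000c0080200100400401802006008010060060000280000001802804006010000040060080000300c008020060060000180500200c0200400a010000040040080200600601002803002008030060040140000200200400802004014030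0200a0100100300a0080100300800403004008008028020080180000400400c010040000140180200a0180300600600c0280300c0180300100200403004000010010020040040180200800c00004006010030060080000000200000c0300600c0080200300a0080080600a008010050060180300400c0100280600c00c0280500400c0300600c01400803004004028060060080200200c0180200400200c0100600c0080080200c014010020020100280000c01400804006010020010080040100300a00800003004014018040060040280100c00800803008004000030060180000200a0180280200c0080200200800c0180600c000008020060080180600200c008030080180100500c0000080200c0080200000a0140280400c0180200000c010018010040040200200c004018000040180100500a0000000300c0000080600800403003000008020060080080000000a0180100500a0100100400c0080100000801801805004010008010040140100100c0180300200801401003000018020010080080180400c0140200200801802801006008030010040000000300000c010000080000280500401802806006010020050040100300400600802002006008020060080180180500c01403004006014028040040180280200600c030040040080200000a0040200200c00c028030000040000300000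40180300a010028060020100000300a00c000000060080080200c008020020000140000100400c0180200a0100000500801801800004018008040060140100300400c000030060140200100c00402006002008010050040040300200200802801008014030000060080180400c0100000300600c030000040100000200a00c0180000000c0100000801003005000008010060000140080400400c0280600000c0180300c004008030040100300500600c01001000004008000040140200300c0180280400200c0200000200c02003006010030040040180300600a00400804000008030020000000280600000400000004000018060080000200000800801005004008018040000040300200000402006000004008060020140080500000c0300400400803003004008018040020080300600800c00001002000008000020000080000c0100080500c0140100300801000004008008000040000180300600800c0080200a0000080100c00c0100100c018008000000000200100a00400003008018030040060000280000c018018020020140100000a014028020040040300400800c03000004000018020040140280100a0180200600200001003004004010050040040200300c00403005006010030010040000080400600c0100200600400000000008018020000040200600c01400800002014018020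0a00c030000080140300000a0000280000a0140000300c008008060020000080200c0000180300c0000080300400c0100600c0100080200800802006004018028020060180180200c0000180500a00c0200400001003004008008000020080040280500c0040000400a0040180200c0140180200400c0300400200c020040000140000300201000002000000018000060000280100600c02002008014000060040180200500a00403006000010018010080000280400001002002008014018050000040000100c014030040080080000500a008018020000040080100400400001002010008030080100000300600c0300100a008010060040040280500400c00804002008018030080100080400a0080200500c0180180100c0140280600a00801001000018028040040080000200c0180280400c0140300600a0140000400c00c0200500c00c0280200c0140100000401803005004000028050040140180200800c0100400800c0280300c0100180200000c00803008004028050080080180000a004028000000000280500400c0200600c00c0200400c0080300100a00800803002008028020040080300600c0040180300a00c0200100c00802804004010028060020080300500c00c0300200c0080200500001001003006018028010020140080200c0000200500c018028050060040000100600800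00300600001000000014010000060100080400001802002008008028040080100200600c00402001006010008020080000080100a0140000600200c0100600401000803002010018000080080200500a0080100200a008020040040080080000a010030000000000080600a00403005004008008050060180080400400c008020080000100400a018030030060140100000c00c000050000040080100000c01005002008020020020000000500400c01005006000018050020080300500601802801000014020040000140180600a0080100400001400802004008010050060100100500200003001006004000040020140180300401000802000008028060000140180400601403001006010008060000140300600200c020020040140200300a0000000200a008008010040140280200c010010030080040300400a000010020060100000100800c01001002018030030020000100300a00c0300600400c028010060080080100000c0180200401402000008000020050080180280100001003001002000010030000100000300c0040080400a018018030080040200500001401002004008030020020000000400601002000000018020000020040000200a010030060020180080500a0140080200a010028050040080280300200001002004004010040000100280000a00c0100600c0180000100c0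180200400c014020040000080200100a018018050000080080000600800803002000030040080100100300a0080080000000c020000060100000200a018008050040080000100401003001000018030010080180200200201000004006004010040020180080000800c0000300a0000300300a004010020020140100300a00003002002004020040080000100200a008008010000140080200a00000005006010008050020040180600800c028000020040080200000c0200200801802004000008028030080100280300a00c000030080140000500c00c010000020040100500a0100100200800c030010080180000400000001800002010028060040080000400a010010010020040100500201401805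

def pA : ℕ := 0x500600c00805000010030020060040180500c00c0180400c0040300500a00401000002014030000060140100300000c00804002018018010040000300600c00c01805004018018020080040100300600c0300500a00c028010040080200100a00c0200500000c020010060100100300c00000005000014008050000000300300c0080000300201001006008000030030020040080000200003000004010000060040180180600000802000002010000000080080100300600c0000600400c008060060100180100200802805004000018020080000100000000c02005002008028010060140100300401002805008000018060000080280500800c0000200c0000100000a00001802002018008000080040080100600c0000100a00802005004010018010060140280000c0180080600c000020000080180300100000c0300400a0080300600a014000040080080300600c0140180600a018030010000100080600a000018040080140180100c00c0100600200c0100400201002006006008020000060140000000401801801004014000030060180100300c0100280400200803006008014020010060080080000c004030030060000180100800c028010020100280500a00402805008000008040000180180500c00c00000002004020010060040280600800c030010020180080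00020140280200200c0200600200801004002004030020040140100400a0140080400c00001805006004008040060140100400200c000030040080300000a0000200400200001001002010020060000000100300c00c0080600400c0180500c00401001000008018030080080280500000c0180500c018010020060180200300400c01001008004018050020140200300a00801803002018010010020100180500c00c01002008014010010060180300400a010008000000040180400c00c028050040040080200000c0200400a004008000080040300400c01401803000008008030000080080200601401004004014028020060080280200200c0180200c018020020020100280600801400005008000028010060040000100a0040300100c000018060000180200500c018000060020180200500c008028020000000000600c0080100600c0080180500400c000000000140080300400c0200100a018010010040000180400a000008050080180100600c014030060060040000000c000028050040040180000800c018030000080200300800c02003004004008050020000180300200c0300400c0000200400c0000080400601802802004010010060080040300500c008028030000000100100c00002806002008018000020080000400c0080200300a008000010080000100000a0140300500c00c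02000000004028000020140000600a004010030080140200300800c028030040000280100800402804000010000000040100100600c01402805008018018020040040200000401402001002018028020020180080500c0180280200c0140000600a014030030000100300500c00002806008014028010040080280400001000004000010000050060000200600c0180300100a01800800008018030060040000100200401000001008004020020000000300200400c000020060000200400c0140080600200001801002014020000020140300000800c018020020000000500a0040000500c01002804002018000020000080280200600c0000300000c008040000080200600c0100080600a01802801008004028010080140000500c00c0100000c0000100600a0040080200a0080080600a0040200400600801802006004018000060140080600200c02803006000010060040100180000a00801800008018020020000080100000600802804008014008050020040200200c0000180300000c00003002004000020060040280000a0000300300a008000040080080300000c000000010060140200000c00c030040060080200200600c02005008008020000080000280400c01401004008018008030000000280600c01400804004010018030060040280500400403006004018000060060180080300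80040280300600001002006010020010000080000400200c0180200c0080080400a0180100600a00402003006008030040000040280400800c000000020080100600a0040180500c00c0080300800001804000014000020060040100300a0080180600600c0180500a014020040000040200500200c028000000140200000200800002002000028010080040080400600401802006004008050060040200200800001005004010010060060000280200c014000020060000180000000001806002008008050040040000400000c0080100a018000020000040200500c00c008060020000200000c00c020030020080000000600c0100500a018008000080000180200401400005000010018050060180200400801003004006010010020040080080500a0100080200c0040200300c0040100400a01800804006004028000020040200300c008028020040000100200a000030000020040300400a00c008020060080000500600803000000010010060060180100000200c0180500c004030040040080000600c0100180600400800005008008020050040040200600a0180280200c0140200400800c0080600c014000050080040100200001403003006000030020020100100200c00802000000000028050080140300300200801001006008030010000080200500a0040180500a0000080600600c010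010060180200100a0040300500a00c0100600400800004006008018020020040180500a01801001008008008030020140280400a00c01003004000000040060000200300600003003004004018030080140300300a008010060080000200500200402000000004018000060000200200c0140100200600c000000080080100200a000028000080080080400c0100000400c0040080500a00c0000300a000020060080180080600c0140200400000c0000100400401800008004010060020000280100600401003008000018040060100100200a0100080500a018010050060040280200c004018010000040300200800c0280600c004010000020040200100a01801002008018000060020040000200c01802804002004028050040080280600c008010040080180180300800c01805000000030000080100180600200c01801006004018020020180300300200c0180300600c028050060040100200a00800806008014008030000080300600000c0200000601400803008004008060040040080000600c0000300200c00003006000028000000100300100c0100180000600000806000014030030020140280400800c0300400c014000020020040000600a0180300400801002001004000020040080140300100800c000020060080100000a00c0100500c01800804008014018010080180300100400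00180200a0080080100400c018010020040200100a018018030060140280100c00c018050040080000200a0000280000200c000010080180000100c0080280300c000020020080140200200c0040100400c004018040080100300500c0080200400a014010000000040280100a00c0300400201803006002014008020020180080200201400801002004018060080080000100800c0080100a0100280300c004000020000180000600a00c0080300a0100300400c00000800000010010020020040180000a01002801006000030030060100280600c000020050000040000500800c0300400c010028060000100080300400c0280300200401801006014010050080000180200600c0100500c00401801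

def pB : ℕ := 0x100000000000000000000000000000000000000000000000000000000000000000000000000000000000000000000000000000000002800006000000000000080000000000000000000000000000000000000000000000000000000000000000000000000000000000000000000000000000000000400000000000000000040000000000000000000000000000000000000000000000000000000000000000000000000000000000000000000000000000080000000000000000000000004000000000000000000000000000000000000000000000000000000000000000000000000000000000000000000000000000028000000080000000000000004000000000000000000000000000000000000000000000000000000000000000000000000000000000000000000200000000000000000000000000000000000400000000000000000000000000000000000000000000000000000000000000000000000000000000000000000000000000000000000000000000000000000200000000000000000000000000000000000000000000000000000000000000000000000000000000000018030000000000000000000000000000000000000100000000000000000000000000000000000000000000000000000000000000000000000000000000000000000000000080000000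00000000000000000000002000000000000000000000000000000000000000000000000000000000000000000000000000000000000000000400000000000000000000000000000000001000000000000000000000000000000000000000000000000000000000000000000000000000000000000000000000400000000000000000000000000000000100000000000000000000000000000000000000000000000000000000000000000000000000000000000000000000000000000000000000000000000000000080000000000000000000000000000000000000000000000000000000000000000000000000000001000000000000000000000000000000000000000000000010000000000000000000000000000000000000000000000000000000000000000000000000100000a0000000000000000000000000000000000000000000000800000000000000000000000000000000000000000000000000000000000000001400000000000000000000000000000000000000000000000000000000000400000000000000000000000000000000000000000000000000000000000000000000a0000000000000000000000000000000000000000000000000000000004000000000000000000000000000000000000000000000000000000000000000000000000000000000000000000000000000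000000000000000000000000004000000000000000000000000000000000000000000000000000000000000000000000010000000000000000000000000000000000000000000000000000000400000000000000000000000000000000000000000000000000000000000000000000000000000000000000000000000000000000000000000000000000000200000000000000000000000000000000000000000000000000000000000000000000000c00000000000000000000000000000000000000000000000000000080000000000000000000000000000000000000000000000000000000000020000000000000000000000000000000000000000000000000000000000000000040000000000000000000000000000000000000000000000001400000000000000000000000000000000000000000000000000000000000000000000000000004000000000000000000000000000000000000000000000000000000002800006000000000000000000000000000000000000000000000000000000000000002000000000000000000000000000000000000000000000000000000000000800000000000000000000000000000000000000000000000000000000000000000400000000000000000000000000000000000000000000000000000000000000000000000000000000000000000000000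0000000000000000000000000000004000000000000000000000000000000000000000000000000000200000000000000000000000000000000000000000000000000000000000000000000000000400000000000000000000000000000000000000000000000000000000000000000000000000000000000000000000000000000000000000000000000000000200000000000000000000000000000000000000c0000000000000000000000000000000000000000000000000000000000000000000000000000000000000010000000000000000000000000000000000000000080000000000000000000000000000000000000000000000000000000000000000000000000000000000004000000000000000000000000000002000000000000000000000000000000000000000000000000000000000000000000000000000000000000000000000000800000000000000000000000000000000800000000000000000000000000000000000000000000000000000000000000000000000000000000000000000000400000000000000000010020000000000000000000000000000000000000000000000000000000000000000000000000000000000000000000000000000000040000000000000000000000000000000000000000000000000000000000000000000000000000000000000000000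000000000000000000000000000000000020000000000000001000000000000000000000000000000000000000000000000000000000000000000000000000000000000000000000000000000000000004000000000000000000600000005000000000000000000000000000000000000000000000000000000000000000000000000000000000000000000000000002000000000000000000000000000800000000000000000000000000000000000000000000000000000000000000000000000000000000000000000000000001000000000000000000000100000000000000000000000000000000000000000000000000000000000000000000000000000000000000000000000000000000100000000000000008000050000000000000000000000000000000000000000000000000000000000000000000000000000000000000000000000000000000040000000000000000000000000000000000000000000000000000000000000000000000000000000000000000000000000000000000000000000000000000010000000000000000000000000000000000000000000000000000000000000000000000000000000000000000000000000000000000000000000000000000008000000000000000000000000000000000000000000000000000000000000000000000000000000000000000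00000000000000000000000000000000000000400000000000000000000000000000000000000000000000000000000000000000000000000000000000000000000000000000000000000000000000000000100000000000000000000000000000000000000000000000000000000000000000000000000000000000000000000000000000000000000000000000000000020000000000000000000000000000000000000000000000000000000000000000000000000000000000000000000000000000000000000000000000000000008000000000000000000000000000000000000000000000000000000000000000000000000000000000000000000000000000000000000000000000000000004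

def pBi : ℕ := 0x100000000000000000000000000000000000000000000000000000000000000000000000000000000000000000000000000000000000800002000000000000100000000000000000000000000000000000000000000000000000000000000000000000000000000000000000000000000000000000a00000000000000000020000000000000000000000000000000000000000000000000000000000000000000000000000000000000000000000000000060000000000000000000000004000000000000000000000000000000000000000000000000000000000000000000000000000000000000000000000000000020000000180000000000000002000000000000000000000000000000000000000000000000000000000000000000000000000000000000000000a0000000000000000000000000000000000040000000000000000000000000000000000000000000000000000000000000000000000000000000000000000000000000000000000000000000000000000040000000000000000000000000000000000000000000000000000000000000000000000000000000000001002000000000000000000000000000000000000008000000000000000000000000000000000000000000000000000000000000000000000000000000000000000000000006000000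000000000000000000000004000000000000000000000000000000000000000000000000000000000000000000000000000000000000000000a00000000000000000000000000000000000800000000000000000000000000000000000000000000000000000000000000000000000000000000000000000000300000000000000000000000000000000100000000000000000000000000000000000000000000000000000000000000000000000000000000000000000000000000000000000000000000000000000100000000000000000000000000000000000000000000000000000000000000000000000000000002800000000000000000000000000000000000000000000010000000000000000000000000000000000000000000000000000000000000000000000000300000800000000000000000000000000000000000000000000010000000000000000000000000000000000000000000000000000000000000000004000000000000000000000000000000000000000000000000000000000002000000000000000000000000000000000000000000000000000000000000000000004000000000000000000000000000000000000000000000000000000000400000000000000000000000000000000000000000000000000000000000000000000000000000000000000000000000000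000000000000000000000000000200000000000000000000000000000000000000000000000000000000000000000000000c00000000000000000000000000000000000000000000000000000040000000000000000000000000000000000000000000000000000000000000000000000000000000000000000000000000000000000000000000000000000040000000000000000000000000000000000000000000000000000000000000000000000100000000000000000000000000000000000000000000000000000010000000000000000000000000000000000000000000000000000000000005000000000000000000000000000000000000000000000000000000000000000002000000000000000000000000000000000000000000000000100000000000000000000000000000000000000000000000000000000000000000000000000000400000000000000000000000000000000000000000000000000000000080000200000000000000000000000000000000000000000000000000000000000000400000000000000000000000000000000000000000000000000000000000140000000000000000000000000000000000000000000000000000000000000000040000000000000000000000000000000000000000000000000000000000000000000000000000000000000000000000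000000000000000000000000000000020000000000000000000000000000000000000000000000000001800000000000000000000000000000000000000000000000000000000000000000000000004000000000000000000000000000000000000000000000000000000000000000000000000000000000000000000000000000000000000000000000000000004000000000000000000000000000000000000010000000000000000000000000000000000000000000000000000000000000000000000000000000000000000800000000000000000000000000000000000000006000000000000000000000000000000000000000000000000000000000000000000000000000000000000200000000000000000000000000000180000000000000000000000000000000000000000000000000000000000000000000000000000000000000000000000100000000000000000000000000000000140000000000000000000000000000000000000000000000000000000000000000000000000000000000000000000020000000000000000001803000000000000000000000000000000000000000000000000000000000000000000000000000000000000000000000000000000004000000000000000000000000000000000000000000000000000000000000000000000000000000000000000000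00000000000000000000000000000000000400000000000000014000000000000000000000000000000000000000000000000000000000000000000000000000000000000000000000000000000000000040000000000000000002000000010000000000000000000000000000000000000000000000000000000000000000000000000000000000000000000000000040000000000000000000000000014000000000000000000000000000000000000000000000000000000000000000000000000000000000000000000000000008000000000000000000000c000000000000000000000000000000000000000000000000000000000000000000000000000000000000000000000000000000010000000000000001800004000000000000000000000000000000000000000000000000000000000000000000000000000000000000000000000000000000004000000000000000000000000000000000000000000000000000000000000000000000000000000000000000000000000000000000000000000000000000001000000000000000000000000000000000000000000000000000000000000000000000000000000000000000000000000000000000000000000000000000001000000000000000000000000000000000000000000000000000000000000000000000000000000000000000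000000000000000000000000000000000000000200000000000000000000000000000000000000000000000000000000000000000000000000000000000000000000000000000000000000000000000000000080000000000000000000000000000000000000000000000000000000000000000000000000000000000000000000000000000000000000000000000000000040000000000000000000000000000000000000000000000000000000000000000000000000000000000000000000000000000000000000000000000000000010000000000000000000000000000000000000000000000000000000000000000000000000000000000000000000000000000000000000000000000000000002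

def pP : ℕ := 0x60080040000300600c008050060040200000000c0000200600c0200200c0140100100c0180300200c00c02802006004000050000100080200000c02002000010020060020080180300a00002803004000010010060100180500600c008050060100200000a0100300500a0100180200a00402003000008008020060000180100000c010030040080200500600c0080500c014030000080000300000600c0180400600401805000000030040000080100200c0000280200a00c02006002000028030060100280200a00c0200300600c0180200a010008020020000300400c000028050040080300100400402006006008000000060040180400400401803002000000060060140300100800c010040020000000600000c020020060040200000c0000180000c0040200200600c0280500600801003004010028060060080000200c01002800004018028050080000100500c0140180000000403005004004018010020040280500c0100300100a0000180100c01003005000014020020000040280500c00c0100300c0140100400800c00001006014028040000100180500800c018000000080280100a00c0100500200401004002014000020000140080300c00802805008004008060020080200500800c010010080040300000a008008060040180100300a018030050020000200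5008014008050020040080000a0080180600a00c0000200a014000010080040080200801801002004008010060080040280100800c010060040180280600001800806008018030050060100200000000000000008004030060000180000000c0080180600a0180180000a0180000600800c0280000c0140000000401800000002000028020080180180000001803003002004010050000180300600800c0180000c004008030040080180500800c02802008010000060080100000600a01802804000008030010040040080100c000010000080080280600800c0300400c018030010020180000000600c0200200c0100080300a0000080200c00c0280300a0040080500400c0100300c014000000080140300300a008000040080140000100c0080180600400c0280600c01402805004000008050000140280500a018018030020080200600a000030010080100080200a0140000400a0140100000200c000010040100300300000c00806002014000000000140080400a0180100100c010020010000040180500c0180100500c0080080400800401805006008030020060000280200c008008010020140080500001802806000010018040000180000600000801000002004020060000040200100601002006004010018050000000100600c00c0080300a00c03005006018030020060180280200c00c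03005008000030030080000080200c0100280400200c010010060100080300400c018060000140100400a0140100400a008030020040180200500c00001803004004010050080080180500200400804002014028050060080300300a018008050060080280300601400803008004008040040040280600a0100180200a0000100500a0100000300c01001005008010030030040000180100a0080100300a00c02806004008028030000080280300a0000080400201402801008010010000040000000500c0040200500c0040200600c00c0280100c000010040080040080000c00c010010020040000100200c018030020100080100400000804002014018060080040100000800801006006018000020000000080600600403004002014018060080180080400601802002002010000030080140200200401801004000008030000040100280500a0000280600000c0280400a00c020010040140280300c00c0200300000801806006010018000000040080100c00401004004008008010020080300400600000806008014028030080180080600201000806008008008030020080080500a0000180100a00002800002000030030080000000300201403005006004018060040000100200a010028060000000180000600800805004004010050040000080500201000801004008010040020000080500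c018020000060000280600401801001002010028010080100000600c0000200200a00c0180100c000008000040000000200a00002002000000028000020100300000c0140100000600002800004014010010080100300500a0040000300401803004002010020000060180200500c00c010040060040100400c00c03005008018010030000040180300a0100280300800c0080600600c01803006004020050040000300200c01802004004004000000080000280000200401800004014000020060040180000c0080180400c0000000600c00c0300400a0000300500c0080280500c0180200100a0100280000c010008050000180280400c0180000400c0180080400c0100180300c0140200300400400805006018010030060000080000a008030040060000080600c008030060020140200000800c0300200401002802000018018010040000080400a0000100000c00c00805004010010010000000100300200802803006014020010020000280100801002803004000010050080000100500a0100280200600001002004010000020040000100100a0040200300400002004004008020060020040280600600802805000004008030000100180500800802800006008018060080080180400c00c0300200a0180000400a000028040080080300100c010028030080080080000000c0080200600c018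00008010020010060140280000600003005006000028040080100180200c0180000400c00c0080200a000008060060100000100a01800003004010010010060140200600c00c0080500c0180180400800c010050040180080500400801803006000028020080100080600c0040000400c00c01002006014010020060100280500400400806004008028050000100000400a00c03004004000008060040080300400601802804006014010010020140000300c0080180200200c00800002000008030040180280000c008018010080140000100401801001000014000030000140200500001001003002018018030000040200100c0180300200c0000300200000c02000004018020040080000080400000c030020060000200000601802806004000018050080140200000a0140080400a01001003004014020040080000000500600800000006000028040060180200400200c008030060000200200a0140300300000c02003004000028020060100080300600801806008010008040020000200000a018000030000180180300400801001006018008030080140180400a0000200100800c0180000600000003002000008060020000080500600c0080200601801002004014028020040000100600a0100000000a000028050020180280500c00001001000014010020080040180100000c0280200a01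8028040040000080200200c008030000080180000c0140280400800803001002004020000000040000300a0180300200a008020030020000180600000c020040080000200500400c0100000400801801000008000040000140080600c018010060080000180100400c0000200800003005008010000000020080100300c0100000400c0140080600400001002008010000000040080300100000c010000020000300300a010020030060040100300800401001006000030000040100000000a0100200300c000008030020140300100601001000000000010060040180080300600c0100100201401802008010030030000000200400800c030020040000280100a004008020040080280200c00c00003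

def pS : ℕ := 0xa00800803008014030030000140300100800c010030000140200600c00000805000000010050000000300500c00002803000004020030040080000200c008030030060140100200200c020040060000180100000402801000010020000060100200000c0180200200a00000804000000030040080000100200200001006000008000000080080200300c01800006002018000000080100280100c0100280300c0040180500c0080180000c004000000040180280400a01400000002004030040040100100200c008010040060080300200000c0080100c0180280100600400000004010018040040180280100401400806004004028000020140000100c00c0180400401800002004010020020020180180500c0180080200000c01805008004018050020100300600c0180080400401003002000014018000060140200500a014018060080140000500401803005006010030000080180180300a0080100600400402803002004020040020000300200a0180100100c0000180000401000003006000000000040100080400a00803002006004000020000100200300a0180200000201000003000018000000000000080300c0040080200a0100000000401402806008004010010020140180300800002806002000020050000040280500201802803000004018030080100200600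2000008020060040280400c01801805004004008000080000000600800401805004014010020040000100400a00c03000002014020000080100280600a01001804004010018000040000080300a0140100500201800806000014030020040080280100c0180300500000403003002018010010000000080300401403003006000030030000000100400c000018050080080100300801800001002000000030060000200300a010000060000040300400000c0200600a010018030080000200600c014028050020000280000c0140080000400802806004004010000080180000600a000030060000100300300a000018020080140280200800c0000600000402803008018030050000100000100201400803006018010030000000100200c0180300600000c0100600600401800008018008010020100080400801000005008004030020080180200600a0180300100a0000280100600c0080300600c0080200a00c020050000100080200801403003000000020030000100200200a0000080500c0040080600a0040000100200002005008000000010080000200200c0180100300c00801006008000020030040140300600c00002806004014028030000040080100a00c0100400c0140100000c0180180400600c028020000080080600000403004000000020060080140080100601802805004004008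030080040100500a00803005006004000010060180300300a0100180500a00403006008008010020080100100100c0080280300401800803006008030050040080200100001002004000018008050000000280300801801004000000020060080000100400a0080280000200402006000008008010060100280400a010000020040080100200201003005004018010010080100000600c00c0200200a000030060060080000600600c000050080100080200001401000006018000000000180000000a0180280400400003003000014010000000040180200a00c0300000a008000010000140300200c0040200400200402804006000010030040180100400800c0200400a0000080100800c0200200a004018040060180100100001002803000014018050000040200400c00402803002018030000040000000300a0080200400600c0080300800800006004004000050040140300100a010008050060100300100400402800002000000040040040100600600c01004006008020010000180180600c00c0280300800c0300200a008018060020080000500c0080000600c0180000400a0100080000000002002004014000060040040000000a0080080300a0140280400a008020040000140100200a010000010080000300600a018008050020140080200000401003008018028060020000300500200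40280100601800000004010020000080100180300800c020030020080080500600c0080300c0040300200a014030040040100000600a004010030000040300600000402800004010028040060140300500401800006004004008000020140100200c0080280400a0140100300c008030010020180080200a0180100000a0100080600000803002000018008030080140300500601801803008010028010000080300000801403004004018028060040140180300c0040180200a0000100300c00c010000040080000600c01800804000000010030080000000200c014030060020000280500a0100080100a0040000500600c008060060140200300c0040100600c01003000006008018060040000100500a0080300000a0140280000801400000006004028060080180080500a00c0300300601401000006018030030040040100500600c0300200601800806004014008060060100000100a00c0100400600c03003006018018010080100180000a0080300300000c0000300c00c0180000c0080180300a0100080400a014008060060040180000000c008040020080180300800803001006018018050060180000300200c01802004000030020040100000600c0100000600c00802806004008008030000000180100c004018050040080200300800c028050040140100100a00c0300000a004020020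0200c0000600201402802004018030030080000080500c0100300200400802003008008000050000100280400600402005000010008010000000180600600c0100200800403006006000010010020180080100800c030000020000180400400c020030040080100000401402000000014000060080040000000a010008020080180300600a0000180600c0180180600a004028010040180300300000c0200300c018020020040100180300c014020020040140080300800c0200100600c000030080140100300a01000801002004010010020080300500a0080080200c000018030000180280300800c03006008010020040040180300100c0100000200a01001800000004028010060100180500a010030060020000100600200c0100600a000030010020040080600800c0100300400c0180000000c0100000c004000020000040300100c010028020000080180300c010018060000140080400801400006006014020030020080300100c010028010060100100000c0000000100c018030040060140080000000c0080300200000004002000028000020140180100a0180080100a00001806002018020060080040100400400c0180200c0100100100000c000000000100300500a00c000010060140300400c0100200300801000805002004030050020000280200c0080000400a0180080100601402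8010080000180500a0000000200c0180300400400c018060060180200300200c0100100200001804006008000000080180300100a0180180500200401805002000000050060140200000001000003008010000020020140180500600402003000014028040020040000600401002805002008018010000080200400c01001803000000018010020140100500a0080100600a01002802000010030020020180000000001401805006010000010020100300300c0100080000a018020050040000180500c00800001004010020010000000300100601001802008014030050000080080300c00401803006004000030040000300200c00c0100600200802806000008020030080180200200201003001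

def pT : ℕ := 0x10040080000200401001000006010008050020000080600a0140280000a00c0200600a0000080000c00c0000100600c02806000014018030080180080600400c00003006014000040060080200000001801803002010030050060100200300401003006008000030050040040280000601402800002010028020060100300300a00001004006010020030040080300400a000020030000180180600a00c0000000a0080180000a00c01004008000008060080080080400400c0080600a0180100100200c02000004004030040040140200000401800804006010000020020140000000a0100280100a00002802006004010050060140180300001000000006004028050000000100500a018028050060140180300401802803008000020040080180100400c0100300400000c030030080000000600800400804008014028060080040300300c0080000500c004018020000140180000200c0000000400c0200400401402006006004000040080040280100200c0300200a0040300000a0140100100a014028000000100000500a010028000060040080400a00c0200100400c000010040040300000a00c010020060080300600c008020010080080100300c0000000000c010010000000140180100000c030030080140280200400c0180400000c0000600c0180180600800c0000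3006008010050080000280400a008010060020140100000c014020040060140100400600c0300300c0180000300800c01805006008030030080180180500000403002004008030030020040180200801801805008018000060080140100500a008030060080080200200401803006006018020020080080280100a0080200300a00c0280000000c018050060000200300a0000180600a0040200600a01801804008014020030060000000600a014030020040000200500c014020030040000080200c008020010020000200000201801001008018028050040040200200201001000002000000000000180300100c00803006000008018040040140000500200c018010040140200600201800005008008030030060040000300200c0300500000c0180500401801806004018030030040080180500000c00806002018030050060140300500a0100100000201001803004000018030040000180300c00c0180000c00802804008008020020080080000000c00003003008004008020080040100300200c0080200c018010050020000300500400c01001002008028000040080180500400002006006018028050000140080500000003001008004008000000080100200c0180280500a00400804008014008030000000100500a0000280100a00c01801004008030020000100300000800002005000018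0180600001003001002010010030020000280100801801001008008028020020180080500801000002006018010010040040080300c0000080400800c0300000c010008060020100100600000c008010060180200200600402001000014020020020000200200200c0280500a014010000000040080300a010030010040180000000201001004008008000000060040000400a014008050080080100400a0080300300c00c0300300a0100280300a008020010040080280000c0180300500a00402803002000020010060180280600c018030000080080100500001000806002004020050080180080600c00c0280500400002803002010018030080040080400c018020050060040080400c01802004004004018060080000200100a00c0180300600c0300000800c0000200000c02003006018010020080000100300c0040300600201801000004000030050040040100300200c0080300800c0180200400c0080100a00403005002004018010040080280100201801805000008000060080100200500c01400001004000000010000100200500000c00005006014030060080000100600c0140280300800c0100600c004008040000180180400c000000030060140100200a0100200100800401802004018018000060100000000a0100280200a0180100400a014000020040100100600c0000300000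a008000020060040200300a0040280600c0140080500a0180200200a0140180000800c0200500a000020020040040200000a01401802008018018040000140300600c0000180300400001005004010010050080100000000c0000000000401802805004000020050080180100100001002001000010020060080040280300a0040200600a01401006000010000000000100000000800400806004018030020000140000000c0140100400a0180180200201402004004008030030020000100100a00c03001008000000030080140100300a0080180200000c008040080000300200c0140000000a014000000040180300000401401805004010028040040080080000c00c0200300200c010010080080100100c000008000020180280000200003002002004030060080080200200a0080080300a00402802000018028020040040080600200c0280500a004028030040080100400601002805002014010060080000000100400c0100100c0180100000a0080200100001001802002004020010020040280600a0000200400801802003006004020060060040300300801400804006014030000060000280600a014008030000140100300a018008050080100180200400c0300200a00c018040060040280200200001006008014030050000040000000a014020020000180300200200401801006004018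050060000080400400802805000000008040000180080300c0100180300c014028060020180100300a00400803006010008030080000180100600c0280000c014018030080140300600401802005002000000000040040300000600c0100600a00c0300100401001003008014010000000040000000a010020040080080100300200c0000500601400800008000008020020000000600a0080080600600801006006010018050080180080300600402804000014000030080100200200c0080080400801801005004018020020020000300400a0000000000400c028060000180300600801400800008008018050020040280600000803000004004018040040040180600000c0300500a0040300100c00c0300200c018028050080080180200a00400802004000010030080040200500a0100180600c0040200400c0100280600c010000020060080000500a018010050000180100100c008020010080040080000a00001001004010020010040040280500c000000030060000080500c0080080100a0080300200c000008000060100300100a008010010020080000500001801005006014020060040140100500201802002004008028010040000000100400000004006000000050040180100100a0140000600c00c02802008014008040020180080200601002804008008008020020000180100801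8000020020140300200800c0200400a0080180300c00c01802002000030030040100280600a014020010060100280000c01800004008010010040040040180300a004030060040100080600a0000180400c0100080400c0140080400601800005000004008050000080180100400800806000014020000040100080400a00c0000000a0000000500c018028050040080200400801000001008010010060060000100200600800004006008010040080140300100800802804008004010040060080300200c014018030040180300500600000001002018018020080040200000a0080280500600c0080000a00401806006000030040020100080200800c010040020080200600c0140300200a00800003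

def pSi : ℕ := 0x50000140100500600400000006000000000060140100500a0000200600200c0200300c0180100200800003000008018010060060040280500a00c028030000000280200600c008040080000080500a0180280200c0140000400000401801008008028010000100100600000c030010060080300300a00c0080000001400801008010010020060000000200c0000300600a00c02005008000008060000000080000c014000000060180200000000c0080300c00c02004008010020040000000180600c01403003006018008050060140100300c00c0080400a000010030020100300000c00c03005002000030060040100100100600c03006008010010060020100180300401801804000000000030060000100600a00c018000060180000200c0040080300c0080000300200c0000100800c0000000a0000100100a0100000000600c0000200200c028020080040080600a0100000100a0100100600801801802000000008000060080280100a0100100400601000005008000010020060080080400c0040200100000c01001006018010060060080300100201802001000008018010040100300600c0140180400a0040000200400003000004018018020060140300300200c03004002004030060000180100200400c0180300a0080180100a000018050080000180300c004008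0000c0000080600a000000040060040180300000c0100300c0000100400a0140280100801001804002000000050040180300000c0140200300201400805000000008020020140080100000402803006010020060060000300500401002803006014030040020080100500a00c0080200a00c030060000100280000a00c02006008014028000080000200100400402005002018018020080180080200c00c0180600c014028060000180300300200802000004010018050060140200200c004028010000040000200c0080100600a00000801008008030050080180000000600c00803002010008030020180180500000c0200200a00c000040020140180000200400000004010010000040140300200400400801002018000020060080180400a0000180400601003005002010000000060180080400400802802008004008040060180000400801801003000014018010060040280300a0180180000a0000100600600400006000018000060020100080200a00c0280000a00c0280600400c0300000600402804004008008060020000180000a0140200200400c020040060140100200a0180180200c0000180100800801802008004028050000040080200c0180280300600c030000020100180600c0140200500400801804002014028060060140000200c0000200000a018008060080100280600001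40200000a010010040080180300300a0080000200401801006008008010060000140180400c014028010040040180100c008030000080080200600c010020000020180180000a004010010000100080600c008008050020140180600800c018030020100080100401002805000014030060020000180000a00c0100000000802003000004008050000080300100801800804004008008060000080080200800c0180500a0040200100a0100100000a0040000400c01000801004010020000080040000300a010018000020180180100400002001006000000060000040000500801801804002004028040020180080000a0080080100400001003004010028010040180180100200801804004018018010080080180500401002801008018018000020000180200400c028050000000000100601801801006004018040020040000300c0040300300800c018060060080100500a0100280200201800004004010030000060100100300001802000000000000040000080000500c0000300100c018020060020040080500c0180300100c00c018030000080300000a004000010020140200000a0000100600200c0100100a000020050040040100100800c02004004010010010020040200300c0180080200601802004004014020060060140000200800401005006018020010080100280300000c018040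020140080400201402804002004030010060180200600c00c0000200a0100000200200000801002000000030040080300500a01403006000014030020060040300300a0180180300c01400000006010028020040100180000600c028020060100080200a0080280000200802800000010018000040000200400200c018020000040100500001801003000014008000000040300000a0140180000c0180080600801400802000014028040040040180200000c0080400a018030060040140280200c010000040040100200300c018000000060180100000200c03004008004000000000140100600a0100280100800c0080500a008030010000140300100a010010000040140000600a0080180500001002000004014010020020100100100a0040200000c008028020080140180300c0080300300c018018020060180200300a0100200000c0180300300000c0180100a01800000008010028040080080180200200c0000500800c0280400401401804008008008030060100280300c00803006000004028010060140000000600c030020020000000400c0180300200000c018060040100080300c0140100100200803005004004000060020180300200000c02005006000000020080180000100c0040000000000c00002004010010030040040100200a014028050000040200300c00c0280300c00802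80600c0140280000c0140180100c018030040000040200400c014028010020080100300201000006000010028060020080100200000c01803006014018030080140180200600000804004004000050020040300500800c018060020140300400400c0080000200802005008010008000020040100400800c0200600c00c0300600401403000008004028040000140080500a018018010040040180200a00c02004006018008050040100100100c00c0280100000801802002004028030040040280300a00c0080100c0000100600200c0300000c00c0000200c0100180500000c0280200c0180100200401802806006008010060080080000100000c0180200600c0000000a014028060080040280500000401001004010008060000040280600600c0180100c0180000100200801801004010018020080180180400c018000010000040280200601401801004018028020000100080400a01002001004018028010080080280300001002804000008030040040100280200001001003004008008030080140300500a01001806000010030050020100100400800c010030080080180600c010000040060100180600a014010030020000280200a00c01804002000018040060040180600c0180080000c018000060060140000300a000028020020140200300a0000180500000c028010080140280000a0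0c028010000040280300c0100200500200c0100600201401802000010018030000180180200401000006006014030000000000180200000c02800008000020000080100200500401800002008018030030040140300100200c0280500a0040300000c0080080500c01002005008008008010000140200000a008000010060000300300a008008000000180300400a0040080400600c03006008000030010080140200600600c0100500c01403003000004000060020180180400401400003006018010020080180300300001001805008018030020060140280200a00c0080500c01802801002010000010000040100300800c0080300c0180080600c0100100100000c0100600600c0000400400802800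

def pTi : ℕ := 0x5008014028030080000180300c00801801008018018060060000000200200c03006004018008040020100300300601401006000018010020040140180400c000000000000140280100a00403001006018018040040000180000801401803002004010000000000080400a0000180100000c0200500a0180200100200c020030020000200100a00800004000008010040020000180600a0040200500a0100100300a0100000400a01000002006010018050020100080200400002006006008000010040180180300a00c0000500c0140180300600802801006018020010040100300000a00c0000400600402002006008010020060080180400c000008010060080300600201001805002014008050040140000000a010000060000140300300600800803008014018000020180280200600400005008014010040000040180100000802006008010018040080180000300201400804000000018000020140280500a0080300600000c0280600800802801004018030040000140200000400c0100200400c0080000800c0000300a00002800004010020060080100200000401403002006014010000040000200100000003003008008030030080000000500201400805004014018010000100100200401800800000008028020000100080500000c0180200c0080200600c000010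020000100000600400401805008010018020040100080000200c0200600c018028040080140080500001000006008018000060060140100300200000801000014028020000000000200a00c0200100a014000060060140100400200400806004000010020000140280200a014018000040080100500c010010060020040280100a00c02801006008018020060000300300a0000080600a00c00806006004028010060000080400400c01804002000020030080180000500801400004008008018050080140300300a01001006002014000010020180100300a00c0280500600c0080600c014010000040140300000a00c030050080180080200c000028060080100100200800002800000004010010020180000400401801800002010010020000140200600a00c030050060080180600a01000003000004000040040080180000601401802002004008020060180300200a0180100000a00c0100100a0100200100c014020050000080100000c00c03006008018020000020040100600400c010020020180180500401803006006010030040000140180600200800800006010020060020000300400a014000050000180280600000c0200600201401804008014020010000100000200a000018030000080200100400c0080600001800002002008008040060100200500a0140080500800c0200200a00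0018010020140000400600400801000010028030020080000600c0040180400000c0200600801402805004004020020040040100000a004020020060100180500201800801006004008020060000000400c0180300500a00c0180000400c028020040180300400c004030040040000200300c00c030040060180080400a00c008060060100280600c00c0280200c00c020010020100100100a00c010040080140000000c01400806008018018020080040300300000c0200500601801006000014018040080140100000a00c0000300000c028040040000200500a0180280000800c0180400c0140080200c0140100100401001802008018000060080180200000000c0280400a01401004008014028000080000100200c018030010080140180400c0180080400200c018000040100100600800c000010040040280000800802004000018008030040180180200c00001000008014010030060140180300a00c020010060100180600c0140100000400c028050000000180000401001003004004028050040040100000c00c018010080140200200800c02801002008018060080080000000400001803000004018050000080100600201801003002000000050000000080000a008010050080040280600201001800008004008030060180200200a0140200600a000018030000180280400c008010060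000000300600800c0180300800c000050040100000400c008020050020040180500601800005004010008060060100200200c00c0300300c00c03001004000020040020140180400801003000008008010060060180100000601002001008000030040040080180400c000010020020180200300a00c010030040040300100000c01805004010028060020040280500a0100200000c008010050060140080000601800805000010000020060140100100600c0280100000403005006004028000040140000100200800805006000010030060000280500c01001004008014008000080100180500400801805000014000040020040080200c0180000100601402800008010008010000000180300a004028050020140300300a00c010050040180200400c0080000300c008028060000040100400c014030030080140000400c0000300500000c0080400c014000020080080180000c004028020080080080400a00c0200200601002801000000010020080000080300a00402805002000010060020080200500601000006002014008010000000300600a01801802002018000000060000300000c00403003008000018050000180280200600400006004004020020060040100400c0140300100801000001006004020030060040100500c00c02802004014028000000180100300200c0100000400800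003006014018000000140080300400c0000100000c0280000600c000060060000180300001401800008008018050060000300600a0140300100c0080000300a008018050060180300300a008008020020180100500800c0000400800001805004008010020040140000500201400001006004020060060180100200a0140100000c0140000000200c00803000014030020000000080100a0080100500c0080100100c0100300300a014010060040080000400401800801006018018040080080180500c0000000400a00c00006004018028020000080100100600c0280100800c0280500000c01006002018030000000100200000401002001004000020000020100080000600c0200500400c0280000400003001004000010010040040000100000c0280000201800804000008020040080100000600c008018030060080000400800402005002010000030040000180600401002005004010010000020140200400c0040180000a014018030040040080400000c000000020040180400600c0080000a00c02806000004008060000100100100c0040300500a0100200300c01400806006004020060040000280300800c0180400600800005004014008020060080200500400c0100400c01000806002018010050080180000400001400006004008000030000040300500a00800006008000008040060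180280400a010000010040080200000c0180280100001402001000010020040060080280200400002804000000008030000040200300801400005000000018030060180080000a00c0200500a0100300600a00001800004004008040060000100000200c0100400a010028000000100300000000c0280400600400004006004020020080000080500c0140100600a0040280400a0080280600a004000030060040300500001401001000004008050060140000100600c0000200a0140080600a0180180600c0140000000000800802002008018040020080080600601802805000008020030020000280600c00801804002008028060000000280200a008030060080100300000a0080280600801001802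

/-- `x⁻¹ y = c`, `x y` interchanged by an involutory automorphism, `c ^ (2 k + 1) = 1` -/
theorem fixed_of {G : Type*} [Group G] (β : MulAut G) (hβ : ∀ x, β (β x) = x) (g : G) {k : ℕ}
    (h : ((β g)⁻¹ * g) ^ (2 * k + 1) = 1) : β (g * ((β g)⁻¹ * g) ^ k) = g * ((β g)⁻¹ * g) ^ k := by
  obtain ⟨c, hc⟩ : ∃ c, c = (β g)⁻¹ * g := ⟨_, rfl⟩
  rw [← hc] at h ⊢
  have h1 : β c = c⁻¹ := by
    rw [hc, map_mul, map_inv, hβ, mul_inv_rev, inv_inv]
  have h2 : g = β g * c := by rw [hc]; group
  have h3 : c⁻¹ ^ k = c ^ (k + 1) := by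
    rw [inv_pow, inv_eq_iff_mul_eq_one, ← pow_add, ← h]
    congr 1
    ring
  calc β (g * c ^ k) = β g * c⁻¹ ^ k := by rw [map_mul, map_pow, h1]
    _ = β g * (c * c ^ k) := by rw [h3, pow_succ']
    _ = g * c ^ k := by
      rw [← mul_assoc, ← h2]

def wg : List Gen := [.b, .c, .g, .e, .d]
def wbi : List Gen := [.d, .a, .f, .g, .a, .f, .g, .a, .f, .g, .d, .a, .f, .g, .a, .f, .g, .a, .f, .g, .a, .f, .g, .e,
  .a, .f, .g, .a, .f, .g, .d, .a, .f, .g, .d, .c, .a, .f, .g, .c, .c, .b, .d]

theorem wbi_inv : eqW (wbi ++ btw wg) [] = true := by decide +kernel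

noncomputable def g0 : ON := (wg.map on).prod
noncomputable def c0 : ON := (bt hON g0)⁻¹ * g0

theorem c0_eq : c0 = ((wbi ++ wg).map on).prod := by
  have h1 := eqW_spec hON.1 wbi_inv
  rw [List.map_append, List.prod_append, List.map_nil, List.prod_nil] at h1
  rw [c0, g0, bt_word, inv_eq_of_mul_eq_one_left h1, List.map_append, List.prod_append]

theorem lc : LW c0 [mc] := by
  rw [c0_eq]
  exact (LW.word _).change (by decide +kernel) (by decide +kernel)

theorem c0_pow : c0 ^ 7 = 1 := (lc.pow 7).eq_one hON.1 1 (by decide) (by decide +kernel)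

/-- the element of order 19 fixed by `bt` -/
noncomputable def gG : ON := g0 * c0 ^ 3

theorem bt_gG : bt hON gG = gG := fixed_of (bt hON) (bt_bt' hON) g0 (k := 3) c0_pow

theorem bt_a : bt hON (on .a) = on .a := by
  have h1 := bt_word hON [.a]
  have h2 := eqW_spec hON.1 (v := btw [.a]) (w := [.a]) (by decide +kernel)
  rw [h2] at h1
  simpa using h1

theorem bt_b : bt hON (on .b) = on .b := by
  have h1 := bt_word hON [.b]
  have h2 := eqW_spec hON.1 (v := btw [.b]) (w := [.b]) (by decide +kernel)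
  rw [h2] at h1
  simpa using h1

theorem lG : LW gG [mG] := ((LW.word wg).mul (lc.pow 3)).change (by decide +kernel) (by decide +kernel)
theorem lGi : LW gG⁻¹ [mGi] := lG.inv (by decide +kernel) (by decide +kernel)

/-- the standard generators of `J₁` -/
noncomputable def jA : ON := gG⁻¹ * on .b * gG * gG * on .b * on .a * on .b * gG⁻¹ * gG⁻¹ * on .b * gG
@[inherit_doc jA] noncomputable def jB : ON := on .b * on .a

theorem bt_jA : bt hON jA = jA := by
  simp only [jA, map_mul, map_inv, bt_gG, bt_a, bt_b]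

theorem bt_jB : bt hON jB = jB := by
  simp only [jB, map_mul, bt_a, bt_b]

theorem lA : LW jA [pA] :=
  ((((((((((lGi.mul (LW.gen .b)).mul lG).mul lG).mul (LW.gen .b)).mul (LW.gen .a)).mul (LW.gen .b)).mul lGi).mul
    lGi).mul (LW.gen .b)).mul lG).change (by decide +kernel) (by decide +kernel)
theorem lB : LW jB [pB] := ((LW.gen .b).mul (LW.gen .a)).change (by decide +kernel) (by decide +kernel)
theorem lBi : LW jB⁻¹ [pBi] := lB.inv (by decide +kernel) (by decide +kernel)
theorem lP : LW (jA * jB * jA * jB⁻¹) [pP] :=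
  (((lA.mul lB).mul lA).mul lBi).change (by decide +kernel) (by decide +kernel)
theorem lS : LW (J1Bound.sW jA jB) [pS] :=
  ((((((((lB.mul lA).mul lBi).mul lA).mul lB).mul lA).mul lB).mul lA).mul lBi).change
    (by decide +kernel) (by decide +kernel)
theorem lT : LW (J1Bound.tW jA jB) [pT] :=
  ((((((((((lA.mul lBi).mul lA).mul lB).mul lA).mul lBi).mul lA).mul lBi).mul lA).mul lB).mul lA).change
    (by decide +kernel) (by decide +kernel)
theorem lSi : LW (J1Bound.sW jA jB)⁻¹ [pSi] := lS.inv (by decide +kernel) (by decide +kernel)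
theorem lTi : LW (J1Bound.tW jA jB)⁻¹ [pTi] := lT.inv (by decide +kernel) (by decide +kernel)

theorem relJ (hs : IsSimpleGroup ON) : J1Bound.Rel jA jB where
  a2 := (lA.mul lA).eq_one hs 1 (by decide) (by decide +kernel)
  b3 := (lB.pow 3).eq_one hs 1 (by decide) (by decide +kernel)
  ab := ((lA.mul lB).pow 7).eq_one hs 1 (by decide) (by decide +kernel)
  r4 := (((lA.mul lB).mul (lP.pow 3)).pow 5).eq_one hs 1 (by decide) (by decide +kernel)
  r5 := (((((lA.mul lB).mul (lP.pow 6)).mul ((lA.mul lB).pow 2)).mul ((lA.mul lBi).pow 2)).pow 2).eq_one hs 1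
    (by decide) (by decide +kernel)
  st := ((lS.mul lT).pow 11).eq_one hs 1 (by decide) (by decide +kernel)
  sT := ((lS.mul lTi).pow 5).eq_one hs 1 (by decide) (by decide +kernel)
  r8 := ((((((lS.mul lT).mul lS).mul lTi).mul lSi).mul lTi).pow 2).eq_one hs 1 (by decide) (by decide +kernel)
  r9 := ((((((lS.mul lT).mul lS).mul lTi).mul lSi).mul lT).pow 3).eq_one hs 1 (by decide) (by decide +kernel)

theorem jA_ne : jA ≠ 1 := lA.ne_one 0 1 (by decide) (by decide +kernel)

/-- the Janko group -/
noncomputable def J : Subgroup ON := closure {jA, jB}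

theorem nonempty_J : Nonempty (J ≃* Cfsg.Spor.J1) := J1Rec.nonempty_mulEquiv (relJ hON.1) jA_ne

theorem card_J : Nat.card J = 175560 := by
  obtain ⟨e⟩ := nonempty_J
  rw [Nat.card_congr e.toEquiv]
  exact Cfsg.Agent.SporadicB.J1.Main.isJ1.2

theorem bt_J {x : ON} (hx : x ∈ J) : bt hON x = x := by
  induction hx using closure_induction with
  | mem x hx =>
    rcases hx with rfl | hx
    · exact bt_jA
    · rw [Set.mem_singleton_iff] at hx
      rw [hx]
      exact bt_jB
  | one => exact map_one _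
  | mul x y _ _ h1 h2 => rw [map_mul, h1, h2]
  | inv x _ h1 => rw [map_inv, h1]

/-- **every outer involution of `ON` centralises a `J₁`** -/
theorem exists_J {σ : MulAut ON} (hσσ : σ * σ = 1) (hout : ∀ x, σ ≠ MulAut.conj x) :
    ∃ B : Subgroup ON, Nat.card B = 175560 ∧ Nonempty (B ≃* Cfsg.Spor.J1) ∧ ∀ b ∈ B, σ b = b := by
  obtain ⟨y, hy⟩ := exists_bt hσσ hout
  have e := J.equivMapOfInjective (MulAut.conj y).toMonoidHom (MulAut.conj y).injective
  refine ⟨J.map (MulAut.conj y).toMonoidHom, ?_, ?_, ?_⟩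
  · rw [← card_J]
    exact (Nat.card_congr e.toEquiv).symm
  · obtain ⟨f⟩ := nonempty_J
    exact ⟨e.symm.trans f⟩
  · rintro _ ⟨x, hx, rfl⟩
    show σ (y * x * y⁻¹) = y * x * y⁻¹
    rw [hy]
    have e1 : y⁻¹ * (y * x * y⁻¹) * y = x := by group
    rw [e1, bt_J hx]

end Cfsg.Agent.H399.IF.ONJ
end

-- part: H399/IF/ON
section
/-!
# S5719: `ON`, `|A|` odd (helper399)

The outer involution `σ ∈ Γ` centralises `B ≅ J₁`; `f ≥ |B : A ∩ B|`, `d = |A ∩ B|` is odd, `f ^ 6 d < |ON|` gives `d = 21945`;
but there is no subgroup of order `21945 = 3 5 7 11 19` (Sylow, `p = 19`, `|C(y)| = 19`).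
-/

set_option autoImplicit false
set_option linter.unusedSectionVars false

namespace Cfsg.Agent.H399.IF.ONJ

open Cfsg Subgroup Cfsg.Agent.H209.Fxy
open Cfsg.Spor (ON)
open Cfsg.Agent.KFacts.ON.Cent (finite_ON)
open Cfsg.Agent.KFacts.ON.OneClass (card_ON)

/-- a finite simple group of composite order is not abelian -/
theorem na_of {G : Type*} [Group G] [Finite G] [IsSimpleGroup G] {N : ℕ} (hN : Nat.card G = N) (hp : ¬ N.Prime) :
    ∃ a b : G, a * b ≠ b * a := by
  by_contra hcon
  push Not at hcon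
  let _ : CommGroup G := { ‹Group G› with mul_comm := hcon }
  exact hp (hN ▸ IsSimpleGroup.prime_card (α := G))

theorem no_sub {D : Subgroup ON} (hD : Nat.card D = 21945) : False := by
  have hfin := finite_ON
  have hp : Fact (Nat.Prime 19) := ⟨by norm_num⟩
  obtain ⟨y, hy⟩ := exists_prime_orderOf_dvd_card' (G := D) 19 (by rw [hD]; norm_num)
  have hy' : orderOf (y : ON) = 19 := by rw [orderOf_coe, hy]
  have hC : Nat.card (centralizer ({y} : Set D)) = 19 := by
    apply Nat.dvd_antisymm
    · have h1 := H680.ONThirtyOne.card_cent_nineteen hy'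
      rw [← h1]
      have h2 : (centralizer ({y} : Set D)).map D.subtype ≤ centralizer ({(y : ON)} : Set ON) := by
        rintro _ ⟨x, hx, rfl⟩
        rw [SetLike.mem_coe, mem_centralizer_singleton_iff] at hx
        rw [mem_centralizer_singleton_iff]
        exact congrArg Subtype.val hx
      have h3 := Subgroup.card_dvd_of_le h2
      rwa [Nat.card_congr ((centralizer ({y} : Set D)).equivMapOfInjective D.subtype D.subtype_injective).toEquiv.symm] at h3
    · rw [← hy]
      exact Subgroup.orderOf_dvd_natCard _ (mem_centralizer_singleton_iff.2 rfl)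
  obtain ⟨n, hn, hN⟩ := CpAutON.Gen.card_eq (G := D) (p := 19) (by rw [hD]; norm_num) hy
  obtain ⟨m, hm⟩ : ∃ m, m = Nat.card ↥((zpowers y).normalizerMonoidHom).range := ⟨_, rfl⟩
  have hd : m ∣ 18 := by
    rw [hm]
    have h1 := Subgroup.card_subgroup_dvd_card ((zpowers y).normalizerMonoidHom).range
    rwa [CpAutON.Gen.card_mulAut (p := 19) hy] at h1
  rw [hC, hD, ← hm] at hN
  have hm18 : m ≤ 18 := Nat.le_of_dvd (by norm_num) hd
  interval_cases m <;> (clear * - hN hn hd; omega)

/-- **`|A|` odd, `ON`** -/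
theorem killO_ON : KillO ON := by
  intro A Γ h hodd
  have hfin := finite_ON
  have hs : IsSimpleGroup ON := Cfsg.Agent.H248.SK.ONOut.hON.1
  have hna := na_of card_ON (by norm_num)
  obtain ⟨σ, hσ, h2, hout, ha3, -, -, hlt⟩ := Cfsg.Agent.H546.IFO.exists_outer hna h hodd
  have hσσ : σ * σ = 1 := by rw [← pow_two, ← h2, pow_orderOf_eq_one]
  obtain ⟨B, hB, -, hfix⟩ := exists_J hσσ hout
  have hE := (H999.IFB.IF.E1 h hσ h2 hfix).1
  have hmul : A.relIndex B * Nat.card (A ⊓ B : Subgroup ON) = 175560 := by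
    rw [mul_comm, Subgroup.relIndex, ← hB, ← (A.subgroupOf B).card_mul_index]
    congr 1
    rw [← Subgroup.inf_subgroupOf_right A B]
    exact (Nat.card_congr (Subgroup.subgroupOfEquivOfLe inf_le_right).toEquiv).symm
  have hdA : Nat.card (A ⊓ B : Subgroup ON) ∣ Nat.card A := Subgroup.card_dvd_of_le inf_le_left
  have hdo : Odd (Nat.card (A ⊓ B : Subgroup ON)) := hodd.of_dvd_nat hdA
  have hle : Nat.card (A ⊓ B : Subgroup ON) ≤ Nat.card A := Nat.le_of_dvd Nat.card_pos hdA
  have hne := no_sub (D := A ⊓ B)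
  set d := Nat.card (A ⊓ B : Subgroup ON)
  set r := A.relIndex B
  have h8 : 8 ∣ r := by
    have h9 : Nat.Coprime 8 d := Nat.Coprime.pow_left 3 (Nat.coprime_two_left.2 hdo)
    exact h9.dvd_of_dvd_mul_right (hmul ▸ (by norm_num))
  have hr : r ^ 5 * 175560 < 460815505920 := by
    rw [← card_ON, ← hmul]
    calc r ^ 5 * (r * d) = r ^ 6 * d := by ring
      _ ≤ fx A σ ^ 6 * Nat.card A := Nat.mul_le_mul (Nat.pow_le_pow_left hE 6) hle
      _ < _ := hlt
  have hr19 : r < 20 := by
    by_contra hcon
    have h9 : 20 ^ 5 ≤ r ^ 5 := Nat.pow_le_pow_left (by omega) 5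
    omega
  obtain ⟨k, hk⟩ := h8
  obtain ⟨j, hj⟩ := hdo
  have hk2 : k < 3 := by omega
  interval_cases k
  · rw [hk] at hmul
    omega
  · rw [hk] at hmul
    exact hne (by omega)
  · rw [hk] at hmul
    omega

end Cfsg.Agent.H399.IF.ONJ
end

-- part: H403/Fx/ON
section
/-!
# S5719, the row `O'N` (helper403)

For an involution `t` of `A` the subgroup `M = 4·L₃(4)` of index 2 in `C(t)` lies in `A`, because `|M : M ∩ A| ≤ 19` and
`L₃(4)` has no proper subgroup of index less than 21.  So `A` contains the elements of order 3 and the commutators of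
`C(t)`; the relations of the presentation then put the generators `a, …, f` and their conjugates under `g` into `A`.

`killE_on` : no `IF` in `O'N` with `|A|` even; `row_on` : the row (odd order: helper399).
-/

set_option autoImplicit false
set_option maxRecDepth 100000

namespace Cfsg.Agent.H403.Fx.ONan

open Subgroup Cfsg
open Cfsg.Agent.H209.Fxy
open Cfsg.Spor (ON)
open Cfsg.Spor.ON (Gen)
open Cfsg.Agent.SporadicB.ON45Word (on)
open Cfsg.Agent.KFacts.MulSpor.ON (w w_append w_one w_cons w_iw iw)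
open Cfsg.Agent.KFacts.ON.Cent (hON finite_ON cen card_K0 card_cent)
open Cfsg.Agent.KFacts.ON.Words Cfsg.Agent.KFacts.ON.Struct
open Cfsg.Agent.ONType
open Cfsg.Agent.ONType.TupK (K0)
open scoped commutatorElement

/-! ### The cascade -/

section cascade

variable {G : Type*} [Group G]

theorem inv_of_sq {x : G} (h : x * x = 1) : x⁻¹ = x := inv_eq_of_mul_eq_one_right h

theorem pow3 {x y : G} (h : (x * y) ^ 3 = 1) : (x * y) * (x * y) * (x * y) = 1 := by
  rw [← h, pow_succ, pow_two]

theorem comm_mul {x y t : G} (hx : x * t = t * x) (hy : y * t = t * y) : (x * y) * t = t * (x * y) := by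
  rw [mul_assoc, hy, ← mul_assoc, hx, mul_assoc]

theorem comm_conj {x t g : G} (h : x * t = t * x) : (g⁻¹ * x * g) * (g⁻¹ * t * g) = (g⁻¹ * t * g) * (g⁻¹ * x * g) := by
  calc (g⁻¹ * x * g) * (g⁻¹ * t * g) = g⁻¹ * (x * t) * g := by group
    _ = g⁻¹ * (t * x) * g := by rw [h]
    _ = _ := by group

/-- **The cascade.** -/
theorem cascade [Finite G] [IsSimpleGroup G] (A : Subgroup G)
    (h3 : ∀ t ∈ A, t * t = 1 → t ≠ 1 → ∀ x, x * t = t * x → x * x * x = 1 → x ∈ A)
    (hc : ∀ t ∈ A, t * t = 1 → t ≠ 1 → ∀ x y, x * t = t * x → y * t = t * y → x * y * x⁻¹ * y⁻¹ ∈ A)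
    {a b c d e f g : G} (aa : a * a = 1) (bb : b * b = 1) (cc : c * c = 1) (dd : d * d = 1) (ee : e * e = 1)
    (ff : f * f = 1) (ab : (a * b) ^ 3 = 1) (bc : (b * c) ^ 3 = 1) (de : (d * e) ^ 3 = 1) (ef : (e * f) ^ 3 = 1)
    (ac : a * c = c * a) (ad : a * d = d * a) (ae : a * e = e * a) (af : a * f = f * a) (bd : b * d = d * b)
    (be : b * e = e * b) (bf : b * f = f * b) (ce : c * e = e * c) (cf : c * f = f * c) (df : d * f = f * d)
    (g2 : g * g = a * f) (cd4 : (c * d) ^ 4 = a * f) (ha1 : a ≠ 1) (hf1 : f ≠ 1) (hc1 : c ≠ 1) (hd1 : d ≠ 1)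
    (hdf : d * f ≠ 1) (haf : a * f ≠ 1)
    (hgen : closure ({a, b, c, d, e, f, g} : Set G) = ⊤) (haA : a ∈ A) : A = ⊤ := by
  have deA : d * e ∈ A := h3 a haA aa ha1 _ (comm_mul ad.symm ae.symm) (pow3 de)
  have efA : e * f ∈ A := h3 a haA aa ha1 _ (comm_mul ae.symm af.symm) (pow3 ef)
  have dfA : d * f ∈ A := by
    have h := A.mul_mem deA efA
    rwa [show d * e * (e * f) = d * (e * e) * f by group, ee, mul_one] at h
  have dfs : (d * f) * (d * f) = 1 := by
    rw [show (d * f) * (d * f) = d * (f * d) * f by group, ← df, show d * (d * f) * f = (d * d) * (f * f) by group, dd, ff,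
      mul_one]
  have abA : a * b ∈ A := h3 _ dfA dfs hdf _
    (comm_mul (comm_mul ad.symm af.symm).symm (comm_mul bd.symm bf.symm).symm) (pow3 ab)
  have bA : b ∈ A := (A.mul_mem_cancel_left haA).1 abA
  have cdecA : c * (d * e) * c ∈ A := by
    refine h3 a haA aa ha1 _ (comm_mul (comm_mul ac.symm (comm_mul ad.symm ae.symm)) ac.symm) ?_
    have h := pow3 de
    calc c * (d * e) * c * (c * (d * e) * c) * (c * (d * e) * c)
        = c * (d * e) * (c * c) * (d * e) * (c * c) * (d * e) * c := by group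
      _ = c * ((d * e) * (d * e) * (d * e)) * c := by rw [cc]; group
      _ = 1 := by rw [h, mul_one, cc]
  have cd2A : c * d * (c * d) ∈ A := by
    have h := A.mul_mem cdecA (A.inv_mem deA)
    have h1 : c * (d * e) * c * (d * e)⁻¹ = c * d * (c * d) := by
      rw [mul_inv_rev, inv_of_sq dd, inv_of_sq ee]
      calc c * (d * e) * c * (e * d) = c * d * (e * c) * e * d := by group
        _ = c * d * (c * e) * e * d := by rw [ce]
        _ = c * d * c * (e * e) * d := by group
        _ = _ := by rw [ee]; group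
    rwa [h1] at h
  have afA : a * f ∈ A := by
    have h := A.mul_mem cd2A cd2A
    have h1 : c * d * (c * d) * (c * d * (c * d)) = (c * d) ^ 4 := by
      rw [show (4 : ℕ) = 2 + 2 from rfl, pow_add, pow_two]
    rwa [h1, cd4] at h
  have fA : f ∈ A := (A.mul_mem_cancel_left haA).1 afA
  have eA : e ∈ A := (A.mul_mem_cancel_right fA).1 efA
  have dA : d ∈ A := (A.mul_mem_cancel_right eA).1 deA
  have bcA : b * c ∈ A := h3 f fA ff hf1 _ (comm_mul bf cf) (pow3 bc)
  have cA : c ∈ A := (A.mul_mem_cancel_left bA).1 bcA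
  -- the conjugates under `g`
  have afs : (a * f) * (a * f) = 1 := by
    rw [show (a * f) * (a * f) = a * (f * a) * f by group, ← af, show a * (a * f) * f = (a * a) * (f * f) by group, aa, ff,
      mul_one]
  have gz : g⁻¹ * (a * f) = (a * f) * g⁻¹ := by
    rw [← g2]
    group
  have cz : c * (a * f) = (a * f) * c := by
    -- `c` inverts `c d`
    have h1 : c * (c * d) ^ 4 * c⁻¹ = ((c * d) ^ 4)⁻¹ := by
      rw [← conj_pow, ← inv_pow]
      congr 1
      rw [mul_inv_rev, inv_of_sq cc, inv_of_sq dd]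
      calc c * (c * d) * c = (c * c) * d * c := by group
        _ = d * c := by rw [cc, one_mul]
    rw [cd4, inv_of_sq afs, mul_inv_eq_iff_eq_mul] at h1
    exact h1
  have dz : d * (a * f) = (a * f) * d := (comm_mul ad df.symm).symm
  have az : a * (a * f) = (a * f) * a := (comm_mul rfl af.symm).symm
  have fz : f * (a * f) = (a * f) * f := (comm_mul af rfl).symm
  have conjA : ∀ x : G, x ∈ A → x * (a * f) = (a * f) * x → g⁻¹ * x * g ∈ A := by
    intro x hx hxz
    have h := hc _ afA afs haf g⁻¹ x gz hxz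
    rw [inv_inv] at h
    exact (A.mul_mem_cancel_right (A.inv_mem hx)).1 h
  have cgA := conjA c cA cz
  have dgA := conjA d dA dz
  have agA := conjA a haA az
  have fgA := conjA f fA fz
  have sqc : ∀ x : G, x * x = 1 → (g⁻¹ * x * g) * (g⁻¹ * x * g) = 1 := by
    intro x hx
    calc (g⁻¹ * x * g) * (g⁻¹ * x * g) = g⁻¹ * (x * x) * g := by group
      _ = 1 := by rw [hx]; group
  have nec : ∀ x : G, x ≠ 1 → g⁻¹ * x * g ≠ 1 := by
    intro x hx h
    apply hx
    calc x = g * (g⁻¹ * x * g) * g⁻¹ := by group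
      _ = 1 := by rw [h]; group
  have cubec : ∀ x y : G, (x * y) ^ 3 = 1 → (g⁻¹ * (x * y) * g) * (g⁻¹ * (x * y) * g) * (g⁻¹ * (x * y) * g) = 1 := by
    intro x y hx
    calc (g⁻¹ * (x * y) * g) * (g⁻¹ * (x * y) * g) * (g⁻¹ * (x * y) * g) = g⁻¹ * ((x * y) * (x * y) * (x * y)) * g := by
          group
      _ = 1 := by rw [pow3 hx]; group
  have efgA : g⁻¹ * (e * f) * g ∈ A := h3 _ cgA (sqc c cc) (nec c hc1) _
    (comm_conj (comm_mul ce.symm cf.symm)) (cubec e f ef)
  have abgA : g⁻¹ * (a * b) * g ∈ A := h3 _ dgA (sqc d dd) (nec d hd1) _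
    (comm_conj (comm_mul ad bd)) (cubec a b ab)
  have egA : g⁻¹ * e * g ∈ A := by
    have h1 : g⁻¹ * (e * f) * g = (g⁻¹ * e * g) * (g⁻¹ * f * g) := by group
    rw [h1] at efgA
    exact (A.mul_mem_cancel_right fgA).1 efgA
  have bgA : g⁻¹ * b * g ∈ A := by
    have h1 : g⁻¹ * (a * b) * g = (g⁻¹ * a * g) * (g⁻¹ * b * g) := by group
    rw [h1] at abgA
    exact (A.mul_mem_cancel_left agA).1 abgA
  -- the normal subgroup
  set D : Set G := {a, b, c, d, e, f} with hD
  set N : Subgroup G := closure (D ∪ (fun x => g⁻¹ * x * g) '' D) with hN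
  have hDA : ∀ x ∈ D, x ∈ A := by
    rintro x (rfl | rfl | rfl | rfl | rfl | rfl) <;> assumption
  have hDgA : ∀ x ∈ D, g⁻¹ * x * g ∈ A := by
    rintro x (rfl | rfl | rfl | rfl | rfl | rfl) <;> assumption
  have hNA : N ≤ A := by
    rw [hN, closure_le]
    rintro x (hx | ⟨y, hy, rfl⟩)
    · exact hDA x hx
    · exact hDgA y hy
  have hDN : ∀ x ∈ D, x ∈ N := fun x hx => subset_closure (Or.inl hx)
  have aN : a ∈ N := hDN a (Or.inl rfl)
  have fN : f ∈ N := hDN f (by simp [hD])
  have hgN : ∀ x ∈ N, g⁻¹ * x * g ∈ N := by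
    have h1 : N ≤ N.comap (MulAut.conj g⁻¹).toMonoidHom := by
      conv_lhs => rw [hN]
      rw [closure_le]
      have hm : ∀ x : G, x ∈ N.comap (MulAut.conj g⁻¹).toMonoidHom ↔ g⁻¹ * x * g ∈ N := by
        intro x
        rw [mem_comap]
        show g⁻¹ * x * g⁻¹⁻¹ ∈ N ↔ _
        rw [inv_inv]
      rintro x (hx | ⟨y, hy, rfl⟩)
      · rw [SetLike.mem_coe, hm]
        exact subset_closure (Or.inr ⟨x, hx, rfl⟩)
      · rw [SetLike.mem_coe, hm]
        have h2 : g⁻¹ * ((fun x => g⁻¹ * x * g) y) * g = (a * f)⁻¹ * y * (a * f) := by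
          rw [← g2]
          simp only
          group
        rw [h2]
        exact N.mul_mem (N.mul_mem (N.inv_mem (N.mul_mem aN fN)) (hDN y hy)) (N.mul_mem aN fN)
    intro x hx
    have h2 := h1 hx
    rw [mem_comap] at h2
    have h3 : (MulAut.conj g⁻¹).toMonoidHom x = g⁻¹ * x * g⁻¹⁻¹ := rfl
    rwa [h3, inv_inv] at h2
  have hgN' : ∀ x ∈ N, g * x * g⁻¹ ∈ N := by
    intro x hx
    have h1 : g * x * g⁻¹ = (a * f) * (g⁻¹ * x * g) * (a * f)⁻¹ := by
      rw [← g2]
      group
    rw [h1]
    exact N.mul_mem (N.mul_mem (N.mul_mem aN fN) (hgN x hx)) (N.inv_mem (N.mul_mem aN fN))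
  have hnorm : normalizer (N : Set G) = ⊤ := by
    rw [eq_top_iff, ← hgen, closure_le]
    have hin : ∀ x ∈ N, x ∈ (normalizer (N : Set G) : Subgroup G) := fun x hx => le_normalizer hx
    have hgm : g ∈ (normalizer (N : Set G) : Subgroup G) := by
      rw [mem_normalizer_iff]
      intro x
      constructor
      · exact hgN' x
      · intro hx
        have h1 := hgN _ hx
        rwa [show g⁻¹ * (g * x * g⁻¹) * g = x by group] at h1
    rintro x (rfl | rfl | rfl | rfl | rfl | rfl | rfl)
    · exact hin _ aN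
    · exact hin _ (hDN _ (by simp [hD]))
    · exact hin _ (hDN _ (by simp [hD]))
    · exact hin _ (hDN _ (by simp [hD]))
    · exact hin _ (hDN _ (by simp [hD]))
    · exact hin _ fN
    · exact hgm
  have hnN : N.Normal := normalizer_eq_top_iff.1 hnorm
  rcases hnN.eq_bot_or_eq_top with h | h
  · exact absurd ((mem_bot).1 (h ▸ aN)) ha1
  · exact top_le_iff.1 (h ▸ hNA)

end cascade

/-! ### The subgroup `J = 4·L₃(4)` has no proper subgroup of index less than 21 -/

theorem noidx {H : Subgroup ↥J} (hH : H.index < 21) : H = ⊤ := by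
  have := finite_ON
  obtain ⟨F, _, _, hF, ⟨e⟩⟩ := GTwoRows.ONQuot.quot GTwoRows.h1170
  let π : ↥J →* Matrix.ProjectiveSpecialLinearGroup (Fin 3) F := e.toMonoidHom.comp (QuotientGroup.mk' (center ↥J))
  have hπ : Function.Surjective π := e.surjective.comp (QuotientGroup.mk'_surjective _)
  have hker : ∀ x : ↥J, π x = 1 → x ∈ center ↥J := by
    intro x hx
    have h1 : e (QuotientGroup.mk' (center ↥J) x) = e 1 := by rw [map_one]; exact hx
    exact (QuotientGroup.eq_one_iff x).1 (e.injective h1)
  have htop : H.map π = ⊤ := by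
    by_contra hne
    have h1 := (S2140.result hF 3 le_rfl (by omega)).1 (H.map π) hne
    have h2 : (H.map π).index ∣ H.index := Subgroup.index_map_dvd H hπ
    have h3 : (H.map π).index ≤ H.index := Nat.le_of_dvd (Nat.pos_of_ne_zero H.index_ne_zero_of_finite) h2
    norm_num at h1
    omega
  have hdec : ∀ x : ↥J, ∃ h ∈ H, ∃ z ∈ center ↥J, x = h * z := by
    intro x
    have h1 : π x ∈ H.map π := by rw [htop]; exact mem_top _
    obtain ⟨h, hh, he⟩ := h1
    refine ⟨h, hh, h⁻¹ * x, hker _ ?_, by group⟩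
    rw [map_mul, map_inv, he, inv_mul_cancel]
  have hle : J ≤ H.map J.subtype := by
    conv_lhs => rw [← perf]
    rw [commutator_le]
    intro x hx y hy
    obtain ⟨h, hh, z, hz, h1⟩ := hdec ⟨x, hx⟩
    obtain ⟨h', hh', z', hz', h2⟩ := hdec ⟨y, hy⟩
    refine ⟨⁅h, h'⁆, ?_, ?_⟩
    · rw [commutatorElement_def]
      exact H.mul_mem (H.mul_mem (H.mul_mem hh hh') (H.inv_mem hh)) (H.inv_mem hh')
    · have h3 : ⁅(⟨x, hx⟩ : ↥J), ⟨y, hy⟩⁆ = ⁅h, h'⁆ := by
        rw [h1, h2, commutatorElement_def, commutatorElement_def]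
        have hz1 := mem_center_iff.1 hz
        have hz2 := mem_center_iff.1 hz'
        calc h * z * (h' * z') * (h * z)⁻¹ * (h' * z')⁻¹
            = h * (z * h') * z' * z⁻¹ * h⁻¹ * z'⁻¹ * h'⁻¹ := by group
          _ = h * (h' * z) * z' * z⁻¹ * h⁻¹ * z'⁻¹ * h'⁻¹ := by rw [hz1 h']
          _ = h * h' * (z * z') * z⁻¹ * h⁻¹ * z'⁻¹ * h'⁻¹ := by group
          _ = h * h' * (z' * z) * z⁻¹ * h⁻¹ * z'⁻¹ * h'⁻¹ := by rw [hz2 z]
          _ = h * h' * (z' * h⁻¹) * z'⁻¹ * h'⁻¹ := by group
          _ = h * h' * (h⁻¹ * z') * z'⁻¹ * h'⁻¹ := by rw [hz2 h⁻¹]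
          _ = h * h' * h⁻¹ * h'⁻¹ := by group
      rw [← h3]
      rfl
  rw [eq_top_iff]
  rintro ⟨x, hx⟩ -
  obtain ⟨y, hy, he⟩ := hle hx
  have h1 : y = ⟨x, hx⟩ := Subtype.ext he
  rwa [h1] at hy

theorem J_le_of {A : Subgroup ON} (h : A.relIndex J < 21) : J ≤ A := by
  have h1 : A.subgroupOf J = ⊤ := noidx h
  exact subgroupOf_eq_top.1 h1

/-! ### Squares and commutators in `C(f)` -/

theorem sq_mem {x : ON} (hx : x * on .f = on .f * x) : x * x ∈ J := by
  rw [← mem_K0] at hx
  rcases mem_J_or hx with h | h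
  · exact J.mul_mem h h
  · have h1 := J_normal (k := on .d) d_mem h
    have h2 := J.mul_mem h h1
    have h3 : x * on .d * (on .d * (x * on .d) * (on .d)⁻¹) = x * (on .d * on .d) * x := by group
    rwa [h3, dd, mul_one] at h2

theorem comm_mem {x y : ON} (hx : x * on .f = on .f * x) (hy : y * on .f = on .f * y) : x * y * x⁻¹ * y⁻¹ ∈ J := by
  have h1 : (x * y) * on .f = on .f * (x * y) := comm_mul hx hy
  have hxi : x⁻¹ * on .f = on .f * x⁻¹ := by
    rw [inv_mul_eq_iff_eq_mul, ← mul_assoc, hx, mul_inv_cancel_right]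
  have hyi : y⁻¹ * on .f = on .f * y⁻¹ := by
    rw [inv_mul_eq_iff_eq_mul, ← mul_assoc, hy, mul_inv_cancel_right]
  have e1 := sq_mem h1
  have e2 := sq_mem hxi
  have e3 := sq_mem hyi
  -- `x y x⁻¹ y⁻¹ = (x y)² · (y⁻¹ x⁻² y) · y⁻²`
  have h2 : x * y * x⁻¹ * y⁻¹ = (x * y * (x * y)) * (y⁻¹ * (x⁻¹ * x⁻¹) * y⁻¹⁻¹) * (y⁻¹ * y⁻¹) := by group
  rw [h2]
  exact J.mul_mem (J.mul_mem e1 (J_normal (mem_K0.2 hyi) e2)) e3

/-! ### The generators -/

theorem wrel (l : List Gen) (h : Cfsg.Agent.KFacts.MulSpor.ON.okw (l ++ iw []) = true) : w l = 1 := by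
  have h1 := Cfsg.Agent.KFacts.ON.Words.eq l [] h
  simpa [w] using h1

theorem rel_cc : on .c * on .c = 1 := by simpa only [w, _root_.List.map_cons, _root_.List.map_nil, _root_.List.prod_cons, _root_.List.prod_nil, _root_.mul_one] using wrel [.c, .c] (by decide +kernel)
theorem rel_ee : on .e * on .e = 1 := by simpa only [w, _root_.List.map_cons, _root_.List.map_nil, _root_.List.prod_cons, _root_.List.prod_nil, _root_.mul_one] using wrel [.e, .e] (by decide +kernel)
theorem rel_ab : (on .a * on .b) ^ 3 = 1 := by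
  simpa [w, pow_succ, mul_assoc] using wrel [.a, .b, .a, .b, .a, .b] (by decide +kernel)
theorem rel_bc : (on .b * on .c) ^ 3 = 1 := by
  simpa only [w, pow_succ, mul_assoc, _root_.pow_zero, _root_.one_mul, _root_.List.map_cons, _root_.List.map_nil, _root_.List.prod_cons, _root_.List.prod_nil, _root_.mul_one] using wrel [.b, .c, .b, .c, .b, .c] (by decide +kernel)
theorem rel_de : (on .d * on .e) ^ 3 = 1 := by
  simpa [w, pow_succ, mul_assoc] using wrel [.d, .e, .d, .e, .d, .e] (by decide +kernel)
theorem rel_ef : (on .e * on .f) ^ 3 = 1 := by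
  simpa [w, pow_succ, mul_assoc] using wrel [.e, .f, .e, .f, .e, .f] (by decide +kernel)
theorem rel_ac : on .a * on .c = on .c * on .a := by simpa only [w, _root_.List.map_cons, _root_.List.map_nil, _root_.List.prod_cons, _root_.List.prod_nil, _root_.mul_one] using Cfsg.Agent.KFacts.ON.Words.eq [.a, .c] [.c, .a] (by decide +kernel)
theorem rel_ad : on .a * on .d = on .d * on .a := by simpa [w] using Cfsg.Agent.KFacts.ON.Words.eq [.a, .d] [.d, .a] (by decide +kernel)
theorem rel_ae : on .a * on .e = on .e * on .a := by simpa [w] using Cfsg.Agent.KFacts.ON.Words.eq [.a, .e] [.e, .a] (by decide +kernel)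
theorem rel_af : on .a * on .f = on .f * on .a := by simpa [w] using Cfsg.Agent.KFacts.ON.Words.eq [.a, .f] [.f, .a] (by decide +kernel)
theorem rel_bd : on .b * on .d = on .d * on .b := by simpa [w] using Cfsg.Agent.KFacts.ON.Words.eq [.b, .d] [.d, .b] (by decide +kernel)
theorem rel_be : on .b * on .e = on .e * on .b := by simpa [w] using Cfsg.Agent.KFacts.ON.Words.eq [.b, .e] [.e, .b] (by decide +kernel)
theorem rel_bf : on .b * on .f = on .f * on .b := by simpa [w] using Cfsg.Agent.KFacts.ON.Words.eq [.b, .f] [.f, .b] (by decide +kernel)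
theorem rel_ce : on .c * on .e = on .e * on .c := by simpa only [w, _root_.List.map_cons, _root_.List.map_nil, _root_.List.prod_cons, _root_.List.prod_nil, _root_.mul_one] using Cfsg.Agent.KFacts.ON.Words.eq [.c, .e] [.e, .c] (by decide +kernel)
theorem rel_cf : on .c * on .f = on .f * on .c := by simpa only [w, _root_.List.map_cons, _root_.List.map_nil, _root_.List.prod_cons, _root_.List.prod_nil, _root_.mul_one] using Cfsg.Agent.KFacts.ON.Words.eq [.c, .f] [.f, .c] (by decide +kernel)
theorem rel_df : on .d * on .f = on .f * on .d := by simpa [w] using Cfsg.Agent.KFacts.ON.Words.eq [.d, .f] [.f, .d] (by decide +kernel)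
theorem rel_gg : on .g * on .g = on .a * on .f := by simpa only [w, _root_.List.map_cons, _root_.List.map_nil, _root_.List.prod_cons, _root_.List.prod_nil, _root_.mul_one] using Cfsg.Agent.KFacts.ON.Words.eq [.g, .g] [.a, .f] (by decide +kernel)
theorem rel_cd : (on .c * on .d) ^ 4 = on .a * on .f := by
  simpa [w, pow_succ, mul_assoc] using Cfsg.Agent.KFacts.ON.Words.eq [.c, .d, .c, .d, .c, .d, .c, .d] [.a, .f] (by decide +kernel)

theorem ne_a : on .a ≠ 1 := by
  have h : TupRow.neJ [5] [] = true := by decide +kernel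
  simpa [SporadicRecognition.CosetCert.ev_cons, SporadicRecognition.CosetCert.ev_nil, TupRow.gJ] using TupRow.neJ_spec h

theorem ne_c : on .c ≠ 1 := by
  have h : TupRow.neJ [0] [] = true := by decide +kernel
  simpa [SporadicRecognition.CosetCert.ev_cons, SporadicRecognition.CosetCert.ev_nil, TupRow.gJ] using TupRow.neJ_spec h

theorem ne_d : on .d ≠ 1 := by
  have h : TupRow.neJ [1] [] = true := by decide +kernel
  simpa [SporadicRecognition.CosetCert.ev_cons, SporadicRecognition.CosetCert.ev_nil, TupRow.gJ] using TupRow.neJ_spec h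

theorem ne_df : on .d * on .f ≠ 1 := by
  have h : TupRow.neJ [1, 7] [] = true := by decide +kernel
  have h1 := TupRow.neJ_spec h
  simp only [SporadicRecognition.CosetCert.ev_cons, SporadicRecognition.CosetCert.ev_nil, mul_one] at h1
  exact h1

theorem ne_af : on .a * on .f ≠ 1 := by
  have h : TupRow.neJ [5, 7] [] = true := by decide +kernel
  have h1 := TupRow.neJ_spec h
  simp only [SporadicRecognition.CosetCert.ev_cons, SporadicRecognition.CosetCert.ev_nil, mul_one] at h1
  exact h1

theorem gen : closure ({on .a, on .b, on .c, on .d, on .e, on .f, on .g} : Set ON) = ⊤ := by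
  rw [eq_top_iff]
  have h : closure (Set.range (PresentedGroup.of (rels := Cfsg.Spor.coxRelators Cfsg.Spor.ON.edges ∪
      {r | r ∈ Cfsg.Spor.ON.extra}))) = ⊤ := PresentedGroup.closure_range_of _
  intro x _
  have hx : x ∈ closure (Set.range (PresentedGroup.of (rels := Cfsg.Spor.coxRelators Cfsg.Spor.ON.edges ∪
      {r | r ∈ Cfsg.Spor.ON.extra}))) := by rw [h]; exact mem_top _
  refine closure_mono ?_ hx
  rintro _ ⟨y, rfl⟩
  have h1 : (PresentedGroup.of (rels := Cfsg.Spor.coxRelators Cfsg.Spor.ON.edges ∪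
      {r | r ∈ Cfsg.Spor.ON.extra}) y) = on y := rfl
  rw [h1]
  cases y <;> simp only [_root_.Set.mem_insert_iff, _root_.Set.mem_singleton_iff, _root_.or_true, _root_.true_or]

theorem gen_top [Finite ON] [IsSimpleGroup ON] (A : Subgroup ON)
    (h3 : ∀ t ∈ A, t * t = 1 → t ≠ 1 → ∀ x, x * t = t * x → x * x * x = 1 → x ∈ A)
    (hc : ∀ t ∈ A, t * t = 1 → t ≠ 1 → ∀ x y, x * t = t * x → y * t = t * y → x * y * x⁻¹ * y⁻¹ ∈ A)
    (haA : on .a ∈ A) : A = ⊤ :=
  cascade A h3 hc aa bb rel_cc dd rel_ee ff rel_ab rel_bc rel_de rel_ef rel_ac rel_ad rel_ae rel_af rel_bd rel_be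
    rel_bf rel_ce rel_cf rel_df rel_gg rel_cd ne_a f_ne_one ne_c ne_d ne_df ne_af gen haA

/-! ### The involutions of `A` -/

theorem nonab : ∃ x y : ON, x * y ≠ y * x := by
  by_contra h
  push Not at h
  exact v_ne_inv (by rw [← vd, h (on .d) v, mul_inv_cancel_right])

theorem index_cent [Finite ON] : (centralizer ({on .f} : Set ON)).index = 2857239 := by
  have h := Subgroup.card_mul_index (centralizer ({on .f} : Set ON))
  rw [card_cent, hON.2] at h
  omega

/-- `J ≤ A` if `f ∈ A` -/
theorem J_le_A [Finite ON] [IsSimpleGroup ON] {A : Subgroup ON} {Γ : Subgroup (MulAut ON)} (h : IF A Γ)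
    (hf : on .f ∈ A) : J ≤ A := by
  have h2 : orderOf (on .f) = 2 := orderOf_eq_prime (by rw [sq, ff]) f_ne_one
  have hJ : J ≤ centralizer ({on .f} : Set ON) := by
    intro x hx
    rw [mem_centralizer_singleton_iff]
    exact mem_K0.1 (J_le hx)
  obtain ⟨-, -, -, -, h3⟩ := H999.IFB.IF.E2' h nonab hf h2
  have h4 := (h3 J hJ).1
  rw [index_cent] at h4
  apply J_le_of
  by_contra hcon
  have h5 : 21 ^ 5 ≤ A.relIndex J ^ 5 := Nat.pow_le_pow_left (by omega) 5
  norm_num at h5
  omega

/-- the general involution of `A` -/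
theorem inv_A [Finite ON] [IsSimpleGroup ON] {A : Subgroup ON} {Γ : Subgroup (MulAut ON)} (h : IF A Γ) {t : ON}
    (htA : t ∈ A) (ht : t * t = 1) (ht1 : t ≠ 1) :
    (∀ x, x * t = t * x → x * x ∈ A) ∧ ∀ x y, x * t = t * x → y * t = t * y → x * y * x⁻¹ * y⁻¹ ∈ A := by
  obtain ⟨g, hg⟩ := isConj_iff.1 (Cfsg.Agent.KFacts.ON.OneClass.one_class ht ht1)
  have h' := h.map (MulAut.conj g)
  have hf : on .f ∈ A.map (MulAut.conj g).toMonoidHom := ⟨t, htA, hg⟩
  have hJ := J_le_A h' hf
  have hmem : ∀ x : ON, x ∈ A.map (MulAut.conj g).toMonoidHom → g⁻¹ * x * g ∈ A := by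
    rintro _ ⟨y, hy, rfl⟩
    have h1 : g⁻¹ * ((MulAut.conj g).toMonoidHom y) * g = y := by
      show g⁻¹ * (g * y * g⁻¹) * g = y
      group
    rwa [h1]
  have hcomm : ∀ x, x * t = t * x → (g * x * g⁻¹) * on .f = on .f * (g * x * g⁻¹) := by
    intro x hx
    rw [← hg]
    calc g * x * g⁻¹ * (g * t * g⁻¹) = g * (x * t) * g⁻¹ := by group
      _ = g * (t * x) * g⁻¹ := by rw [hx]
      _ = _ := by group
  constructor
  · intro x hx
    have h1 := hmem _ (hJ (sq_mem (hcomm x hx)))
    rwa [show g⁻¹ * (g * x * g⁻¹ * (g * x * g⁻¹)) * g = x * x by group] at h1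
  · intro x y hx hy
    have h1 := hmem _ (hJ (comm_mem (hcomm x hx) (hcomm y hy)))
    rwa [show g⁻¹ * (g * x * g⁻¹ * (g * y * g⁻¹) * (g * x * g⁻¹)⁻¹ * (g * y * g⁻¹)⁻¹) * g = x * y * x⁻¹ * y⁻¹ by
      group] at h1

/-- **No `IF` in `O'N` with `|A|` even.** -/
theorem killE_on : KillE ON := by
  intro A Γ h hev
  have hfin := finite_ON
  have hsim := hs
  obtain ⟨t, htA, ht⟩ := hev
  have htt : t * t = 1 := by rw [← pow_two, ← ht, pow_orderOf_eq_one]
  have ht1 : t ≠ 1 := by
    rintro rfl
    rw [orderOf_one] at ht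
    omega
  obtain ⟨g, hg⟩ := isConj_iff.1 ((Cfsg.Agent.KFacts.ON.OneClass.one_class htt ht1).trans
    (Cfsg.Agent.KFacts.ON.OneClass.one_class aa ne_a).symm)
  have h' := h.map (MulAut.conj g)
  have ha : on .a ∈ A.map (MulAut.conj g).toMonoidHom := ⟨t, htA, hg⟩
  refine h'.ne_top (gen_top _ ?_ ?_ ha)
  · intro s hsA hss hs1 x hx hx3
    have h1 := (inv_A h' hsA hss hs1).1 x hx
    have h2 := Subgroup.mul_mem _ h1 h1
    rwa [show x * x * (x * x) = x * x * x * x by group, hx3, one_mul] at h2
  · intro s hsA hss hs1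
    exact (inv_A h' hsA hss hs1).2

/-- the row `O'N`, from the case of odd order -/
theorem row_on_of (hO : KillO ON) : Row fun T => Spor.IsoON T := by
  refine Row.of_kill ?_
  rintro T _ _ _ - ⟨e⟩
  have := finite_ON
  exact Kill.congr e.symm (Kill.of killE_on hO)

/-- **the row `O'N` of S5719** (odd order: helper399) -/
theorem row_on : Row fun T => Spor.IsoON T := row_on_of H399.IF.ONJ.killO_ON

end Cfsg.Agent.H403.Fx.ONan
end

private theorem dce_d421cf351c66 : _root_.True := by
  try have : _root_.True := by simp only [_root_.Cfsg.Agent.H399.IF.ONJ.jB.eq_1]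
  try have : _root_.True := by simp only [_root_.Cfsg.Agent.H399.IF.ONJ.c0.eq_1]
  try have : _root_.True := by simp only [_root_.Cfsg.Agent.H399.IF.ONJ.jA.eq_1]
  try have : _root_.True := by simp only [_root_.Cfsg.Agent.H399.IF.ONJ.g0.eq_1]
  try have : _root_.True := by simp only [_root_.Cfsg.Agent.SporadicStructure.M24El.idP.eq_1]
  try have : _root_.True := by simp only [_root_.Cfsg.Agent.H890.IF.CoTwoCode.triv.eq_1]
  exact _root_.True.intro
end

-- part: H109/IF/RowHS_mg
section
prune_inst 0x405202444094002000000051250003c26ce000000000b0400952103460686de2209022660fc000a014a020004003c0020100000104000000000000600011904a18080500a3300a10406000f80b882000000000000000000000000000000041000200000000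
set_option linter.all false
open scoped Cfsg.Agent.FastGrp

-- part: H109/IF/Gen
section
/-!
# S5719: general lemmas for the small sporadic rows (helper109)

* `no_odd` : `|A|` odd is impossible if every outer involution centralises a subgroup of order divisible by `2 ^ k`,
  `|T| ≤ 2 ^ (6 k)`;
* `exists_pow` : `x ∈ C_T(t)`, `t ∈ A` an involution, `|T : C_T(t)| ≤ (M + 1) ^ 5`: `x ^ n ∈ A` for some `0 < n ≤ M`;
* `few` : the number of conjugates of `t` in `A`.
-/

set_option autoImplicit false

namespace Cfsg.Agent.H109.IFx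

open MulAction Subgroup Cfsg.Agent.H284 Cfsg.Agent.H209.Fxy Cfsg.Agent.H999.IFB

variable {T : Type*} [Group T] [Finite T] [IsSimpleGroup T] {A : Subgroup T} {Γ : Subgroup (MulAut T)}

/-- **`|A|` odd.** -/
theorem no_odd (h : IF A Γ) (hna : ∃ a b : T, a * b ≠ b * a) (hodd : Odd (Nat.card A)) {k : ℕ}
    (hk : Nat.card T ≤ 2 ^ (6 * k))
    (H : ∀ σ : MulAut T, orderOf σ = 2 → σ ∉ (MulAut.conj : T →* MulAut T).range →
      ∃ B : Subgroup T, (∀ b ∈ B, σ b = b) ∧ 2 ^ k ∣ Nat.card B) : False := by
  obtain ⟨σ, hσ, ho, -⟩ := h.ex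
  by_cases hin : σ ∈ (MulAut.conj : T →* MulAut T).range
  · obtain ⟨a, rfl⟩ := hin
    have ha : a ∈ A := (h.conj a).1 hσ
    rw [orderOf_conj hna] at ho
    have h1 : 2 ∣ Nat.card A := by
      rw [← ho, ← orderOf_mk a ha]
      exact _root_.orderOf_dvd_natCard _
    exact (Nat.not_even_iff_odd.2 hodd) (even_iff_two_dvd.2 h1)
  · obtain ⟨B, hB, hd⟩ := H σ ho hin
    have h1 := (IF.E1 h hσ ho hB).2
    have h3 : Nat.card B = A.relIndex B * Nat.card (A.subgroupOf B) := by
      rw [Subgroup.relIndex, ← Subgroup.index_mul_card (A.subgroupOf B)]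
    have h4 : Nat.card (A.subgroupOf B) ∣ Nat.card A := by
      rw [← Subgroup.inf_subgroupOf_right,
        Nat.card_congr (Subgroup.subgroupOfEquivOfLe (inf_le_right : A ⊓ B ≤ B)).toEquiv]
      exact Subgroup.card_dvd_of_le inf_le_left
    have h5 : Nat.Coprime (2 ^ k) (Nat.card (A.subgroupOf B)) := by
      apply Nat.Coprime.pow_left
      rw [Nat.coprime_two_left]
      exact Odd.of_dvd_nat hodd h4
    have h6 : 2 ^ k ∣ A.relIndex B := by
      rw [h3] at hd
      exact h5.dvd_of_dvd_mul_right hd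
    have h7 : 0 < A.relIndex B := by
      apply Nat.pos_of_ne_zero
      intro h0
      rw [h0, zero_mul] at h3
      exact Nat.card_pos.ne' h3
    have h8 := Nat.le_of_dvd h7 h6
    have h9 : A.index ≤ Nat.card T := by
      rw [← A.card_mul_index]
      exact Nat.le_mul_of_pos_left _ Nat.card_pos
    have h10 : (2 ^ k) ^ 6 ≤ A.relIndex B ^ 6 := Nat.pow_le_pow_left h8 6
    rw [← pow_mul, mul_comm k 6] at h10
    omega

theorem exists_pow (h : IF A Γ) (hna : ∃ a b : T, a * b ≠ b * a) {t : T} (ht : t ∈ A) (h2 : orderOf t = 2) {M : ℕ}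
    (hM : (centralizer ({t} : Set T)).index ≤ (M + 1) ^ 5) {x : T} (hx : x * t = t * x) :
    ∃ n, 0 < n ∧ n ≤ M ∧ x ^ n ∈ A := by
  obtain ⟨-, -, -, -, hB⟩ := IF.E2' h hna ht h2
  have h1 := (hB (centralizer ({t} : Set T)) le_rfl).1
  have h3 : A.relIndex (centralizer ({t} : Set T)) ≤ M := by
    by_contra hc
    push Not at hc
    have := Nat.pow_le_pow_left (show M + 1 ≤ A.relIndex (centralizer ({t} : Set T)) by omega) 5
    omega
  have h0 : (A.subgroupOf (centralizer ({t} : Set T))).index ≠ 0 := Subgroup.index_ne_zero_of_finite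
  obtain ⟨n, hn, hn', hm⟩ := Subgroup.exists_pow_mem_of_index_ne_zero h0
    (⟨x, Subgroup.mem_centralizer_singleton_iff.2 hx⟩ : centralizer ({t} : Set T))
  exact ⟨n, hn, hn'.trans h3, hm⟩

/-- `x ∈ C_T(t)` of order 8, `|T : C_T(t)| ≤ 8 ^ 5`: `x ^ 4 ∈ A`. -/
theorem pow_four (h : IF A Γ) (hna : ∃ a b : T, a * b ≠ b * a) {t : T} (ht : t ∈ A) (h2 : orderOf t = 2)
    (hM : (centralizer ({t} : Set T)).index ≤ 8 ^ 5) {x : T} (hx : x * t = t * x) (h8 : x ^ 8 = 1) : x ^ 4 ∈ A := by
  obtain ⟨n, hn, hn', hm⟩ := exists_pow (M := 7) h hna ht h2 hM hx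
  have h3 : n ∣ 420 := by
    interval_cases n <;> decide
  obtain ⟨j, hj⟩ := h3
  have h4 : x ^ 420 ∈ A := by
    rw [hj, pow_mul]
    exact pow_mem hm j
  have h5 : x ^ 420 = x ^ 4 := by
    rw [show 420 = 8 * 52 + 4 by norm_num, pow_add, pow_mul, h8, one_pow, one_mul]
  rwa [h5] at h4

/-- **The conjugates of `t` in `A`.** -/
theorem few (h : IF A Γ) (hna : ∃ a b : T, a * b ≠ b * a) {t : T} (ht : t ∈ A) (h2 : orderOf t = 2)
    (S : Finset T) (hS : ∀ s ∈ S, s ∈ A ∧ IsConj t s) :
    ∃ f, f ^ 6 < A.index ∧ S.card * A.index ≤ f * (centralizer ({t} : Set T)).index := by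
  obtain ⟨ho, hc, -⟩ := IF.E2' h hna ht h2
  have hσ : MulAut.conj t ∈ Γ := (h.conj t).2 ht
  refine ⟨fx A (MulAut.conj t), h.small _ hσ ho, ?_⟩
  rw [← hc, IF.fix_formula' h hσ, mul_comm]
  refine Nat.mul_le_mul_left _ ?_
  have hinj : Function.Injective (MulAut.conj : T →* MulAut T) := by
    rw [injective_iff_map_eq_one]
    intro z hz
    by_contra hne
    have h3 := orderOf_conj hna z
    rw [hz, orderOf_one] at h3
    exact hne (orderOf_eq_one_iff.1 h3.symm)
  have h4 : (MulAut.conj '' (S : Set T)) ⊆ icl (MulAut.conj t) ∩ (Γ : Set (MulAut T)) := by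
    rintro _ ⟨s, hs, rfl⟩
    obtain ⟨hsA, hsc⟩ := hS s hs
    obtain ⟨c, hc'⟩ := isConj_iff.1 hsc
    refine ⟨⟨c, ?_⟩, (h.conj s).2 hsA⟩
    rw [← map_mul, ← map_inv, ← map_mul, hc']
  have h5 := Set.ncard_le_ncard h4 (Set.toFinite _)
  rwa [Set.ncard_image_of_injective _ hinj, Set.ncard_coe_finset] at h5

end Cfsg.Agent.H109.IFx
end

-- part: H109/IF/RowHS
section
/-!
# S5719: the row `HS` (helper109)

`Q ≤ Perm (Fin 100)` is the group `HS`, `H0 = 2.HS.2`, `φ : H0 → Perm (Fin 100)`, `a = y ^ 3` (class 2A, `|C| = 7680`),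
`gx` (class 2B, `|C| = 2880`), outer involutions `gz`, `d`.

* an involution 2A in `A` gives 24 conjugates of it in `A` (fourth powers of elements of order 8 of the centralizer);
* an involution 2B in `A` gives an involution 2A in `A`;
* the outer involutions centralise subgroups of order divisible by 32.
-/

set_option autoImplicit false
set_option maxRecDepth 100000

namespace Cfsg.Agent.H109.IFx.HS

open Cfsg Cfsg.Agent.HN.Pres Cfsg.Agent.HN.HS100 Cfsg.Agent.HN.P1408 Cfsg.Agent.HN.H0Basic
open Cfsg.Agent.HN.Syl Cfsg.Agent.HN.Classes Cfsg.Agent.HN.Iota Cfsg.Agent.HN.InvH0 Cfsg.Agent.HN.CentUp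
open Cfsg.Agent.HN.DoubleCover Cfsg.Agent.KFacts.HS
open Cfsg.Agent.SporadicA.PermTab Cfsg.Agent.HN.Local
open Cfsg.Agent.H209.Fxy Equiv Subgroup

/-! ### words on the 100 points -/

/-- equality of the permutations of two words -/
def ew (w w' : List ℕ) : Bool := allB (fun i => Nat.beq (t1 w i) (t1 w' i)) 100

theorem ew_eq {w w' : List ℕ} (h : ew w w' = true) : φ (hw w) = φ (hw w') := by
  refine Equiv.ext fun i => Fin.ext ?_
  rw [φ_hw_apply, φ_hw_apply]
  exact Nat.eq_of_beq_eq_true ((allB_iff _ _).1 h i i.2)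

/-- the word is in `K` and commutes with the word `T` -/
def okc (T : List ℕ) (e : ℕ) : Bool :=
  band (okw (decW e)) (band (cond (par (decW e)) false true) (ew (decW e ++ T) (T ++ decW e)))

/-- the permutation of a coded word -/
noncomputable def g (e : ℕ) : Perm (Fin 100) := φ (hw (decW e))

theorem okc_spec {T : List ℕ} {e : ℕ} (h : okc T e = true) : g e ∈ Q ∧ g e * φ (hw T) = φ (hw T) * g e := by
  unfold okc at h
  rw [band_eq_true, band_eq_true] at h
  obtain ⟨h1, h2, h3⟩ := h
  refine ⟨⟨hw (decW e), mem_K_of_par h1 ?_, rfl⟩, ?_⟩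
  · cases hp : par (decW e) with
    | false => rfl
    | true => rw [hp] at h2; exact absurd h2 (by decide)
  · have h4 := ew_eq h3
    rw [hw_append, hw_append, map_mul, map_mul] at h4
    exact h4

/-- the centralizer in `Q` of a permutation -/
def CQ (x : Perm (Fin 100)) : Subgroup (Perm (Fin 100)) := Q ⊓ centralizer {x}

theorem card_CQ {x : Perm (Fin 100)} (hx : x ∈ Q) :
    Nat.card (centralizer ({(⟨x, hx⟩ : Q)} : Set Q)) = Nat.card (CQ x) := by
  have h1 : (centralizer ({(⟨x, hx⟩ : Q)} : Set Q)).map Q.subtype = CQ x := by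
    ext c
    constructor
    · rintro ⟨d, hd, rfl⟩
      exact ⟨d.2, Subgroup.mem_centralizer_singleton_iff.2
        (congrArg Subtype.val (Subgroup.mem_centralizer_singleton_iff.1 hd))⟩
    · rintro ⟨h2, h3⟩
      exact ⟨⟨c, h2⟩, Subgroup.mem_centralizer_singleton_iff.2
        (Subtype.ext (Subgroup.mem_centralizer_singleton_iff.1 h3)), rfl⟩
  rw [← h1]
  exact Nat.card_congr (Subgroup.equivMapOfInjective _ _ Q.subtype_injective).toEquiv

theorem index_le {x : Perm (Fin 100)} (hx : x ∈ Q) {n m : ℕ} (h : n ≤ Nat.card (CQ x)) (hnm : 44352000 ≤ n * m) (hn : 0 < n) :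
    (centralizer ({(⟨x, hx⟩ : Q)} : Set Q)).index ≤ m := by
  have h1 := (centralizer ({(⟨x, hx⟩ : Q)} : Set Q)).index_mul_card
  rw [card_CQ hx, HN.AutBound.card_Q] at h1
  by_contra hc
  push Not at hc
  have h2 : m * n < 44352000 + 1 := by
    calc m * n ≤ m * Nat.card (CQ x) := Nat.mul_le_mul_left _ h
      _ ≤ (centralizer ({(⟨x, hx⟩ : Q)} : Set Q)).index * Nat.card (CQ x) := Nat.mul_le_mul_right _ hc.le
      _ < _ := by rw [h1]; norm_num
  have h3 : (m + 1) * n ≤ 44352000 := by
    calc (m + 1) * n ≤ (m + 1) * Nat.card (CQ x) := Nat.mul_le_mul_left _ h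
      _ ≤ (centralizer ({(⟨x, hx⟩ : Q)} : Set Q)).index * Nat.card (CQ x) := Nat.mul_le_mul_right _ hc
      _ = 44352000 := h1
  have h4 : (m + 1) * n = n * m + n := by ring
  omega

/-- lower bound of the order of a group from two orbits -/
theorem card_ge {C : Subgroup (Perm (Fin 100))} {l₁ l₂ : List ℕ} (p₁ p₂ : Fin 100) (h₁ : ∀ e ∈ l₁, g e ∈ C)
    (h₂ : ∀ e ∈ l₂, g e ∈ C ∧ g e p₁ = p₁) (n₁ : (l₁.map fun e => t1 (decW e) p₁).Nodup)
    (n₂ : (l₂.map fun e => t1 (decW e) p₂).Nodup) : l₁.length * l₂.length ≤ Nat.card C := by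
  let F : Fin l₁.length × Fin l₂.length → C := fun p =>
    ⟨g (l₁.get p.1) * g (l₂.get p.2), C.mul_mem (h₁ _ (List.get_mem _ _)) (h₂ _ (List.get_mem _ _)).1⟩
  have hg : ∀ e (p : Fin 100), ((g e p : Fin 100) : ℕ) = t1 (decW e) p := fun e p => φ_hw_apply _ _
  have key : ∀ (l : List ℕ) (p : Fin 100), (l.map fun e => t1 (decW e) p).Nodup → ∀ i j : Fin l.length,
      g (l.get i) p = g (l.get j) p → i = j := by
    intro l p hn i j hij
    have h3 := congrArg Fin.val hij
    rw [hg, hg] at h3
    have h5 := List.Nodup.of_map _ hn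
    rw [List.nodup_map_iff_inj_on h5] at hn
    have h4 := hn _ (List.get_mem l i) _ (List.get_mem l j) h3
    exact (List.Nodup.get_inj_iff h5).1 h4
  have hF : Function.Injective F := by
    rintro ⟨i, j⟩ ⟨i', j'⟩ hij
    have h3 : g (l₁.get i) * g (l₂.get j) = g (l₁.get i') * g (l₂.get j') := congrArg Subtype.val hij
    have h4 := congrArg (fun z : Perm (Fin 100) => z p₁) h3
    simp only [Perm.mul_apply, (h₂ _ (List.get_mem l₂ _)).2] at h4
    have h5 := key l₁ p₁ n₁ i i' h4
    subst h5
    have h6 := mul_left_cancel h3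
    have h7 := key l₂ p₂ n₂ j j' (by rw [h6])
    rw [h7]
  have h3 := Nat.card_le_card_of_injective F hF
  rwa [Nat.card_prod, Nat.card_fin, Nat.card_fin] at h3

/-! ### the data -/

/-- words in `C(a)` (conjugators) -/
def CS : List ℕ := [
  0x1, 0xa, 0xb, 0x438dc6d8, 0x424a2510, 0x2120920d8, 0x21c6e36c2, 0x10d8490483, 0x10904906c2, 0x16120920d8,
  0x141b092090, 0x2145044a20d8, 0x21c7046e3090, 0x10a28225106c3, 0x10e3823718482, 0x109071b8238c2,
  0x10a28225106c2, 0x10e3823718483, 0x10d8512822883, 0x10d8512822882, 0x109071b8238c3, 0xc4a38e30d88dc,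
  0x84105146c2514, 0x861871c48371c]

/-- elements of `C(x)`, the orbit of the first point -/
def L1 : List ℕ := [
  0x1, 0x8, 0xa0c2, 0x58418, 0xa418612, 0xb61041b, 0x5b0820d8, 0x520c3090, 0x14a370241b, 0x16e2503612,
  0xa8a3614503, 0xa412082412, 0xb61b0c361b, 0xa51b8120d8, 0xb71281b090, 0x586186c30c3, 0x5b0820db8a3,
  0x5451b0a2818, 0x5b0820db083, 0x520c30920c2, 0x520c3093083, 0x5b0d861b0d8, 0x52090412090, 0x31451b822503,
  0x2c30c3618618, 0xa5144844a2894, 0xa51b8120db8a3, 0x5841a412082412, 0x5061361b0c361b, 0x5b0d861b0da0c2,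
  0x5b0d861b0db8a3, 0x520904120928e2, 0x2945108940dc512, 0x2906184a281c503, 0x2d84106e3814702,
  0x14a289451b8a20db, 0x14830c2484704503, 0x16c20836c38db8c3, 0x16c20836dc5028dc, 0x14830c2494703894]

/-- elements of `C(x)` fixing the first point, the orbit of the second point -/
def L2 : List ℕ := [
  0x1, 0x5c518, 0x54710, 0x547128e2, 0x5841b083, 0x506120c2, 0x16e28146e0, 0x14a381c4a0, 0x5451871281b,
  0x5c71051b812, 0x14228d88a28dc, 0x17146dc5028dc, 0x151c494703894, 0x14a381c4a28e2, 0x16e28146e38a3,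
  0x1610682892882, 0x142382281b083, 0xa1144a371c703, 0xa1145144188e3, 0xa1145128dc703, 0xa8a041c71c703,
  0x62812892894502, 0x22381b8db8dc703, 0x16c47125128a38c3, 0x171b8906237128a2, 0xa512884512894514,
  0xa51b8c28a08e38e3, 0xa8a2512884512894, 0xa8a28a08e30a251b, 0xb8dc6238928a0514, 0xc5128a05125188e3,
  0xc7188e24a28144a2, 0xc6e371c0e371b8e3, 0x85128d842251b8e3, 0x547138e0614514502, 0x420838e36dc71c502]

/-- an element of order 8 in `C(a)` -/
def xa : List ℕ := [0, 4, 3, 4, 3, 4, 2, 4]
/-- its fourth power -/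
def za : List ℕ := xa ++ (xa ++ (xa ++ xa))
/-- an element of order 8 in `C(x)` -/
def xb : List ℕ := [4, 3, 4, 3, 3, 0, 2, 0, 3, 3, 0, 2, 4, 2, 4, 0, 2]
/-- code of the conjugate `c z c⁻¹` -/
def cod (e : ℕ) : ℕ := t1 (decW e ++ (za ++ iw (decW e))) 0 + 128 * t1 (decW e ++ (za ++ iw (decW e))) 1

theorem chkCS : ∀ e ∈ CS, okc [2, 2, 2] e = true := by decide +kernel
theorem nodCS : (CS.map cod).Nodup := by decide +kernel
theorem chkL1 : ∀ e ∈ L1, okc [0] e = true := by decide +kernel
theorem chkL2 : ∀ e ∈ L2, okc [0] e = true ∧ t1 (decW e) 52 = 52 := by decide +kernel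
theorem nodL1 : (L1.map fun e => t1 (decW e) 52).Nodup := by decide +kernel
theorem nodL2 : (L2.map fun e => t1 (decW e) 82).Nodup := by decide +kernel

/-! ### the two classes of involutions -/

theorem a_mem : φ a ∈ Q := ⟨a, by rw [← hw_a]; exact mem_K_of_par rfl rfl, rfl⟩
theorem x_mem : φ gx ∈ Q := ⟨gx, gx_mem, rfl⟩

/-- the involution 2A -/
def ta : Q := ⟨φ a, a_mem⟩
/-- the involution 2B -/
def tb : Q := ⟨φ gx, x_mem⟩

theorem hna : ∃ a b : Q, a * b ≠ b * a := by
  by_contra hc
  push Not at hc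
  have h1 : φ gx * φ gy = φ gy * φ gx := congrArg Subtype.val (hc ⟨φ gx, x_mem⟩ ⟨φ gy, gy, gy_mem, rfl⟩)
  have h2 := congrArg (fun z : Perm (Fin 100) => ((z 0 : Fin 100) : ℕ)) h1
  rw [← hw_x, ← hw_y, ← map_mul, ← map_mul, ← hw_append, ← hw_append] at h2
  simp only [φ_hw_apply] at h2
  revert h2
  decide +kernel

theorem orderOf_ta : orderOf ta = 2 := by
  apply orderOf_eq_prime
  · apply Subtype.ext
    change φ a ^ 2 = 1
    rw [← map_pow, a_sq', map_one]
  · intro h1
    have h2 := (φ_eq_one_iff (g := a)).1 (congrArg Subtype.val h1)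
    rcases h2 with h2 | h2
    · exact a_ne_one h2
    · exact a_ne_τ h2

theorem card_Ca : 7680 ≤ Nat.card (CQ (φ a)) := by
  have hfin : Finite H0 := finite_H0
  set C := centralizer ({a} : Set H0) ⊓ K with hC
  have h1 : 15360 ≤ Nat.card C := by
    have h2 : Nat.card (centralizer ({a} : Set H0)) = 30720 := card_centralizer_a
    have h3 : Nat.card C * K.relIndex (centralizer ({a} : Set H0)) = Nat.card (centralizer ({a} : Set H0)) := by
      rw [hC, ← Subgroup.card_mul_index (K.subgroupOf (centralizer ({a} : Set H0))), Subgroup.relIndex]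
      congr 1
      rw [← Subgroup.inf_subgroupOf_right, inf_comm,
        Nat.card_congr (Subgroup.subgroupOfEquivOfLe (inf_le_right : K ⊓ centralizer ({a} : Set H0) ≤ _)).toEquiv]
    have h4 : K.relIndex (centralizer ({a} : Set H0)) ≤ 2 := by
      have h5 := Subgroup.relIndex_dvd_index_of_normal K (centralizer ({a} : Set H0))
      rw [K_index] at h5
      exact Nat.le_of_dvd (by norm_num) h5
    have h6 := Nat.mul_le_mul_left (Nat.card C) h4
    omega
  have h2 : Nat.card C = 2 * Nat.card (C.map φ) := by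
    apply card_eq_two_mul
    exact ⟨τ_mem_centralizer _, τ_mem_K⟩
  have h3 : C.map φ ≤ CQ (φ a) := by
    rintro _ ⟨c, ⟨hc, hcK⟩, rfl⟩
    refine ⟨⟨c, hcK, rfl⟩, Subgroup.mem_centralizer_singleton_iff.2 ?_⟩
    rw [← map_mul, ← map_mul, Subgroup.mem_centralizer_singleton_iff.1 hc]
  have h4 := Subgroup.card_le_of_le h3
  omega

theorem index_ta : (centralizer ({ta} : Set Q)).index ≤ 5775 := index_le a_mem card_Ca (by norm_num) (by norm_num)

theorem card_Cx : 1440 ≤ Nat.card (CQ (φ gx)) := by
  have h1 : ∀ e, okc [0] e = true → g e ∈ CQ (φ gx) := by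
    intro e he
    obtain ⟨h2, h3⟩ := okc_spec he
    rw [hw_x] at h3
    exact ⟨h2, Subgroup.mem_centralizer_singleton_iff.2 h3⟩
  have h2 := card_ge (C := CQ (φ gx)) (l₁ := L1) (l₂ := L2) 52 82 (fun e he => h1 e (chkL1 e he))
    (fun e he => ⟨h1 e (chkL2 e he).1, Fin.ext (by rw [g, φ_hw_apply]; exact (chkL2 e he).2)⟩) nodL1 nodL2
  exact h2

theorem index_tb : (centralizer ({tb} : Set Q)).index ≤ 8 ^ 5 := index_le x_mem card_Cx (by norm_num) (by norm_num)

theorem orderOf_tb : orderOf tb = 2 := by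
  apply orderOf_eq_prime
  · apply Subtype.ext
    change φ gx ^ 2 = 1
    rw [φ_gx, X_sq]
  · intro h1
    have h2 : φ gx = 1 := congrArg Subtype.val h1
    have h3 := supp_x
    rw [h2, Perm.support_one] at h3
    simp at h3
/-! ### the kills -/

variable {A : Subgroup Q} {Γ : Subgroup (MulAut Q)}

instance : IsSimpleGroup Q := HN.AutHS.nonempty_Q.2

theorem w_mem {w : List ℕ} (h1 : okw w = true) (h2 : par w = false) : φ (hw w) ∈ Q := ⟨_, mem_K_of_par h1 h2, rfl⟩

/-- the order 8 element of `C(a)` -/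
def qa : Q := ⟨φ (hw xa), w_mem rfl rfl⟩
/-- the order 8 element of `C(x)` -/
def qb : Q := ⟨φ (hw xb), w_mem rfl rfl⟩

theorem pow4 (w : List ℕ) : φ (hw (w ++ (w ++ (w ++ w)))) = φ (hw w) ^ 4 := by
  simp only [hw_append, map_mul, pow_succ, pow_zero, one_mul, mul_assoc]

theorem pow8 (w : List ℕ) : φ (hw ((w ++ (w ++ (w ++ w))) ++ (w ++ (w ++ (w ++ w))))) = φ (hw w) ^ 8 := by
  rw [hw_append, map_mul, pow4, ← pow_add]

theorem qa_comm : qa * ta = ta * qa := by
  apply Subtype.ext
  change φ (hw xa) * φ a = φ a * φ (hw xa)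
  rw [← hw_a, ← map_mul, ← map_mul, ← hw_append, ← hw_append]
  exact ew_eq (by decide +kernel)

theorem qa_pow : qa ^ 8 = 1 := by
  apply Subtype.ext
  change φ (hw xa) ^ 8 = 1
  rw [← pow8, ← map_one φ, ← hw_nil]
  exact ew_eq (by decide +kernel)

theorem qa_conj : IsConj ta (qa ^ 4) := by
  rw [isConj_iff]
  refine ⟨⟨φ (hw [4, 2, 2, 2, 4, 3, 3, 4, 3, 4]), w_mem rfl rfl⟩, ?_⟩
  rw [mul_inv_eq_iff_eq_mul]
  apply Subtype.ext
  change φ (hw [4, 2, 2, 2, 4, 3, 3, 4, 3, 4]) * φ a = φ (hw xa) ^ 4 * φ (hw [4, 2, 2, 2, 4, 3, 3, 4, 3, 4])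
  rw [← pow4, ← hw_a, ← map_mul, ← map_mul, ← hw_append, ← hw_append]
  exact ew_eq (by decide +kernel)

theorem qb_comm : qb * tb = tb * qb := by
  apply Subtype.ext
  change φ (hw xb) * φ gx = φ gx * φ (hw xb)
  rw [← hw_x, ← map_mul, ← map_mul, ← hw_append, ← hw_append]
  exact ew_eq (by decide +kernel)

theorem qb_pow : qb ^ 8 = 1 := by
  apply Subtype.ext
  change φ (hw xb) ^ 8 = 1
  rw [← pow8, ← map_one φ, ← hw_nil]
  exact ew_eq (by decide +kernel)

theorem qb_conj : ∃ c : Q, c * ta * c⁻¹ = qb ^ 4 := by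
  refine ⟨⟨φ (hw [3, 0, 3, 3, 4, 3, 4, 2, 2, 0]), w_mem rfl rfl⟩, ?_⟩
  rw [mul_inv_eq_iff_eq_mul]
  apply Subtype.ext
  change φ (hw [3, 0, 3, 3, 4, 3, 4, 2, 2, 0]) * φ a = φ (hw xb) ^ 4 * φ (hw [3, 0, 3, 3, 4, 3, 4, 2, 2, 0])
  rw [← pow4, ← hw_a, ← map_mul, ← map_mul, ← hw_append, ← hw_append]
  exact ew_eq (by decide +kernel)

/-- **no involution 2A in `A`** -/
theorem killA (h : IF A Γ) (ht : ta ∈ A) : False := by
  classical
  -- the conjugators
  have hc : ∀ e ∈ CS, ∃ c : Q, c * ta = ta * c ∧ (c : Perm (Fin 100)) = g e := by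
    intro e he
    obtain ⟨h1, h2⟩ := okc_spec (chkCS e he)
    rw [hw_a] at h2
    exact ⟨⟨g e, h1⟩, Subtype.ext h2, rfl⟩
  choose! c hc1 hc2 using hc
  have hpow : ∀ (e : ℕ) (k : ℕ), (c e * qa * (c e)⁻¹) ^ k = c e * qa ^ k * (c e)⁻¹ := fun e k => conj_pow
  have hmem : ∀ e ∈ CS, c e * qa ^ 4 * (c e)⁻¹ ∈ A := by
    intro e he
    rw [← hpow]
    refine pow_four h hna ht orderOf_ta (index_ta.trans (by norm_num)) ?_ (by rw [hpow, qa_pow, mul_one, mul_inv_cancel])
    have h1 : (c e)⁻¹ * ta = ta * (c e)⁻¹ := by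
      rw [inv_mul_eq_iff_eq_mul, ← mul_assoc, hc1 e he, mul_inv_cancel_right]
    calc c e * qa * (c e)⁻¹ * ta = c e * qa * ((c e)⁻¹ * ta) := by group
      _ = c e * (qa * ta) * (c e)⁻¹ := by rw [h1]; group
      _ = (c e * ta) * qa * (c e)⁻¹ := by rw [qa_comm]; group
      _ = ta * (c e * qa * (c e)⁻¹) := by rw [hc1 e he]; group
  let S : Finset Q := CS.toFinset.image fun e => c e * qa ^ 4 * (c e)⁻¹
  have hcode : ∀ e ∈ CS, cod e = ((((c e * qa ^ 4 * (c e)⁻¹ : Q) : Perm (Fin 100)) 0 : Fin 100) : ℕ) +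
      128 * ((((c e * qa ^ 4 * (c e)⁻¹ : Q) : Perm (Fin 100)) 1 : Fin 100) : ℕ) := by
    intro e he
    have h1 : ((c e * qa ^ 4 * (c e)⁻¹ : Q) : Perm (Fin 100)) = φ (hw (decW e ++ (za ++ iw (decW e)))) := by
      change (c e : Perm (Fin 100)) * φ (hw xa) ^ 4 * (c e : Perm (Fin 100))⁻¹ = _
      rw [hc2 e he, hw_append, hw_append, hw_iw, map_mul, map_mul, map_inv, za, pow4, g]
      group
    rw [h1, φ_hw_apply, φ_hw_apply]
    rfl
  have hcard : S.card = 24 := by
    rw [Finset.card_image_of_injOn, List.toFinset_card_of_nodup (List.Nodup.of_map _ nodCS)]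
    · rfl
    · intro e he e' he' hee
      have he1 : e ∈ CS := List.mem_toFinset.1 he
      have he2 : e' ∈ CS := List.mem_toFinset.1 he'
      have h1 : cod e = cod e' := by
        rw [hcode e he1, hcode e' he2]
        have h2 : c e * qa ^ 4 * (c e)⁻¹ = c e' * qa ^ 4 * (c e')⁻¹ := hee
        rw [h2]
      exact (List.nodup_map_iff_inj_on (List.Nodup.of_map _ nodCS)).1 nodCS _ he1 _ he2 h1
  obtain ⟨f, hf1, hf2⟩ := few h hna ht orderOf_ta S (by
    intro s hs
    obtain ⟨e, he, rfl⟩ := Finset.mem_image.1 hs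
    refine ⟨hmem e (List.mem_toFinset.1 he), qa_conj.trans (isConj_iff.2 ⟨c e, rfl⟩)⟩)
  rw [hcard] at hf2
  have h1 := h.big
  have h2 : 24 * A.index ≤ f * 5775 := hf2.trans (Nat.mul_le_mul_left _ index_ta)
  by_cases h3 : f ≤ 3
  · omega
  · push Not at h3
    have h4 : 24 * (f * f ^ 5) < f * 5775 := by
      calc 24 * (f * f ^ 5) = 24 * f ^ 6 := by ring
        _ < 24 * A.index := by omega
        _ ≤ _ := h2
    have h5 : 4 ^ 5 ≤ f ^ 5 := Nat.pow_le_pow_left h3 5
    have h6 : f * (24 * 4 ^ 5) ≤ 24 * (f * f ^ 5) := by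
      calc f * (24 * 4 ^ 5) ≤ f * (24 * f ^ 5) := Nat.mul_le_mul_left _ (Nat.mul_le_mul_left _ h5)
        _ = _ := by ring
    have h7 : f * (24 * 4 ^ 5) < f * 5775 := lt_of_le_of_lt h6 h4
    have h8 := lt_of_mul_lt_mul_left h7 (Nat.zero_le _)
    norm_num at h8

theorem mem_conj (e : MulAut Q) {x y : Q} (hx : x ∈ A) (hy : e x = y) : y ∈ A.map e.toMonoidHom := ⟨x, hx, hy⟩

/-- **no involution 2B in `A`** -/
theorem killB (h : IF A Γ) (ht : tb ∈ A) : False := by
  have h1 := pow_four h hna ht orderOf_tb index_tb qb_comm qb_pow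
  obtain ⟨c, hc⟩ := qb_conj
  refine killA (h.map (MulAut.conj c⁻¹)) (mem_conj _ h1 ?_)
  rw [← hc, MulAut.conj_apply]
  group

/-- **`|A|` even** -/
theorem kill_even (h : IF A Γ) {t : Q} (ht : t ∈ A) (h2 : orderOf t = 2) : False := by
  obtain ⟨k, hk, hkt⟩ : ∃ k ∈ K, φ k = t := t.2
  have h3 : t * t = 1 := by rw [← pow_two, ← h2, pow_orderOf_eq_one]
  have h4 : φ (k ^ 2) = 1 := by
    rw [map_pow, hkt, pow_two]
    exact congrArg Subtype.val h3
  have hne : t ≠ 1 := by
    rintro rfl
    rw [orderOf_one] at h2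
    omega
  have key : ∀ (u : H0) (q : Q), (q : Perm (Fin 100)) = φ u → IsConj u k → ∃ c : H0, auQ c t = q := by
    intro u q hq hu
    obtain ⟨c, hc⟩ := isConj_iff.1 hu
    refine ⟨c⁻¹, Subtype.ext ?_⟩
    rw [auQ_apply, hq, ← hkt, ← hc, map_inv, map_mul, map_mul, map_inv]
    group
  have fin : ∀ q : Q, (q = ta ∨ q = tb) → (∃ c : H0, auQ c t = q) → False := by
    rintro q hq ⟨c, hc⟩
    have h5 := mem_conj (auQ c) ht hc
    rcases hq with rfl | rfl
    · exact killA (h.map (auQ c)) h5
    · exact killB (h.map (auQ c)) h5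
  rcases sq_cases (φ_eq_one_iff.1 h4) with h5 | h5 | h5 | h5 | h5 | h5 | h5
  · apply hne
    rw [h5, map_one] at hkt
    exact Subtype.ext hkt.symm
  · apply hne
    rw [h5, φ_τ] at hkt
    exact Subtype.ext hkt.symm
  · exact fin ta (Or.inl rfl) (key a ta rfl h5)
  · exact fin ta (Or.inl rfl) (key (a * τ) ta (φ_mul_τ a).symm h5)
  · exact fin tb (Or.inr rfl) (key gx tb rfl h5)
  · exact gz_notMem_K ((mem_K_of_isConj h5).2 hk)
  · exact d_notMem_K ((mem_K_of_isConj h5).2 hk)

/-! ### the outer involutions -/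

/-- `A8 → Q` -/
noncomputable def fA : A8 →* Q := φK.comp (iota.codRestrict K iota_mem_K)

theorem fA_inj : Function.Injective fA := by
  rw [injective_iff_map_eq_one]
  intro s hs
  have h1 : φ (iota s) = 1 := congrArg Subtype.val hs
  rcases φ_eq_one_iff.1 h1 with h2 | h2
  · exact iota_inj (by rw [h2, map_one])
  · have h3 : ∀ s' : A8, Commute s s' := by
      intro s'
      apply iota_inj
      rw [map_mul, map_mul, h2]
      exact (τ_iota s').eq
    exact Cfsg.Agent.HN.A8Facts.cen4 (h3 _) (h3 _) (h3 _) (h3 _)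

theorem outer_of {u h : H0} (hu : IsConj u h) (L : Subgroup A8) (hL : ∀ s ∈ L, u * iota s = iota s * u)
    (h32 : 32 ∣ Nat.card L) : ∃ B : Subgroup Q, (∀ b ∈ B, auQ h b = b) ∧ 2 ^ 5 ∣ Nat.card B := by
  obtain ⟨c, rfl⟩ := isConj_iff.1 hu
  let F : A8 →* Q := (auQ c).toMonoidHom.comp fA
  have hF : Function.Injective F := (auQ c).injective.comp fA_inj
  refine ⟨L.map F, ?_, ?_⟩
  · rintro _ ⟨s, hs, rfl⟩
    apply Subtype.ext
    have h1 : ((F s : Q) : Perm (Fin 100)) = φ c * φ (iota s) * (φ c)⁻¹ := rfl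
    have h2 : φ u * φ (iota s) = φ (iota s) * φ u := by rw [← map_mul, ← map_mul, hL s hs]
    rw [auQ_apply, h1, map_mul, map_mul, map_inv]
    calc φ c * φ u * (φ c)⁻¹ * (φ c * φ (iota s) * (φ c)⁻¹) * (φ c * φ u * (φ c)⁻¹)⁻¹
        = φ c * (φ u * φ (iota s)) * (φ u)⁻¹ * (φ c)⁻¹ := by group
      _ = φ c * (φ (iota s) * φ u) * (φ u)⁻¹ * (φ c)⁻¹ := by rw [h2]
      _ = φ c * φ (iota s) * (φ c)⁻¹ := by group
  · rwa [Nat.card_congr (Subgroup.equivMapOfInjective L F hF).symm.toEquiv]

theorem card_A8 : Nat.card A8 = 20160 := by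
  have h1 := nat_card_alternatingGroup (α := Fin 8)
  rw [Nat.card_eq_fintype_card (α := Fin 8), Fintype.card_fin] at h1
  rw [h1]
  decide

theorem card_cen_p : 32 ∣ Nat.card (centralizer ({p_a2} : Set A8)) := by
  set p : Perm (Fin 8) := swap 0 2 * swap 1 4 with hp
  have h1 : Nat.card (centralizer ({p} : Set (Perm (Fin 8)))) = 192 := by
    rw [Perm.nat_card_centralizer]
    have h2 : p.cycleType = {2, 2} := by
      rw [hp]
      decide +kernel
    rw [h2]
    decide
  have h2 : (centralizer ({p_a2} : Set A8)).map (alternatingGroup (Fin 8)).subtype =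
      alternatingGroup (Fin 8) ⊓ centralizer {p} := by
    ext c
    constructor
    · rintro ⟨d, hd, rfl⟩
      exact ⟨d.2, Subgroup.mem_centralizer_singleton_iff.2
        (congrArg Subtype.val (Subgroup.mem_centralizer_singleton_iff.1 hd))⟩
    · rintro ⟨h2, h3⟩
      exact ⟨⟨c, h2⟩, Subgroup.mem_centralizer_singleton_iff.2
        (Subtype.ext (Subgroup.mem_centralizer_singleton_iff.1 h3)), rfl⟩
  have h3 : Nat.card (centralizer ({p_a2} : Set A8)) =
      Nat.card (alternatingGroup (Fin 8) ⊓ centralizer {p} : Subgroup (Perm (Fin 8))) := by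
    rw [← h2]
    exact Nat.card_congr (Subgroup.equivMapOfInjective _ _ (alternatingGroup (Fin 8)).subtype_injective).toEquiv
  have h4 : Nat.card (alternatingGroup (Fin 8) ⊓ centralizer {p} : Subgroup (Perm (Fin 8))) *
      (alternatingGroup (Fin 8)).relIndex (centralizer {p}) = 192 := by
    rw [← h1, ← Subgroup.card_mul_index ((alternatingGroup (Fin 8)).subgroupOf (centralizer {p})), Subgroup.relIndex]
    congr 1
    rw [← Subgroup.inf_subgroupOf_right, Nat.card_congr (Subgroup.subgroupOfEquivOfLe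
      (inf_le_right : alternatingGroup (Fin 8) ⊓ centralizer {p} ≤ _)).toEquiv]
  have h5 : (alternatingGroup (Fin 8)).relIndex (centralizer {p}) ∣ 2 := by
    have h6 := Subgroup.relIndex_dvd_index_of_normal (alternatingGroup (Fin 8)) (centralizer {p})
    rwa [alternatingGroup.index_eq_two] at h6
  rw [h3]
  rcases (Nat.dvd_prime Nat.prime_two).1 h5 with h6 | h6
  · rw [h6] at h4
    omega
  · rw [h6] at h4
    omega

theorem outer (σ : MulAut Q) (ho : orderOf σ = 2) (hout : σ ∉ (MulAut.conj : Q →* MulAut Q).range) :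
    ∃ B : Subgroup Q, (∀ b ∈ B, σ b = b) ∧ 2 ^ 5 ∣ Nat.card B := by
  obtain ⟨h, rfl⟩ := modQ.au_surj σ
  change orderOf (auQ h) = 2 at ho
  have hK : h ∉ K := fun hh => hout (modQ.au_mem_inner.2 hh)
  have h1 : modQ.au (h ^ 2) = 1 := by
    rw [map_pow, ← ho]
    exact pow_orderOf_eq_one _
  rcases sq_cases ((modQ.au_ker _).1 h1) with h5 | h5 | h5 | h5 | h5 | h5 | h5
  · exact absurd (h5 ▸ K.one_mem) hK
  · exact absurd (h5 ▸ τ_mem_K) hK
  · exact absurd ((mem_K_of_isConj h5).1 (by rw [← hw_a]; exact mem_K_of_par rfl rfl)) hK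
  · exact absurd ((mem_K_of_isConj h5).1 (K.mul_mem (by rw [← hw_a]; exact mem_K_of_par rfl rfl) τ_mem_K)) hK
  · exact absurd ((mem_K_of_isConj h5).1 gx_mem) hK
  · refine outer_of h5 ⊤ (fun s _ => (z_iota s).eq) ?_
    rw [Subgroup.card_top, card_A8]
    decide
  · refine outer_of (isConj_z_a2.symm.trans h5) (centralizer {p_a2}) (fun s hs => ?_) card_cen_p
    have h6 : iota p_a2 * iota s = iota s * iota p_a2 := by
      rw [← map_mul, ← map_mul, Subgroup.mem_centralizer_singleton_iff.1 hs]
    rw [mul_assoc, h6, ← mul_assoc, (z_iota s).eq, mul_assoc]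

/-- **No counterexample in `HS`.** -/
theorem kill_Q : Kill Q := by
  refine Kill.of ?_ ?_
  · rintro A Γ h ⟨t, ht, h2⟩
    exact kill_even h ht h2
  · intro A Γ h hodd
    refine no_odd (k := 5) h hna hodd ?_ outer
    rw [HN.AutBound.card_Q]
    norm_num

/-- **S5719, the row `HS`** -/
theorem row : Row fun T => Spor.IsoHS T := by
  intro T _ _ _ _ h A Γ hA
  obtain ⟨e⟩ := h
  obtain ⟨⟨f⟩, -⟩ := HN.AutHS.nonempty_Q
  exact kill_Q.congr (f.trans e.symm) A Γ hA

end Cfsg.Agent.H109.IFx.HS
end

-- part: H956/IF/BB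
section
/-!
# S5719, row `B` (helper956): the class `2B` (`C(z) = 2^(1+22).Co₂`)

In the model `Inst.M.G`, `z = Model.zz` : no `IF A Γ` has `z ∈ A`.
-/

set_option autoImplicit false

namespace Cfsg.Agent.H956.IF.BB

open Subgroup Cfsg Cfsg.Agent.BabyM Cfsg.Agent.BabyM.Model Cfsg.Agent.BabyU.ClosModel
open Cfsg.Agent.BabyU.ClosLane Cfsg.Agent.KFacts Cfsg.Agent.H867.MinIdx Cfsg.Agent.Schreier
open Cfsg.Agent.H209.Fxy

theorem isoB : Spor.IsoB Inst.M.G := ⟨BM.KHAll.iso.symm⟩

theorem card : Nat.card Inst.M.G = 4154781481226426191177580544000000 := NotCT.Orders.b isoB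

theorem card_Q : Nat.card (PP Inst.M) = 8388608 := by
  have h : Nat.card (PP Inst.M) = 2 ^ 23 := by
    rw [← A.grp.Q_card]
    exact Nat.card_congr (Subgroup.subgroupOfEquivOfLe (A.grp.Q_le.trans A.C_le_G)).toEquiv
  rw [h]; norm_num

theorem index_z : (centralizer ({zz A} : Set Inst.M.G)).index = 11707448673375 := by
  have h1 : Nat.card (centralizer ({zz A} : Set Inst.M.G)) = 2 ^ 23 * 42305421312000 := by
    rw [Nat.card_congr (KFacts.Baby.Inst.eC A).toEquiv, A.grp.card_C]
  have h2 := (centralizer ({zz A} : Set Inst.M.G)).card_mul_index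
  rw [h1, card] at h2
  apply Nat.eq_of_mul_eq_mul_left (show 0 < 2 ^ 23 * 42305421312000 by norm_num)
  rw [h2]
  norm_num

theorem noncomm : ∃ a b : Inst.M.G, a * b ≠ b * a := by
  by_contra hcon
  push Not at hcon
  have h1 : centralizer ({zz A} : Set Inst.M.G) = ⊤ := by
    rw [eq_top_iff]
    intro x _
    exact mem_centralizer_singleton_iff.2 (hcon x _)
  have h2 := index_z
  rw [h1, Subgroup.index_top] at h2
  norm_num at h2

/-- **the class `2B` of the Baby Monster**: no `IF A Γ` has `z ∈ A` -/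
theorem kill_z {B : Subgroup Inst.M.G} {Γ : Subgroup (MulAut Inst.M.G)} (h : IF B Γ) (hz : zz A ∈ B) : False := by
  have := A.finite_G
  have := A.simple
  have := A.grp.simple
  obtain ⟨π, hπ, hker⟩ := Baby.Inst.quot A
  obtain ⟨e⟩ := CoTwoStab.exists_equiv _ GroupInst.dt_l₀
  have hs : IsSimpleGroup Spor.Co2 := e.symm.isSimpleGroup
  obtain ⟨n₀, hn, -, hgen⟩ := Baby.Inst.gen A
  refine Central.kill_central noncomm (Baby.Inst.large A) (Baby.Inst.irr' A) π hπ (fun c hc => (hker c).1 hc)
    ((H867.SporMI.co2 hs).congr e.symm) (b := 410) ?_ (by norm_num) ?_ hn ?_ h hz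
  · rw [index_z]; norm_num
  · rw [card_Q]; norm_num
  · rw [← hgen]
    congr 2
    ext c
    exact mem_centralizer_singleton_iff

/-- the same for the conjugates of `z` -/
theorem kill_conj {B : Subgroup Inst.M.G} {Γ : Subgroup (MulAut Inst.M.G)} (h : IF B Γ) {t : Inst.M.G}
    (ht : IsConj (zz A) t) (hz : t ∈ B) : False := by
  obtain ⟨g, hg⟩ := isConj_iff.1 ht
  refine kill_z (h.map (MulAut.conj g⁻¹)) ⟨t, hz, ?_⟩
  show g⁻¹ * t * g⁻¹⁻¹ = zz A
  rw [← hg]
  group

end Cfsg.Agent.H956.IF.BB
end

-- part: H465/IF/BRowOf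
section
/-!
# S5719, the Baby Monster: the row from `exists_AB` (helper465)

`row_of` : no `IF A Γ` in the Baby Monster, if each `A` of even order contains a `2A` or a `2B` element.
-/

set_option autoImplicit false
set_option linter.unusedSectionVars false

namespace Cfsg.Agent.H465.IF.BRowOf

open Subgroup
open Cfsg.Agent.BabyM.Inst (M)
open Cfsg.Agent.BabyU.ClosModel (tt zz)
open Cfsg.Agent.H465.Gen
open Cfsg.Agent.H209.Fxy

/-- all automorphisms are inner -/
theorem inner_model (σ : MulAut M.G) : ∃ g, MulAut.conj g = σ := by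
  obtain ⟨g, hg⟩ := CpAut.TwoInner.inner_b (MulAut.congr BM.KHAll.iso.symm σ)
  refine ⟨BM.KHAll.iso g, ?_⟩
  ext1 x
  have h1 := congr_apply' BM.KHAll.iso.symm σ (BM.KHAll.iso.symm x)
  rw [hg, MulEquiv.symm_symm, MulAut.conj_apply, map_mul, map_mul, map_inv, MulEquiv.apply_symm_apply] at h1
  exact h1

/-- the hypothesis: even order implies an element of the class `2A` or `2B` -/
def AB : Prop := ∀ (A : Subgroup M.G) (Γ : Subgroup (MulAut M.G)), IF A Γ → (∃ u ∈ A, orderOf u = 2) →
  (∃ a ∈ A, IsConj (tt BabyM.Instance.all) a) ∨ (∃ a ∈ A, IsConj (zz BabyM.Instance.all) a)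

theorem kill_model (h3 : AB) : Kill M.G := by
  intro A Γ h
  have hfin := BOne.finG
  have hsim := BabyM.Instance.all.simple
  obtain ⟨σ, hσ, h2, -⟩ := h.ex
  obtain ⟨a, rfl⟩ := inner_model σ
  rw [H999.IFB.orderOf_conj BOne.hna] at h2
  have haA : a ∈ A := (h.conj a).1 hσ
  rcases h3 A Γ h ⟨a, haA, h2⟩ with ⟨u, hu, hc⟩ | ⟨u, hu, hc⟩
  · exact BOne.no_2A h hu hc
  · exact H956.IF.BB.kill_conj h hc hu

/-- **the row of the Baby Monster** -/
theorem row_of (h3 : AB) : Row fun T => Spor.IsoB T := by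
  rintro T _ _ _ - ⟨e⟩ A Γ hA
  exact Kill.congr (e.trans BM.KHAll.iso).symm (kill_model h3) A Γ hA

end Cfsg.Agent.H465.IF.BRowOf
end

-- part: H465/IF/BExM
section
/-!
# S5719, the Baby Monster: products of two commuting transpositions (helper465)

`exists_M` : if `A` contains the product of two commuting transpositions, it contains an involution which is conjugate
into the stabiliser `2.²E₆(2)` of the base axis.
-/

set_option autoImplicit false
set_option linter.unusedSectionVars false

namespace Cfsg.Agent.H465.IF.BExM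

open Subgroup
open Cfsg.Agent.H465.Gen
open Cfsg.Agent.BabyM.Inst (M)
open Cfsg.Agent.BabyU.ClosModel (tt zz MM)
open Cfsg.Agent.BabyU.Clos (cls)
open Cfsg.Agent.H209.Fxy

theorem relIndex_MM : (MM M).relIndex (centralizer ({BDisp.t₀} : Set M.G)) ≤ 2 := by
  have h2 : (MM M).relIndex (centralizer ({BDisp.t₀} : Set M.G)) ∣ 2 := by
    rw [relIndex_dvd_two_iff]
    have key : ∀ g : M.G, g ∈ centralizer ({BDisp.t₀} : Set M.G) → g ∈ MM M ∨
        (g : BabyM.Conc.V ≃ₗ[ℚ] BabyM.Conc.V) M.d₀ = - M.d₀ := by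
      intro g hg
      exact BabyM.Instance.all.comm_t₀ BabyM.Instance.tr g g.2
        (congrArg Subtype.val (mem_centralizer_singleton_iff.1 hg))
    by_cases h : ∃ a ∈ centralizer ({BDisp.t₀} : Set M.G), a ∉ MM M
    · obtain ⟨a, ha, hna⟩ := h
      refine ⟨a, ha, fun b hb => ?_⟩
      by_cases hb' : b ∈ MM M
      · exact Or.inr hb'
      · left
        have e1 := (key a ha).resolve_left hna
        have e2 := (key b hb).resolve_left hb'
        show ((b * a : M.G) : BabyM.Conc.V ≃ₗ[ℚ] BabyM.Conc.V) M.d₀ = M.d₀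
        rw [Subgroup.coe_mul, LinearEquiv.mul_apply, e1, map_neg, e2, neg_neg]
    · refine ⟨1, Subgroup.one_mem _, fun b hb => Or.inr ?_⟩
      by_contra hb'
      exact h ⟨b, hb, hb'⟩
  exact Nat.le_of_dvd (by norm_num) h2

theorem relIndex_map (g : M.G) : ((MM M).map (MulAut.conj g).toMonoidHom).relIndex
    (centralizer ({g * BDisp.t₀ * g⁻¹} : Set M.G)) ≤ 2 := by
  have h1 := BOne.relIndex_conj (A := (MM M).map (MulAut.conj g).toMonoidHom) g BDisp.t₀
  rw [← h1]
  have h2 : ((MM M).map (MulAut.conj g).toMonoidHom).map (MulAut.conj g⁻¹).toMonoidHom = MM M := by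
    ext x
    rw [Subgroup.mem_map_equiv, Subgroup.mem_map_equiv, MulAut.conj_symm_apply, MulAut.conj_symm_apply]
    have : g⁻¹ * (g⁻¹⁻¹ * x * g⁻¹) * g = x := by group
    rw [this]
  rw [h2]
  exact relIndex_MM

theorem exists_involution {R : Subgroup M.G} (h2 : IsPGroup 2 R) (h1 : Nat.card R ≠ 1) :
    ∃ v ∈ R, v ≠ 1 ∧ v * v = 1 := by
  have := BOne.finG
  have hp : Fact (Nat.Prime 2) := ⟨Nat.prime_two⟩
  obtain ⟨n, hn⟩ := IsPGroup.iff_card.1 h2
  have hd : 2 ∣ Nat.card R := by
    rw [hn] at h1 ⊢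
    exact dvd_pow_self 2 (fun h => h1 (by rw [h, pow_zero]))
  obtain ⟨v, hv⟩ := exists_prime_orderOf_dvd_card' 2 hd
  refine ⟨v, v.2, ?_, ?_⟩
  · intro h
    have h3 : v = 1 := Subtype.ext h
    rw [h3, orderOf_one] at hv
    exact absurd hv (by norm_num)
  · have h3 := pow_orderOf_eq_one v
    rw [hv, pow_two] at h3
    exact congrArg Subtype.val h3

/-- counting in a 2-subgroup -/
theorem count {A N C : Subgroup M.G} (hA : A.relIndex C ≤ 3157) (hN : N.relIndex C ≤ 2) (hC : 2 ^ 26 ∣ Nat.card C) :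
    ∃ v ∈ A ⊓ N, v ≠ 1 ∧ v * v = 1 := by
  have hfin := BOne.finG
  have hp : Fact (Nat.Prime 2) := ⟨Nat.prime_two⟩
  obtain ⟨K, hK⟩ := Sylow.exists_subgroup_card_pow_prime 2 hC
  set R : Subgroup M.G := K.map C.subtype with hR
  have hRC : R ≤ C := map_subtype_le K
  have hcR : Nat.card R = 2 ^ 26 := by
    rw [hR, ← Nat.card_congr (K.equivMapOfInjective _ C.subtype_injective).toEquiv, hK]
  have hR2 : IsPGroup 2 R := IsPGroup.of_card hcR
  have ne0 : ∀ (X Y : Subgroup M.G), X.relIndex Y ≠ 0 := by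
    intro X Y
    unfold Subgroup.relIndex
    exact Subgroup.index_ne_zero_of_finite
  have c1 : ∀ X Y : Subgroup M.G, Nat.card ↥(X ⊓ Y) * X.relIndex Y = Nat.card Y := by
    intro X Y
    have h6 := Subgroup.card_mul_index ((X ⊓ Y).subgroupOf Y)
    rw [Nat.card_congr (subgroupOfEquivOfLe (inf_le_right : X ⊓ Y ≤ Y)).toEquiv] at h6
    rw [← inf_relIndex_right]
    exact h6
  have h1 := c1 N R
  have h2 : N.relIndex R ≤ 2 := le_trans (relIndex_le_of_le_right hRC (ne0 _ _)) hN
  have h3 : 2 ^ 25 ≤ Nat.card ↥(N ⊓ R) := by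
    have h4 : Nat.card ↥(N ⊓ R) * N.relIndex R ≤ Nat.card ↥(N ⊓ R) * 2 := Nat.mul_le_mul_left _ h2
    rw [h1, hcR] at h4
    norm_num only [_root_.Subgroup.mem_inf, _root_.ge_iff_le] at h4 ⊢
    omega
  have h4 := c1 A (N ⊓ R)
  have h5 : A.relIndex (N ⊓ R) ≤ 3157 := le_trans (relIndex_le_of_le_right (inf_le_right.trans hRC) (ne0 _ _)) hA
  have h6 : Nat.card ↥(A ⊓ (N ⊓ R)) ≠ 1 := by
    intro h7
    rw [h7, one_mul] at h4
    rw [← h4] at h3
    norm_num only [] at h3
    omega
  obtain ⟨v, hv, hv1, hv2⟩ := exists_involution (R := A ⊓ (N ⊓ R))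
    (hR2.to_le (inf_le_right.trans inf_le_right)) h6
  exact ⟨v, ⟨hv.1, hv.2.1⟩, hv1, hv2⟩

/-- **Products of commuting transpositions.** -/
theorem exists_M {A : Subgroup M.G} {Γ : Subgroup (MulAut M.G)} (h : IF A Γ) {t e : M.G}
    (ht : t ∈ cls ⊤ (tt BabyM.Instance.all)) (he : e ∈ cls ⊤ (tt BabyM.Instance.all)) (hte : t * e = e * t)
    (hne : t ≠ e) (hA : t * e ∈ A) : ∃ v ∈ A, v ≠ 1 ∧ v * v = 1 ∧ ∃ g, g * v * g⁻¹ ∈ MM M := by
  have hfin := BOne.finG
  have hsim := BabyM.Instance.all.simple
  obtain ⟨g, -, hg⟩ := ht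
  obtain ⟨k, -, hk⟩ := he
  change g * BDisp.t₀ * g⁻¹ = t at hg
  change k * BDisp.t₀ * k⁻¹ = e at hk
  have hct : IsConj BDisp.t₀ t := isConj_iff.2 ⟨g, hg⟩
  have hce : IsConj BDisp.t₀ e := isConj_iff.2 ⟨k, hk⟩
  have hsq : ∀ {x y : M.G}, y * BDisp.t₀ * y⁻¹ = x → x * x = 1 := by
    rintro _ y rfl
    calc y * BDisp.t₀ * y⁻¹ * (y * BDisp.t₀ * y⁻¹) = y * (BDisp.t₀ * BDisp.t₀) * y⁻¹ := by group
      _ = 1 := by rw [BDisp.t₀_sq]; group
  have ht2 := hsq hg
  have he2 := hsq hk
  set u := t * e with hu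
  have hou : orderOf u = 2 := by
    refine orderOf_eq_prime ?_ ?_
    · rw [pow_two, hu]
      have hte' : e * t = t * e := hte.symm
      calc t * e * (t * e) = t * (e * t) * e := by simp only [mul_assoc]
        _ = (t * t) * (e * e) := by rw [hte']; simp only [mul_assoc]
        _ = 1 := by rw [ht2, he2, mul_one]
    · intro h1
      apply hne
      have h2 : t = e⁻¹ := mul_eq_one_iff_eq_inv.1 h1
      rw [h2]
      exact (eq_inv_of_mul_eq_one_left he2).symm
  set C := centralizer ({t} : Set M.G) ⊓ centralizer ({e} : Set M.G) with hC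
  have hCu : C ≤ centralizer ({u} : Set M.G) := by
    intro x hx
    have h1 := mem_centralizer_singleton_iff.1 hx.1
    have h2 := mem_centralizer_singleton_iff.1 hx.2
    rw [mem_centralizer_singleton_iff, hu]
    calc x * (t * e) = (x * t) * e := by group
      _ = t * (x * e) := by rw [h1]; group
      _ = t * e * x := by rw [h2]; group
  obtain ⟨n, hn, hc⟩ := BPair.pair_card' hct hce hne hte
  have h3 := (H999.IFB.IF.E2' h BOne.hna hA hou).2.2.2.2 C hCu
  have h4 : (centralizer ({u} : Set M.G)).index ≤ 13571955000 * 23113728 := by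
    have h5 := card_mul_index (centralizer ({u} : Set M.G))
    rw [BabyM.Instance.all.card_G, ← hc] at h5
    have h6 : Nat.card C ≤ Nat.card (centralizer ({u} : Set M.G)) :=
      Subgroup.card_le_of_le hCu
    have h7 : 0 < Nat.card C := Nat.card_pos
    have h8 : Nat.card C * (centralizer ({u} : Set M.G)).index ≤ Nat.card C * (13571955000 * n) := by
      rw [← hC] at h5
      rw [← h5]
      exact Nat.mul_le_mul_right _ h6
    have h9 := Nat.le_of_mul_le_mul_left h8 h7
    rcases hn with rfl | rfl <;> omega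
  have h5 : A.relIndex C ≤ 3157 := by
    by_contra hcon
    push Not at hcon
    have h5 : 3158 ^ 5 ≤ A.relIndex C ^ 5 := Nat.pow_le_pow_left hcon 5
    have h6 := lt_of_lt_of_le (lt_of_le_of_lt h5 h3.1) h4
    norm_num at h6
  have h6 : 2 ^ 26 ∣ Nat.card C := by
    rw [← hC] at hc
    rcases hn with rfl | rfl
    · omega
    · omega
  have h7 : ((MM M).map (MulAut.conj g).toMonoidHom).relIndex C ≤ 2 := by
    refine le_trans (relIndex_le_of_le_right inf_le_left ?_) ?_
    · unfold Subgroup.relIndex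
      exact Subgroup.index_ne_zero_of_finite
    · rw [← hg]
      exact relIndex_map g
  obtain ⟨v, ⟨hvA, hvN⟩, hv1, hv2⟩ := count h5 h7 h6
  refine ⟨v, hvA, hv1, hv2, g⁻¹, ?_⟩
  obtain ⟨w, hw, rfl⟩ := hvN
  have h8 : g⁻¹ * (MulAut.conj g).toMonoidHom w * g⁻¹⁻¹ = w := by
    show g⁻¹ * (g * w * g⁻¹) * g⁻¹⁻¹ = w
    group
  rw [h8]
  exact hw

end Cfsg.Agent.H465.IF.BExM
end

-- part: H502/IF/BKeyG
section
/-!
# S5719, Baby Monster: a subgroup of `2^{1+22}` of order divisible by `2^9` contains a 2A- or 2B-element (helper502)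
-/

set_option autoImplicit false

namespace Cfsg.Agent.H502.IFB.Key

open Cfsg
open Cfsg.Agent.Monster Cfsg.Agent.Monster.VecEngine Cfsg.Agent.Monster.VecSpace
open Cfsg.Agent.Monster.PauliBasic Cfsg.Agent.Monster.PauliRep Cfsg.Agent.Monster.PauliClif Cfsg.Agent.Monster.PauliBits
open Cfsg.Agent.BabyM Cfsg.Agent.BabyM.QAct Cfsg.Agent.BabyM.Model Cfsg.Agent.BabyM.Conc Cfsg.Agent.BabyM.KTab
open Cfsg.Agent.BabyM.KRow Cfsg.Agent.BabyM.KQ Cfsg.Agent.BabyM.KRowData Cfsg.Agent.BabyM.QIrrInst
open Cfsg.Agent.BabyU.Clos Cfsg.Agent.BabyU.ClosLaneTab Cfsg.Agent.BabyU.ClosLane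
open Cfsg.Agent.H861.PiS.BabyOrb Cfsg.Agent.H502.IFB.Moment

/-- the class, as a homomorphism -/
def abH : Pauli 11 →* Multiplicative (VV 11) where
  toFun x := Multiplicative.ofAdd (ab x)
  map_one' := rfl
  map_mul' _ _ := rfl

/-- in the Pauli group -/
theorem exists_pauli (F : Subgroup (Pauli 11)) (hz : Pauli.z 11 ∉ F) (h9 : 2 ^ 9 ∣ Nat.card F) :
    ∃ x ∈ F, ab x ∈ O₁ ∨ ab x ∈ O₂ := by
  let W : AddSubgroup (VV 11) := Subgroup.toAddSubgroup' (F.map abH)
  have hW : ∀ u, u ∈ W ↔ ∃ x ∈ F, ab x = u := by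
    intro u
    constructor
    · rintro ⟨x, hx, e⟩; exact ⟨x, hx, congrArg Multiplicative.toAdd e⟩
    · rintro ⟨x, hx, e⟩; exact ⟨x, hx, congrArg Multiplicative.ofAdd e⟩
  have hcard : Nat.card W = Nat.card F := by
    refine (Nat.card_congr (Equiv.ofBijective (fun x : F => (⟨ab (x : Pauli 11), (hW _).2 ⟨x, x.2, rfl⟩⟩ : W))
      ⟨fun x y h => ?_, fun u => ?_⟩)).symm
    · have h2 : ab (x : Pauli 11) = ab (y : Pauli 11) := congrArg Subtype.val h
      rcases (ab_eq_iff _ _).1 h2 with h3 | h3
      · exact Subtype.ext h3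
      · refine absurd ?_ hz
        have h4 : Pauli.z 11 = x * (y : Pauli 11)⁻¹ := by rw [h3, mul_inv_cancel_right]
        rw [h4]
        exact F.mul_mem x.2 (F.inv_mem y.2)
    · obtain ⟨x, hx, e⟩ := (hW u).1 u.2
      exact ⟨⟨x, hx⟩, Subtype.ext e⟩
  obtain ⟨u, hu, h⟩ := exists_sing W (by
    intro u hu
    obtain ⟨x, hx, rfl⟩ := (hW u).1 hu
    have h1 := F.mul_mem hx hx
    rw [Pauli.sq_eq] at h1
    refine (zmod2_cases _).resolve_right fun h2 => hz ?_
    have h3 : x.b ⬝ᵥ x.a = 1 := h2
    rw [h3] at h1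
    exact h1) (by rw [hcard]; exact h9)
  obtain ⟨x, hx, rfl⟩ := (hW u).1 hu
  exact ⟨x, hx, h⟩

/-- the elements over `O₁` are transpositions -/
theorem conj_t {x : Pauli 11} (h : ab x ∈ O₁) : ∃ g ∈ Inst.M.G, g * Inst.M.t₀ * g⁻¹ = Cd.R x := by
  obtain ⟨y, hy, e⟩ := mem_O₁'.1 h
  exact mem_cls (PP_of_ab e hy)

/-- the elements over `O₂` are conjugates of `z` -/
theorem conj_z {x : Pauli 11} (h : ab x ∈ O₂) : ∃ g ∈ Inst.M.G, g * Inst.M.z * g⁻¹ = Cd.R x := by
  obtain ⟨c, hc⟩ := mem_O₂.1 h
  have hcG : (c : V ≃ₗ[ℚ] V) * Inst.M.τ ∈ Inst.M.G := mul_mem (A.C_le_G c.2) A.τ_mem_G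
  rcases (ab_eq_iff x (al c xc)).1 hc.symm with h1 | h1
  · exact ⟨_, hcG, by rw [h1, al_xc]⟩
  · obtain ⟨q, hq⟩ := exists_form_eq_one (ab_al_ne (c := c) xc_ne)
    refine ⟨Cd.R q * (c * Inst.M.τ), mul_mem (A.C_le_G (A.grp.Q_le (R_mem_Q q))) hcG, ?_⟩
    have h2 : q * al c xc * q⁻¹ = x := by
      rw [Pauli.conj_eq, hq, h1, Pauli.z_mul]
    calc Cd.R q * (c * Inst.M.τ) * Inst.M.z * (Cd.R q * (c * Inst.M.τ))⁻¹
        = Cd.R q * ((c * Inst.M.τ) * Inst.M.z * (c * Inst.M.τ)⁻¹) * (Cd.R q)⁻¹ := by group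
      _ = Cd.R x := by rw [← al_xc, ← map_mul, ← map_inv, ← map_mul, h2]

/-- **A subgroup of `2^{1+22}` of order divisible by `2^9` contains a 2A- or a 2B-element.** -/
theorem key {F : Subgroup Inst.M.G} (hF : F ≤ Cfsg.Agent.BabyU.ClosModel.PP Inst.M) (h9 : 2 ^ 9 ∣ Nat.card F) :
    (∃ a ∈ F, IsConj (Cfsg.Agent.BabyU.ClosModel.tt Instance.all) a) ∨
      (∃ a ∈ F, IsConj (Cfsg.Agent.BabyU.ClosModel.zz Instance.all) a) := by
  let Φ : Pauli 11 →* Inst.M.G := Cd.R.codRestrict Inst.M.G (fun x => A.C_le_G (A.grp.Q_le (R_mem_Q x)))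
  have hΦ : ∀ x, ((Φ x : Inst.M.G) : V ≃ₗ[ℚ] V) = Cd.R x := fun x => rfl
  have hΦi : Function.Injective Φ := fun x y h => Cd.R_injective (congrArg Subtype.val h)
  have hΦs : F ≤ Φ.range := by
    intro f hf
    obtain ⟨y, hy⟩ := KLink.link.mem_Q.1 (Cfsg.Agent.BabyU.ClosModel.mem_PP.1 (hF hf))
    exact ⟨y, Subtype.ext hy⟩
  have hcard : Nat.card (F.comap Φ) = Nat.card F := by
    have h1 := Nat.card_congr ((F.comap Φ).equivMapOfInjective Φ hΦi).toEquiv
    rw [Subgroup.map_comap_eq_self hΦs] at h1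
    exact h1
  by_cases hz : Pauli.z 11 ∈ F.comap Φ
  · right
    refine ⟨Φ (Pauli.z 11), hz, ?_⟩
    have h1 : Φ (Pauli.z 11) = Cfsg.Agent.BabyU.ClosModel.zz Instance.all := Subtype.ext z_R.symm
    rw [h1]
  · obtain ⟨x, hx, h | h⟩ := exists_pauli _ hz (by rw [hcard]; exact h9)
    · left
      obtain ⟨g, hg, e⟩ := conj_t h
      exact ⟨Φ x, hx, isConj_iff.2 ⟨⟨g, hg⟩, Subtype.ext e⟩⟩
    · right
      obtain ⟨g, hg, e⟩ := conj_z h
      exact ⟨Φ x, hx, isConj_iff.2 ⟨⟨g, hg⟩, Subtype.ext e⟩⟩

end Cfsg.Agent.H502.IFB.Key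
end

-- part: H502/IF/BQ
section
/-!
# S5719, Baby Monster: `A` contains an involution of `2^{1+22}` (helper502)

Then `A` contains a 2A- or a 2B-element.
-/

set_option autoImplicit false

namespace Cfsg.Agent.H502.IFB.Q

open Cfsg Subgroup
open Cfsg.Agent.BabyM Cfsg.Agent.BabyM.Model Cfsg.Agent.BabyU.ClosModel Cfsg.Agent.H209.Fxy Cfsg.Agent.H999.IFB

/-- the conjugates of `v` under `H` lie in `S` -/
theorem relIndex_le {G : Type*} [Group G] [Finite G] (v : G) (H : Subgroup G) (S : Set G)
    (h : ∀ g ∈ H, g * v * g⁻¹ ∈ S) : (centralizer ({v} : Set G)).relIndex H ≤ S.ncard := by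
  rw [Subgroup.relIndex, Subgroup.index]
  let φ : (H ⧸ (centralizer ({v} : Set G)).subgroupOf H) → S := fun c =>
    Quotient.liftOn' c (fun b : H => (⟨(b : G) * v * (b : G)⁻¹, h b b.2⟩ : S)) (by
      intro b b' hbb
      rw [QuotientGroup.leftRel_apply, mem_subgroupOf, mem_centralizer_singleton_iff] at hbb
      apply Subtype.ext
      show (b : G) * v * (b : G)⁻¹ = (b' : G) * v * (b' : G)⁻¹
      have h1 : (b : G)⁻¹ * (b' : G) * v = v * ((b : G)⁻¹ * (b' : G)) := hbb
      calc (b : G) * v * (b : G)⁻¹ = (b : G) * (v * ((b : G)⁻¹ * (b' : G))) * (b' : G)⁻¹ := by group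
        _ = (b : G) * ((b : G)⁻¹ * (b' : G) * v) * (b' : G)⁻¹ := by rw [h1]
        _ = _ := by group)
  have hφ : Function.Injective φ := by
    intro c c' hcc
    induction c using QuotientGroup.induction_on with
    | H b =>
      induction c' using QuotientGroup.induction_on with
      | H b' =>
        have h3 : (b : G) * v * (b : G)⁻¹ = (b' : G) * v * (b' : G)⁻¹ := congrArg Subtype.val hcc
        rw [QuotientGroup.eq, mem_subgroupOf, mem_centralizer_singleton_iff]
        show (b : G)⁻¹ * (b' : G) * v = v * ((b : G)⁻¹ * (b' : G))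
        calc (b : G)⁻¹ * (b' : G) * v = (b : G)⁻¹ * ((b' : G) * v * (b' : G)⁻¹) * (b' : G) := by group
          _ = (b : G)⁻¹ * ((b : G) * v * (b : G)⁻¹) * (b' : G) := by rw [h3]
          _ = _ := by group
  exact (Nat.card_le_card_of_injective φ hφ).trans (Nat.card_coe_set_eq S).le

theorem card_inf {G : Type*} [Group G] (H K : Subgroup G) :
    Nat.card (H ⊓ K : Subgroup G) * H.relIndex K = Nat.card K := by
  rw [← Nat.card_congr (subgroupOfEquivOfLe (inf_le_right : H ⊓ K ≤ K)).toEquiv, inf_subgroupOf_right]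
  exact (H.subgroupOf K).card_mul_index

/-- the Baby Monster -/
local notation "𝔹" => (Inst.M.G : Subgroup _)

instance fin : Finite Inst.M.G := Instance.all.finite_G

theorem simp : IsSimpleGroup Inst.M.G := Instance.all.simple

theorem na : ∃ a b : Inst.M.G, a * b ≠ b * a := by
  obtain ⟨q, -, h⟩ := fuse Instance.all
  refine ⟨q, tt Instance.all, fun e => ?_⟩
  rw [e, mul_inv_cancel_right] at h
  exact z_ne Instance.all (by rw [left_eq_mul] at h; exact h)

theorem card_G : Nat.card Inst.M.G = 4154781481226426191177580544000000 := by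
  rw [Instance.all.card_G]

theorem card_PP : Nat.card (PP Inst.M) = 2 ^ 23 := by
  rw [← Instance.all.grp.Q_card]
  exact Nat.card_congr (Subgroup.subgroupOfEquivOfLe fun q hq => Instance.all.C_le_G (Instance.all.grp.Q_le hq)).toEquiv

theorem card_cent_z : Nat.card (centralizer ({zz Instance.all} : Set Inst.M.G)) = 2 ^ 23 * 42305421312000 := by
  rw [Nat.card_congr (KFacts.Baby.Inst.eC Instance.all).toEquiv, Instance.all.grp.card_C]

/-- centralizers of elements of `Q` are large -/
theorem card_cent_ge {v : Inst.M.G} (hv : v ∈ PP Inst.M) : 42305421312000 ≤ Nat.card (centralizer ({v} : Set Inst.M.G)) := by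
  have h1 := relIndex_le v (centralizer ({zz Instance.all} : Set Inst.M.G)) (PP Inst.M : Set Inst.M.G) (by
    intro g hg
    exact P_norm Instance.all g (mem_top g) (mem_centralizer_singleton_iff.1 hg) v hv)
  rw [show (PP Inst.M : Set Inst.M.G).ncard = 2 ^ 23 by rw [← card_PP]; rfl] at h1
  have h2 := card_inf (centralizer ({v} : Set Inst.M.G)) (centralizer ({zz Instance.all} : Set Inst.M.G))
  rw [card_cent_z] at h2
  have h3 : Nat.card (centralizer ({v} : Set Inst.M.G) ⊓ centralizer ({zz Instance.all} : Set Inst.M.G) : Subgroup Inst.M.G) ≤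
      Nat.card (centralizer ({v} : Set Inst.M.G)) := card_le_of_le inf_le_left
  refine le_trans ?_ h3
  by_contra hcon
  push Not at hcon
  have h4 : Nat.card (centralizer ({v} : Set Inst.M.G) ⊓ centralizer ({zz Instance.all} : Set Inst.M.G) : Subgroup Inst.M.G) *
      (centralizer ({v} : Set Inst.M.G)).relIndex (centralizer ({zz Instance.all} : Set Inst.M.G)) ≤
      42305421311999 * 2 ^ 23 := Nat.mul_le_mul (by omega) h1
  rw [h2] at h4
  omega

theorem index_cent_le {v : Inst.M.G} (hv : v ∈ PP Inst.M) :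
    (centralizer ({v} : Set Inst.M.G)).index ≤ 98209197601062912000 := by
  have h1 := card_cent_ge hv
  have h2 := (centralizer ({v} : Set Inst.M.G)).card_mul_index
  rw [card_G] at h2
  by_contra hcon
  push Not at hcon
  have h3 : 42305421312000 * 98209197601062912001 ≤ Nat.card (centralizer ({v} : Set Inst.M.G)) *
      (centralizer ({v} : Set Inst.M.G)).index := Nat.mul_le_mul h1 hcon
  rw [h2] at h3
  norm_num at h3

/-- `C_Q(v)` has index at most two in `Q` -/
theorem card_cent_Q {v : Inst.M.G} (hv : v ∈ PP Inst.M) :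
    2 ^ 22 ≤ Nat.card (centralizer ({v} : Set Inst.M.G) ⊓ PP Inst.M : Subgroup Inst.M.G) := by
  have h1 := relIndex_le v (PP Inst.M) {v, v * zz Instance.all} (by
    intro g hg
    rcases P_comm Instance.all g hg v hv with h | h
    · left; rw [h, mul_inv_cancel_right]
    · right
      have h3 : g⁻¹ * zz Instance.all = zz Instance.all * g⁻¹ := zc Instance.all g⁻¹ ((PP Inst.M).inv_mem hg)
      show g * v * g⁻¹ = v * zz Instance.all
      rw [h, mul_assoc, ← h3, mul_assoc v g, mul_inv_cancel_left])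
  have h2 : ({v, v * zz Instance.all} : Set Inst.M.G).ncard ≤ 2 := Set.ncard_insert_le _ _ |>.trans (by
    rw [Set.ncard_singleton])
  have h3 := card_inf (centralizer ({v} : Set Inst.M.G)) (PP Inst.M)
  rw [card_PP] at h3
  by_contra hcon
  push Not at hcon
  have h4 : Nat.card (centralizer ({v} : Set Inst.M.G) ⊓ PP Inst.M : Subgroup Inst.M.G) *
      (centralizer ({v} : Set Inst.M.G)).relIndex (PP Inst.M) ≤ (2 ^ 22 - 1) * 2 :=
    Nat.mul_le_mul (by omega) (h1.trans h2)
  rw [h3] at h4
  omega

/-- **`A` contains an involution of `Q`** -/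
theorem of_Q {A : Subgroup Inst.M.G} {Γ : Subgroup (MulAut Inst.M.G)} (h : IF A Γ) {v : Inst.M.G} (hv : v ∈ A)
    (h2 : orderOf v = 2) (hvQ : v ∈ PP Inst.M) :
    (∃ a ∈ A, IsConj (tt Instance.all) a) ∨ (∃ a ∈ A, IsConj (zz Instance.all) a) := by
  have hs := simp
  have hf : Fact (Nat.Prime 2) := ⟨Nat.prime_two⟩
  let B : Subgroup Inst.M.G := centralizer ({v} : Set Inst.M.G) ⊓ PP Inst.M
  have h3 := ((IF.E2' h na hv h2).2.2.2.2 B inf_le_left).1
  have h4 := lt_of_lt_of_le h3 (index_cent_le hvQ)
  have hB : IsPGroup 2 B := (two Instance.all).to_le inf_le_right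
  obtain ⟨a, ha⟩ := IsPGroup.iff_card.1 hB
  have h22 : 2 ^ 22 ≤ Nat.card B := card_cent_Q hvQ
  have h5 := card_inf A B
  obtain ⟨b, hb⟩ := IsPGroup.iff_card.1 (hB.to_le (inf_le_right : A ⊓ B ≤ B))
  have hb9 : 9 ≤ b := by
    by_contra hcon
    push Not at hcon
    have h6 : Nat.card (A ⊓ B : Subgroup Inst.M.G) ≤ 2 ^ 8 := by
      rw [hb]; exact Nat.pow_le_pow_right (by norm_num) (by omega)
    have h7 : 2 ^ 14 ≤ A.relIndex B := by
      by_contra hc
      push Not at hc
      have h8 : Nat.card (A ⊓ B : Subgroup Inst.M.G) * A.relIndex B ≤ 2 ^ 8 * (2 ^ 14 - 1) :=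
        Nat.mul_le_mul h6 (by omega)
      rw [h5] at h8
      omega
    have h9 : (2 ^ 14) ^ 5 ≤ A.relIndex B ^ 5 := Nat.pow_le_pow_left h7 5
    have h10 := lt_of_le_of_lt h9 h4
    norm_num at h10
  have hd : 2 ^ 9 ∣ Nat.card (A ⊓ B : Subgroup Inst.M.G) := by
    rw [hb]; exact pow_dvd_pow 2 hb9
  rcases Key.key (F := A ⊓ B) (inf_le_right.trans inf_le_right) hd with ⟨x, hx, hc⟩ | ⟨x, hx, hc⟩
  · exact Or.inl ⟨x, (mem_inf.1 hx).1, hc⟩
  · exact Or.inr ⟨x, (mem_inf.1 hx).1, hc⟩

/-- **`A` contains an involution conjugate into `Q`** -/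
theorem of_conj_Q {A : Subgroup Inst.M.G} {Γ : Subgroup (MulAut Inst.M.G)} (h : IF A Γ) {v : Inst.M.G} (hv : v ∈ A)
    (h2 : orderOf v = 2) (g : Inst.M.G) (hvQ : g * v * g⁻¹ ∈ PP Inst.M) :
    (∃ a ∈ A, IsConj (tt Instance.all) a) ∨ (∃ a ∈ A, IsConj (zz Instance.all) a) := by
  have key : ∀ {y : Inst.M.G}, (∃ a ∈ A.map (MulAut.conj g).toMonoidHom, IsConj y a) → ∃ a ∈ A, IsConj y a := by
    rintro y ⟨_, ⟨a, ha, rfl⟩, hc⟩
    refine ⟨a, ha, hc.trans (isConj_iff.2 ⟨g⁻¹, ?_⟩)⟩
    show g⁻¹ * (g * a * g⁻¹) * g⁻¹⁻¹ = a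
    group
  have h3 : orderOf (g * v * g⁻¹) = 2 := by
    rw [← h2]
    exact orderOf_injective (MulAut.conj g).toMonoidHom (MulAut.conj g).injective v
  exact (of_Q (Cfsg.Agent.H209.Fxy.IF.map h (MulAut.conj g)) (v := g * v * g⁻¹) ⟨v, hv, rfl⟩ h3 hvQ).imp key key

/-- `A` meets a conjugate of `Q` -/
theorem of_mem {A : Subgroup Inst.M.G} {Γ : Subgroup (MulAut Inst.M.G)} (h : IF A Γ) {v : Inst.M.G} (hv : v ∈ A)
    (h1 : v ≠ 1) (g : Inst.M.G) (hvQ : g * v * g⁻¹ ∈ PP Inst.M) :
    (∃ a ∈ A, IsConj (tt Instance.all) a) ∨ (∃ a ∈ A, IsConj (zz Instance.all) a) := by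
  have hf : Fact (Nat.Prime 2) := ⟨Nat.prime_two⟩
  obtain ⟨k, hk⟩ := (IsPGroup.iff_orderOf.1 (two Instance.all)) ⟨g * v * g⁻¹, hvQ⟩
  have hk' : orderOf v = 2 ^ k := by
    rw [← hk, ← orderOf_injective (PP Inst.M).subtype (PP Inst.M).subtype_injective ⟨g * v * g⁻¹, hvQ⟩]
    exact (orderOf_injective (MulAut.conj g).toMonoidHom (MulAut.conj g).injective v).symm
  have hk0 : k ≠ 0 := by
    rintro rfl
    rw [pow_zero, orderOf_eq_one_iff] at hk'
    exact h1 hk'
  obtain ⟨j, rfl⟩ := Nat.exists_eq_succ_of_ne_zero hk0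
  have h3 : orderOf (v ^ 2 ^ j) = 2 := by
    rw [orderOf_pow_of_dvd (by positivity) (by rw [hk']; exact pow_dvd_pow 2 (Nat.le_succ j)), hk', Nat.succ_eq_add_one,
      pow_succ, Nat.mul_div_cancel_left _ (by positivity)]
  refine of_conj_Q h (A.pow_mem hv _) h3 g ?_
  rw [← conj_pow]
  exact (PP Inst.M).pow_mem hvQ _

end Cfsg.Agent.H502.IFB.Q
end

-- part: H861/IF/BClsA
section
/-!
# S5719, the Baby Monster: the involutions of `2.²E₆(2)` are conjugate to involutions of `2^(1+22)` (helper861)

`conj_pp` : every involution `u ∈ MM Inst.M` of the model is conjugate to an element of `PP Inst.M`.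
-/

set_option autoImplicit false
set_option maxRecDepth 100000

namespace Cfsg.Agent.H861.IFB

open Subgroup Cfsg
open Cfsg.Agent.Co2Type.Quad

section abs

variable {G : Type*} [Group G] [Finite G]

/-- a Sylow subgroup of `G` between `Q` and `C` -/
theorem exists_sylow {p : ℕ} [Fact p.Prime] {C Q : Subgroup G} (hC : ¬ p ∣ C.index) (hQC : Q ≤ C) (hQ : IsPGroup p Q) :
    ∃ T : Sylow p G, (T : Subgroup G) ≤ C ∧ Q ≤ (T : Subgroup G) := by
  have h1 : IsPGroup p (Q.subgroupOf C) := hQ.of_equiv (subgroupOfEquivOfLe hQC).symm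
  obtain ⟨S, hS⟩ := h1.exists_le_sylow
  have h2 : Nat.card ((S : Subgroup C).map C.subtype) = p ^ (Nat.card G).factorization p := by
    rw [card_map_of_injective C.subtype_injective, S.card_eq_multiplicity, ← C.card_mul_index,
      Nat.factorization_mul Nat.card_pos.ne' Subgroup.index_ne_zero_of_finite, Finsupp.add_apply,
      Nat.factorization_eq_zero_of_not_dvd hC, add_zero]
  refine ⟨Sylow.ofCard _ h2, map_subtype_le _, ?_⟩
  intro x hx
  exact ⟨⟨x, hQC hx⟩, hS hx, rfl⟩

/-- a second involution with a centralizer of odd index is conjugate to `z` -/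
theorem conj_z {Q : Subgroup G} {z : G} (h : Large Q z) (h2 : IsPGroup 2 Q)
    (hodd : ¬ 2 ∣ (centralizer ({z} : Set G)).index) {w : G} (hw1 : w ≠ 1)
    (hw : ¬ 2 ∣ (centralizer ({w} : Set G)).index) : ∃ g : G, g * w * g⁻¹ = z := by
  have : Fact (Nat.Prime 2) := ⟨Nat.prime_two⟩
  obtain ⟨T, hTC, hQT⟩ := exists_sylow hodd (fun x hx => mem_centralizer_singleton_iff.2 (h.comm_z x hx)) h2
  obtain ⟨T', hTC', -⟩ := exists_sylow (Q := ⊥) hw bot_le (IsPGroup.of_bot)
  obtain ⟨g, hg⟩ := MulAction.exists_smul_eq G T' T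
  refine ⟨g, ?_⟩
  have h3 : ∀ x ∈ (T : Subgroup G), g * w * g⁻¹ * x = x * (g * w * g⁻¹) := by
    intro x hx
    rw [← hg, Sylow.coe_subgroup_smul, Subgroup.mem_pointwise_smul_iff_inv_smul_mem] at hx
    have h4 : g⁻¹ * x * g ∈ (T' : Subgroup G) := by
      have : (MulAut.conj g)⁻¹ • x = g⁻¹ * x * g := by
        rw [MulAut.smul_def, MulAut.conj_inv_apply]
      rwa [this] at hx
    have h5 := mem_centralizer_singleton_iff.1 (hTC' h4)
    calc g * w * g⁻¹ * x = g * (w * (g⁻¹ * x * g)) * g⁻¹ := by group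
      _ = g * (g⁻¹ * x * g * w) * g⁻¹ := by rw [h5]
      _ = _ := by group
  have h6 : g * w * g⁻¹ ∈ Q := h.self _ (h3 z (hQT h.z_mem)) (fun x hx => h3 x (hQT hx))
  rcases h.cent _ h6 (fun y hy => h3 y (hQT hy)) with h7 | h7
  · exfalso
    apply hw1
    calc w = g⁻¹ * (g * w * g⁻¹) * g := by group
      _ = 1 := by rw [h7]; group
  · exact h7

/-- a normal 2-subgroup of `C(z)` is in `Q` -/
theorem le_Q {Q : Subgroup G} {z : G} {K : Type*} [Group K] (hK : IsSimpleGroup K) {r : ℕ} (hr : r.Prime) (hr2 : r ≠ 2)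
    (hrK : r ∣ Nat.card K)
    (π : centralizer ({z} : Set G) →* K) (hπ : Function.Surjective π) (hker : ∀ c, π c = 1 ↔ (c : G) ∈ Q)
    {R : Subgroup G} (hRz : R ≤ centralizer ({z} : Set G)) (hR : IsPGroup 2 R)
    (hn : ∀ c ∈ centralizer ({z} : Set G), ∀ x ∈ R, c * x * c⁻¹ ∈ R) : R ≤ Q := by
  have : Fact (Nat.Prime 2) := ⟨Nat.prime_two⟩
  have hfK : Finite K := Finite.of_surjective π hπ
  set R' := R.subgroupOf (centralizer ({z} : Set G)) with hR'
  have hR'n : R'.Normal := ⟨fun x hx c => hn c c.2 x hx⟩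
  have h1 : (R'.map π).Normal := hR'n.map π hπ
  have h2 : IsPGroup 2 (R'.map π) := (hR.of_equiv (subgroupOfEquivOfLe hRz).symm).map π
  rcases hK.eq_bot_or_eq_top_of_normal _ h1 with h3 | h3
  · intro x hx
    rw [Subgroup.map_eq_bot_iff] at h3
    exact (hker ⟨x, hRz hx⟩).1 (h3 (show (⟨x, hRz hx⟩ : centralizer ({z} : Set G)) ∈ R' from hx))
  · exfalso
    rw [h3] at h2
    obtain ⟨n, hn⟩ := IsPGroup.iff_card.1 h2
    rw [card_top] at hn
    rw [hn] at hrK
    exact hr2 ((Nat.prime_dvd_prime_iff_eq hr Nat.prime_two).1 (hr.dvd_of_dvd_pow hrK))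

end abs

section chart

open Cfsg.Agent.MonsterU Cfsg.Agent.MonsterU.Ch Cfsg.Agent.MonsterU.Lam2
open Cfsg.Spor (Co1)

variable {G : Type*} [Group G] {Q : Subgroup G} {z : G} {eta : G → L2}
  {pi : Subgroup.centralizer ({z} : Set G) →* Co1}

theorem index_type (v : L2) (hv : IsType 2 v) : (MulAction.stabilizer Co1 v).index = 98280 := by
  rw [MulAction.index_stabilizer, ← ConwayFacts.NormL2.ncard_two]
  congr 1
  ext w
  constructor
  · rintro ⟨g, rfl⟩
    exact hv.smul1 g
  · intro hw
    obtain ⟨g, hg⟩ := IsType.trans (Or.inl rfl) hv hw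
    exact ⟨(QuotientGroup.mk g : Co1), hg⟩

/-- the order of `C(z) ∩ C(x)`, `x ∈ Q` of type 2 -/
theorem card_inf [Finite G] (h : Chart Q z eta pi)
    (hC : Nat.card (centralizer ({z} : Set G)) = 2 ^ 25 * 4157776806543360000) {x : G} (hx : x ∈ Q)
    (h2 : IsType 2 (eta x)) :
    2 ^ 24 * 42305421312000 ∣ Nat.card ((centralizer ({x} : Set G)).subgroupOf (centralizer ({z} : Set G))) := by
  set D := (MulAction.stabilizer Co1 (eta x)).comap pi with hD
  set E := (centralizer ({x} : Set G)).subgroupOf (centralizer ({z} : Set G)) with hE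
  have hDi : D.index = 98280 := by
    rw [hD, Subgroup.index_comap_of_surjective _ h.pi_surj, index_type _ h2]
  have hzz := h.large.z_sq
  have hxz := h.large.comm_z x hx
  have hDc : ∀ c ∈ D, (c : G) * x * (c : G)⁻¹ = x ∨ (c : G) * x * (c : G)⁻¹ = x * z := by
    intro c hc
    have h3 : pi c • eta x = eta x := hc
    rw [← h.eta_conj c x hx] at h3
    exact (h.eta_eq (h.large.conj_mem c (mem_centralizer_singleton_iff.1 c.2) x hx) hx).1 h3
  have hEc : ∀ c : centralizer ({z} : Set G), c ∈ E ↔ (c : G) * x * (c : G)⁻¹ = x := by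
    intro c
    rw [hE, mem_subgroupOf, mem_centralizer_singleton_iff, mul_inv_eq_iff_eq_mul]
  have hED : E ≤ D := by
    intro c hc
    rw [hEc] at hc
    show pi c • eta x = eta x
    rw [← h.eta_conj c x hx, hc]
  have hrel : E.relIndex D ∣ 2 := by
    by_cases hcase : D ≤ E
    · rw [Subgroup.relIndex_eq_one.2 hcase]
      exact one_dvd 2
    · rw [SetLike.not_le_iff_exists] at hcase
      obtain ⟨a, haD, haE⟩ := hcase
      have ha : (a : G) * x * (a : G)⁻¹ = x * z := (hDc a haD).resolve_left (fun h3 => haE ((hEc a).2 h3))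
      refine dvd_of_eq ?_
      rw [Subgroup.relIndex, Subgroup.index_eq_two_iff]
      refine ⟨⟨a, haD⟩, fun b => ?_⟩
      have hbz := mem_centralizer_singleton_iff.1 (b : centralizer ({z} : Set G)).2
      have h5 : (((b : centralizer ({z} : Set G)) * a : centralizer ({z} : Set G)) : G) * x *
          (((b : centralizer ({z} : Set G)) * a : centralizer ({z} : Set G)) : G)⁻¹ =
          ((b : centralizer ({z} : Set G)) : G) * x * ((b : centralizer ({z} : Set G)) : G)⁻¹ * z := by
        calc _ = ((b : centralizer ({z} : Set G)) : G) * ((a : G) * x * (a : G)⁻¹) *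
              ((b : centralizer ({z} : Set G)) : G)⁻¹ := by push_cast; group
          _ = ((b : centralizer ({z} : Set G)) : G) * x * (z * ((b : centralizer ({z} : Set G)) : G)⁻¹) := by
              rw [ha]; group
          _ = ((b : centralizer ({z} : Set G)) : G) * x * (((b : centralizer ({z} : Set G)) : G)⁻¹ * z) := by
              rw [show z * ((b : centralizer ({z} : Set G)) : G)⁻¹ = ((b : centralizer ({z} : Set G)) : G)⁻¹ * z by
                rw [eq_inv_mul_iff_mul_eq, ← mul_assoc, hbz, mul_inv_cancel_right]]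
          _ = _ := by group
      show Xor (((b : centralizer ({z} : Set G)) * a) ∈ E) ((b : centralizer ({z} : Set G)) ∈ E)
      rcases hDc b b.2 with h6 | h6
      · refine Or.inr ⟨(hEc b).2 h6, fun h7 => ?_⟩
        rw [hEc, h5, h6] at h7
        exact h.large.z_ne (mul_eq_left.1 h7)
      · refine Or.inl ⟨(hEc _).2 ?_, fun h7 => ?_⟩
        · rw [h5, h6, mul_assoc, hzz, mul_one]
        · rw [hEc, h6] at h7
          exact h.large.z_ne (mul_eq_left.1 h7)
  have h3 := Subgroup.relIndex_mul_index hED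
  have h4 := E.card_mul_index
  rw [← h3, hDi, hC] at h4
  obtain ⟨m, hm⟩ := hrel
  refine ⟨m, ?_⟩
  have h5 : Nat.card E * (E.relIndex D * 98280) * m = 2 ^ 25 * 4157776806543360000 * m := by rw [h4]
  have h6 : Nat.card E * (E.relIndex D * 98280) * m = Nat.card E * (E.relIndex D * m) * 98280 := by ring
  rw [h6, ← hm] at h5
  omega

end chart

end Cfsg.Agent.H861.IFB
end

-- part: H861/IF/BClsB
section
/-!
# S5719, the Baby Monster: the involutions of `2.²E₆(2)` are conjugate to involutions of `2^(1+22)`, II (helper861)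

`conj_pp` : every involution `u ∈ MM Inst.M` of the model is conjugate to an element of `PP Inst.M`.
-/

set_option autoImplicit false
set_option maxRecDepth 100000

namespace Cfsg.Agent.H861.IFB

open Subgroup
open Cfsg Cfsg.Lie Cfsg.Agent.Bimonster Cfsg.Agent.BabyU Cfsg.Agent.TwoESix.Cover
open Cfsg.Agent.MonsterX.KSide Cfsg.Agent.MonsterX.KLift Cfsg.Agent.MonsterX.KModel
open Cfsg.Agent.MonsterX.Model Cfsg.Agent.MonsterX.MainPack Cfsg.Agent.MonsterX.MainSimple
open Cfsg.Agent.MonsterX.MainBasic Cfsg.Agent.MonsterU.Assembly Cfsg.Agent.MonsterN Cfsg.Agent.MonsterN.Lit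
open Cfsg.Agent.MonsterN.LitInst Cfsg.Agent.MonsterU.Lam2 Cfsg.Agent.MonsterU.TwoCls
open Cfsg.Agent.BabyComp Cfsg.Agent.BabyComp.Main Cfsg.Agent.BabyComp.BaseTwo Cfsg.Agent.R01.Lifts
open Cfsg.Agent.BpSpor.MBigModel (MG zz pi chart)
open Cfsg.Agent.BabyU.ClosModel (PP MM)

/-- the group `2.B` -/
noncomputable abbrev BBm : Subgroup MG := BB Cfsg.Agent.MonsterX.KDone.K Cfsg.Agent.MonsterX.KLinkInst.x₀

/-- the central involution -/
noncomputable abbrev tbm : BBm := tb Cfsg.Agent.MonsterX.KDone.K Cfsg.Agent.MonsterX.KLinkInst.x₀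

theorem card_dvd_map {H K : Type*} [Group H] [Finite H] [Group K] {θ : H →* K} {τ : H} (hθ : _root_.Cfsg.Agent.R01.Lifts.Ext θ τ) (E : Subgroup H) :
    Nat.card E ∣ 2 * Nat.card (E.map θ) := by
  classical
  have h2 := Subgroup.card_mul_index ((θ.domRestrict E).ker)
  rw [Subgroup.index_ker, MonoidHom.domRestrict_range] at h2
  have h3 : Nat.card (θ.domRestrict E).ker ≤ 2 := by
    rw [← Fintype.card_bool, ← Nat.card_eq_fintype_card]
    refine Nat.card_le_card_of_injective (fun x : (θ.domRestrict E).ker => decide (((x : E) : H) = 1)) ?_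
    intro x y hxy
    have hx := (hθ.ker ((x : E) : H)).1 x.2
    have hy := (hθ.ker ((y : E) : H)).1 y.2
    have h1 : (((x : E) : H) = 1) ↔ (((y : E) : H) = 1) := by simpa only [decide_eq_decide] using hxy
    apply Subtype.ext
    apply Subtype.ext
    rcases hx with hx | hx
    · rw [hx, h1.1 hx]
    · rcases hy with hy | hy
      · rw [hy, h1.2 hy]
      · rw [hx, hy]
  have h4 : 0 < Nat.card (θ.domRestrict E).ker := Nat.card_pos
  have h5 : Nat.card (θ.domRestrict E).ker ∣ 2 := by
    rcases (show Nat.card (θ.domRestrict E).ker = 1 ∨ Nat.card (θ.domRestrict E).ker = 2 by omega) with h | h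
    · rw [h]; exact one_dvd _
    · rw [h]
  rw [← h2]
  exact Nat.mul_dvd_mul_right h5 _

theorem card_subgroupOf {G : Type*} [Group G] (H K : Subgroup G) :
    Nat.card (H.subgroupOf K) = Nat.card (K.subgroupOf H) := by
  rw [← Subgroup.inf_subgroupOf_right H K, ← Subgroup.inf_subgroupOf_left K H,
    Nat.card_congr (subgroupOfEquivOfLe (inf_le_right : H ⊓ K ≤ K)).toEquiv,
    Nat.card_congr (subgroupOfEquivOfLe (inf_le_left : H ⊓ K ≤ H)).toEquiv]

/-- **the image of `Q ∩ 2.B` is conjugate to a subgroup of `2^(1+22)`** -/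
theorem lift_conj (e : Spor.BabyMonster ≃* BabyM.Inst.M.G) {q : BBm →* Spor.BabyMonster} (hq : _root_.Cfsg.Agent.R01.Lifts.Ext q tbm) :
    ∃ g : BabyM.Inst.M.G, ∀ b : BBm, (b : MG) ∈ MonsterX.KDone.K.ι.range → g * e (q b) * g⁻¹ ∈ PP BabyM.Inst.M := by
  have hfM : Finite MG := BpSpor.MBigModel.finite
  have hfG : Finite BabyM.Inst.M.G := BabyM.Instance.all.finite_G
  set A0 := BabyM.Instance.all with hA0
  have hL := KFacts.Baby.Inst.large A0
  -- the homomorphism
  set θ : BBm →* BabyM.Inst.M.G := e.toMonoidHom.comp q with hθdef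
  have hθ : _root_.Cfsg.Agent.R01.Lifts.Ext θ tbm := by
    refine ⟨e.surjective.comp hq.surj, hq.zz, hq.zne, ?_, hq.comm⟩
    intro c
    rw [← hq.ker]
    exact e.map_eq_one_iff
  -- `z`
  have hx : MonsterX.KDone.K.ι MonsterX.KLinkInst.x₀ ∈ MonsterX.KDone.K.ι.range := ⟨_, rfl⟩
  have h2 : IsType 2 (LThreeMB.KChart.eta MonsterX.KDone.lft (MonsterX.KDone.K.ι MonsterX.KLinkInst.x₀)) := by
    rw [LThreeMB.KChart.eta_ι]
    exact (mem_Sh_iff MonsterX.KDone.lft _).1 MonsterX.KDone.lnk.x₀_mem
  have hzx : zz * MonsterX.KDone.K.ι MonsterX.KLinkInst.x₀ = MonsterX.KDone.K.ι MonsterX.KLinkInst.x₀ * zz :=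
    (chart.large.comm_z _ hx).symm
  set zb : BBm := ⟨zz, mem_centralizer_singleton_iff.2 hzx⟩ with hzb
  have hcard := card_inf chart BpSpor.MBigModel.card_cent_z hx h2
  rw [card_subgroupOf] at hcard
  set E : Subgroup BBm := (centralizer ({zz} : Set MG)).subgroupOf BBm with hE
  have hcE : 2 ^ 23 * 42305421312000 ∣ Nat.card (E.map θ) := by
    have h3 := hcard.trans (card_dvd_map hθ E)
    have h4 : 2 * (2 ^ 23 * 42305421312000) ∣ 2 * Nat.card (E.map θ) := by
      refine dvd_trans (dvd_of_eq ?_) h3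
      norm_num
    exact Nat.dvd_of_mul_dvd_mul_left (by norm_num) h4
  have hEz : E.map θ ≤ centralizer ({θ zb} : Set BabyM.Inst.M.G) := by
    rintro _ ⟨b, hb, rfl⟩
    rw [mem_centralizer_singleton_iff, ← map_mul, ← map_mul]
    congr 1
    exact Subtype.ext (mem_centralizer_singleton_iff.1 hb)
  have hw1 : θ zb ≠ 1 := by
    intro h
    rcases (hθ.ker zb).1 h with h3 | h3
    · exact chart.large.z_ne (congrArg Subtype.val h3)
    · have h4 : zz = MonsterX.KDone.K.ι MonsterX.KLinkInst.x₀ := congrArg Subtype.val h3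
      rw [← h4, chart.eta_z] at h2
      exact ConwayFacts.NormL2.ne_zero_of_type (Or.inl rfl) h2 rfl
  have hodd : ¬ 2 ∣ (centralizer ({ClosModel.zz A0} : Set BabyM.Inst.M.G)).index :=
    fun h => (Nat.not_even_iff_odd.2 (KFacts.Baby.Inst.odd_index A0)) (even_iff_two_dvd.2 h)
  have hcC : Nat.card (centralizer ({ClosModel.zz A0} : Set BabyM.Inst.M.G)) = 2 ^ 23 * 42305421312000 := by
    rw [Nat.card_congr (KFacts.Baby.Inst.eC A0).toEquiv, A0.grp.card_C]
  have hw : ¬ 2 ∣ (centralizer ({θ zb} : Set BabyM.Inst.M.G)).index := by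
    intro h
    have h3 := (hcE.trans (card_dvd_of_le hEz))
    obtain ⟨k, hk⟩ := h3
    have h4 := (centralizer ({θ zb} : Set BabyM.Inst.M.G)).card_mul_index
    have h5 := (centralizer ({ClosModel.zz A0} : Set BabyM.Inst.M.G)).card_mul_index
    rw [hcC] at h5
    rw [hk, ← h5, mul_assoc] at h4
    have h6 := Nat.eq_of_mul_eq_mul_left (by norm_num) h4
    apply hodd
    rw [← h6]
    exact h.mul_left k
  obtain ⟨g, hg⟩ := conj_z hL (ClosModel.two A0) hodd hw1 hw
  refine ⟨g, ?_⟩
  -- `θ' = conj g ∘ θ`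
  set θ' : BBm →* BabyM.Inst.M.G := (MulAut.conj g).toMonoidHom.comp θ with hθ'
  have hEC : E.map θ' = centralizer ({ClosModel.zz A0} : Set BabyM.Inst.M.G) := by
    have h3 : E.map θ' = (E.map θ).map (MulAut.conj g).toMonoidHom := (Subgroup.map_map E _ _).symm
    refine Subgroup.eq_of_le_of_card_ge ?_ ?_
    · rw [h3]
      rintro _ ⟨c, hc, rfl⟩
      have h4 := mem_centralizer_singleton_iff.1 (hEz hc)
      rw [mem_centralizer_singleton_iff, ← hg]
      show g * c * g⁻¹ * (g * θ zb * g⁻¹) = g * θ zb * g⁻¹ * (g * c * g⁻¹)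
      calc g * c * g⁻¹ * (g * θ zb * g⁻¹) = g * (c * θ zb) * g⁻¹ := by group
        _ = g * (θ zb * c) * g⁻¹ := by rw [h4]
        _ = _ := by group
    · rw [hcC, h3, card_map_of_injective (MulAut.conj g).injective]
      exact Nat.le_of_dvd Nat.card_pos hcE
  set R : Subgroup BBm := MonsterX.KDone.K.ι.range.subgroupOf BBm with hR
  have hRE : R ≤ E := by
    intro b hb
    show (b : MG) ∈ centralizer ({zz} : Set MG)
    exact mem_centralizer_singleton_iff.2 (chart.large.comm_z _ hb)
  have hRp : IsPGroup 2 R := by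
    refine IsPGroup.of_injective (IsPGroup.of_card (p := 2) (n := 25) chart.card_Q)
      ((BBm.subtype.comp R.subtype).codRestrict MonsterX.KDone.K.ι.range (fun b => b.2)) ?_
    intro a b hab
    apply Subtype.ext
    apply Subtype.ext
    exact congrArg (fun x : MonsterX.KDone.K.ι.range => (x : MG)) hab
  obtain ⟨π, hπs, hπ⟩ := KFacts.Baby.Inst.quot A0
  have hRQ : R.map θ' ≤ PP BabyM.Inst.M := by
    refine le_Q A0.grp.simple (r := 23) (by norm_num) (by norm_num) (by rw [A0.grp.card]; norm_num) π hπs hπ ?_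
      (hRp.map θ') ?_
    · rw [← hEC]
      exact Subgroup.map_mono hRE
    · intro c hc x hx
      rw [← hEC] at hc
      obtain ⟨b, hb, rfl⟩ := hc
      obtain ⟨r, hr, rfl⟩ := hx
      refine ⟨b * r * b⁻¹, ?_, by rw [map_mul, map_mul, map_inv]⟩
      exact chart.large.conj_mem (b : MG) (mem_centralizer_singleton_iff.1 hb) (r : MG) hr
  intro b hb
  exact hRQ ⟨b, hb, rfl⟩

/-- the involutions of `2.B` -/
theorem list {k : BBm} (hkk : k * k = 1) (hk1 : k ≠ 1) (hkt : k ≠ tbm) :
    ∃ f : BBm, (f : MG) ∈ MonsterX.KDone.K.ι.range ∧ IsConj f k := by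
  have T := MonsterU.TauInst.tauHyp (MonsterU.Final.cent MonsterX.InstanceFinal.mOrbit MonsterX.Instance.mTrans)
  have F := FusInst.hyp CTwoTab.BInst.all MonsterX.KDone.lnk MonsterX.KDone.lft T MonsterX.KDone.lnk.x₀_mem
  obtain ⟨p₁, p₂, p₃, p₄, C⟩ := FusF2.exists_conf MonsterX.KDone.lft MonsterX.KDone.lnk.x₀_mem
  have hm : ∀ (p : _) (h : p * MonsterX.KLinkInst.x₀ = MonsterX.KLinkInst.x₀ * p),
      ((FusF2.elt MonsterX.KDone.K p h : BBm) : MG) ∈ MonsterX.KDone.K.ι.range := fun p h => ⟨p, rfl⟩
  have hR : ∀ a b : BBm, (a : MG) ∈ MonsterX.KDone.K.ι.range → (b : MG) ∈ MonsterX.KDone.K.ι.range →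
      ((a * b : BBm) : MG) ∈ MonsterX.KDone.K.ι.range := fun a b ha hb => Subgroup.mul_mem _ ha hb
  rcases F.list C (F.c₁ C) (F.c₂ C) (F.c₃ C) k hkk hk1 hkt with h | h | h | h
  · exact ⟨_, hm _ _, h⟩
  · exact ⟨_, hR _ _ (hm _ _) (hm _ _), h⟩
  · exact ⟨_, hR _ _ (hm _ _) (hR _ _ (hm _ _) (hm _ _)), h⟩
  · exact ⟨_, hR _ _ (hR _ _ (hm _ _) (hm _ _)) (hm _ _), h⟩

/-- **The involutions of `MM` are conjugate to elements of `PP`.** -/
theorem conj_pp {u : BabyM.Inst.M.G} (h2 : u * u = 1) (hM : u ∈ MM BabyM.Inst.M) :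
    ∃ g : BabyM.Inst.M.G, g * u * g⁻¹ ∈ PP BabyM.Inst.M := by
  by_cases hu1 : u = 1
  · exact ⟨1, by rw [hu1]; simp⟩
  refine CTwoTab.BInst.elim ?_
  intro K _ _ hK hF _ _ _ _ q y h π f₁ f₂ f₃ f₄ M₁' hq h10 DK Fc hz hcz hcd hL hc5 big hq5 hcard Bs' hr
  -- the isomorphism
  obtain ⟨g₀, hg₀⟩ := BM.StageW.exists_conj BabyM.Instance.all BabyM.Instance.ok Cfsg.Spor.BabyMonster.Gen.t1
  obtain ⟨c, hc⟩ := isConj_iff.1 hq5
  have hg : BM.KHAll.iso (PresentedGroup.of Spor.BabyMonster.Gen.t1 : Spor.BabyMonster) =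
      g₀ * ClosModel.tt BabyM.Instance.all * g₀⁻¹ := (BM.KHAll.iso_gB _).trans hg₀
  let e := BM.KHAll.iso.trans (MulAut.conj (g₀⁻¹ * BM.KHAll.iso c))
  have he : e (q (y 5)) = ClosModel.tt BabyM.Instance.all := by
    show (g₀⁻¹ * BM.KHAll.iso c) * BM.KHAll.iso (q (y 5)) * (g₀⁻¹ * BM.KHAll.iso c)⁻¹ = _
    have h1 : BM.KHAll.iso c * BM.KHAll.iso (q (y 5)) * (BM.KHAll.iso c)⁻¹ =
        g₀ * ClosModel.tt BabyM.Instance.all * g₀⁻¹ := by rw [← hg, ← hc, map_mul, map_mul, map_inv]
    calc (g₀⁻¹ * BM.KHAll.iso c) * BM.KHAll.iso (q (y 5)) * (g₀⁻¹ * BM.KHAll.iso c)⁻¹ =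
        g₀⁻¹ * (BM.KHAll.iso c * BM.KHAll.iso (q (y 5)) * (BM.KHAll.iso c)⁻¹) * g₀ := by group
      _ = ClosModel.tt BabyM.Instance.all := by rw [h1]; group
  have hex : ∃ g : BabyM.Inst.M.G, g * ClosModel.tt BabyM.Instance.all = ClosModel.tt BabyM.Instance.all * g ∧
      g ∉ MM BabyM.Inst.M := by
    obtain ⟨g, hg, h⟩ := BabyM.Instance.all.rep.neg
    refine ⟨⟨g, BabyM.Instance.all.C_le_G hg⟩, ?_, ?_⟩
    · exact Subtype.ext (BabyM.Instance.all.rep.t₀_comm g hg (Or.inr h))
    · intro hm
      have h1 : g BabyM.Inst.M.d₀ = BabyM.Inst.M.d₀ := hm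
      exact ClosModel.ne_neg BabyM.Instance.all BabyM.Instance.all.d₀_mem (h1.symm.trans h)
  have Bs : Base (q (y 5)) ((MM BabyM.Inst.M).comap e.toMonoidHom) := BaseB.base_of F8Inner.inner e he hex
  have hu' : e.symm u ∈ (MM BabyM.Inst.M).comap e.toMonoidHom := by
    show e (e.symm u) ∈ MM BabyM.Inst.M
    rw [e.apply_symm_apply]; exact hM
  obtain ⟨k, hk, hqk⟩ := M_le hq h10 big Bs _ hu'
  have hkk : k * k = 1 := by
    refine lift_sq (Cfsg.Agent.TwoESix.LeviG.rootFacts hK hF) (KeyInst.extra hF) (Cfsg.Agent.TwoESix.RootsInst.roots K hF)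
      hq h10 DK hk ?_
    rw [hqk, ← map_mul, h2, map_one]
  have hqk1 : q k ≠ 1 := by
    intro h1
    rw [hqk] at h1
    exact hu1 (e.symm.map_eq_one_iff.1 h1)
  obtain ⟨f, hf, hfk⟩ := list hkk (fun h1 => hqk1 (by rw [h1, map_one])) (fun h1 => hqk1 (by rw [h1, hq.mapz]))
  obtain ⟨g, hgg⟩ := lift_conj e hq
  obtain ⟨b, hb⟩ := isConj_iff.1 hfk.symm
  refine ⟨g * e (q b), ?_⟩
  have h3 := hgg f hf
  rw [← hb] at h3
  simp only [map_mul, map_inv, hqk, e.apply_symm_apply] at h3
  have h4 : g * e (q b) * u * (g * e (q b))⁻¹ = g * (e (q b) * u * (e (q b))⁻¹) * g⁻¹ := by group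
  rw [h4]
  exact h3

end Cfsg.Agent.H861.IFB
end

-- part: H465/IF/BRow
section
/-!
# S5719: the row of the Baby Monster (helper465; parts: helper502, helper861, helper956, helper293)

`A` of even order contains an involution `u`.  If `u` is not conjugate into `2.²E₆(2)`, it is a product of two commuting
transpositions, and `A` contains an involution conjugate into `2.²E₆(2)` (`exists_M`); the latter is conjugate into
`Q = 2^(1+22)` (`conj_pp`), so `A` contains an element of the class `2A` or `2B` (`of_mem`): `row_of`.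
-/

set_option autoImplicit false
set_option linter.unusedSectionVars false

namespace Cfsg.Agent.H465.IF.BRow

open Subgroup
open Cfsg.Agent.BabyM.Inst (M)
open Cfsg.Agent.BabyU.ClosModel (tt zz MM PP)
open Cfsg.Agent.H465.Gen
open Cfsg.Agent.H209.Fxy

theorem exists_AB : BRowOf.AB := by
  rintro A Γ h ⟨u, hu, ho⟩
  have hu2 : u * u = 1 := by
    rw [← pow_two, ← ho]
    exact pow_orderOf_eq_one u
  have hu1 : u ≠ 1 := by
    rintro rfl
    rw [orderOf_one] at ho
    exact absurd ho (by norm_num)
  obtain ⟨v, hv, hv1, hv2, g, hg⟩ : ∃ v ∈ A, v ≠ 1 ∧ v * v = 1 ∧ ∃ g, g * v * g⁻¹ ∈ MM M := by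
    rcases BabyU.F8Inner.inner.classes u (mem_top _) hu2 hu1 with ⟨k, -, hk⟩ | ⟨d, hd, hc, he⟩
    · exact ⟨u, hu, hu1, hu2, k⁻¹, by rw [inv_inv]; exact hk⟩
    · have hdd : d * d = 1 := by
        obtain ⟨k, -, hk⟩ := hd
        change k * BDisp.t₀ * k⁻¹ = d at hk
        rw [← hk]
        calc k * BDisp.t₀ * k⁻¹ * (k * BDisp.t₀ * k⁻¹) = k * (BDisp.t₀ * BDisp.t₀) * k⁻¹ := by group
          _ = 1 := by rw [BDisp.t₀_sq]; group
      have e1 : u * d * d = u := by rw [mul_assoc, hdd, mul_one]
      refine BExM.exists_M h (t := u * d) (e := d) he hd ?_ ?_ ?_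
      · rw [e1, ← mul_assoc, ← hc, e1]
      · intro e
        exact hu1 (mul_eq_right.1 e)
      · rw [e1]
        exact hu
  obtain ⟨k, hk⟩ := H861.IFB.conj_pp (u := g * v * g⁻¹) (by
    calc g * v * g⁻¹ * (g * v * g⁻¹) = g * (v * v) * g⁻¹ := by group
      _ = 1 := by rw [hv2]; group) hg
  refine H502.IFB.Q.of_mem h hv hv1 (k * g) ?_
  have e2 : k * g * v * (k * g)⁻¹ = k * (g * v * g⁻¹) * k⁻¹ := by group
  rw [e2]
  exact hk

/-- **The row of the Baby Monster.** -/
theorem row_b : Row fun T => Spor.IsoB T := BRowOf.row_of exists_AB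

end Cfsg.Agent.H465.IF.BRow
end

private theorem dce_4abfbee538f8 : _root_.True := by
  try have : _root_.True := by simp only [_root_.Cfsg.Agent.H109.IFx.HS.g.eq_1]
  try have : _root_.True := by simp only [_root_.Cfsg.Agent.H109.IFx.HS.za.eq_1]
  exact _root_.True.intro
end

-- part: H209/IF/Cells
section
set_option linter.all false
open scoped Cfsg.Agent.FastGrp

-- part: H209/IF/Main
section
/-!
# S5719: the final assembly from the rows (driver helper209)
-/

set_option autoImplicit false
set_option linter.unusedSectionVars false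

namespace Cfsg.Agent.H209.Fxy

open MulAction Subgroup Cfsg Cfsg.Agent.H284

/-- The rows of S5719. -/
structure Rows : Prop where
  alt : Row fun T => IsAlternating T
  psl : Row fun T => IsPSL T
  psp : Row fun T => IsPSp T
  psu : Row fun T => IsPSU T
  oodd : Row fun T => IsPOmegaOdd T
  oplus : Row fun T => IsPOmegaPlus T
  ominus : Row fun T => IsPOmegaMinus T
  g2 : Row fun T => Lie.IsoChevG2 T
  f4 : Row fun T => Lie.IsoF4 T
  e6 : Row fun T => Lie.IsoChevE6 T
  e7 : Row fun T => Lie.IsoE7 T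
  e8 : Row fun T => Lie.IsoE8 T
  te6 : Row fun T => Lie.Iso2E6 T
  td4 : Row fun T => Lie.Iso3D4 T
  sz : Row fun T => Lie.IsoSuzuki T
  ree : Row fun T => Lie.IsoRee T
  tf4 : Row fun T => Lie.Iso2F4 T
  tits : Row fun T => Lie.IsoTits T
  m11 : Row fun T => Spor.IsoM11 T
  m12 : Row fun T => Spor.IsoM12 T
  m22 : Row fun T => Spor.IsoM22 T
  m23 : Row fun T => Spor.IsoM23 T
  m24 : Row fun T => Spor.IsoM24 T
  j1 : Row fun T => Spor.IsoJ1 T
  j2 : Row fun T => Spor.IsoJ2 T
  j3 : Row fun T => Spor.IsoJ3 T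
  j4 : Row fun T => Spor.IsoJ4 T
  co1 : Row fun T => Spor.IsoCo1 T
  co2 : Row fun T => Spor.IsoCo2 T
  co3 : Row fun T => Spor.IsoCo3 T
  mcl : Row fun T => Spor.IsoMcL T
  hs : Row fun T => Spor.IsoHS T
  suz : Row fun T => Spor.IsoSuz T
  he : Row fun T => Spor.IsoHe T
  ru : Row fun T => Spor.IsoRu T
  on : Row fun T => Spor.IsoON T
  ly : Row fun T => Spor.IsoLy T
  fi22 : Row fun T => Spor.IsoFi22 T
  fi23 : Row fun T => Spor.IsoFi23 T
  fi24 : Row fun T => Spor.IsoFi24' T
  hn : Row fun T => Spor.IsoHN T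
  th : Row fun T => Spor.IsoTh T
  b : Row fun T => Spor.IsoB T
  m : Row fun T => Spor.IsoM T

theorem Rows.all (R : Rows) {T : Type} [Group T] [Finite T] [IsSimpleGroup T] (hna : ¬ IsMulCommutative T)
    (hK : IsKnownSimple' T) (A : Subgroup T) (Γ : Subgroup (MulAut T)) (h : IF A Γ) : False := by
  rcases hK with h0 | h0 | h0 | h0 | h0 | h0 | h0 | h0 | h0 | h0
  · apply hna
    have hp : IsCyclic T := by
      haveI : Fact (Nat.card T).Prime := ⟨h0⟩
      exact isCyclic_of_prime_card rfl
    exact IsCyclic.isMulCommutative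
  · exact R.alt T hna h0 A Γ h
  · exact R.psl T hna h0 A Γ h
  · exact R.psp T hna h0 A Γ h
  · exact R.psu T hna h0 A Γ h
  · exact R.oodd T hna h0 A Γ h
  · exact R.oplus T hna h0 A Γ h
  · exact R.ominus T hna h0 A Γ h
  · rcases h0 with h0 | h0 | h0 | h0 | h0 | h0 | h0 | h0 | h0 | h0 | h0
    · exact R.g2 T hna h0 A Γ h
    · exact R.f4 T hna h0 A Γ h
    · exact R.e6 T hna h0 A Γ h
    · exact R.e7 T hna h0 A Γ h
    · exact R.e8 T hna h0 A Γ h
    · exact R.te6 T hna h0 A Γ h
    · exact R.td4 T hna h0 A Γ h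
    · exact R.sz T hna h0 A Γ h
    · exact R.ree T hna h0 A Γ h
    · exact R.tf4 T hna h0 A Γ h
    · exact R.tits T hna h0 A Γ h
  · rcases h0 with h0 | h0 | h0 | h0 | h0 | h0 | h0 | h0 | h0 | h0 | h0 | h0 | h0 | h0 | h0 | h0 | h0 | h0 | h0 | h0 | h0 | h0 | h0 | h0 | h0 | h0
    · exact R.m11 T hna h0 A Γ h
    · exact R.m12 T hna h0 A Γ h
    · exact R.m22 T hna h0 A Γ h
    · exact R.m23 T hna h0 A Γ h
    · exact R.m24 T hna h0 A Γ h
    · exact R.j1 T hna h0 A Γ h
    · exact R.j2 T hna h0 A Γ h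
    · exact R.j3 T hna h0 A Γ h
    · exact R.j4 T hna h0 A Γ h
    · exact R.co1 T hna h0 A Γ h
    · exact R.co2 T hna h0 A Γ h
    · exact R.co3 T hna h0 A Γ h
    · exact R.mcl T hna h0 A Γ h
    · exact R.hs T hna h0 A Γ h
    · exact R.suz T hna h0 A Γ h
    · exact R.he T hna h0 A Γ h
    · exact R.ru T hna h0 A Γ h
    · exact R.on T hna h0 A Γ h
    · exact R.ly T hna h0 A Γ h
    · exact R.fi22 T hna h0 A Γ h
    · exact R.fi23 T hna h0 A Γ h
    · exact R.fi24 T hna h0 A Γ h
    · exact R.hn T hna h0 A Γ h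
    · exact R.th T hna h0 A Γ h
    · exact R.b T hna h0 A Γ h
    · exact R.m T hna h0 A Γ h

/-- **S5719 from the rows and the classification.** -/
theorem main_of (R : Rows) (hcl : ∀ (T : Type) [Group T] [Finite T] [IsSimpleGroup T], IsKnownSimple' T)
    {G Ω : Type*} [Group G] [Finite G] [MulAction G Ω] [FaithfulSMul G Ω] [Fintype Ω]
    (T : Subgroup G) [T.Normal] (hT : IsSimpleGroup T) (hTn : ¬ IsMulCommutative T)
    (hC : Subgroup.centralizer (T : Set G) = ⊥) (hprim : MulAction.IsPreprimitive G Ω) :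
    (∃ t : G, orderOf t = 2 ∧ (Fintype.card Ω : ℝ) ^ ((1 : ℝ) / 6) ≤ (Nat.card (MulAction.fixedBy Ω t) : ℝ)) ∨
    (∀ t : G, orderOf t = 2 → Nat.card (MulAction.fixedBy Ω t) ≤ 2) := by
  by_contra hneg
  obtain ⟨Q, i1, ⟨f⟩⟩ := Cfsg.Agent.Lib.MinNormal.exists_type_zero_model T
  have e : T ≃* Q := f.symm
  have hQs : IsSimpleGroup Q := (MulEquiv.isSimpleGroup_congr e).1 hT
  have hQf : Finite Q := Finite.of_equiv _ e.toEquiv
  have hQn : ¬ IsMulCommutative Q := by
    intro hc
    apply hTn
    exact ⟨⟨fun a b => e.injective (by rw [map_mul, map_mul]; exact hc.is_comm.comm _ _)⟩⟩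
  have hK : IsKnownSimple' Q := hcl Q
  have hDS : Cfsg.Agent.H936.DS 3 Q := Cfsg.Agent.H936.ds_known hQn hK
  have hDST : Cfsg.Agent.H936.DS 3 T := Cfsg.Agent.H936.DS.of_equiv e.symm hDS
  have hsol := Cfsg.Agent.H419.EP.solv_of_DS hC hDST
  obtain ⟨A, Γ, h⟩ := exists_IF T hT hTn hC hprim hsol hneg e
  exact R.all hQn hK A Γ h

end Cfsg.Agent.H209.Fxy
end

-- part: H209/IF/Cells
section
/-!
# S5719: the cells (exact final forms of the rows, one field = one owner) and `rows_of_cells` (driver helper209)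

`Kill T` : no counterexample in `T`; `KillE T` : `A` of even order; `KillO T` : `A` of odd order.
-/

set_option autoImplicit false
set_option linter.unusedSectionVars false

namespace Cfsg.Agent.H209.Fxy

open MulAction Subgroup Cfsg Cfsg.Lie Matrix

/-- alternating groups (helper132, helper111) -/
structure CellsAlt : Prop where
  alt : ∀ m : ℕ, 5 ≤ m → Kill (alternatingGroup (Fin m))

/-- linear groups -/
structure CellsPSL : Prop where
  /-- helper800 -/
  two : ∀ (F : Type) [Field F] [Fintype F], 4 ≤ Fintype.card F → Kill (ProjectiveSpecialLinearGroup (Fin 2) F)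
  /-- helper771 -/
  three : ∀ (F : Type) [Field F] [Fintype F], KillE (ProjectiveSpecialLinearGroup (Fin 3) F)
  /-- helper358 -/
  four : ∀ (F : Type) [Field F] [Fintype F], KillE (ProjectiveSpecialLinearGroup (Fin 4) F)
  /-- helper974, helper500 -/
  oddmid : ∀ (F : Type) [Field F] [Fintype F] (n : ℕ), Odd (Fintype.card F) → 5 ≤ n → n ≤ 7 →
    KillE (ProjectiveSpecialLinearGroup (Fin n) F)
  /-- helper778, helper353 -/
  oddlarge : ∀ (F : Type) [Field F] [Fintype F] (n : ℕ), Odd (Fintype.card F) → 8 ≤ n →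
    KillE (ProjectiveSpecialLinearGroup (Fin n) F)
  /-- helper232 -/
  even : ∀ (F : Type) [Field F] [Fintype F] (n : ℕ), Even (Fintype.card F) → 5 ≤ n →
    KillE (ProjectiveSpecialLinearGroup (Fin n) F)
  /-- helper138 (ODD) -/
  oddA : ∀ (F : Type) [Field F] [Fintype F] (n : ℕ), 3 ≤ n →
    IsSimpleGroup (ProjectiveSpecialLinearGroup (Fin n) F) → KillO (ProjectiveSpecialLinearGroup (Fin n) F)

/-- unitary groups -/
structure CellsPSU : Prop where
  /-- helper771 -/
  three : ∀ (F : Type) [Field F] [Fintype F] (q : ℕ), Fintype.card F = q ^ 2 → q ≠ 2 →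
    IsSimpleGroup (PSU 3 F q) → KillE (PSU 3 F q)
  /-- helper838 -/
  four : ∀ (F : Type) [Field F] [Fintype F] (q : ℕ), Fintype.card F = q ^ 2 →
    IsSimpleGroup (PSU 4 F q) → KillE (PSU 4 F q)
  /-- helper974, helper500 -/
  mid : ∀ (F : Type) [Field F] [Fintype F] (n q : ℕ), Fintype.card F = q ^ 2 → 5 ≤ n → n ≤ 7 →
    IsSimpleGroup (PSU n F q) → KillE (PSU n F q)
  /-- helper27 -/
  large : ∀ (F : Type) [Field F] [Fintype F] (n q : ℕ), Fintype.card F = q ^ 2 → 8 ≤ n →
    IsSimpleGroup (PSU n F q) → KillE (PSU n F q)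
  /-- helper138 (ODD) -/
  oddA : ∀ (F : Type) [Field F] [Fintype F] (n q : ℕ), Fintype.card F = q ^ 2 → 3 ≤ n →
    IsSimpleGroup (PSU n F q) → KillO (PSU n F q)

/-- symplectic groups, `PSp m F = PSp_{2m}(F)` -/
structure CellsPSp : Prop where
  /-- helper580 -/
  two : ∀ (F : Type) [Field F] [Fintype F], 3 ≤ Fintype.card F → IsSimpleGroup (PSp 2 F) → KillE (PSp 2 F)
  /-- helper974, helper500 -/
  oddmid : ∀ (F : Type) [Field F] [Fintype F] (m : ℕ), Odd (Fintype.card F) → 3 ≤ m → m ≤ 4 →
    IsSimpleGroup (PSp m F) → KillE (PSp m F)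
  /-- helper340 -/
  oddlarge : ∀ (F : Type) [Field F] [Fintype F] (m : ℕ), Odd (Fintype.card F) → 5 ≤ m →
    IsSimpleGroup (PSp m F) → KillE (PSp m F)
  /-- helper407 -/
  even : ∀ (F : Type) [Field F] [Fintype F] (m : ℕ), Even (Fintype.card F) → 3 ≤ m →
    IsSimpleGroup (PSp m F) → KillE (PSp m F)
  /-- helper138 (ODD) -/
  oddA : ∀ (F : Type) [Field F] [Fintype F] (m : ℕ), 2 ≤ m → IsSimpleGroup (PSp m F) → KillO (PSp m F)

/-- orthogonal groups -/
structure CellsO : Prop where
  /-- helper900: dimensions 7, 9, 11, 13 -/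
  odd_mid : ∀ (F : Type) [Field F] [Fintype F] (m : ℕ), Odd (Fintype.card F) → 3 ≤ m → m ≤ 6 →
    IsSimpleGroup (POmega F (quadFormOdd m F)) → KillE (POmega F (quadFormOdd m F))
  /-- helper254: dimension at least 15 -/
  odd_large : ∀ (F : Type) [Field F] [Fintype F] (m : ℕ), Odd (Fintype.card F) → 7 ≤ m →
    IsSimpleGroup (POmega F (quadFormOdd m F)) → KillE (POmega F (quadFormOdd m F))
  /-- helper138 (ODD) -/
  odd_O : ∀ (F : Type) [Field F] [Fintype F] (m : ℕ), Odd (Fintype.card F) → 3 ≤ m →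
    IsSimpleGroup (POmega F (quadFormOdd m F)) → KillO (POmega F (quadFormOdd m F))
  /-- helper900: dimensions 8, 10, 12, 14, `q` odd -/
  plus_mid : ∀ (F : Type) [Field F] [Fintype F] (m : ℕ), Odd (Fintype.card F) → 4 ≤ m → m ≤ 7 →
    IsSimpleGroup (POmega F (quadFormPlus m F)) → KillE (POmega F (quadFormPlus m F))
  /-- helper254: dimension at least 16, `q` odd -/
  plus_large : ∀ (F : Type) [Field F] [Fintype F] (m : ℕ), Odd (Fintype.card F) → 8 ≤ m →
    IsSimpleGroup (POmega F (quadFormPlus m F)) → KillE (POmega F (quadFormPlus m F))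
  /-- helper829: `q` even -/
  plus_even : ∀ (F : Type) [Field F] [Fintype F] (m : ℕ), Even (Fintype.card F) → 4 ≤ m →
    IsSimpleGroup (POmega F (quadFormPlus m F)) → KillE (POmega F (quadFormPlus m F))
  /-- helper138 (ODD) -/
  plus_O : ∀ (F : Type) [Field F] [Fintype F] (m : ℕ), 4 ≤ m →
    IsSimpleGroup (POmega F (quadFormPlus m F)) → KillO (POmega F (quadFormPlus m F))
  /-- helper900: dimensions 8, 10, 12, 14, `q` odd -/
  minus_mid : ∀ (F : Type) [Field F] [Fintype F] (m : ℕ) (a b : F), Odd (Fintype.card F) → 4 ≤ m → m ≤ 7 →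
    (∀ z₁ z₂ : F, z₁ ^ 2 + a * z₁ * z₂ + b * z₂ ^ 2 = 0 → z₁ = 0 ∧ z₂ = 0) →
    IsSimpleGroup (POmega F (quadFormMinus (m - 1) F a b)) → KillE (POmega F (quadFormMinus (m - 1) F a b))
  /-- helper254: dimension at least 16, `q` odd -/
  minus_large : ∀ (F : Type) [Field F] [Fintype F] (m : ℕ) (a b : F), Odd (Fintype.card F) → 8 ≤ m →
    (∀ z₁ z₂ : F, z₁ ^ 2 + a * z₁ * z₂ + b * z₂ ^ 2 = 0 → z₁ = 0 ∧ z₂ = 0) →
    IsSimpleGroup (POmega F (quadFormMinus (m - 1) F a b)) → KillE (POmega F (quadFormMinus (m - 1) F a b))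
  /-- helper829: `q` even -/
  minus_even : ∀ (F : Type) [Field F] [Fintype F] (m : ℕ) (a b : F), Even (Fintype.card F) → 4 ≤ m →
    (∀ z₁ z₂ : F, z₁ ^ 2 + a * z₁ * z₂ + b * z₂ ^ 2 = 0 → z₁ = 0 ∧ z₂ = 0) →
    IsSimpleGroup (POmega F (quadFormMinus (m - 1) F a b)) → KillE (POmega F (quadFormMinus (m - 1) F a b))
  /-- helper138 (ODD) -/
  minus_O : ∀ (F : Type) [Field F] [Fintype F] (m : ℕ) (a b : F), 4 ≤ m →
    (∀ z₁ z₂ : F, z₁ ^ 2 + a * z₁ * z₂ + b * z₂ ^ 2 = 0 → z₁ = 0 ∧ z₂ = 0) →
    IsSimpleGroup (POmega F (quadFormMinus (m - 1) F a b)) → KillO (POmega F (quadFormMinus (m - 1) F a b))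

/-- exceptional groups -/
structure CellsExc : Prop where
  /-- helper625 -/
  g2 : ∀ (F : Type) [Field F] [Fintype F], 3 ≤ Fintype.card F → IsSimpleGroup (chevG2.group F) →
    KillE (chevG2.group F)
  /-- helper625 -/
  f4_odd : ∀ (F : Type) [Field F] [Fintype F], Odd (Fintype.card F) → IsSimpleGroup (chevF4.group F) →
    KillE (chevF4.group F)
  /-- helper255 -/
  f4_even : ∀ (F : Type) [Field F] [Fintype F], Even (Fintype.card F) → IsSimpleGroup (chevF4.group F) →
    KillE (chevF4.group F)
  /-- helper190 -/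
  e6_odd : ∀ (F : Type) [Field F] [Fintype F], Odd (Fintype.card F) → IsSimpleGroup (chevE6.group F) →
    KillE (chevE6.group F)
  /-- helper255 -/
  e6_even : ∀ (F : Type) [Field F] [Fintype F], Even (Fintype.card F) → IsSimpleGroup (chevE6.group F) →
    KillE (chevE6.group F)
  /-- helper176 -/
  e7_odd : ∀ (F : Type) [Field F] [Fintype F], Odd (Fintype.card F) → IsSimpleGroup (chevE7.group F) →
    KillE (chevE7.group F)
  /-- helper255 -/
  e7_even : ∀ (F : Type) [Field F] [Fintype F], Even (Fintype.card F) → IsSimpleGroup (chevE7.group F) →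
    KillE (chevE7.group F)
  /-- helper176 -/
  e8_odd : ∀ (F : Type) [Field F] [Fintype F], Odd (Fintype.card F) → IsSimpleGroup (chevE8.group F) →
    KillE (chevE8.group F)
  /-- helper255 -/
  e8_even : ∀ (F : Type) [Field F] [Fintype F], Even (Fintype.card F) → IsSimpleGroup (chevE8.group F) →
    KillE (chevE8.group F)
  /-- helper190 -/
  te6_odd : ∀ (K : Type) [Field K] [Fintype K] (q : ℕ), IsPrimePow q → Fintype.card K = q ^ 2 → Odd q →
    IsSimpleGroup (twistedE6 K q) → KillE (twistedE6 K q)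
  /-- helper255 -/
  te6_even : ∀ (K : Type) [Field K] [Fintype K] (q : ℕ), IsPrimePow q → Fintype.card K = q ^ 2 → Even q →
    IsSimpleGroup (twistedE6 K q) → KillE (twistedE6 K q)
  /-- helper625 -/
  td4 : ∀ (K : Type) [Field K] [Fintype K] (q : ℕ), IsPrimePow q → Fintype.card K = q ^ 3 →
    IsSimpleGroup (twistedD4 K q) → KillE (twistedD4 K q)
  /-- helper371 -/
  sz : Row fun T => IsoSuzuki T
  /-- helper371 -/
  ree : Row fun T => IsoRee T
  /-- helper371 -/
  tf4 : Row fun T => Iso2F4 T
  /-- helper138 (ODD) -/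
  g2_O : ∀ (F : Type) [Field F] [Fintype F], 3 ≤ Fintype.card F → IsSimpleGroup (chevG2.group F) →
    KillO (chevG2.group F)
  /-- helper138 (ODD) -/
  f4_O : ∀ (F : Type) [Field F] [Fintype F], IsSimpleGroup (chevF4.group F) → KillO (chevF4.group F)
  /-- helper138 (ODD) -/
  e6_O : ∀ (F : Type) [Field F] [Fintype F], IsSimpleGroup (chevE6.group F) → KillO (chevE6.group F)
  /-- helper138 (ODD) -/
  e7_O : ∀ (F : Type) [Field F] [Fintype F], IsSimpleGroup (chevE7.group F) → KillO (chevE7.group F)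
  /-- helper138 (ODD) -/
  e8_O : ∀ (F : Type) [Field F] [Fintype F], IsSimpleGroup (chevE8.group F) → KillO (chevE8.group F)
  /-- helper138 (ODD) -/
  te6_O : ∀ (K : Type) [Field K] [Fintype K] (q : ℕ), IsPrimePow q → Fintype.card K = q ^ 2 →
    IsSimpleGroup (twistedE6 K q) → KillO (twistedE6 K q)
  /-- helper138 (ODD) -/
  td4_O : ∀ (K : Type) [Field K] [Fintype K] (q : ℕ), IsPrimePow q → Fintype.card K = q ^ 3 →
    IsSimpleGroup (twistedD4 K q) → KillO (twistedD4 K q)

/-- sporadic groups and the Tits group -/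
structure CellsSpor : Prop where
  tits : Row fun T => Lie.IsoTits T
  m11 : Row fun T => Spor.IsoM11 T
  m12 : Row fun T => Spor.IsoM12 T
  m22 : Row fun T => Spor.IsoM22 T
  m23 : Row fun T => Spor.IsoM23 T
  m24 : Row fun T => Spor.IsoM24 T
  j1 : Row fun T => Spor.IsoJ1 T
  j2 : Row fun T => Spor.IsoJ2 T
  j3 : Row fun T => Spor.IsoJ3 T
  j4 : Row fun T => Spor.IsoJ4 T
  co1 : Row fun T => Spor.IsoCo1 T
  co2 : Row fun T => Spor.IsoCo2 T
  co3 : Row fun T => Spor.IsoCo3 T
  mcl : Row fun T => Spor.IsoMcL T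
  hs : Row fun T => Spor.IsoHS T
  suz : Row fun T => Spor.IsoSuz T
  he : Row fun T => Spor.IsoHe T
  ru : Row fun T => Spor.IsoRu T
  on : Row fun T => Spor.IsoON T
  ly : Row fun T => Spor.IsoLy T
  fi22 : Row fun T => Spor.IsoFi22 T
  fi23 : Row fun T => Spor.IsoFi23 T
  fi24 : Row fun T => Spor.IsoFi24' T
  hn : Row fun T => Spor.IsoHN T
  th : Row fun T => Spor.IsoTh T
  b : Row fun T => Spor.IsoB T
  m : Row fun T => Spor.IsoM T

section rowsOf

theorem even_or_odd_card (F : Type) [Fintype F] : Even (Fintype.card F) ∨ Odd (Fintype.card F) :=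
  Nat.even_or_odd _

theorem CellsPSL.row (C : CellsPSL) : Row fun T => IsPSL T := by
  refine row_psl_of fun F _ _ n hn h4 hs => ?_
  have : Finite (ProjectiveSpecialLinearGroup (Fin n) F) := Quotient.finite _
  rcases Nat.lt_or_ge n 3 with h3 | h3
  · obtain rfl : n = 2 := by omega
    exact C.two F (h4 rfl)
  refine Kill.of ?_ (C.oddA F n h3 hs)
  rcases Nat.lt_or_ge n 5 with h5 | h5
  · interval_cases n
    · exact C.three F
    · exact C.four F
  rcases even_or_odd_card F with he | ho
  · exact C.even F n he h5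
  rcases Nat.lt_or_ge n 8 with h8 | h8
  · exact C.oddmid F n ho h5 (by omega)
  · exact C.oddlarge F n ho h8

theorem CellsPSU.row (C : CellsPSU) : Row fun T => IsPSU T := by
  refine row_psu_of fun F _ _ n q hq hn h2 hs => ?_
  have : Finite (PSU n F q) := Quotient.finite _
  refine Kill.of ?_ (C.oddA F n q hq hn hs)
  rcases Nat.lt_or_ge n 5 with h5 | h5
  · interval_cases n
    · exact C.three F q hq (fun h => h2 ⟨rfl, h⟩) hs
    · exact C.four F q hq hs
  rcases Nat.lt_or_ge n 8 with h8 | h8
  · exact C.mid F n q hq h5 (by omega) hs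
  · exact C.large F n q hq h8 hs

theorem CellsPSp.row (C : CellsPSp) : Row fun T => IsPSp T := by
  refine row_psp_of fun F _ _ m hm h4 hs => ?_
  have : Finite (PSp m F) := Quotient.finite _
  refine Kill.of ?_ (C.oddA F m hm hs)
  rcases Nat.lt_or_ge m 3 with h3 | h3
  · obtain rfl : m = 2 := by omega
    exact C.two F (h4 rfl) hs
  rcases even_or_odd_card F with he | ho
  · exact C.even F m he h3 hs
  rcases Nat.lt_or_ge m 5 with h8 | h8
  · exact C.oddmid F m ho h3 (by omega) hs
  · exact C.oddlarge F m ho h8 hs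

theorem CellsO.row_odd (C : CellsO) : Row fun T => IsPOmegaOdd T := by
  refine row_oodd_of fun F _ _ m hm ho hs => ?_
  have : Finite (POmega F (quadFormOdd m F)) := Quotient.finite _
  refine Kill.of ?_ (C.odd_O F m ho hm hs)
  rcases Nat.lt_or_ge m 7 with h8 | h8
  · exact C.odd_mid F m ho hm (by omega) hs
  · exact C.odd_large F m ho h8 hs

theorem CellsO.row_plus (C : CellsO) : Row fun T => IsPOmegaPlus T := by
  refine row_oplus_of fun F _ _ m hm hs => ?_
  have : Finite (POmega F (quadFormPlus m F)) := Quotient.finite _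
  refine Kill.of ?_ (C.plus_O F m hm hs)
  rcases even_or_odd_card F with he | ho
  · exact C.plus_even F m he hm hs
  rcases Nat.lt_or_ge m 8 with h8 | h8
  · exact C.plus_mid F m ho hm (by omega) hs
  · exact C.plus_large F m ho h8 hs

theorem CellsO.row_minus (C : CellsO) : Row fun T => IsPOmegaMinus T := by
  refine row_ominus_of fun F _ _ m a b hm hz hs => ?_
  have : Finite (POmega F (quadFormMinus (m - 1) F a b)) := Quotient.finite _
  refine Kill.of ?_ (C.minus_O F m a b hm hz hs)
  rcases even_or_odd_card F with he | ho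
  · exact C.minus_even F m a b he hm hz hs
  rcases Nat.lt_or_ge m 8 with h8 | h8
  · exact C.minus_mid F m a b ho hm (by omega) hz hs
  · exact C.minus_large F m a b ho h8 hz hs

theorem CellsExc.row_g2 (C : CellsExc) : Row fun T => Lie.IsoChevG2 T := by
  refine Row.of_kill ?_
  rintro T _ _ _ - ⟨F, _, _, h3, ⟨e⟩⟩
  have hs := (MulEquiv.isSimpleGroup_congr e).1 inferInstance
  exact Kill.congr e.symm (Kill.of (C.g2 F h3 hs) (C.g2_O F h3 hs))

theorem CellsExc.row_f4 (C : CellsExc) : Row fun T => Lie.IsoF4 T := by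
  refine Row.of_kill ?_
  rintro T _ _ _ - ⟨F, _, _, ⟨e⟩⟩
  have hs := (MulEquiv.isSimpleGroup_congr e).1 inferInstance
  refine Kill.congr e.symm (Kill.of ?_ (C.f4_O F hs))
  rcases even_or_odd_card F with he | ho
  · exact C.f4_even F he hs
  · exact C.f4_odd F ho hs

theorem CellsExc.row_e6 (C : CellsExc) : Row fun T => Lie.IsoChevE6 T := by
  refine Row.of_kill ?_
  rintro T _ _ _ - ⟨F, _, _, ⟨e⟩⟩
  have hs := (MulEquiv.isSimpleGroup_congr e).1 inferInstance
  refine Kill.congr e.symm (Kill.of ?_ (C.e6_O F hs))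
  rcases even_or_odd_card F with he | ho
  · exact C.e6_even F he hs
  · exact C.e6_odd F ho hs

theorem CellsExc.row_e7 (C : CellsExc) : Row fun T => Lie.IsoE7 T := by
  refine Row.of_kill ?_
  rintro T _ _ _ - ⟨F, _, _, ⟨e⟩⟩
  have hs := (MulEquiv.isSimpleGroup_congr e).1 inferInstance
  refine Kill.congr e.symm (Kill.of ?_ (C.e7_O F hs))
  rcases even_or_odd_card F with he | ho
  · exact C.e7_even F he hs
  · exact C.e7_odd F ho hs

theorem CellsExc.row_e8 (C : CellsExc) : Row fun T => Lie.IsoE8 T := by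
  refine Row.of_kill ?_
  rintro T _ _ _ - ⟨F, _, _, ⟨e⟩⟩
  have hs := (MulEquiv.isSimpleGroup_congr e).1 inferInstance
  refine Kill.congr e.symm (Kill.of ?_ (C.e8_O F hs))
  rcases even_or_odd_card F with he | ho
  · exact C.e8_even F he hs
  · exact C.e8_odd F ho hs

theorem CellsExc.row_te6 (C : CellsExc) : Row fun T => Lie.Iso2E6 T := by
  refine Row.of_kill ?_
  rintro T _ _ _ - ⟨K, _, _, q, hq, hc, ⟨e⟩⟩
  have hs := (MulEquiv.isSimpleGroup_congr e).1 inferInstance
  refine Kill.congr e.symm (Kill.of ?_ (C.te6_O K q hq hc hs))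
  rcases Nat.even_or_odd q with he | ho
  · exact C.te6_even K q hq hc he hs
  · exact C.te6_odd K q hq hc ho hs

theorem CellsExc.row_td4 (C : CellsExc) : Row fun T => Lie.Iso3D4 T := by
  refine Row.of_kill ?_
  rintro T _ _ _ - ⟨K, _, _, q, hq, hc, ⟨e⟩⟩
  have hs := (MulEquiv.isSimpleGroup_congr e).1 inferInstance
  exact Kill.congr e.symm (Kill.of (C.td4 K q hq hc hs) (C.td4_O K q hq hc hs))

/-- **All rows from the cells.** -/
theorem rows_of_cells (cA : CellsAlt) (cL : CellsPSL) (cU : CellsPSU) (cS : CellsPSp) (cO : CellsO) (cE : CellsExc)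
    (cX : CellsSpor) : Rows where
  alt := row_alt_of cA.alt
  psl := cL.row
  psp := cS.row
  psu := cU.row
  oodd := cO.row_odd
  oplus := cO.row_plus
  ominus := cO.row_minus
  g2 := cE.row_g2
  f4 := cE.row_f4
  e6 := cE.row_e6
  e7 := cE.row_e7
  e8 := cE.row_e8
  te6 := cE.row_te6
  td4 := cE.row_td4
  sz := cE.sz
  ree := cE.ree
  tf4 := cE.tf4
  tits := cX.tits
  m11 := cX.m11
  m12 := cX.m12
  m22 := cX.m22
  m23 := cX.m23
  m24 := cX.m24
  j1 := cX.j1
  j2 := cX.j2
  j3 := cX.j3
  j4 := cX.j4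
  co1 := cX.co1
  co2 := cX.co2
  co3 := cX.co3
  mcl := cX.mcl
  hs := cX.hs
  suz := cX.suz
  he := cX.he
  ru := cX.ru
  on := cX.on
  ly := cX.ly
  fi22 := cX.fi22
  fi23 := cX.fi23
  fi24 := cX.fi24
  hn := cX.hn
  th := cX.th
  b := cX.b
  m := cX.m

end rowsOf

end Cfsg.Agent.H209.Fxy
end
end
end
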